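import Cfsg.Agent.Lib.FgsC.CoprimeWeights

/-!
# Automorphisms of an elementary abelian group, over the algebraic closure
-/

set_option autoImplicit false
set_option linter.style.haveILetI false

open Module
open scoped TensorProduct

universe u v

namespace CfsgLib.FgsC.FrobeniusConfig

open CfsgLib.FgsC.CoprimeWeights

/-- The automorphisms as linear maps. -/
noncomputable def toEndHom {V : Type v} [CommGroup V] (r : ℕ) [Fact r.Prime]
    [Module (ZMod r) (Additive V)] : MulAut V →* End (ZMod r) (Additive V) :=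
  { toFun := fun g => (MonoidHom.toAdditive g.toMonoidHom).toZModLinearMap r
    map_one' := LinearMap.ext fun _ => rfl
    map_mul' := fun _ _ => LinearMap.ext fun _ => rfl }

/-- An elementary abelian group as a vector space. -/
@[reducible] def addModule {V : Type v} [CommGroup V] {r : ℕ} (hexp : ∀ v : V, v ^ r = 1) :
    Module (ZMod r) (Additive V) :=
  AddCommGroup.zmodModule (n := r) fun v => by
    apply Additive.toMul.injective
    rw [toMul_nsmul, toMul_zero]
    exact hexp v.toMul

/-- The linear representation of the automorphisms of a vector space. -/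
theorem exists_rep_aux {V : Type v} [CommGroup V] [Finite V] {r : ℕ} [Fact r.Prime] [Module (ZMod r) (Additive V)] :
    ∃ (W : Type v) (_ : AddCommGroup W) (_ : Module (AlgebraicClosure (ZMod r)) W)
      (_ : FiniteDimensional (AlgebraicClosure (ZMod r)) W)
      (ρ : Representation (AlgebraicClosure (ZMod r)) (MulAut V) W),
      Function.Injective ρ ∧
      (∀ (z x : MulAut V) (p : ℕ), (∀ v, x (∏ i ∈ Finset.range p, (z ^ i) v) =
          ∏ i ∈ Finset.range p, (z ^ i) v) → ρ x * normEnd ρ z p = normEnd ρ z p) ∧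
      (∀ (z x : MulAut V) (p : ℕ), (∀ v, x (∏ i ∈ Finset.range p, (z ^ i) v) =
          (∏ i ∈ Finset.range p, (z ^ i) v)⁻¹) → ρ x * normEnd ρ z p = - normEnd ρ z p) ∧
      (∀ (z : MulAut V) (p : ℕ), (∀ v, ∏ i ∈ Finset.range p, (z ^ i) v = 1) →
        normEnd ρ z p = 0) ∧
      (∀ (z h : MulAut V) (p q : ℕ),
        (∀ v, ∏ i ∈ Finset.range q, (h ^ i) (∏ j ∈ Finset.range p, (z ^ j) v) = 1) →
        normEnd ρ h q * normEnd ρ z p = 0) ∧
      Nat.card V = r ^ Module.finrank (AlgebraicClosure (ZMod r)) W ∧
      (∀ g : MulAut V, ∃ c, Nat.card {v : V // g v = v} = r ^ c ∧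
        c ≤ Module.finrank (AlgebraicClosure (ZMod r)) (LinearMap.ker (ρ g - 1))) ∧
      ∀ (X : Subgroup (MulAut V)) [Fintype X], (∀ v, ∏ a : X, (a : MulAut V) v = 1) →
        ∑ a : X, ρ (a : MulAut V) = 0 := by
  classical
  haveI : Finite (Additive V) := inferInstanceAs (Finite V)
  haveI : FiniteDimensional (ZMod r) (Additive V) := Module.Finite.of_finite
  let toEnd := toEndHom (V := V) r
  let Φ := Module.End.baseChangeHom (ZMod r) (AlgebraicClosure (ZMod r)) (Additive V)
  let ρ : Representation (AlgebraicClosure (ZMod r)) (MulAut V)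
      (TensorProduct (ZMod r) (AlgebraicClosure (ZMod r)) (Additive V)) :=
    Φ.toMonoidHom.comp toEnd
  have hρ : ∀ g, ρ g = Φ (toEnd g) := fun g => rfl
  have happ : ∀ (g : MulAut V) (v : Additive V), toEnd g v = Additive.ofMul (g v.toMul) :=
    fun g v => rfl
  have hN : ∀ (z : MulAut V) (p : ℕ), normEnd ρ z p = Φ (∑ i ∈ Finset.range p, toEnd (z ^ i)) :=
    fun z p => by rw [normEnd, map_sum]; rfl
  have hNapp : ∀ (z : MulAut V) (p : ℕ) (v : Additive V),
      (∑ i ∈ Finset.range p, toEnd (z ^ i)) v =
        Additive.ofMul (∏ i ∈ Finset.range p, (z ^ i) v.toMul) := fun z p v => by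
    rw [LinearMap.sum_apply, ofMul_prod]; rfl
  refine ⟨_, inferInstance, inferInstance, inferInstance, ρ, ?_, ?_, ?_, ?_, ?_, ?_, ?_, ?_⟩
  · intro g g' h
    have h' : toEnd g = toEnd g' := LinearMap.baseChangeHom_injective (ZMod r) (Additive V)
      (AlgebraicClosure (ZMod r)) h
    exact MulEquiv.ext fun v => congrArg Additive.toMul (LinearMap.congr_fun h' (Additive.ofMul v))
  · intro z x p h
    rw [hN, hρ, ← map_mul]
    congr 1
    refine LinearMap.ext fun v => ?_
    rw [End.mul_apply, hNapp, happ, toMul_ofMul, h]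
  · intro z x p h
    rw [hN, hρ, ← map_mul, ← map_neg]
    congr 1
    refine LinearMap.ext fun v => ?_
    rw [End.mul_apply, LinearMap.neg_apply, hNapp, happ, toMul_ofMul, h, ofMul_inv]
  · intro z p h
    rw [hN, show ∑ i ∈ Finset.range p, toEnd (z ^ i) = 0 from LinearMap.ext fun v => by
      rw [hNapp, h]; rfl, map_zero]
  · intro z h p q hzh
    rw [hN, hN, ← map_mul, show (∑ i ∈ Finset.range q, toEnd (h ^ i)) *
        (∑ i ∈ Finset.range p, toEnd (z ^ i)) = 0 from LinearMap.ext fun v => by
      rw [End.mul_apply, hNapp, hNapp, toMul_ofMul, hzh]; rfl, map_zero]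
  · rw [Module.finrank_baseChange, ← Nat.card_congr Additive.ofMul.symm,
      Module.natCard_eq_pow_finrank (K := ZMod r), Nat.card_zmod]
  · intro g
    set f : End (ZMod r) (Additive V) := toEnd g with hf
    refine ⟨finrank (ZMod r) (LinearMap.ker (f - 1)), ?_, ?_⟩
    · have e : Nat.card {v : V // g v = v} = Nat.card (LinearMap.ker (f - 1)) :=
        Nat.card_congr (Additive.ofMul.subtypeEquiv fun v => by
          rw [LinearMap.mem_ker, LinearMap.sub_apply, End.one_apply, sub_eq_zero, hf, happ]
          exact Iff.rfl)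
      rw [e, Module.natCard_eq_pow_finrank (K := ZMod r), Nat.card_zmod]
    · let ι := LinearMap.baseChange (AlgebraicClosure (ZMod r)) (LinearMap.ker (f - 1)).subtype
      have hι : Function.Injective ι := by
        rw [show (ι : _ → _) = LinearMap.lTensor (AlgebraicClosure (ZMod r))
          (LinearMap.ker (f - 1)).subtype from rfl]
        exact Module.Flat.lTensor_preserves_injective_linearMap _ Subtype.val_injective
      have hle : LinearMap.range ι ≤ LinearMap.ker (ρ g - 1) := by
        rintro _ ⟨x, rfl⟩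
        rw [LinearMap.mem_ker]
        induction x using TensorProduct.induction_on with
        | zero => simp
        | add x y hx hy => rw [map_add, map_add, hx, hy, add_zero]
        | tmul a w =>
          rw [LinearMap.sub_apply, End.one_apply, sub_eq_zero, LinearMap.baseChange_tmul, hρ]
          show a ⊗ₜ[ZMod r] f (w : Additive V) = a ⊗ₜ[ZMod r] (w : Additive V)
          have hw := w.2
          rw [LinearMap.mem_ker, LinearMap.sub_apply, End.one_apply, sub_eq_zero] at hw
          rw [hw]
      have h1 := Submodule.finrank_mono hle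
      rw [LinearMap.finrank_range_of_inj hι, Module.finrank_baseChange] at h1
      exact h1
  · intro X _ h
    show ∑ a : X, Φ (toEnd (a : MulAut V)) = 0
    rw [← map_sum, show ∑ a : X, toEnd (a : MulAut V) = 0 from LinearMap.ext fun v => by
      rw [LinearMap.sum_apply]
      show ∑ a : X, Additive.ofMul ((a : MulAut V) v.toMul) = 0
      rw [← ofMul_prod, h]; rfl, map_zero]

/-- The linear representation for an elementary abelian group. -/
theorem exists_rep {V : Type v} [CommGroup V] [Finite V] {r : ℕ} [Fact r.Prime]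
    (hexp : ∀ v : V, v ^ r = 1) :
    ∃ (W : Type v) (_ : AddCommGroup W) (_ : Module (AlgebraicClosure (ZMod r)) W)
      (_ : FiniteDimensional (AlgebraicClosure (ZMod r)) W)
      (ρ : Representation (AlgebraicClosure (ZMod r)) (MulAut V) W),
      Function.Injective ρ ∧
      (∀ (z x : MulAut V) (p : ℕ), (∀ v, x (∏ i ∈ Finset.range p, (z ^ i) v) =
          ∏ i ∈ Finset.range p, (z ^ i) v) → ρ x * normEnd ρ z p = normEnd ρ z p) ∧
      (∀ (z x : MulAut V) (p : ℕ), (∀ v, x (∏ i ∈ Finset.range p, (z ^ i) v) =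
          (∏ i ∈ Finset.range p, (z ^ i) v)⁻¹) → ρ x * normEnd ρ z p = - normEnd ρ z p) ∧
      (∀ (z : MulAut V) (p : ℕ), (∀ v, ∏ i ∈ Finset.range p, (z ^ i) v = 1) →
        normEnd ρ z p = 0) ∧
      (∀ (z h : MulAut V) (p q : ℕ),
        (∀ v, ∏ i ∈ Finset.range q, (h ^ i) (∏ j ∈ Finset.range p, (z ^ j) v) = 1) →
        normEnd ρ h q * normEnd ρ z p = 0) ∧
      Nat.card V = r ^ Module.finrank (AlgebraicClosure (ZMod r)) W ∧
      (∀ g : MulAut V, ∃ c, Nat.card {v : V // g v = v} = r ^ c ∧
        c ≤ Module.finrank (AlgebraicClosure (ZMod r)) (LinearMap.ker (ρ g - 1))) ∧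
      ∀ (X : Subgroup (MulAut V)) [Fintype X], (∀ v, ∏ a : X, (a : MulAut V) v = 1) →
        ∑ a : X, ρ (a : MulAut V) = 0 := by
  haveI : Module (ZMod r) (Additive V) := addModule hexp
  exact exists_rep_aux

end CfsgLib.FgsC.FrobeniusConfig
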