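import Cfsg.Agent.Lib.FgsC.BaseChangeRep
import Cfsg.Agent.Lib.Ward.Average

/-!
# A class two group on which a Frobenius group acts: the commutators

If a group `T`, with an operator `h` of prime order `q` without fixed points on it, acts on a
`u`-group `Q = [Q, T]` of class two, the commutators are scalars and the norm of `h` vanishes, then
the commutators act trivially. Otherwise `|M| ≤ (q - 1) ^ 2 |C_M(h)|` for `M = Q / Z(Q)`, while `M`
is free over `⟨h⟩`.
-/

set_option autoImplicit false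
set_option linter.style.haveILetI false

open Module
open scoped commutatorElement

namespace CfsgLib.FgsC.FrobeniusExtraspecial

open CfsgLib.FgsC.HallHigman CfsgLib.FgsC.HallHigmanB CfsgLib.FgsC.CoprimeWeights

/-- The final numerical contradiction. -/
theorem arith {q u b c : ℕ} (hq : q.Prime) (hu : 2 ≤ u) (hc : 1 ≤ c) (hqc : q * c ≤ 2 * b)
    (h : u ^ (2 * b) ≤ (q - 1) ^ 2 * u ^ c) : False := by
  have hq2 := hq.two_le
  have hcb : c ≤ 2 * b := (Nat.le_mul_of_pos_left c hq.pos).trans hqc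
  have h' : u ^ (2 * b - c) ≤ (q - 1) ^ 2 := by
    refine Nat.le_of_mul_le_mul_right ?_ (pow_pos (show 0 < u by omega) c)
    rwa [← pow_add, Nat.sub_add_cancel hcb]
  have h2u : ∀ e, 2 ^ e ≤ u ^ e := fun e => Nat.pow_le_pow_left hu e
  have hm : ∀ m : ℕ, m < 2 ^ m := fun m => Nat.lt_two_pow_self
  rcases hq.eq_two_or_odd with rfl | hodd
  · have : 2 ^ 1 ≤ 2 ^ (2 * b - c) := Nat.pow_le_pow_right two_pos (by omega)
    have := this.trans ((h2u _).trans h')
    simp at this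
  · obtain ⟨m, hm'⟩ : ∃ m, q = m + 1 := ⟨q - 1, by omega⟩
    subst hm'
    rw [Nat.add_sub_cancel] at h'
    rcases Nat.lt_or_ge c 2 with hc2 | hc2
    · have hle : 2 ^ (m + 1) ≤ m ^ 2 := by
        refine ((Nat.pow_le_pow_right two_pos ?_).trans (h2u (2 * b - c))).trans h'
        obtain rfl : c = 1 := by omega
        omega
      have key : ∀ n, 2 ≤ n → n ^ 2 < 2 ^ (n + 1) := by
        intro n hn
        induction n, hn using Nat.le_induction with
        | base => norm_num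
        | succ n hn ih =>
          rcases Nat.lt_or_ge n 3 with hn3 | hn3
          · obtain rfl : n = 2 := by omega
            norm_num
          · rw [pow_succ 2 (n + 1)]
            nlinarith
      exact (key m (by omega)).not_ge hle
    · have hle : (2 ^ m) ^ 2 ≤ m ^ 2 := by
        rw [← pow_mul]
        refine ((Nat.pow_le_pow_right two_pos ?_).trans (h2u (2 * b - c))).trans h'
        have h3 : m * 2 ≤ m * c := Nat.mul_le_mul_left m hc2
        have h4 : m * c + c ≤ 2 * b := by rw [← Nat.succ_mul]; exact hqc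
        omega
      exact absurd (Nat.pow_le_pow_iff_left two_ne_zero |>.mp hle) (hm m).not_ge

/-- Scalar commutators act trivially. -/
theorem commutator_eq_one {G : Type*} [Group G] [Finite G] {K : Type*} [Field K] [IsAlgClosed K]
    {W : Type*} [AddCommGroup W] [Module K W] [FiniteDimensional K W] {ρ : Representation K G W}
    {q u : ℕ} (hq : q.Prime) [hu : Fact u.Prime] (hqu : q ≠ u) (hqK : (q : K) ≠ 0)
    {Q T : Subgroup G} (hQ : IsPGroup u Q) (hQK : (Nat.card Q : K) ≠ 0)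
    (hTu : (Nat.card T).Coprime u) (hTQ : T ≤ Subgroup.normalizer (Q : Set G)) {h : G}
    (hhQ : h ∈ Subgroup.normalizer (Q : Set G)) (hhT : h ∈ Subgroup.normalizer (T : Set G))
    (hhq : h ^ q = 1) (hN : normEnd ρ h q = 0) (hfreeT : ∀ t ∈ T, h * t * h⁻¹ = t → t = 1)
    (hQT : Q ≤ ⁅Q, T⁆) (hQ'c : ∀ a ∈ ⁅Q, Q⁆, ∀ y, y ∈ Q ∨ y ∈ T → Commute a y)
    (hT' : ∀ t ∈ T, ∀ t' ∈ T, ∀ a ∈ Q, Commute a ⁅t, t'⁆)
    (hQu : ∀ x ∈ Q, ∀ t ∈ T, Commute (x ^ u) t)
    (hsc : ∀ a ∈ Q, ∀ b ∈ Q, IsScalar ρ ⁅a, b⁆) :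
    ∀ a ∈ Q, ∀ b ∈ Q, ρ ⁅a, b⁆ = 1 := by
  classical
  haveI := Fact.mk hq
  intro x₀ hx₀ y₀ hy₀
  by_contra hne
  have hmem : ∀ {a b : G}, a ∈ Q → b ∈ Q → ⁅a, b⁆ ∈ ⁅Q, Q⁆ := fun ha hb =>
    Subgroup.commutator_mem_commutator ha hb
  have hQ'Q : (⁅Q, Q⁆ : Subgroup G) ≤ Q := Subgroup.commutator_le.mpr fun a ha b hb => by
    rw [commutatorElement_def]
    exact Q.mul_mem (Q.mul_mem (Q.mul_mem ha hb) (Q.inv_mem ha)) (Q.inv_mem hb)
  have hmulr : ∀ a ∈ Q, ∀ b ∈ Q, ∀ c ∈ Q, ⁅a, b * c⁆ = ⁅a, b⁆ * ⁅a, c⁆ := fun a ha b hb c hc => by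
    rw [show ⁅a, b * c⁆ = ⁅a, b⁆ * (b * ⁅a, c⁆ * b⁻¹) by simp only [commutatorElement_def]; group,
      ← (hQ'c _ (hmem ha hc) b (Or.inl hb)).eq, mul_inv_cancel_right]
  have hmull : ∀ a ∈ Q, ∀ b ∈ Q, ∀ c ∈ Q, ⁅a * b, c⁆ = ⁅b, c⁆ * ⁅a, c⁆ := fun a ha b hb c hc => by
    rw [show ⁅a * b, c⁆ = a * ⁅b, c⁆ * a⁻¹ * ⁅a, c⁆ by simp only [commutatorElement_def]; group,
      ← (hQ'c _ (hmem hb hc) a (Or.inl ha)).eq, mul_inv_cancel_right]
  -- the radical of the commutator form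
  let R : Subgroup G :=
    { carrier := {x | x ∈ Q ∧ ∀ y ∈ Q, ρ ⁅x, y⁆ = 1}
      mul_mem' := by
        rintro a b ⟨ha, ha'⟩ ⟨hb, hb'⟩
        refine ⟨Q.mul_mem ha hb, fun y hy => ?_⟩
        rw [hmull a ha b hb y hy, map_mul, ha' y hy, hb' y hy, one_mul]
      one_mem' := ⟨Q.one_mem, fun y _ => by rw [commutatorElement_one_left, map_one]⟩
      inv_mem' := by
        rintro a ⟨ha, ha'⟩
        refine ⟨Q.inv_mem ha, fun y hy => ?_⟩
        have h1 := hmull a⁻¹ (Q.inv_mem ha) a ha y hy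
        rw [inv_mul_cancel, commutatorElement_one_left] at h1
        have h2 := congrArg ρ h1
        rw [map_one, map_mul, ha' y hy, one_mul] at h2
        exact h2.symm }
  have hRQ : R ≤ Q := fun x hx => hx.1
  have hQ'R : ∀ x ∈ ⁅Q, Q⁆, x ∈ R := fun x hx => ⟨hQ'Q hx, fun y hy => by
    rw [commutatorElement_eq_one_iff_mul_comm.mpr (hQ'c x hx y (Or.inl hy)).eq, map_one]⟩
  have hRnorm : ∀ {g : G}, g ∈ Subgroup.normalizer (Q : Set G) →
      ∀ x ∈ R, g * x * g⁻¹ ∈ R := fun {g} hg x hx =>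
    ⟨(Subgroup.mem_normalizer_iff.mp hg x).mp hx.1, fun y hy => by
      rw [show ⁅g * x * g⁻¹, y⁆ = g * ⁅x, g⁻¹ * y * g⁆ * g⁻¹ by
          simp only [commutatorElement_def]; group,
        map_mul, map_mul, hx.2 _ (conj_mem hg hy), mul_one, ← map_mul, mul_inv_cancel, map_one]⟩
  -- the key trick
  have htrick : ∀ x ∈ Q, (∀ t ∈ T, x⁻¹ * (t⁻¹ * x * t) ∈ R) → x ∈ R := by
    intro x hx hfix
    refine ⟨hx, fun y hy => ?_⟩
    let S : Subgroup G :=
      { carrier := {y | y ∈ Q ∧ ρ ⁅x, y⁆ = 1}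
        mul_mem' := by
          rintro a b ⟨ha, ha'⟩ ⟨hb, hb'⟩
          exact ⟨Q.mul_mem ha hb, by rw [hmulr x hx a ha b hb, map_mul, ha', hb', one_mul]⟩
        one_mem' := ⟨Q.one_mem, by rw [commutatorElement_one_right, map_one]⟩
        inv_mem' := by
          rintro a ⟨ha, ha'⟩
          refine ⟨Q.inv_mem ha, ?_⟩
          have h1 := congrArg ρ (hmulr x hx a ha a⁻¹ (Q.inv_mem ha))
          rw [mul_inv_cancel, commutatorElement_one_right, map_one, map_mul, ha', one_mul] at h1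
          exact h1.symm }
    have hle : (⁅Q, T⁆ : Subgroup G) ≤ S := Subgroup.commutator_le.mpr fun w hw t ht => by
      have htw : t * w⁻¹ * t⁻¹ ∈ Q := (Subgroup.mem_normalizer_iff.mp (hTQ ht) _).mp (Q.inv_mem hw)
      have hxt : t⁻¹ * x * t ∈ Q := conj_mem (hTQ ht) hx
      refine ⟨by rw [commutatorElement_def, mul_assoc, mul_assoc]
                 exact Q.mul_mem hw (by rw [← mul_assoc]; exact htw), ?_⟩
      have h1 : ρ ⁅x, t * w⁻¹ * t⁻¹⁆ = ρ ⁅x, w⁻¹⁆ := by
        rw [show ⁅x, t * w⁻¹ * t⁻¹⁆ = t * ⁅t⁻¹ * x * t, w⁻¹⁆ * t⁻¹ by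
            simp only [commutatorElement_def]; group,
          ← (hQ'c _ (hmem hxt (Q.inv_mem hw)) t (Or.inr ht)).eq, mul_inv_cancel_right]
        conv_lhs => rw [show t⁻¹ * x * t = x * (x⁻¹ * (t⁻¹ * x * t)) by group]
        rw [hmull x hx _ (hfix t ht).1 _ (Q.inv_mem hw), map_mul, (hfix t ht).2 _ (Q.inv_mem hw),
          one_mul]
      rw [show ⁅w, t⁆ = w * (t * w⁻¹ * t⁻¹) by rw [commutatorElement_def]; group,
        hmulr x hx w hw _ htw, map_mul, h1, ← map_mul, ← hmulr x hx w hw _ (Q.inv_mem hw),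
        mul_inv_cancel, commutatorElement_one_right, map_one]
    exact (hle (hQT hy)).2
  -- the quotient `M`
  set RQ := R.subgroupOf Q with hRQdef
  haveI : RQ.Normal := ⟨fun x hx g => hRnorm (Subgroup.le_normalizer g.2) _ hx⟩
  letI : CommGroup (Q ⧸ RQ) := { (inferInstance : Group (Q ⧸ RQ)) with
    mul_comm := fun a b => by
      obtain ⟨a, rfl⟩ := QuotientGroup.mk_surjective a
      obtain ⟨b, rfl⟩ := QuotientGroup.mk_surjective b
      rw [← QuotientGroup.mk_mul, ← QuotientGroup.mk_mul, QuotientGroup.eq]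
      refine hQ'R _ ?_
      show ((a * b)⁻¹ * (b * a) : Q).1 ∈ _
      rw [show ((a * b)⁻¹ * (b * a) : Q).1 = ⁅(b : G)⁻¹, (a : G)⁻¹⁆ by
        simp [commutatorElement_def, mul_assoc]]
      exact hmem (Q.inv_mem b.2) (Q.inv_mem a.2) }
  have hexp : ∀ m : Q ⧸ RQ, m ^ u = 1 := by
    intro m
    obtain ⟨x, rfl⟩ := QuotientGroup.mk_surjective m
    rw [← QuotientGroup.mk_pow, QuotientGroup.eq_one_iff]
    refine htrick _ (x ^ u).2 fun t ht => ?_
    show ((x : G) ^ u)⁻¹ * (t⁻¹ * (x : G) ^ u * t) ∈ R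
    rw [mul_assoc t⁻¹, (hQu x x.2 t ht).eq, inv_mul_cancel_left, inv_mul_cancel]
    exact R.one_mem
  -- the action of `T` and `h`
  set N := T ⊔ Subgroup.zpowers h with hNdef
  have hNQ : N ≤ Subgroup.normalizer (Q : Set G) := sup_le hTQ (Subgroup.zpowers_le.mpr hhQ)
  let cj : ∀ g : G, g ∈ N → Q →* Q := fun g hg =>
    { toFun := fun a => ⟨g * a * g⁻¹, (Subgroup.mem_normalizer_iff.mp (hNQ hg) a).mp a.2⟩
      map_one' := Subtype.ext (by simp)
      map_mul' := fun a b => Subtype.ext (by simp [mul_assoc]) }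
  let cq : ∀ g : G, g ∈ N → (Q ⧸ RQ) →* (Q ⧸ RQ) := fun g hg =>
    QuotientGroup.map RQ RQ (cj g hg) fun a ha => hRnorm (hNQ hg) _ ha
  let act : N →* MulAut (Q ⧸ RQ) :=
    { toFun := fun g =>
        { toFun := cq g g.2
          invFun := cq (g : G)⁻¹ (N.inv_mem g.2)
          left_inv := fun m => by
            obtain ⟨a, rfl⟩ := QuotientGroup.mk_surjective m
            exact congrArg QuotientGroup.mk (Subtype.ext
              (show (g : G)⁻¹ * (g * a * (g : G)⁻¹) * (g : G)⁻¹⁻¹ = a by group))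
          right_inv := fun m => by
            obtain ⟨a, rfl⟩ := QuotientGroup.mk_surjective m
            exact congrArg QuotientGroup.mk (Subtype.ext
              (show (g : G) * ((g : G)⁻¹ * a * (g : G)⁻¹⁻¹) * (g : G)⁻¹ = a by group))
          map_mul' := map_mul _ }
      map_one' := MulEquiv.ext fun m => by
        obtain ⟨a, rfl⟩ := QuotientGroup.mk_surjective m
        exact congrArg QuotientGroup.mk (Subtype.ext (show (1 : G) * a * (1 : G)⁻¹ = a by group))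
      map_mul' := fun g g' => MulEquiv.ext fun m => by
        obtain ⟨a, rfl⟩ := QuotientGroup.mk_surjective m
        exact congrArg QuotientGroup.mk (Subtype.ext (show (g : G) * g' * a * ((g : G) * g')⁻¹ =
          g * (g' * a * (g' : G)⁻¹) * (g : G)⁻¹ by group)) }
  have hact : ∀ (g : N) (a : Q), act g (QuotientGroup.mk a) =
      QuotientGroup.mk ⟨(g : G) * a * (g : G)⁻¹,
        (Subgroup.mem_normalizer_iff.mp (hNQ g.2) (a : G)).mp a.2⟩ := fun g a => rfl
  let hn : N := ⟨h, Subgroup.mem_sup_right (Subgroup.mem_zpowers h)⟩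
  set hb := act hn with hhb
  have hbq : hb ^ q = 1 := by rw [hhb, ← map_pow, show hn ^ q = 1 from Subtype.ext hhq, map_one]
  set Tb := (T.subgroupOf N).map act with hTb
  have hTbmem : ∀ {a}, a ∈ Tb → ∃ (t : G) (ht : t ∈ T), act ⟨t, Subgroup.mem_sup_left ht⟩ = a := by
    rintro _ ⟨⟨t, _⟩, ht, rfl⟩
    exact ⟨t, ht, rfl⟩
  have hTbmk : ∀ (t : G) (ht : t ∈ T), act ⟨t, Subgroup.mem_sup_left ht⟩ ∈ Tb := fun t ht =>
    ⟨⟨t, Subgroup.mem_sup_left ht⟩, ht, rfl⟩
  have hTbab : ∀ a ∈ Tb, ∀ b ∈ Tb, a * b = b * a := by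
    intro a ha b hb'
    obtain ⟨t, ht, rfl⟩ := hTbmem ha
    obtain ⟨t', ht', rfl⟩ := hTbmem hb'
    rw [← commutatorElement_eq_one_iff_mul_comm, ← map_commutatorElement]
    refine MulEquiv.ext fun m => ?_
    obtain ⟨x, rfl⟩ := QuotientGroup.mk_surjective m
    exact congrArg QuotientGroup.mk (Subtype.ext
      (show ⁅t, t'⁆ * x * (⁅t, t'⁆)⁻¹ = (x : G) by
        rw [← (hT' t ht t' ht' x x.2).eq, mul_inv_cancel_right]))
  have hbTb : hb ∈ Subgroup.normalizer (Tb : Set (MulAut (Q ⧸ RQ))) :=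
    Subgroup.le_normalizer_map act ⟨hn, Subgroup.mem_normalizer_iff.mpr
      fun g => Subgroup.mem_normalizer_iff.mp hhT (g : G), rfl⟩
  have hbfree : ∀ a ∈ Tb, hb * a * hb⁻¹ = a → a = 1 := by
    let f : T → T := fun r => ⟨(r : G)⁻¹ * (h * r * h⁻¹),
      T.mul_mem (T.inv_mem r.2) ((Subgroup.mem_normalizer_iff.mp hhT r).mp r.2)⟩
    have hf : Function.Surjective f := by
      refine Finite.injective_iff_surjective.1 fun b c hbc => Subtype.ext ?_
      have h1 : (b : G)⁻¹ * (h * b * h⁻¹) = (c : G)⁻¹ * (h * c * h⁻¹) := congrArg Subtype.val hbc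
      refine mul_inv_eq_one.mp (hfreeT _ (T.mul_mem b.2 (T.inv_mem c.2)) ?_)
      rw [show h * ((b : G) * (c : G)⁻¹) * h⁻¹ = (h * b * h⁻¹) * (h * c * h⁻¹)⁻¹ by group,
        show h * (b : G) * h⁻¹ = b * ((c : G)⁻¹ * (h * c * h⁻¹)) by
          rw [← h1, mul_inv_cancel_left]]
      group
    let φ : Tb → Tb := fun a => ⟨(a : MulAut (Q ⧸ RQ))⁻¹ * (hb * a * hb⁻¹),
      Tb.mul_mem (Tb.inv_mem a.2) ((Subgroup.mem_normalizer_iff.mp hbTb _).mp a.2)⟩
    have hφ : Function.Surjective φ := by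
      intro a
      obtain ⟨t, ht, hta⟩ := hTbmem a.2
      obtain ⟨r, hr⟩ := hf ⟨t, ht⟩
      refine ⟨⟨_, hTbmk r r.2⟩, Subtype.ext ?_⟩
      show (act ⟨r, _⟩)⁻¹ * (hb * act ⟨r, _⟩ * hb⁻¹) = a
      rw [← hta, hhb, ← map_inv, ← map_inv, ← map_mul, ← map_mul, ← map_mul]
      exact congrArg act (Subtype.ext (congrArg Subtype.val hr :))
    intro a ha hfix
    have hinj := Finite.injective_iff_surjective.2 hφ
    have : φ ⟨a, ha⟩ = φ 1 := Subtype.ext (by
      show a⁻¹ * (hb * a * hb⁻¹) = ((1 : Tb) : MulAut (Q ⧸ RQ))⁻¹ * (hb * ((1 : Tb) : MulAut (Q ⧸ RQ)) * hb⁻¹)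
      rw [hfix, inv_mul_cancel]
      simp)
    exact congrArg Subtype.val (hinj this)
  -- a representation of `M`
  obtain ⟨X, _, _, _, ρM, -, -, -, hρzero, -, hcard, hfix, hρsum⟩ :=
    FrobeniusConfig.exists_rep hexp
  let k := AlgebraicClosure (ZMod u)
  haveI : CharP k u := charP_of_injective_algebraMap (algebraMap (ZMod u) k).injective u
  set E := Tb ⊔ Subgroup.zpowers hb with hE
  let he : E := ⟨hb, Subgroup.mem_sup_right (Subgroup.mem_zpowers hb)⟩
  set A := Tb.subgroupOf E with hA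
  haveI : Fintype A := Fintype.ofFinite _
  haveI : Fintype Tb := Fintype.ofFinite _
  have hAK : (Nat.card A : k) ≠ 0 := by
    rw [hA, Nat.card_congr (Subgroup.subgroupOfEquivOfLe le_sup_left).toEquiv, Ne,
      CharP.cast_eq_zero_iff k u]
    intro hdvd
    have h1 : Nat.card Tb ∣ Nat.card T := by
      refine (Subgroup.card_map_dvd _ act).trans ?_
      rw [Nat.card_congr (Subgroup.subgroupOfEquivOfLe (le_sup_left : T ≤ N)).toEquiv]
    exact hu.out.ne_one (Nat.eq_one_of_dvd_coprimes hTu (hdvd.trans h1) dvd_rfl)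
  have hqk : (q : k) ≠ 0 := fun h0 => hqu
    ((Nat.prime_dvd_prime_iff_eq hu.out hq).mp ((CharP.cast_eq_zero_iff k u q).mp h0)).symm
  let σ : Representation k E X := ρM.comp E.subtype
  have hgenE : A ⊔ Subgroup.zpowers he = ⊤ := by
    apply Subgroup.map_injective E.subtype_injective
    rw [Subgroup.map_sup, MonoidHom.map_zpowers, hA,
      Subgroup.map_subgroupOf_eq_of_le (le_sup_left : Tb ≤ E), ← MonoidHom.range_eq_map,
      Subgroup.range_subtype]
    exact hE.symm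
  have hsumA : ∑ a : A, σ (a : E) = 0 := by
    refine Eq.trans (Fintype.sum_equiv
      (Subgroup.subgroupOfEquivOfLe (le_sup_left : Tb ≤ E)).toEquiv _
      (fun a : Tb => ρM (a : MulAut (Q ⧸ RQ))) fun a => rfl) (hρsum Tb fun m => ?_)
    have hfixm : ∀ a ∈ Tb, a (∏ b : Tb, (b : MulAut (Q ⧸ RQ)) m) =
        ∏ b : Tb, (b : MulAut (Q ⧸ RQ)) m := fun a ha => by
      rw [map_prod]
      exact Fintype.prod_equiv (Equiv.mulLeft (⟨a, ha⟩ : Tb)) _ _ fun b => rfl
    obtain ⟨x, hx⟩ := QuotientGroup.mk_surjective (∏ b : Tb, (b : MulAut (Q ⧸ RQ)) m)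
    rw [← hx, QuotientGroup.eq_one_iff]
    refine htrick x x.2 fun t ht => ?_
    have h1 := hfixm _ (hTbmk t⁻¹ (T.inv_mem ht))
    rw [← hx, hact] at h1
    have h2 := QuotientGroup.eq.mp h1.symm
    have h3 : (x : G)⁻¹ * (t⁻¹ * x * t⁻¹⁻¹) ∈ R := h2
    rwa [inv_inv] at h3
  have hn_dim : finrank k X = finrank k X := rfl
  obtain ⟨hker, hnorm⟩ := free_of_frobenius hq hqk hAK (h := he)
    (Subgroup.mem_normalizer_iff.mpr fun g =>
      Subgroup.mem_normalizer_iff.mp hbTb (g : MulAut (Q ⧸ RQ)))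
    (Subtype.ext hbq) (fun a ha hfa => Subtype.ext (hbfree _ ha (congrArg Subtype.val hfa))) hgenE
    _ σ hn_dim
    (fun a ha b hb' => by
      rw [← map_mul, ← map_mul]
      exact congrArg σ (Subtype.ext (hTbab _ ha _ hb'))) hsumA
  obtain ⟨c, hc, hcker⟩ := hfix hb
  have hqc : q * c ≤ finrank k X := (Nat.mul_le_mul_left q hcker).trans hker
  -- the linear group
  have hQne : ∃ w ∈ Q, ρ w ≠ 1 := ⟨_, hQ'Q (hmem hx₀ hy₀), hne⟩
  haveI : Nontrivial W := by
    by_contra hW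
    rw [not_nontrivial_iff_subsingleton] at hW
    exact hne (LinearMap.ext fun w => Subsingleton.elim _ _)
  have hnotR : x₀ ∉ R := fun hmem' => hne (hmem'.2 y₀ hy₀)
  haveI : Nontrivial (Q ⧸ RQ) := ⟨⟨QuotientGroup.mk ⟨x₀, hx₀⟩, 1, fun e => hnotR
    ((QuotientGroup.eq_one_iff (⟨x₀, hx₀⟩ : Q)).mp e)⟩⟩
  have hc1 : 1 ≤ c := by
    by_contra hc0
    rw [show c = 0 by omega, pow_zero] at hc
    obtain ⟨hsub, -⟩ := Nat.card_eq_one_iff_unique.mp hc
    have hpos : 0 < finrank k X := by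
      rcases Nat.eq_zero_or_pos (finrank k X) with h0 | h0
      · have := Finite.one_lt_card (α := Q ⧸ RQ)
        rw [hcard, h0, pow_zero] at this
        exact absurd this (lt_irrefl 1)
      · exact h0
    refine hnorm hpos ?_
    have h0 := hρzero hb q fun m => congrArg Subtype.val (hsub.allEq
      (⟨_, Ward.norm_fixed (MonoidHom.id _) hbq m⟩ : {m : Q ⧸ RQ // hb m = m}) ⟨1, map_one hb⟩)
    exact h0
  obtain ⟨W₁, hW₁, hhW⟩ := exists_invariant_good hQK hQne hhQ hhq hN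
  set G₁ := Q ⊔ Subgroup.zpowers h with hG₁
  have hG₁W : ∀ g ∈ G₁, ∀ w ∈ W₁, ρ g w ∈ W₁ := by
    let S : Subgroup G :=
      { carrier := {g | W₁.map (ρ g) = W₁}
        mul_mem' := fun {g h} hg hh => by
          show W₁.map (ρ (g * h)) = W₁
          rw [map_mul, End.mul_eq_comp, Submodule.map_comp, show W₁.map (ρ h) = W₁ from hh]
          exact hg
        one_mem' := by show W₁.map (ρ 1) = W₁; rw [map_one]; exact Submodule.map_id W₁
        inv_mem' := fun {g} hg => by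
          show W₁.map (ρ g⁻¹) = W₁
          conv_lhs => rw [← show W₁.map (ρ g) = W₁ from hg]
          rw [← Submodule.map_comp, ← End.mul_eq_comp, ← map_mul, inv_mul_cancel, map_one]
          exact Submodule.map_id W₁ }
    have hin : ∀ g, (∀ w ∈ W₁, ρ g w ∈ W₁) → g ∈ S := fun g hg => by
      refine Submodule.eq_of_le_of_finrank_eq (Submodule.map_le_iff_le_comap.mpr hg) ?_
      exact (Submodule.equivMapOfInjective _
        (fun a b he => by rw [← rho_apply_inv (ρ := ρ) g a, he, rho_apply_inv]) W₁).finrank_eq.symm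
    have hle : G₁ ≤ S := sup_le (fun g hg => hin g (hW₁.inv g hg))
      (Subgroup.zpowers_le.mpr (hin h hhW))
    exact fun g hg w hw => (hle hg : W₁.map (ρ g) = W₁) ▸ Submodule.mem_map_of_mem hw
  let σ₁ : Representation K G₁ W₁ :=
    { toFun := fun g => (ρ (g : G)).restrict (hG₁W g g.2)
      map_one' := LinearMap.ext fun w => Subtype.ext (by simp)
      map_mul' := fun g g' => LinearMap.ext fun w => Subtype.ext (by simp) }
  haveI : Nontrivial W₁ := Submodule.nontrivial_iff_ne_bot.mpr hW₁.ne_bot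
  set Q₁ := Q.subgroupOf G₁ with hQ₁
  haveI : Q₁.Normal := Subgroup.normal_subgroupOf_iff le_sup_left |>.mpr fun a g ha hg =>
    (Subgroup.mem_normalizer_iff.mp
      ((sup_le Subgroup.le_normalizer (Subgroup.zpowers_le.mpr hhQ)) hg) a).mp ha
  have hirr : IsIrredOn σ₁ Q₁ := fun U hU => by
    rcases hW₁.minimal (U.map W₁.subtype) (Submodule.map_subtype_le _ _) (by
      rintro g hg _ ⟨w, hw, rfl⟩
      exact ⟨_, hU ⟨g, Subgroup.mem_sup_left hg⟩ hg w hw, rfl⟩) with h' | h'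
    · left
      exact Submodule.map_injective_of_injective W₁.injective_subtype
        (h'.trans (Submodule.map_bot _).symm)
    · right
      exact Submodule.map_injective_of_injective W₁.injective_subtype
        (h'.trans (by rw [Submodule.map_top, Submodule.range_subtype]))
  -- a scalar on `W₁` fixing it is the identity
  have hscone : ∀ {g : G} (hg : g ∈ G₁), IsScalar ρ g → σ₁ ⟨g, hg⟩ = 1 → ρ g = 1 := by
    rintro g hg ⟨a, ha⟩ h1
    obtain ⟨w, hw, hw0⟩ := Submodule.exists_mem_ne_zero_of_ne_bot hW₁.ne_bot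
    have h2 : ρ g w = w := congrArg Subtype.val (LinearMap.congr_fun h1 ⟨w, hw⟩)
    rw [ha, LinearMap.smul_apply, End.one_apply] at h2
    rw [ha, smul_left_injective K hw0 (h2.trans (one_smul K w).symm), one_smul]
  have hscR : ∀ a : Q₁, (a : G₁) ∈ scalarSubgroup σ₁ Q₁ ↔ ((a : G₁) : G) ∈ R := by
    intro a
    rw [mem_scalarSubgroup]
    constructor
    · rintro ⟨-, ha⟩
      refine ⟨a.2, fun y hy => ?_⟩
      exact hscone (Subgroup.mem_sup_left (hQ'Q (hmem a.2 hy))) (hsc _ a.2 y hy)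
        (rho_commutator_scalar (g := (⟨y, Subgroup.mem_sup_left hy⟩ : G₁)) ha)
    · intro ha
      refine ⟨a.2, isScalar_of_commute hirr fun g hg => LinearMap.ext fun w => Subtype.ext ?_⟩
      show ρ (g : G) (ρ ((a : G₁) : G) w) = ρ ((a : G₁) : G) (ρ (g : G) w)
      rw [rho_mul_apply, rho_mul_apply,
        show ((a : G₁) : G) * (g : G) = ⁅((a : G₁) : G), (g : G)⁆ * ((g : G) * (a : G₁)) by
          simp only [commutatorElement_def]; group,
        map_mul ρ ⁅((a : G₁) : G), (g : G)⁆, ha.2 (g : G) hg, one_mul]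
  have hL1 : ∀ t ∈ Q₁, ∀ a ∈ Q₁, IsScalar σ₁ ⁅t, a⁆ := fun t ht a ha => by
    obtain ⟨d, hd⟩ := hsc _ ht _ ha
    refine ⟨d, LinearMap.ext fun w => Subtype.ext ?_⟩
    have h1 := LinearMap.congr_fun hd (w : W)
    rw [← map_commutatorElement G₁.subtype] at h1
    exact h1
  have hQ₁p : IsPGroup u Q₁ := hQ.of_equiv (Subgroup.subgroupOfEquivOfLe le_sup_left).symm
  obtain ⟨hli, hspan, ⟨b, hb'⟩, hcardQ, hsame⟩ := end_basis hQ₁p hirr hL1
  set SQ := (scalarSubgroup σ₁ Q₁).subgroupOf Q₁ with hSQ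
  haveI : Fintype (Q₁ ⧸ SQ) := Fintype.ofFinite _
  let e₁ : Q₁ ≃* Q := Subgroup.subgroupOfEquivOfLe le_sup_left
  let ψ : (Q₁ ⧸ SQ) ≃* (Q ⧸ RQ) := QuotientGroup.congr SQ RQ e₁ (by
    refine le_antisymm ?_ fun w hw => ⟨e₁.symm w, (hscR _).mpr hw, e₁.apply_symm_apply w⟩
    rintro _ ⟨a, ha, rfl⟩
    exact (hscR a).mp ha)
  have hψ : ∀ a : Q₁, ψ (QuotientGroup.mk a) = QuotientGroup.mk (e₁ a) := fun a => rfl
  let perm : Equiv.Perm (Q₁ ⧸ SQ) := (ψ.toEquiv.trans hb.toEquiv).trans ψ.symm.toEquiv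
  have hperm : ∀ x, perm x = ψ.symm (hb (ψ x)) := fun x => rfl
  have hpow : ∀ (i : ℕ) x, (perm ^ i) x = ψ.symm ((hb ^ i) (ψ x)) := by
    intro i
    induction i with
    | zero => intro x; exact (ψ.symm_apply_apply x).symm
    | succ i ih =>
      intro x
      rw [pow_succ', Equiv.Perm.mul_apply, hperm, ih, ψ.apply_symm_apply, pow_succ',
        MulAut.mul_apply]
  have hpermq : perm ^ q = 1 := Equiv.ext fun x => by
    rw [hpow, hbq]
    exact ψ.symm_apply_apply x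
  set h₁ : G₁ := ⟨h, Subgroup.mem_sup_right (Subgroup.mem_zpowers h)⟩ with hh₁
  let L : End K (End K W₁) :=
    (LinearMap.mulRight K (σ₁ h₁⁻¹)).comp (LinearMap.mulLeft K (σ₁ h₁))
  have hbound := Commutant.finrank_fixed_le _ hli hspan L hq perm hpermq fun x => by
    set a : Q₁ := Quotient.out x
    let a' : Q₁ := ⟨h₁ * a * h₁⁻¹, (inferInstance : Q₁.Normal).conj_mem _ a.2 h₁⟩
    obtain ⟨d, -, hd⟩ := hsame a'
    refine ⟨d, ?_⟩
    have hx : perm x = QuotientGroup.mk a' := by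
      apply ψ.injective
      rw [hperm, ψ.apply_symm_apply, hψ]
      conv_lhs => rw [← QuotientGroup.out_eq' x]
      rw [hψ, hhb, hact]
      exact congrArg QuotientGroup.mk (Subtype.ext rfl)
    rw [hx]
    refine Eq.trans ?_ hd
    show σ₁ h₁ * σ₁ (a : G₁) * σ₁ h₁⁻¹ = σ₁ (h₁ * a * h₁⁻¹)
    rw [map_mul, map_mul]
  have hfixcard : Nat.card {x : Q₁ ⧸ SQ // perm x = x} = u ^ c := by
    rw [← hc]
    refine Nat.card_congr (ψ.toEquiv.subtypeEquiv fun x => ?_)
    rw [hperm, ψ.symm_apply_eq]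
    rfl
  have hσh : σ₁ h₁ ^ q = 1 := by rw [← map_pow, show h₁ ^ q = 1 from Subtype.ext hhq, map_one]
  have hσN : ∑ i ∈ Finset.range q, σ₁ h₁ ^ i = 0 := LinearMap.ext fun w => Subtype.ext (by
    rw [LinearMap.sum_apply, Submodule.coe_sum, LinearMap.zero_apply, Submodule.coe_zero]
    have h1 := LinearMap.congr_fun hN (w : W)
    rw [normEnd, LinearMap.sum_apply, LinearMap.zero_apply] at h1
    refine Eq.trans (Finset.sum_congr rfl fun i _ => ?_) h1
    rw [← map_pow]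
    rfl)
  have hsq := sq_finrank_le_of_norm hq.pos hqK hσh hσN
  have hD : finrank K (Commutant.commutant (σ₁ h₁ - 1)) ≤ finrank K (LinearMap.ker (L - 1)) :=
    Submodule.finrank_mono fun f hf => by
      rw [LinearMap.mem_ker, LinearMap.sub_apply, End.one_apply, sub_eq_zero]
      rw [Commutant.mem_commutant, mul_sub, sub_mul, mul_one, one_mul, sub_left_inj] at hf
      show σ₁ h₁ * f * σ₁ h₁⁻¹ = f
      rw [← hf, mul_assoc, ← map_mul, mul_inv_cancel, map_one, mul_one]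
  rw [hfixcard, ← Nat.card_eq_fintype_card, hcardQ] at hbound
  -- the numbers
  set n := finrank K W₁ with hn'
  have hM : Nat.card (Q ⧸ RQ) = n * n := (Nat.card_congr ψ.toEquiv).symm.trans hcardQ
  rw [hcard, hb', ← pow_add] at hM
  have hX : finrank k X = 2 * b := by
    rw [Nat.pow_right_injective hu.out.two_le hM, two_mul]
  rw [hX] at hqc
  refine arith hq hu.out.two_le hc1 hqc ?_
  rw [hb', ← sq, ← pow_mul, mul_comm b 2] at hbound
  rw [hb', ← pow_mul, mul_comm b 2] at hsq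
  obtain ⟨m, hm⟩ : ∃ m, q = m + 1 := ⟨q - 1, by have := hq.pos; omega⟩
  rw [hm, Nat.add_sub_cancel] at hsq hbound ⊢
  have h1 : (m + 1) * u ^ (2 * b) ≤ m * (u ^ (2 * b) + m * u ^ c) :=
    calc (m + 1) * u ^ (2 * b)
        ≤ (m + 1) * (m * finrank K (LinearMap.ker (L - 1))) :=
          Nat.mul_le_mul_left _ (hsq.trans (Nat.mul_le_mul_left _ hD))
      _ = m * ((m + 1) * finrank K (LinearMap.ker (L - 1))) := by ring
      _ ≤ m * (u ^ (2 * b) + m * u ^ c) := Nat.mul_le_mul_left _ hbound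
  nlinarith [h1]

end CfsgLib.FgsC.FrobeniusExtraspecial
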