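import Cfsg.Agent.Lib.FgsC.CoprimeWeights
import Cfsg.Agent.Lib.FgsC.BaseChangeRep
import Cfsg.Agent.Lib.FgsC.FrobeniusExtraspecial
import Cfsg.Agent.Lib.Ward.Average
import Cfsg.Agent.Lib.Coprime.Action2
import Cfsg.Agent.Lib.Base.ThompsonFPF
import Cfsg.Agent.Lib.Base.MinimalNormal
import Cfsg.Agent.Lib.OddOrder.FittingHall

/-!
# A nonabelian group of order `p q` of operators without fixed points: the configuration
-/

set_option autoImplicit false
set_option linter.style.haveILetI false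

open Module
open scoped commutatorElement

universe u v

namespace CfsgLib.FgsC.FrobeniusConfig

open CfsgLib.FgsC.HallHigman CfsgLib.FgsC.CoprimeWeights

/-- Normalizers of commutator subgroups. -/
theorem le_normalizer_commutator {G : Type*} [Group G] {A B X : Subgroup G}
    (hA : X ≤ Subgroup.normalizer (A : Set G)) (hB : X ≤ Subgroup.normalizer (B : Set G)) :
    X ≤ Subgroup.normalizer ((⁅A, B⁆ : Subgroup G) : Set G) := by
  intro x hx
  rw [Subgroup.mem_normalizer_iff_map_conj_eq, Subgroup.map_commutator,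
    Subgroup.mem_normalizer_iff_map_conj_eq.mp (hA hx),
    Subgroup.mem_normalizer_iff_map_conj_eq.mp (hB hx)]

theorem cast_card_ne_zero {K : Type*} [Field K] {r : ℕ} [CharP K r] (hr : r.Prime) {G : Type*}
    [Group G] [Finite G] {u : ℕ} [hu : Fact u.Prime] (hur : u ≠ r) {Q : Subgroup G}
    (hQ : IsPGroup u Q) : (Nat.card Q : K) ≠ 0 := by
  obtain ⟨c, hc⟩ := IsPGroup.iff_card.mp hQ
  rw [hc, Ne, CharP.cast_eq_zero_iff K r]
  intro h
  exact hur ((Nat.prime_dvd_prime_iff_eq hr hu.out).mp (hr.dvd_of_dvd_pow h)).symm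

/-- A vanishing norm makes `z` centralise every invariant `u`-group, unless `p = u ^ b + 1`. -/
theorem commute_of_norm_zero {G : Type*} [Group G] [Finite G] {K : Type*} [Field K] [IsAlgClosed K]
    {V : Type*} [AddCommGroup V] [Module K V] [FiniteDimensional K V] {ρ : Representation K G V}
    (hfaith : Function.Injective ρ) {p u : ℕ} [hp : Fact p.Prime] [hu : Fact u.Prime]
    (hpu : p ≠ u) (hpow : ¬ ∃ b, 1 ≤ b ∧ p = u ^ b + 1) (hpK : (p : K) ≠ 0) {z : G}
    (hzp : z ^ p = 1) (hN : normEnd ρ z p = 0) {R : Subgroup G} (hR : IsPGroup u R)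
    (hRK : (Nat.card R : K) ≠ 0) (hzR : z ∈ Subgroup.normalizer (R : Set G)) :
    ∀ x ∈ R, Commute x z := by
  classical
  by_contra hne
  obtain ⟨Q, ⟨hQR, hzQ, hQz⟩, hmin⟩ := wellFounded_lt.has_min
    {Q : Subgroup G | Q ≤ R ∧ z ∈ Subgroup.normalizer (Q : Set G) ∧ ¬ ∀ k ∈ Q, Commute k z}
    ⟨R, le_rfl, hzR, hne⟩
  have hsmall : ∀ M : Subgroup G, M < Q → z ∈ Subgroup.normalizer (M : Set G) →
      ∀ k ∈ M, Commute k z := by
    intro M hM hzM
    by_contra h
    exact hmin M ⟨hM.le.trans hQR, hzM, h⟩ hM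
  have hQu : IsPGroup u Q := hR.to_le hQR
  have hQK : (Nat.card Q : K) ≠ 0 := fun h => hRK (by
    obtain ⟨c, hc⟩ := Subgroup.card_dvd_of_le hQR
    rw [hc, Nat.cast_mul, h, zero_mul])
  set Z := Subgroup.zpowers z with hZ
  have hZQ : Z ≤ Subgroup.normalizer (Q : Set G) := Subgroup.zpowers_le.mpr hzQ
  have hZsol : Group.IsSolvable Z := Group.isSolvable_of_comm fun a b => by
    obtain ⟨a, i, rfl⟩ := a
    obtain ⟨b, j, rfl⟩ := b
    exact Subtype.ext ((Commute.refl z).zpow_zpow i j)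
  have hcop : (Nat.card Z).Coprime (Nat.card Q) := by
    obtain ⟨c, hc⟩ := IsPGroup.iff_card.mp hQu
    obtain ⟨i, -, hi⟩ := (Nat.dvd_prime_pow hp.out).mp
      (orderOf_dvd_of_pow_eq_one (show z ^ p ^ 1 = 1 by rwa [pow_one]))
    rw [hc, Nat.card_zpowers, hi]
    exact Nat.coprime_pow_primes i c hp.out hu.out hpu
  have hQne : Q ≠ ⊥ := fun h => hQz fun k hk => by
    rw [h, Subgroup.mem_bot] at hk; rw [hk]; exact Commute.one_left z
  have hgen : Q ≤ ⁅Q, Z⁆ := by
    by_contra h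
    have hlt : ⁅Q, Z⁆ < Q := lt_of_le_not_ge
      (CfsgLib.Coprime.commutator_le_of_le_normalizer hZQ) h
    have hc := hsmall _ hlt (le_normalizer_commutator hZQ Subgroup.le_normalizer
      (Subgroup.mem_zpowers z))
    have h0 : ⁅⁅Q, Z⁆, Z⁆ = (⊥ : Subgroup G) := by
      refine Subgroup.commutator_eq_bot_iff_le_centralizer.mpr fun g hg => ?_
      refine Subgroup.mem_centralizer_iff.mpr fun t ht => ?_
      obtain ⟨j, rfl⟩ := ht
      exact ((hc g hg).zpow_right j).eq.symm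
    rw [CfsgLib.Coprime.commutator_commutator_eq hZQ hcop (Or.inl hZsol)] at h0
    exact hQz fun k hk => (Subgroup.mem_centralizer_iff.mp
      (Subgroup.commutator_eq_bot_iff_le_centralizer.mp h0 hk) z (Subgroup.mem_zpowers z)).symm
  set Q' := (⁅Q, Q⁆ : Subgroup G) with hQ'
  have hQ'lt : Q' < Q := by
    haveI := hQu.isNilpotent
    exact CfsgLib.Base.commutator_self_lt_of_isSolvable hQne inferInstance
  have hQ'z : ∀ a ∈ Z, ∀ t ∈ Q', a * t * a⁻¹ = t := by
    rintro a ⟨j, rfl⟩ t ht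
    rw [← ((hsmall Q' hQ'lt (le_normalizer_commutator hZQ hZQ (Subgroup.mem_zpowers z)) t
      ht).zpow_right j).eq, mul_inv_cancel_right]
  have hQQ' : (⁅Q, Q'⁆ : Subgroup G) = ⊥ := by
    have hb : (⁅Q', Z⁆ : Subgroup G) = ⊥ := by
      refine Subgroup.commutator_eq_bot_iff_le_centralizer.mpr fun g hg => ?_
      refine Subgroup.mem_centralizer_iff.mpr fun a ha => ?_
      exact mul_inv_eq_iff_eq_mul.mp (hQ'z a ha g hg)
    have h1 : (⁅⁅Q, Q'⁆, Z⁆ : Subgroup G) = ⊥ := le_bot_iff.mp (hb ▸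
      Subgroup.commutator_mono ((Subgroup.commutator_comm Q Q').le.trans
        (Subgroup.le_normalizer_iff_commutator_le_left.mp
          (le_normalizer_commutator Subgroup.le_normalizer Subgroup.le_normalizer))) le_rfl)
    have h2 : (⁅⁅Q', Z⁆, Q⁆ : Subgroup G) = ⊥ := by
      rw [hb, Subgroup.commutator_bot_left]
    have h3 := Subgroup.commutator_commutator_eq_bot_of_rotate (H₁ := Z) (H₂ := Q) (H₃ := Q') h1 h2
    refine le_bot_iff.mp (h3 ▸ Subgroup.commutator_mono ?_ le_rfl)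
    rw [Subgroup.commutator_comm]; exact hgen
  have hQ'c : ∀ t ∈ Q', ∀ g ∈ Q, Commute g t := fun t ht g hg =>
    ((Subgroup.mem_centralizer_iff.mp
      (Subgroup.commutator_eq_bot_iff_le_centralizer.mp hQQ' hg)) t ht).symm
  have hcent : ∀ k ∈ Q, Commute k z → ∀ g ∈ Q, Commute k g := by
    intro k hk hkz g hg
    have hle : (⁅Q, Z⁆ : Subgroup G) ≤ Subgroup.centralizer ({k} : Set G) := by
      refine Subgroup.commutator_le.mpr fun g hg a ha => Subgroup.mem_centralizer_singleton_iff.mpr ?_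
      have hak : a * k * a⁻¹ = k := by
        obtain ⟨j, rfl⟩ := ha
        rw [← (hkz.zpow_right j).eq, mul_inv_cancel_right]
      set g' := a * g⁻¹ * a⁻¹ with hg'
      have hg'Q : g' ∈ Q := (Subgroup.mem_normalizer_iff.mp (hZQ ha) _).mp (Q.inv_mem hg)
      have hc1 : ⁅k, g⁻¹⁆ ∈ Q' := Subgroup.commutator_mem_commutator hk (Q.inv_mem hg)
      have e1 : ⁅k, g'⁆ = ⁅k, g⁻¹⁆ := by
        conv_rhs => rw [← hQ'z a ha _ hc1]
        conv_lhs => rw [← hak]
        rw [hg']
        simp only [commutatorElement_def]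
        group
      have e2 : ∀ t ∈ Q, ⁅k, g * t⁆ = ⁅k, g⁆ * ⁅k, t⁆ := fun t ht => by
        have hc := hQ'c ⁅k, t⁆ (Subgroup.commutator_mem_commutator hk ht) g hg
        have : ⁅k, g * t⁆ = ⁅k, g⁆ * (g * ⁅k, t⁆ * g⁻¹) := by
          simp only [commutatorElement_def]; group
        rw [this, hc.eq, mul_inv_cancel_right]
      have e3 : ⁅k, g * g'⁆ = 1 := by
        rw [e2 g' hg'Q, e1, ← e2 g⁻¹ (Q.inv_mem hg), mul_inv_cancel, commutatorElement_one_right]
      have e4 : ⁅g, a⁆ = g * g' := by rw [hg', commutatorElement_def]; group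
      rw [e4]
      exact (commutatorElement_eq_one_iff_mul_comm.mp e3).symm
    exact (Subgroup.mem_centralizer_singleton_iff.mp (hle (hgen hg))).symm
  obtain ⟨b, hb, hpb⟩ := exists_pow_eq (ρ := ρ) hpu hpK hQu hQK (by
      obtain ⟨⟨k, hk⟩, hk1⟩ := Subgroup.ne_bot_iff_exists_ne_one.mp hQne
      exact ⟨k, hk, fun h => hk1 (Subtype.ext (hfaith (h.trans (map_one ρ).symm)))⟩)
    hzQ hzp hN hgen (fun a ha b hb c hc => hQ'c _ (Subgroup.commutator_mem_commutator ha hb) c hc)
    hcent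
  exact hpow ⟨b, hb, hpb⟩

/-- A coprime invariant pair on which `z` has no fixed points modulo the centraliser commutes. -/
theorem exists_fixed_ne_one {G : Type*} [Group G] [Finite G] {p : ℕ} [hp : Fact p.Prime]
    {Q T : Subgroup G} {z : G} (hzp : z ^ p = 1) (hzQ : z ∈ Subgroup.normalizer (Q : Set G))
    (hzT : z ∈ Subgroup.normalizer (T : Set G)) (hTQ : T ≤ Subgroup.normalizer (Q : Set G))
    (hQT : (Nat.card Q).Coprime (Nat.card T)) (hTp : (Nat.card T).Coprime p)
    (hTz : ∀ t ∈ T, Commute t z → ∀ a ∈ Q, Commute a t) (hne : ⁅Q, T⁆ ≠ ⊥) :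
    ∃ x ∈ Q, x ≠ 1 ∧ Commute x z := by
  classical
  by_contra hno
  push Not at hno
  set M := Q ⊔ T with hM
  set D := T ⊓ Subgroup.centralizer (Q : Set G) with hD
  have hDM : D ≤ M := inf_le_left.trans le_sup_right
  have hMD : M ≤ Subgroup.normalizer (D : Set G) := by
    refine sup_le (fun a ha => Subgroup.centralizer_le_normalizer (G := G) (s := (D : Set G))
      (Subgroup.mem_centralizer_iff.mpr fun d hd =>
        (Subgroup.mem_centralizer_iff.mp hd.2 a ha).symm)) ?_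
    exact Coprime.le_normalizer_inf_inf Subgroup.le_normalizer
      (Coprime.le_normalizer_centralizer hTQ)
  haveI : (D.subgroupOf M).Normal := Subgroup.normal_subgroupOf_iff hDM |>.mpr
    fun k g hk hg => (Subgroup.mem_normalizer_iff.mp (hMD hg) k).mp hk
  have hzD : z ∈ Subgroup.normalizer (D : Set G) :=
    Coprime.le_normalizer_inf_inf (A := Subgroup.zpowers z) (Subgroup.zpowers_le.mpr hzT)
      (Coprime.le_normalizer_centralizer (Subgroup.zpowers_le.mpr hzQ)) (Subgroup.mem_zpowers z)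
  have hzM : z ∈ Subgroup.normalizer (M : Set G) :=
    Coprime.le_normalizer_sup_sup (A := Subgroup.zpowers z) (Subgroup.zpowers_le.mpr hzQ)
      (Subgroup.zpowers_le.mpr hzT) (Subgroup.mem_zpowers z)
  let φ : MulAut M := Base.FPFAut.restrict (MulAut.conj z)
    (CfsgLib.Base.map_conj_eq_self_iff.2 hzM)
  have hφD : (D.subgroupOf M).map φ.toMonoidHom = D.subgroupOf M := by
    ext w
    constructor
    · rintro ⟨d, hd, rfl⟩
      exact (Subgroup.mem_normalizer_iff.mp hzD (d : G)).mp hd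
    · intro hw
      refine ⟨φ.symm w, ?_, φ.apply_symm_apply w⟩
      have h : z * ((φ.symm w : M) : G) * z⁻¹ = w := congrArg Subtype.val (φ.apply_symm_apply w)
      show ((φ.symm w : M) : G) ∈ D
      refine (Subgroup.mem_normalizer_iff.mp hzD _).mpr ?_
      rw [h]; exact hw
  let ψ : MulAut (M ⧸ D.subgroupOf M) := QuotientGroup.congr _ _ φ hφD
  have hψ : ∀ w : M, ψ (QuotientGroup.mk w) = QuotientGroup.mk (φ w) := fun w => rfl
  have hψp : ψ ^ p = 1 := by
    have hpow : ∀ (i : ℕ) (w : M), (ψ ^ i) (QuotientGroup.mk w) = QuotientGroup.mk ((φ ^ i) w) := by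
      intro i
      induction i with
      | zero => intro w; rfl
      | succ i ih => intro w; rw [pow_succ', MulAut.mul_apply, ih, hψ, pow_succ', MulAut.mul_apply]
    refine MulEquiv.ext fun x => ?_
    obtain ⟨w, rfl⟩ := QuotientGroup.mk_surjective x
    rw [hpow, show φ ^ p = 1 from Base.FPFAut.restrict_pow_eq_one _ (by rw [← map_pow, hzp, map_one])]
    rfl
  obtain ⟨i, -, hi⟩ := (Nat.dvd_prime_pow hp.out).mp
    (orderOf_dvd_of_pow_eq_one (show z ^ p ^ 1 = 1 by rwa [pow_one]))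
  have hcop : (Nat.card (Subgroup.zpowers z)).Coprime (Nat.card D) := by
    rw [Nat.card_zpowers, hi]
    exact Nat.Coprime.pow_left i (hTp.coprime_dvd_left (Subgroup.card_dvd_of_le inf_le_left)).symm
  have hinf : Q ⊓ T = ⊥ := Coprime.inf_eq_bot_of_coprime hQT
  have hψf : MonoidHom.FixedPointFree (ψ : M ⧸ D.subgroupOf M → M ⧸ D.subgroupOf M) := by
    intro x hx
    obtain ⟨w, rfl⟩ := QuotientGroup.mk_surjective x
    rw [hψ, eq_comm, QuotientGroup.eq] at hx
    have hx' : (w : G)⁻¹ * (z * w * z⁻¹) ∈ D := Subgroup.mem_subgroupOf.mp hx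
    let F : Subgroup G :=
      { carrier := {g | g ∈ Subgroup.normalizer (D : Set G) ∧ (w : G)⁻¹ * (g * w * g⁻¹) ∈ D}
        mul_mem' := by
          rintro g h ⟨hg, hg'⟩ ⟨hh, hh'⟩
          refine ⟨mul_mem hg hh, ?_⟩
          have h1 := D.mul_mem hg' ((Subgroup.mem_normalizer_iff.mp hg _).mp hh')
          rw [show (w : G)⁻¹ * (g * h * w * (g * h)⁻¹)
            = (w : G)⁻¹ * (g * w * g⁻¹) * (g * ((w : G)⁻¹ * (h * w * h⁻¹)) * g⁻¹) by group]
          exact h1
        one_mem' := ⟨one_mem _, by simp⟩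
        inv_mem' := by
          rintro g ⟨hg, hg'⟩
          refine ⟨inv_mem hg, ?_⟩
          have h1 := (Subgroup.mem_normalizer_iff.mp (inv_mem hg) _).mp (D.inv_mem hg')
          rw [show (w : G)⁻¹ * (g⁻¹ * w * g⁻¹⁻¹)
            = g⁻¹ * ((w : G)⁻¹ * (g * w * g⁻¹))⁻¹ * g⁻¹⁻¹ by group]
          exact h1 }
    obtain ⟨c, hc, hwc⟩ := Coprime.exists_centralizing_in_coset (Subgroup.zpowers_le.mpr hzD) hcop
      (Or.inl (Group.isSolvable_of_comm fun a b => by
        obtain ⟨a, i, rfl⟩ := a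
        obtain ⟨b, j, rfl⟩ := b
        exact Subtype.ext ((Commute.refl z).zpow_zpow i j)))
      (k := (w : G)) (fun g hg => ((Subgroup.zpowers_le.mpr (show z ∈ F from ⟨hzD, hx'⟩)) hg).2)
    have hcM : c ∈ M := by
      have := M.mul_mem w.2 (hDM hwc)
      rwa [mul_inv_cancel_left] at this
    have hcz : Commute c z :=
      (Subgroup.mem_centralizer_iff.mp hc z (Subgroup.mem_zpowers z)).symm
    obtain ⟨a, ha, t, ht, rfl⟩ := (Coprime.mem_sup_iff_of_le_normalizer hTQ).mp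
      (show c ∈ T ⊔ Q by rwa [sup_comm])
    -- uniqueness of the factorisation
    have h1 : z * (a * t) * z⁻¹ = a * t := by rw [← hcz.eq, mul_inv_cancel_right]
    have ha' : z * a * z⁻¹ = a ∧ z * t * z⁻¹ = t := by
      have hta : a ∈ T := ha
      have e : a⁻¹ * (z * a * z⁻¹) = t * (z * t * z⁻¹)⁻¹ := by
        rw [show t * (z * t * z⁻¹)⁻¹ = a⁻¹ * (a * t) * (z * t * z⁻¹)⁻¹ by group, ← h1]
        group
      have hmem : a⁻¹ * (z * a * z⁻¹) ∈ Q ⊓ T := by
        refine ⟨?_, T.mul_mem (T.inv_mem ha) ((Subgroup.mem_normalizer_iff.mp hzT a).mp ha)⟩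
        rw [e]
        exact Q.mul_mem ht (Q.inv_mem ((Subgroup.mem_normalizer_iff.mp hzQ t).mp ht))
      rw [hinf, Subgroup.mem_bot] at hmem
      have hza := (inv_mul_eq_one.mp hmem).symm
      exact ⟨hza, mul_left_cancel (a := a) (by
        rw [← h1]
        conv_lhs => rw [← hza]
        group)⟩
    have ht1 : t = 1 := by
      by_contra ht1
      exact hno t ht ht1 ((mul_inv_eq_iff_eq_mul.mp ha'.2).symm)
    rw [ht1, mul_one] at hwc
    have haD : a ∈ D := ⟨ha, Subgroup.mem_centralizer_iff.mpr fun b hb =>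
      (hTz a ha ((mul_inv_eq_iff_eq_mul.mp ha'.1).symm) b hb).eq⟩
    rw [QuotientGroup.eq_one_iff]
    refine Subgroup.mem_subgroupOf.mpr ?_
    have := D.mul_mem haD (D.inv_mem hwc)
    rwa [mul_inv_rev, inv_inv, mul_inv_cancel_left] at this
  haveI : Group.IsNilpotent (M ⧸ D.subgroupOf M) :=
    Base.isNilpotent_of_fixedPointFree ψ hψf hp.out hψp
  refine hne (Subgroup.commutator_eq_bot_iff_le_centralizer.mpr fun a ha =>
    Subgroup.mem_centralizer_iff.mpr fun t ht => ?_)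
  have hcomm := CfsgLib.OddOrder.commute_of_coprime_aux
    (a := (QuotientGroup.mk ⟨t, Subgroup.mem_sup_right ht⟩ : M ⧸ D.subgroupOf M))
    (b := QuotientGroup.mk ⟨a, Subgroup.mem_sup_left ha⟩) (by
      refine ((hQT.symm.coprime_dvd_left ?_).coprime_dvd_right ?_)
      · exact (orderOf_map_dvd (QuotientGroup.mk' _) _).trans
          (by rw [Subgroup.orderOf_mk]; exact Subgroup.orderOf_dvd_natCard T ht)
      · exact (orderOf_map_dvd (QuotientGroup.mk' _) _).trans
          (by rw [Subgroup.orderOf_mk]; exact Subgroup.orderOf_dvd_natCard Q ha))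
  have h := (QuotientGroup.eq_one_iff _).mp
    (show (QuotientGroup.mk (⁅(⟨t, Subgroup.mem_sup_right ht⟩ : M),
      ⟨a, Subgroup.mem_sup_left ha⟩⁆) : M ⧸ D.subgroupOf M) = 1 by
      rw [← QuotientGroup.mk'_apply, map_commutatorElement]
      exact commutatorElement_eq_one_iff_mul_comm.mpr hcomm.eq)
  have h' : ⁅t, a⁆ ∈ D := h
  have hQ : ⁅t, a⁆ ∈ Q := by
    rw [commutatorElement_def]
    exact Q.mul_mem ((Subgroup.mem_normalizer_iff.mp (hTQ ht) a).mp ha) (Q.inv_mem ha)
  have : ⁅t, a⁆ ∈ Q ⊓ T := ⟨hQ, h'.1⟩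
  rw [hinf, Subgroup.mem_bot] at this
  exact commutatorElement_eq_one_iff_mul_comm.mp this

/-- `h` normalising the centraliser of `z`. -/
theorem commute_conj {G : Type*} [Group G] {p : ℕ} (hp : p.Prime) {z h : G} (hzp : z ^ p = 1)
    (hzh : h * z * h⁻¹ ∈ Subgroup.zpowers z) {x : G} (hx : Commute x z) :
    Commute (h * x * h⁻¹) z := by
  obtain ⟨k, hk⟩ := hzh
  have hc : Commute (h * x * h⁻¹) (z ^ k) := by
    rw [show z ^ k = h * z * h⁻¹ from hk]
    show h * x * h⁻¹ * (h * z * h⁻¹) = h * z * h⁻¹ * (h * x * h⁻¹)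
    rw [show h * x * h⁻¹ * (h * z * h⁻¹) = h * (x * z) * h⁻¹ by group, hx.eq]
    group
  by_cases hdvd : (p : ℤ) ∣ k
  · obtain ⟨m, rfl⟩ := hdvd
    have h1 : h * z * h⁻¹ = 1 := by
      rw [← hk]
      show z ^ ((p : ℤ) * m) = 1
      rw [zpow_mul, zpow_natCast, hzp, one_zpow]
    rw [conj_eq_one_iff] at h1
    rw [h1]
    exact Commute.one_right _
  · have hcop : IsCoprime k (p : ℤ) := ((Nat.prime_iff_prime_int.mp hp).coprime_iff_not_dvd.mpr hdvd).symm
    obtain ⟨a, b, hab⟩ := hcop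
    have h2 := hc.zpow_right a
    rwa [← zpow_mul, show k * a = 1 + (-b) * (p : ℤ) by linarith, zpow_add, zpow_one, neg_mul,
      zpow_neg, mul_comm b, zpow_mul, zpow_natCast, hzp, one_zpow, inv_one, mul_one] at h2

/-- Fixed points of `z` in an invariant group fix the fixed vectors of `z`. -/
theorem fixes_fixed {V : Type v} [CommGroup V] [Finite V] {p q : ℕ} (hp : p.Prime) (hq : q.Prime)
    {z h : MulAut V} (hzp : z ^ p = 1) (hhq : h ^ q = 1)
    (hzh : h * z * h⁻¹ ∈ Subgroup.zpowers z)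
    (hfpfV : ∀ v, z v = v → h v = v → v = 1) {Q : Subgroup (MulAut V)}
    (hhQ : h ∈ Subgroup.normalizer (Q : Set (MulAut V)))
    (hfpfQ : ∀ x ∈ Q, Commute x z → Commute x h → x = 1)
    (hcop : (Nat.card Q).Coprime (Nat.card V)) :
    ∀ x ∈ Q, Commute x z → ∀ v, z v = v → x v = v := by
  classical
  haveI : Finite (MulAut V) := Finite.of_injective (fun β : MulAut V => (β : V → V))
    DFunLike.coe_injective
  intro x hx hxz v hv
  set S := Q ⊓ Subgroup.centralizer ({z} : Set (MulAut V)) with hS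
  have hmem : ∀ {y}, y ∈ Subgroup.centralizer ({z} : Set (MulAut V)) ↔ Commute y z :=
    fun {y} => Subgroup.mem_centralizer_singleton_iff
  have hhC : ∀ y, Commute y z ↔ Commute (h * y * h⁻¹) z := by
    intro y
    refine ⟨commute_conj hp hzp hzh, fun hy => ?_⟩
    have key : ∀ n : ℕ, ∀ y, Commute y z → Commute (h ^ n * y * (h ^ n)⁻¹) z := by
      intro n
      induction n with
      | zero => intro y hy; simpa using hy
      | succ n ih =>
        intro y hy
        rw [pow_succ', show h * h ^ n * y * (h * h ^ n)⁻¹ = h * (h ^ n * y * (h ^ n)⁻¹) * h⁻¹ by group]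
        exact commute_conj hp hzp hzh (ih y hy)
    have h1 := key (q - 1) _ hy
    rwa [show h ^ (q - 1) = h⁻¹ from eq_inv_of_mul_eq_one_left (by
      rw [← pow_succ, Nat.sub_add_cancel hq.pos, hhq]), inv_inv,
      show h⁻¹ * (h * y * h⁻¹) * h = y by group] at h1
  have hhS : h ∈ Subgroup.normalizer (S : Set (MulAut V)) := Subgroup.mem_normalizer_iff.mpr fun y =>
    and_congr (Subgroup.mem_normalizer_iff.mp hhQ y) (hmem.trans ((hhC y).trans hmem.symm))
  have hfix : ∀ i : ℕ, ∀ w, z w = w → z ((h ^ i) w) = (h ^ i) w := by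
    intro i
    induction i with
    | zero => exact fun w hw => hw
    | succ i ih =>
      intro w hw
      rw [pow_succ', MulAut.mul_apply]
      set u := (h ^ i) w
      have hu : z u = u := ih w hw
      have hzp' : ∀ n : ℕ, (z ^ n) u = u := by
        intro n
        induction n with
        | zero => rfl
        | succ n ihn => rw [pow_succ, MulAut.mul_apply, hu, ihn]
      obtain ⟨k, hk⟩ : ∃ k : ℕ, z ^ k = h⁻¹ * z * h := by
        have h0 : ∀ n : ℕ, h ^ n * z * (h ^ n)⁻¹ ∈ Subgroup.zpowers z := by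
          intro n
          induction n with
          | zero => simpa using Subgroup.mem_zpowers z
          | succ n ihn =>
            obtain ⟨k, hk⟩ := ihn
            rw [pow_succ', show h * h ^ n * z * (h * h ^ n)⁻¹
              = h * (h ^ n * z * (h ^ n)⁻¹) * h⁻¹ by group, ← hk]
            show h * z ^ k * h⁻¹ ∈ _
            rw [← conj_zpow]
            exact Subgroup.zpow_mem _ hzh k
        have h1 := h0 (q - 1)
        rw [show h ^ (q - 1) = h⁻¹ from eq_inv_of_mul_eq_one_left (by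
          rw [← pow_succ, Nat.sub_add_cancel hq.pos, hhq]), inv_inv] at h1
        obtain ⟨k, -, hk⟩ := Finset.mem_image.mp (mem_zpowers_iff_mem_range_orderOf.mp h1)
        exact ⟨k, hk⟩
      have h2 := congrArg (fun g : MulAut V => h (g u)) hk
      simp only [MulAut.mul_apply, hzp', MulAut.apply_inv_self] at h2
      exact h2.symm
  refine Ward.fixed_of_norm_one (MonoidHom.id (MulAut V)) hq S hhS hhq ?_
    (hcop.coprime_dvd_left (Subgroup.card_dvd_of_le inf_le_left)) (u := v) ?_ x ⟨hx, hmem.mpr hxz⟩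
  · intro s hs hfixs
    exact hfpfQ s hs.1 (hmem.mp hs.2) (mul_inv_eq_iff_eq_mul.mp hfixs).symm
  · intro y hy
    have hyz : z (y v) = y v := by
      rw [← MulAut.mul_apply, ← (hmem.mp hy.2).eq, MulAut.mul_apply, hv]
    refine hfpfV _ ?_ ?_
    · simp only [MonoidHom.id_apply, map_prod, MulAut.mul_apply]
      exact Finset.prod_congr rfl fun i _ => hfix i _ hyz
    · have h1 := Ward.norm_fixed (MonoidHom.id (MulAut V)) hhq (y v)
      simp only [MonoidHom.id_apply] at h1 ⊢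
      simp only [MulAut.mul_apply]
      exact h1

/-- A fixed coset lifts to a fixed element. -/
theorem exists_commute_in_coset {G : Type*} [Group G] [Finite G] {p : ℕ} [hp : Fact p.Prime]
    {D : Subgroup G} (hD : (Nat.card D).Coprime p) {z : G} (hzp : z ^ p = 1)
    (hzD : z ∈ Subgroup.normalizer (D : Set G)) {k : G} (hk : k⁻¹ * (z * k * z⁻¹) ∈ D) :
    ∃ c, Commute c z ∧ k⁻¹ * c ∈ D := by
  obtain ⟨i, -, hi⟩ := (Nat.dvd_prime_pow hp.out).mp
    (orderOf_dvd_of_pow_eq_one (show z ^ p ^ 1 = 1 by rwa [pow_one]))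
  let F : Subgroup G :=
    { carrier := {g | g ∈ Subgroup.normalizer (D : Set G) ∧ k⁻¹ * (g * k * g⁻¹) ∈ D}
      mul_mem' := by
        rintro g h ⟨hg, hg'⟩ ⟨hh, hh'⟩
        refine ⟨mul_mem hg hh, ?_⟩
        have h1 := D.mul_mem hg' ((Subgroup.mem_normalizer_iff.mp hg _).mp hh')
        rw [show k⁻¹ * (g * h * k * (g * h)⁻¹)
          = k⁻¹ * (g * k * g⁻¹) * (g * (k⁻¹ * (h * k * h⁻¹)) * g⁻¹) by group]
        exact h1
      one_mem' := ⟨one_mem _, by simp⟩
      inv_mem' := by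
        rintro g ⟨hg, hg'⟩
        refine ⟨inv_mem hg, ?_⟩
        have h1 := (Subgroup.mem_normalizer_iff.mp (inv_mem hg) _).mp (D.inv_mem hg')
        rw [show k⁻¹ * (g⁻¹ * k * g⁻¹⁻¹) = g⁻¹ * (k⁻¹ * (g * k * g⁻¹))⁻¹ * g⁻¹⁻¹ by group]
        exact h1 }
  obtain ⟨c, hc, hkc⟩ := Coprime.exists_centralizing_in_coset (Subgroup.zpowers_le.mpr hzD)
    (by rw [Nat.card_zpowers, hi]; exact Nat.Coprime.pow_left i hD.symm)
    (Or.inl (Group.isSolvable_of_comm fun a b => by
      obtain ⟨a, i, rfl⟩ := a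
      obtain ⟨b, j, rfl⟩ := b
      exact Subtype.ext ((Commute.refl z).zpow_zpow i j)))
    (k := k) (fun g hg => ((Subgroup.zpowers_le.mpr (show z ∈ F from ⟨hzD, hk⟩)) hg).2)
  exact ⟨c, (Subgroup.mem_centralizer_iff.mp hc z (Subgroup.mem_zpowers z)).symm, hkc⟩

/-- An element conjugating `z` to a power normalises `⟨z⟩`. -/
theorem mem_normalizer_zpowers {G : Type*} [Group G] [Finite G] {z h : G}
    (hzh : h * z * h⁻¹ ∈ Subgroup.zpowers z) :
    h ∈ Subgroup.normalizer ((Subgroup.zpowers z : Subgroup G) : Set G) := by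
  rw [← CfsgLib.Base.map_conj_eq_self_iff, MonoidHom.map_zpowers]
  refine Subgroup.eq_of_le_of_card_ge (Subgroup.zpowers_le.mpr hzh) ?_
  rw [Nat.card_zpowers, Nat.card_zpowers]
  exact ((MulAut.conj h).orderOf_eq z).ge

/-- Case A for a nonabelian group: the commutators act trivially. -/
theorem case_a_nonabelian {G : Type*} [Group G] [Finite G] {K : Type*} [Field K] [IsAlgClosed K]
    {V : Type*} [AddCommGroup V] [Module K V] [FiniteDimensional K V] {ρ : Representation K G V}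
    {p q u : ℕ} (hp : p.Prime) (hq : q.Prime) [hu : Fact u.Prime] (hqu : q ≠ u)
    (hqK : (q : K) ≠ 0) {Q T : Subgroup G} (hQ : IsPGroup u Q) (hQK : (Nat.card Q : K) ≠ 0)
    (hTu : (Nat.card T).Coprime u) (hTQ : T ≤ Subgroup.normalizer (Q : Set G)) {z h : G}
    (hzQ : z ∈ Subgroup.normalizer (Q : Set G)) (hzp : z ^ p = 1)
    (hzX : ∀ a ∈ ⁅Q, Q⁆, z * a * z⁻¹ = a → a = 1)
    (hhQ : h ∈ Subgroup.normalizer (Q : Set G)) (hhT : h ∈ Subgroup.normalizer (T : Set G))
    (hhz : h ∈ Subgroup.normalizer ((Subgroup.zpowers z : Subgroup G) : Set G)) (hhq : h ^ q = 1)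
    (hTz : ∀ t ∈ T, Commute t z) (hfreeT : ∀ t ∈ T, h * t * h⁻¹ = t → t = 1)
    (hN : normEnd ρ h q * normEnd ρ z p = 0)
    (hQT : Q ≤ ⁅Q, T⁆) (hQ'c : ∀ a ∈ ⁅Q, Q⁆, ∀ y, y ∈ Q ∨ y ∈ T → Commute a y)
    (hT' : ∀ t ∈ T, ∀ t' ∈ T, ∀ a ∈ Q, Commute a ⁅t, t'⁆)
    (hQu : ∀ x ∈ Q, ∀ t ∈ T, Commute (x ^ u) t) :
    ∀ a ∈ Q, ∀ b ∈ Q, ρ ⁅a, b⁆ = 1 := by
  classical
  intro x hx y hy
  by_contra hne
  set X := (⁅Q, Q⁆ : Subgroup G) with hX
  have hQ'Q : X ≤ Q := Subgroup.commutator_le.mpr fun a ha b hb => by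
    rw [commutatorElement_def]
    exact Q.mul_mem (Q.mul_mem (Q.mul_mem ha hb) (Q.inv_mem ha)) (Q.inv_mem hb)
  have hXK : (Nat.card X : K) ≠ 0 := fun h => hQK (by
    obtain ⟨c, hc⟩ := Subgroup.card_dvd_of_le hQ'Q
    rw [hc, Nat.cast_mul, h, zero_mul])
  have hXN : ∀ g ∈ Subgroup.normalizer (Q : Set G), g ∈ Subgroup.normalizer (X : Set G) :=
    fun g hg => le_normalizer_commutator (A := Q) (B := Q) (X := Subgroup.normalizer (Q : Set G))
      le_rfl le_rfl hg
  have hxy : ⁅x, y⁆ ∈ X := Subgroup.commutator_mem_commutator hx hy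
  obtain ⟨χ, v, hv, hv0, hχ⟩ := exists_weight_ne (ρ := ρ) (fun a ha b hb => by
    rw [← map_mul, ← map_mul, (hQ'c a ha b (Or.inl (hQ'Q hb))).eq]) hxy hne hXK
  have hzX' := hXN z hzQ
  have hmove : ¬ Fixes X χ z := not_fixes_of_free hv hv0 hzX' hzX hxy hχ
  obtain ⟨j, hj⟩ := exists_mem_stab_of_norm hp hq hv hv0 hzX' hzp hmove (hXN h hhQ) hhz hhq hN
  obtain ⟨hg'q, hg'N⟩ := norm_twist hp hzX' hzp hmove hhz hhq hN hj
  have hstab : ∀ w, w ∈ Q ∨ w ∈ T → w ∈ stab X χ := fun w hw => by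
    have hwQ : w ∈ Subgroup.normalizer (Q : Set G) :=
      hw.elim (fun h => Subgroup.le_normalizer h) (fun h => hTQ h)
    refine ⟨hXN w hwQ, fun a ha => ?_⟩
    rw [mul_assoc, (hQ'c a ha w hw).eq, inv_mul_cancel_left]
  set Δ := stab X χ with hΔ
  have hinv : ∀ g ∈ Δ, ∀ w ∈ wspace ρ X χ, ρ g w ∈ wspace ρ X χ := fun g hg w hw a ha => by
    have h1 := rho_mem_wspace' hw hg.1 a ha
    beta_reduce at h1
    rw [h1, hg.2 a ha]
  let σ : Representation K Δ (wspace ρ X χ) :=
    { toFun := fun g => (ρ (g : G)).restrict (hinv g g.2)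
      map_one' := LinearMap.ext fun w => Subtype.ext (by simp)
      map_mul' := fun g g' => LinearMap.ext fun w => Subtype.ext (by simp) }
  have hQΔ : Q ≤ Δ := fun w hw => hstab w (Or.inl hw)
  have hTΔ : T ≤ Δ := fun w hw => hstab w (Or.inr hw)
  have hnorm : ∀ {g : Δ} {Y : Subgroup G}, (g : G) ∈ Subgroup.normalizer (Y : Set G) →
      g ∈ Subgroup.normalizer ((Y.subgroupOf Δ : Subgroup Δ) : Set Δ) := fun {g Y} hg =>
    Subgroup.mem_normalizer_iff.mpr fun w => Subgroup.mem_normalizer_iff.mp hg (w : G)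
  have hcommΔ : ∀ {Y Z : Subgroup G}, Y ≤ Δ → Z ≤ Δ →
      (⁅Y.subgroupOf Δ, Z.subgroupOf Δ⁆).map Δ.subtype = ⁅Y, Z⁆ := by
    intro Y Z hY hZ
    rw [Subgroup.map_commutator, Subgroup.map_subgroupOf_eq_of_le hY,
      Subgroup.map_subgroupOf_eq_of_le hZ]
  have hzjQ : ∀ {Y : Subgroup G}, z ∈ Subgroup.normalizer (Y : Set G) →
      h ∈ Subgroup.normalizer (Y : Set G) → z ^ j * h ∈ Subgroup.normalizer (Y : Set G) :=
    fun hY hY' => mul_mem (pow_mem hY j) hY'
  have hzT : z ∈ Subgroup.normalizer (T : Set G) :=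
    Subgroup.centralizer_le_normalizer (G := G) (s := (T : Set G))
      (Subgroup.mem_centralizer_iff.mpr fun t ht => (hTz t ht).eq)
  have h1 := FrobeniusExtraspecial.commutator_eq_one (ρ := σ) hq hqu hqK
    (Q := Q.subgroupOf Δ) (T := T.subgroupOf Δ)
    (hQ.of_equiv (Subgroup.subgroupOfEquivOfLe hQΔ).symm)
    (by rw [CfsgLib.Base.card_subgroupOf hQΔ]; exact hQK)
    (by rw [CfsgLib.Base.card_subgroupOf hTΔ]; exact hTu)
    (fun g hg => hnorm (hTQ hg)) (h := ⟨z ^ j * h, hj⟩)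
    (hnorm (hzjQ hzQ hhQ)) (hnorm (hzjQ hzT hhT)) (Subtype.ext hg'q)
    (LinearMap.ext fun w => Subtype.ext (by
      have h2 := hg'N (w : V) w.2
      rw [normEnd, LinearMap.sum_apply] at h2
      rw [normEnd, LinearMap.sum_apply, Submodule.coe_sum, LinearMap.zero_apply, Submodule.coe_zero]
      exact h2))
    (fun t ht hfix => Subtype.ext (hfreeT (t : G) ht (by
      have h2 : z ^ j * h * (t : G) * (z ^ j * h)⁻¹ = t := congrArg Subtype.val hfix
      have hc : Commute (z ^ j) (h * (t : G) * h⁻¹) :=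
        ((hTz _ ((Subgroup.mem_normalizer_iff.mp hhT _).mp ht)).symm).pow_left j
      rw [show z ^ j * h * (t : G) * (z ^ j * h)⁻¹ = z ^ j * (h * (t : G) * h⁻¹) * (z ^ j)⁻¹ by
        group, hc.eq, mul_inv_cancel_right] at h2
      exact h2)))
    (by
      rw [← Subgroup.map_le_map_iff_of_injective Δ.subtype_injective, hcommΔ hQΔ hTΔ,
        Subgroup.map_subgroupOf_eq_of_le hQΔ]
      exact hQT)
    (fun a ha w hw => Subtype.ext (hQ'c a ((hcommΔ hQΔ hQΔ).le (Subgroup.mem_map_of_mem _ ha)) w hw))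
    (fun t ht t' ht' a ha => Subtype.ext (hT' t ht t' ht' a ha))
    (fun a ha t ht => Subtype.ext (hQu a ha t ht))
    (fun a ha b hb => ⟨χ ⁅(a : G), (b : G)⁆, LinearMap.ext fun w => Subtype.ext (by
      exact w.2 _ (Subgroup.commutator_mem_commutator ha hb))⟩)
    ⟨x, hQΔ hx⟩ hx ⟨y, hQΔ hy⟩ hy
  refine hχ ?_
  have h2 : ρ ⁅x, y⁆ v = v := congrArg Subtype.val (LinearMap.congr_fun h1 ⟨v, hv⟩)
  rw [hv _ hxy] at h2
  exact smul_left_injective K hv0 (h2.trans (one_smul K v).symm)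

/-- The configuration is impossible. -/
theorem no_configuration {V : Type v} [CommGroup V] [Finite V] [Nontrivial V] {p q r u s : ℕ}
    [hp : Fact p.Prime] [hq : Fact q.Prime] [hr : Fact r.Prime] [hu : Fact u.Prime]
    [hs : Fact s.Prime] (hexp : ∀ v : V, v ^ r = 1)
    (hpr : p ≠ r) (hqr : q ≠ r) (hur : u ≠ r) (hpu : p ≠ u) (hqu : q ≠ u) (hps : p ≠ s)
    (hus : u ≠ s) (hpowu : ¬ ∃ b, 1 ≤ b ∧ p = u ^ b + 1)
    {z h : MulAut V} (hzp : z ^ p = 1) (hhq : h ^ q = 1)
    (hzh : h * z * h⁻¹ ∈ Subgroup.zpowers z) (hfpfV : ∀ v, z v = v → h v = v → v = 1)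
    {Q T : Subgroup (MulAut V)} (hQ : IsPGroup u Q) (hT : IsPGroup s T)
    (hzQ : z ∈ Subgroup.normalizer (Q : Set (MulAut V)))
    (hhQ : h ∈ Subgroup.normalizer (Q : Set (MulAut V)))
    (hzT : z ∈ Subgroup.normalizer (T : Set (MulAut V)))
    (hhT : h ∈ Subgroup.normalizer (T : Set (MulAut V)))
    (hTQ : T ≤ Subgroup.normalizer (Q : Set (MulAut V)))
    (hfpfQ : ∀ x ∈ Q, Commute x z → Commute x h → x = 1)
    (hfpfT : ∀ x ∈ T, Commute x z → Commute x h → x = 1)
    (hQT : ⁅Q, T⁆ = Q) (hQne : Q ≠ ⊥)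
    (hQ'c : ∀ a ∈ ⁅Q, Q⁆, ∀ y, y ∈ Q ∨ y ∈ T → Commute a y)
    (hT' : ∀ t ∈ T, ∀ t' ∈ T, ∀ a ∈ Q, Commute a ⁅t, t'⁆)
    (hQu : ∀ x ∈ Q, ∀ t ∈ T, Commute (x ^ u) t)
    (hcase : ((∀ t ∈ T, Commute t z) ∧ ∀ x ∈ Q, Commute x z → ∀ t ∈ T, Commute x t) ∨
      ∀ t ∈ T, Commute t z → ∀ a ∈ Q, Commute a t)
    (hirr : ∀ W : Subgroup V, (∀ g, g = z ∨ g = h ∨ g ∈ Q ∨ g ∈ T → ∀ v ∈ W, g v ∈ W) →
      W = ⊥ ∨ W = ⊤) : False := by
  classical
  haveI : Finite (MulAut V) := Finite.of_injective (fun β : MulAut V => (β : V → V))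
    DFunLike.coe_injective
  obtain ⟨W, _, _, _, ρ, hρinj, hρfix, -, hρzero, hρprod, -, -, hρsum⟩ := exists_rep hexp
  let K := AlgebraicClosure (ZMod r)
  haveI : CharP K r := charP_of_injective_algebraMap (algebraMap (ZMod r) K).injective r
  have hprimeK : ∀ {m : ℕ}, m.Prime → m ≠ r → (m : K) ≠ 0 := fun {m} hm hmr h =>
    hmr ((Nat.prime_dvd_prime_iff_eq hr.out hm).mp ((CharP.cast_eq_zero_iff K r m).mp h)).symm
  have hpK : (p : K) ≠ 0 := hprimeK hp.out hpr
  have hQK := cast_card_ne_zero (K := K) hr.out hur hQ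
  have hT1 : ¬ ∀ t ∈ T, ∀ a ∈ Q, Commute a t := fun hall => hQne (by
    rw [← hQT]
    exact Subgroup.commutator_eq_bot_iff_le_centralizer.mpr fun a ha =>
      Subgroup.mem_centralizer_iff.mpr fun t ht => (hall t ht a ha).eq.symm)
  have hQlt : ⁅Q, Q⁆ < Q := by
    haveI := hQ.isNilpotent
    exact CfsgLib.Base.commutator_self_lt_of_isSolvable hQne inferInstance
  obtain ⟨eQ, heQ⟩ := IsPGroup.iff_card.mp hQ
  obtain ⟨eT, heT⟩ := IsPGroup.iff_card.mp hT
  have hQV : (Nat.card Q).Coprime (Nat.card V) := by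
    obtain ⟨b, hb⟩ := IsPGroup.iff_card.mp (show IsPGroup r V from fun v => ⟨1, by rw [pow_one, hexp]⟩)
    rw [heQ, hb]
    exact Nat.coprime_pow_primes eQ b hu.out hr.out hur
  have hTp : (Nat.card T).Coprime p := by
    rw [heT]; exact Nat.Coprime.pow_left eT ((Nat.coprime_primes hs.out hp.out).mpr (Ne.symm hps))
  have hTu : (Nat.card T).Coprime u := by
    rw [heT]; exact Nat.Coprime.pow_left eT ((Nat.coprime_primes hs.out hu.out).mpr (Ne.symm hus))
  have hhz := mem_normalizer_zpowers hzh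
  -- `z` has a nontrivial fixed vector
  obtain ⟨v₁, hv₁, hv₁1⟩ : ∃ v, z v = v ∧ v ≠ 1 := by
    by_contra hno
    push Not at hno
    have hN : normEnd ρ z p = 0 := hρzero z p fun v =>
      hno _ (Ward.norm_fixed (MonoidHom.id (MulAut V)) hzp v)
    have hzQc := commute_of_norm_zero hρinj hpu hpowu hpK hzp hN hQ hQK hzQ
    rcases hcase with ⟨-, hA⟩ | hB
    · exact hT1 fun t ht a ha => hA a ha (hzQc a ha) t ht
    · refine hT1 fun t ht a ha => ?_
      set D := T ⊓ Subgroup.centralizer (Q : Set (MulAut V)) with hD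
      have hzD : z ∈ Subgroup.normalizer (D : Set (MulAut V)) :=
        Coprime.le_normalizer_inf_inf (A := Subgroup.zpowers z) (Subgroup.zpowers_le.mpr hzT)
          (Coprime.le_normalizer_centralizer (Subgroup.zpowers_le.mpr hzQ)) (Subgroup.mem_zpowers z)
      have hzC : z ∈ Subgroup.centralizer (Q : Set (MulAut V)) :=
        Subgroup.mem_centralizer_iff.mpr fun b hb => (hzQc b hb).eq
      have hmem : t⁻¹ * (z * t * z⁻¹) ∈ D := by
        refine ⟨T.mul_mem (T.inv_mem ht) ((Subgroup.mem_normalizer_iff.mp hzT t).mp ht), ?_⟩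
        show t⁻¹ * (z * t * z⁻¹) ∈ Subgroup.centralizer (Q : Set (MulAut V))
        rw [show t⁻¹ * (z * t * z⁻¹) = (t⁻¹ * z * t) * z⁻¹ by group]
        refine mul_mem (Subgroup.mem_centralizer_iff.mpr fun b hb => ?_) (inv_mem hzC)
        have h2 := hzQc _ ((Subgroup.mem_normalizer_iff.mp (hTQ ht) b).mp hb)
        calc b * (t⁻¹ * z * t) = t⁻¹ * ((t * b * t⁻¹) * z) * t := by group
          _ = t⁻¹ * (z * (t * b * t⁻¹)) * t := by rw [h2.eq]
          _ = t⁻¹ * z * t * b := by group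
      obtain ⟨c, hcz, htc⟩ :=
        exists_commute_in_coset (hTp.coprime_dvd_left (Subgroup.card_dvd_of_le inf_le_left)) hzp hzD
          hmem
      have hcT : c ∈ T := by
        have := T.mul_mem ht htc.1
        rwa [mul_inv_cancel_left] at this
      have hcD : c ∈ D :=
        ⟨hcT, Subgroup.mem_centralizer_iff.mpr fun b hb => (hB c hcT hcz b hb).eq⟩
      have h4 := D.mul_mem hcD (D.inv_mem htc)
      rw [mul_inv_rev, inv_inv, mul_inv_cancel_left] at h4
      exact Subgroup.mem_centralizer_iff.mp h4.2 a ha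
  have hfixQ := fixes_fixed hp.out hq.out hzp hhq hzh hfpfV hhQ hfpfQ hQV
  have hnormfix : ∀ x : MulAut V, (∀ v, z v = v → x v = v) →
      ρ x * normEnd ρ z p = normEnd ρ z p := fun x hx =>
    hρfix z x p fun v => hx _ (Ward.norm_fixed (MonoidHom.id (MulAut V)) hzp v)
  have hN : normEnd ρ h q * normEnd ρ z p = 0 := hρprod z h p q fun v => by
    set w := ∏ j ∈ Finset.range p, (z ^ j) v with hw
    refine hfpfV _ ?_ (Ward.norm_fixed (MonoidHom.id (MulAut V)) hhq w)
    rw [map_prod]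
    refine Finset.prod_congr rfl fun i _ => ?_
    obtain ⟨k, hk⟩ := mem_powers_iff_mem_zpowers.mpr
      (show (h ^ i)⁻¹ * z * h ^ i ∈ Subgroup.zpowers z from
        conj_mem (pow_mem hhz i) (Subgroup.mem_zpowers z))
    dsimp only at hk
    have hzk : (z ^ k) w = w := by
      clear hk
      induction k with
      | zero => rfl
      | succ k ih =>
        rw [pow_succ, MulAut.mul_apply,
          show z w = w from Ward.norm_fixed (MonoidHom.id (MulAut V)) hzp v, ih]
    calc z ((h ^ i) w) = (h ^ i * ((h ^ i)⁻¹ * z * h ^ i)) w := by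
          rw [← MulAut.mul_apply]; congr 1; group
      _ = (h ^ i) w := by rw [MulAut.mul_apply, ← hk, hzk]
  -- fixed vectors of normalised subgroups
  have hfixed : ∀ X : Subgroup (MulAut V), (∀ g, g = z ∨ g = h ∨ g ∈ Q ∨ g ∈ T →
      g ∈ Subgroup.normalizer (X : Set (MulAut V))) → (∃ v, (∀ a ∈ X, a v = v) ∧ v ≠ 1) →
      X = ⊥ := by
    rintro X hX ⟨v, hv, hv1⟩
    let F : Subgroup V :=
      { carrier := {w | ∀ a ∈ X, a w = w}
        mul_mem' := fun {a b} ha hb g hg => by rw [map_mul, ha g hg, hb g hg]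
        one_mem' := fun g _ => map_one g
        inv_mem' := fun {a} ha g hg => by rw [map_inv, ha g hg] }
    rcases hirr F (fun g hg w hw a ha => by
      have h1 := hw _ (conj_mem (hX g hg) ha)
      have h2 := congrArg g h1
      rwa [← MulAut.mul_apply, show g * (g⁻¹ * a * g) = a * g by group, MulAut.mul_apply] at h2)
      with h' | h'
    · exact absurd (Subgroup.mem_bot.mp (h' ▸ (hv : v ∈ F))) hv1
    · refine (Subgroup.eq_bot_iff_forall X).mpr fun a ha => MulEquiv.ext fun w => ?_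
      exact (h'.symm ▸ Subgroup.mem_top w : w ∈ F) a ha
  have hQnorm : ∀ g, g = z ∨ g = h ∨ g ∈ Q ∨ g ∈ T → g ∈ Subgroup.normalizer (Q : Set (MulAut V)) := by
    rintro g (rfl | rfl | hg | hg)
    exacts [hzQ, hhQ, Subgroup.le_normalizer hg, hTQ hg]
  set X := (⁅Q, Q⁆ : Subgroup (MulAut V)) with hXdef
  have hX0 : ∀ g, g = z ∨ g = h ∨ g ∈ Q ∨ g ∈ T → g ∈ Subgroup.normalizer (X : Set (MulAut V)) :=
    fun g hg => le_normalizer_commutator (A := Q) (B := Q) (X := Subgroup.zpowers g)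
      (Subgroup.zpowers_le.mpr (hQnorm g hg)) (Subgroup.zpowers_le.mpr (hQnorm g hg))
      (Subgroup.mem_zpowers g)
  have hXQ : X ≤ Q := hQlt.le
  have hexfix : (∀ t ∈ T, Commute t z → ∀ a ∈ Q, Commute a t) →
      ∃ x ∈ Q, x ≠ 1 ∧ Commute x z := fun hB => by
    refine exists_fixed_ne_one hzp hzQ hzT hTQ
      (by rw [heQ, heT]; exact Nat.coprime_pow_primes eQ eT hu.out hs.out hus) hTp hB
      (by rw [hQT]; exact hQne)
  have hfreeT : (∀ t ∈ T, Commute t z) → ∀ t ∈ T, h * t * h⁻¹ = t → t = 1 := fun hTz t ht hfix =>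
    hfpfT t ht (hTz t ht) (mul_inv_eq_iff_eq_mul.mp hfix).symm
  haveI : Fintype X := Fintype.ofFinite _
  by_cases hXbot : X = ⊥
  · -- `Q` is abelian
    have hab : ∀ a ∈ Q, ∀ b ∈ Q, a * b = b * a := fun a ha b hb =>
      commutatorElement_eq_one_iff_mul_comm.mp (Subgroup.mem_bot.mp
        (hXbot ▸ Subgroup.commutator_mem_commutator ha hb))
    have hAT : ∀ y ∈ Q, (∀ t ∈ T, t * y * t⁻¹ = y) → y = 1 := by
      intro y hy hfix
      haveI : IsMulCommutative Q := ⟨⟨fun a b => Subtype.ext (hab a a.2 b b.2)⟩⟩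
      have hb0 := Coprime.centralizer_inf_commutator_eq_bot (A := T) (V := Q) hTQ
        (by rw [heQ]; exact Nat.Coprime.pow_right eQ hTu)
      rw [hQT] at hb0
      refine Subgroup.mem_bot.mp (hb0 ▸ (⟨⟨hy, ?_⟩, hy⟩ :
        y ∈ (Q ⊓ Subgroup.centralizer (T : Set (MulAut V))) ⊓ Q))
      exact Subgroup.mem_centralizer_iff.mpr fun t ht => mul_inv_eq_iff_eq_mul.mp (hfix t ht)
    rcases hcase with ⟨hTz, hA⟩ | hB
    · refine hT1 fun t ht a ha => ?_
      have h1 := commute_of_free_norm (ρ := ρ) hp.out hq.out hs.out hps hab hQK hzQ hzp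
        (fun b hb hfix => hAT b hb fun t ht => by
          rw [← (hA b hb (mul_inv_eq_iff_eq_mul.mp hfix).symm t ht).eq, mul_inv_cancel_right])
        hTQ hT hTz hhQ hhq hhz hhT (hfreeT hTz) hN a ha t ht
      exact commutatorElement_eq_one_iff_mul_comm.mp (hρinj (h1.trans (map_one ρ).symm))
    · obtain ⟨x, hx, hx1, hxz⟩ := hexfix hB
      have h1 := fixed_eq_one (ρ := ρ) (p := p) hQ hab hQK hTQ hTu hTp hT' hAT hzQ hzT hzp hB hx
        hxz (fun y hy hyz => hnormfix y (hfixQ y hy hyz))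
      exact hx1 (hρinj (h1.trans (map_one ρ).symm))
  · -- `Q` is not abelian
    have hXz : ∀ a ∈ X, Commute a z → a = 1 := by
      have hh : h ∈ Subgroup.normalizer
          ((Subgroup.centralizer ({z} : Set (MulAut V))) : Set (MulAut V)) := by
        rw [← Subgroup.centralizer_closure ({z} : Set (MulAut V)), ← Subgroup.zpowers_eq_closure]
        exact Coprime.le_normalizer_centralizer (A := Subgroup.zpowers h)
          (B := Subgroup.zpowers z) (Subgroup.zpowers_le.mpr hhz) (Subgroup.mem_zpowers h)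
      have hbot := hfixed (X ⊓ Subgroup.centralizer ({z} : Set (MulAut V))) (by
        intro g hg
        have hgX := hX0 g hg
        refine Subgroup.mem_normalizer_iff.mpr fun a => ?_
        rcases hg with hg | hg | hg | hg
        · subst hg
          exact and_congr (Subgroup.mem_normalizer_iff.mp hgX a)
            (Subgroup.mem_normalizer_iff.mp (Subgroup.le_normalizer
              (Subgroup.mem_centralizer_singleton_iff.mpr rfl)) a)
        · subst hg
          exact and_congr (Subgroup.mem_normalizer_iff.mp hgX a)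
            (Subgroup.mem_normalizer_iff.mp hh a)
        all_goals
          constructor
          · intro ha
            have hc : Commute a g := hQ'c a ha.1 g (by first | exact Or.inl hg | exact Or.inr hg)
            rwa [← hc.eq, mul_inv_cancel_right]
          · intro ha
            have hc : Commute (g * a * g⁻¹) g :=
              hQ'c _ ha.1 g (by first | exact Or.inl hg | exact Or.inr hg)
            have hc' : a = g * a * g⁻¹ := by
              have h2 : g⁻¹ * (g * a * g⁻¹) * g = g * a * g⁻¹ := by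
                rw [mul_assoc, hc.eq, inv_mul_cancel_left]
              rwa [show g⁻¹ * (g * a * g⁻¹) * g = a by group] at h2
            rwa [← hc'] at ha)
        ⟨v₁, fun a ha => hfixQ a (hXQ ha.1) (Subgroup.mem_centralizer_singleton_iff.mp ha.2) v₁ hv₁,
          hv₁1⟩
      intro a ha haz
      exact Subgroup.mem_bot.mp (hbot ▸ (⟨ha, Subgroup.mem_centralizer_singleton_iff.mpr haz⟩ :
        a ∈ X ⊓ Subgroup.centralizer ({z} : Set (MulAut V))))
    have hzX : z ∈ Subgroup.normalizer (X : Set (MulAut V)) := hX0 z (Or.inl rfl)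
    have hXfree : ∀ a ∈ X, z * a * z⁻¹ = a → a = 1 := fun a ha hfix =>
      hXz a ha (mul_inv_eq_iff_eq_mul.mp hfix).symm
    rcases hcase with ⟨hTz, -⟩ | hB
    · refine hXbot (le_bot_iff.mp (Subgroup.commutator_le.mpr fun a ha b hb => ?_))
      have h1 := case_a_nonabelian (ρ := ρ) hp.out hq.out hqu (hprimeK hq.out hqr) hQ hQK hTu hTQ
        hzQ hzp hXfree hhQ hhT hhz hhq hTz (hfreeT hTz) hN hQT.ge hQ'c hT' hQu a ha b hb
      exact Subgroup.mem_bot.mpr (hρinj (h1.trans (map_one ρ).symm))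
    · have hsum : ∑ a : X, ρ (a : MulAut V) = 0 := hρsum X fun v => by
        by_contra hne
        refine hXbot (hfixed X hX0 ⟨_, fun a ha => ?_, hne⟩)
        rw [map_prod]
        exact Fintype.prod_equiv (Equiv.mulLeft (⟨a, ha⟩ : X)) _ _ fun b => rfl
      have hXK : (Nat.card X : K) ≠ 0 := cast_card_ne_zero hr.out hur (hQ.to_le hXQ)
      have hXab : ∀ a ∈ X, ∀ b ∈ X, a * b = b * a := fun a ha b hb => hQ'c a ha b (Or.inl (hXQ hb))
      obtain ⟨x, hx, hx1, hxz⟩ := hexfix hB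
      have hxK : (orderOf x : K) ≠ 0 := fun h0 => hQK (by
        obtain ⟨c, hc⟩ := Subgroup.orderOf_dvd_natCard Q hx
        rw [hc, Nat.cast_mul, h0, zero_mul])
      have h1 := eq_one_of_commute (ρ := ρ) hp.out hXab hXK hsum hzX hzp hXfree (g := x)
        (fun b hb => (hQ'c b hb x (Or.inl hx)).symm.eq) hxK
        (hnormfix x (hfixQ x hx hxz))
      exact hx1 (hρinj (h1.trans (map_one ρ).symm))

end CfsgLib.FgsC.FrobeniusConfig
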