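import Cfsg.Agent.Lib.FgsC.HallHigman
import Cfsg.Agent.Lib.PLocal.PSolvable

/-!
# The reduction of Theorem B of Hall and Higman to the critical case
-/

set_option autoImplicit false
set_option linter.style.haveILetI false

open Module
open scoped commutatorElement

namespace CfsgLib.FgsC.HallHigmanB

open CfsgLib.FgsC.HallHigman

section core

open Cfsg CfsgLib.Base

variable {G : Type*} [Group G] [Finite G] {p : ℕ} [Fact p.Prime]

/-- If `O_p(G) = 1` for a `p`-solvable group, then `O_{p'}(G)` contains its centraliser. -/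
theorem centralizer_pPrimeCore_le (hG : IsPSolvable p G) (hO : pCore p G = ⊥) :
    Subgroup.centralizer (pPrimeCore p G : Set G) ≤ pPrimeCore p G := by
  set C := Subgroup.centralizer (pPrimeCore p G : Set G) with hCdef
  haveI : C.Normal := inferInstance
  set Z := C ⊓ pPrimeCore p G with hZdef
  haveI : Z.Normal := inferInstance
  set K := C.map (QuotientGroup.mk' Z) with hKdef
  haveI : K.Normal := Subgroup.Normal.map inferInstance _ (QuotientGroup.mk'_surjective Z)
  by_contra hle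
  haveI : Nontrivial K := (Subgroup.nontrivial_iff_ne_bot K).2 fun h =>
    hle ((map_mk'_eq_bot_iff.1 h).trans inf_le_right)
  have hZc : (Nat.card Z).Coprime p :=
    (pPrimeCore_coprime p G).coprime_dvd_left (Subgroup.card_dvd_of_le inf_le_right)
  have hKZ : K.comap (QuotientGroup.mk' Z) = C := by
    rw [hKdef, CfsgLib.Base.comap_map_mk', sup_eq_left.2 inf_le_left]
  -- a normal subgroup between `Z` and `C` of `p`-power or `p'` index over `Z` equals `Z`
  rcases PLocal.pCore_ne_bot_or_pPrimeCore_ne_bot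
    (PLocal.isPSolvable_map (QuotientGroup.mk' Z) (PLocal.isPSolvable_subgroup hG C) :
      IsPSolvable p K) with h | h
  · refine h ?_
    rw [← Subgroup.map_eq_bot_iff_of_injective _ K.subtype_injective]
    set L := (pCore p K).map K.subtype with hL
    haveI : L.Normal := normal_map_subtype _
    set M := L.comap (QuotientGroup.mk' Z) with hMdef
    haveI : M.Normal := Subgroup.Normal.comap inferInstance _
    have hMC : M ≤ C := (Subgroup.comap_mono (Subgroup.map_subtype_le _)).trans hKZ.le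
    rw [← map_mk'_comap Z L, map_mk'_eq_bot_iff]
    have hZM : Z ≤ M := PLocal.le_comap_mk' Z L
    set Z' := Z.subgroupOf M with hZ'
    have hcentral : ∀ m : M, ∀ z ∈ Z', m * z = z * m := fun m z hz =>
      Subtype.ext (Subgroup.mem_centralizer_iff.1 (hMC m.2) (z : G)
        (Subgroup.mem_subgroupOf.1 hz).2).symm
    haveI hZn : Z'.Normal := ⟨fun z hz m => by
      rw [hcentral m z hz, mul_inv_cancel_right]; exact hz⟩
    obtain ⟨e, he⟩ := IsPGroup.iff_card.1 ((isPGroup_pCore p K).map K.subtype)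
    have hidx : Z'.index = p ^ e := by
      show Z.relIndex M = _
      rw [← PLocal.card_map_mk'_eq_relIndex, hMdef, map_mk'_comap]
      exact he
    have hcop : (Nat.card Z').Coprime Z'.index := by
      rw [hidx, card_subgroupOf hZM]
      exact hZc.pow_right e
    obtain ⟨R, hR⟩ := Subgroup.exists_right_complement'_of_coprime hcop
    haveI hRn : R.Normal := by
      refine Subgroup.normalizer_eq_top_iff.1 (top_le_iff.1 ?_)
      rw [← hR.sup_eq_top]
      refine sup_le (fun z hz => Subgroup.mem_normalizer_iff.2 fun k => ?_) Subgroup.le_normalizer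
      rw [← hcentral k z hz, mul_inv_cancel_right]
    have hRp : IsPGroup p R := IsPGroup.of_card (n := e) (by
      rw [← hR.symm.index_eq_card, hidx])
    have hRbot : R = ⊥ := by
      have h1 := (Subgroup.map_mono (f := M.subtype) (le_pCore hRp)).trans
        (map_pCore_le_of_isSubnormal (Subgroup.Normal.isSubnormal ‹M.Normal›))
      rw [hO, le_bot_iff, Subgroup.map_eq_bot_iff_of_injective _ M.subtype_injective] at h1
      exact h1
    rw [hRbot, Subgroup.isComplement'_bot_right, hZ', Subgroup.subgroupOf_eq_top] at hR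
    exact hR
  · refine h ?_
    rw [← Subgroup.map_eq_bot_iff_of_injective _ K.subtype_injective]
    set L := (pPrimeCore p K).map K.subtype with hL
    haveI : L.Normal := normal_map_subtype _
    set M := L.comap (QuotientGroup.mk' Z) with hMdef
    haveI : M.Normal := Subgroup.Normal.comap inferInstance _
    have hMC : M ≤ C := (Subgroup.comap_mono (Subgroup.map_subtype_le _)).trans hKZ.le
    rw [← map_mk'_comap Z L, map_mk'_eq_bot_iff]
    refine le_inf hMC (le_pPrimeCore ?_)
    rw [card_comap_mk']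
    exact Nat.Coprime.mul_left hZc (coprime_card_map_pPrimeCore K)

end core

variable {G : Type*} [Group G] {K : Type*} [Field K] {V : Type*} [AddCommGroup V] [Module K V]

variable (ρ : Representation K G V) in
/-- Invariance under `Q`. -/
def IsInv (Q : Subgroup G) (W : Submodule K V) : Prop := ∀ g ∈ Q, ∀ w ∈ W, ρ g w ∈ W

variable (ρ : Representation K G V) in
/-- A minimal nonzero invariant subspace on which `Q` is nontrivial. -/
structure IsGood (Q : Subgroup G) (W : Submodule K V) : Prop where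
  ne_bot : W ≠ ⊥
  inv : IsInv ρ Q W
  minimal : ∀ U ≤ W, IsInv ρ Q U → U = ⊥ ∨ U = W
  nontriv : ∃ k ∈ Q, ∃ w ∈ W, ρ k w ≠ w

variable (ρ : Representation K G V) in
/-- The twist of `W` by `g` is isomorphic to `W`. -/
def IsStable (Q : Subgroup G) (W : Submodule K V) (g : G) : Prop :=
  ∃ T : End K V, (∀ w ∈ W, T w ∈ W) ∧ (∃ w ∈ W, T w ≠ 0) ∧
    ∀ k ∈ Q, ∀ w ∈ W, T (ρ k w) = ρ (g * k * g⁻¹) (T w)

variable {ρ : Representation K G V}

/-- An irreducible subspace in a sum of irreducible subspaces maps to a summand. -/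
theorem exists_map_of_le_sup {ι : Type*} {Q : Subgroup G} {U : Submodule K V} (hU : IsInv ρ Q U)
    (hUne : U ≠ ⊥) (W : ι → Submodule K V) (hW : ∀ i, IsInv ρ Q (W i))
    (hmin : ∀ i, ∀ U' ≤ W i, IsInv ρ Q U' → U' = ⊥ ∨ U' = W i) (t : Finset ι)
    (hle : U ≤ t.sup W) :
    ∃ i ∈ t, ∃ f : U →ₗ[K] V, f ≠ 0 ∧ (∀ u, f u ∈ W i) ∧
      ∀ (k : G) (hk : k ∈ Q) (u : U), f ⟨ρ k u, hU k hk u u.2⟩ = ρ k (f u) := by
  classical
  induction t using Finset.induction_on with
  | empty => rw [Finset.sup_empty, le_bot_iff] at hle; exact absurd hle hUne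
  | insert j t hj ih =>
    rw [Finset.sup_insert] at hle
    set T := t.sup W with hT
    have hTinv : IsInv ρ Q T := fun g hg => by
      have : T ≤ T.comap (ρ g) := Finset.sup_le fun i hi w hw =>
        (Finset.le_sup (f := W) hi) (hW i g hg w hw)
      exact fun w hw => this hw
    have hIH : U ≤ T → ∃ i ∈ insert j t, ∃ f : U →ₗ[K] V, f ≠ 0 ∧ (∀ u, f u ∈ W i) ∧
        ∀ (k : G) (hk : k ∈ Q) (u : U), f ⟨ρ k u, hU k hk u u.2⟩ = ρ k (f u) := fun h => by
      obtain ⟨i, hi, rest⟩ := ih h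
      exact ⟨i, Finset.mem_insert_of_mem hi, rest⟩
    rcases hmin j (W j ⊓ T) inf_le_left (fun g hg w hw =>
      ⟨hW j g hg w hw.1, hTinv g hg w hw.2⟩) with h | h
    swap
    · exact hIH (hle.trans (sup_le (h ▸ inf_le_right) le_rfl))
    by_cases hUT : U ≤ T
    · exact hIH hUT
    have hex : ∀ u : U, ∃ a ∈ W j, (u : V) - a ∈ T := fun u => by
      obtain ⟨a, ha, b, hb, hab⟩ := Submodule.mem_sup.mp (hle u.2)
      exact ⟨a, ha, by rw [← hab, add_sub_cancel_left]; exact hb⟩
    choose a ha ha' using hex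
    have huniq : ∀ (u : U) (c : V), c ∈ W j → (u : V) - c ∈ T → a u = c := fun u c hc hc' => by
      have h1 : a u - c ∈ W j ⊓ T := ⟨sub_mem (ha u) hc, by
        simpa using sub_mem hc' (ha' u)⟩
      rw [h, Submodule.mem_bot, sub_eq_zero] at h1
      exact h1
    let f : U →ₗ[K] V :=
      { toFun := a
        map_add' := fun u v => huniq _ _ (add_mem (ha u) (ha v)) (by
          have := add_mem (ha' u) (ha' v)
          rw [Submodule.coe_add]
          convert this using 1; abel)
        map_smul' := fun c u => huniq _ _ (Submodule.smul_mem _ c (ha u)) (by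
          have := Submodule.smul_mem _ c (ha' u)
          rw [Submodule.coe_smul, RingHom.id_apply, ← smul_sub]
          exact this) }
    refine ⟨j, Finset.mem_insert_self j t, f, fun hf => hUT fun u hu => ?_, ha, fun k hk u => ?_⟩
    · have := ha' ⟨u, hu⟩
      rwa [show a ⟨u, hu⟩ = 0 from LinearMap.congr_fun hf ⟨u, hu⟩, sub_zero] at this
    · refine huniq _ _ (hW j k hk _ (ha u)) ?_
      have := hTinv k hk _ (ha' u)
      rwa [map_sub] at this

variable [Finite G] [IsAlgClosed K] [FiniteDimensional K V]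
  {p q : ℕ} [hp : Fact p.Prime] [hq : Fact q.Prime] [CharP K p]

/-- The reduction to the critical case. -/
theorem bound {Q : Subgroup G} (hpq : p ≠ q) (hQ : IsPGroup q Q)
    (hfaith : ∀ k ∈ Q, ρ k = 1 → k = 1) (hQne : Q ≠ ⊥) {x : G}
    (hxQ : x ∈ Subgroup.normalizer (Q : Set G)) {n : ℕ} (hn : 0 < n) (hxP : x ^ p ^ n = 1)
    (hgen : Q ≤ ⁅Q, Subgroup.zpowers (x ^ p ^ (n - 1))⁆)
    (hcent : ∀ k ∈ Q, Commute k (x ^ p ^ (n - 1)) → ∀ g ∈ Q, Commute k g)
    {s : ℕ} (hs : (ρ x - 1) ^ s = 0) :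
    p ^ n ≤ s ∨ ∃ a b : ℕ, a < n ∧ 1 ≤ b ∧ p ^ (n - a) - 1 = q ^ b ∧
      p ^ a * (p ^ (n - a) - 1) ≤ s ∧ ∃ k ∈ Q, ∃ l ∈ Q, k * l ≠ l * k := by
  classical
  have hQK : (Nat.card Q : K) ≠ 0 := by
    obtain ⟨c, hc⟩ := IsPGroup.iff_card.mp hQ
    rw [hc, Ne, CharP.cast_eq_zero_iff K p]
    intro h
    exact hpq ((Nat.prime_dvd_prime_iff_eq hp.out hq.out).mp (hp.out.dvd_of_dvd_pow h))
  haveI : Fintype Q := Fintype.ofFinite _
  let π : End K V := ∑ k : Q, ρ (k : G)
  have hπl : ∀ k : Q, ρ (k : G) * π = π := fun k => by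
    rw [Finset.mul_sum]
    exact Fintype.sum_equiv (Equiv.mulLeft k) _ _ fun l => by rw [← map_mul]; rfl
  have hπr : ∀ k : Q, π * ρ (k : G) = π := fun k => by
    rw [Finset.sum_mul]
    exact Fintype.sum_equiv (Equiv.mulRight k) _ _ fun l => by rw [← map_mul]; rfl
  -- good subspaces exist
  have hgood : ∃ W, IsGood ρ Q W := by
    obtain ⟨⟨k, hk⟩, hk1⟩ := Subgroup.ne_bot_iff_exists_ne_one.mp hQne
    obtain ⟨v, hv⟩ : ∃ v, ρ k v ≠ v := by
      by_contra hall
      push Not at hall
      exact hk1 (Subtype.ext (hfaith k hk (LinearMap.ext fun v => hall v)))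
    obtain ⟨W, ⟨hW, hWi, hWk⟩, hmin⟩ := wellFounded_lt.has_min
      {W : Submodule K V | W ≠ ⊥ ∧ IsInv ρ Q W ∧ W ≤ LinearMap.ker π}
      ⟨LinearMap.ker π, fun h => hv (sub_eq_zero.mp (by
          have : ρ k v - v ∈ LinearMap.ker π := by
            rw [LinearMap.mem_ker, map_sub, ← End.mul_apply, hπr ⟨k, hk⟩, sub_self]
          rwa [h, Submodule.mem_bot] at this)),
        fun g hg w hw => by
          rw [LinearMap.mem_ker] at hw ⊢
          rw [← End.mul_apply, hπr ⟨g, hg⟩, hw], le_rfl⟩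
    refine ⟨W, hW, hWi, fun U hU hUi => ?_, ?_⟩
    · by_cases h : U = ⊥
      · exact Or.inl h
      · exact Or.inr ((eq_or_lt_of_le hU).resolve_right (hmin U ⟨h, hUi, hU.trans hWk⟩))
    · by_contra hall
      push Not at hall
      refine hW ((Submodule.eq_bot_iff W).mpr fun w hw => ?_)
      have h0 : π w = 0 := hWk hw
      rw [LinearMap.sum_apply, Finset.sum_congr rfl (fun (l : Q) _ => hall l l.2 w hw),
        Finset.sum_const, Finset.card_univ, ← Nat.card_eq_fintype_card, ← Nat.cast_smul_eq_nsmul K,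
        smul_eq_zero] at h0
      exact h0.resolve_left hQK
  -- choose the least stable power of `x`
  have hex : ∃ a, ∃ W, IsGood ρ Q W ∧ IsStable ρ Q W (x ^ p ^ a) := by
    obtain ⟨W, hW⟩ := hgood
    obtain ⟨w, hw, hw0⟩ := Submodule.exists_mem_ne_zero_of_ne_bot hW.ne_bot
    exact ⟨n, W, hW, 1, fun v hv => hv, ⟨w, hw, hw0⟩, fun k hk v hv => by
      rw [hxP, inv_one, one_mul, mul_one]; rfl⟩
  set a := Nat.find hex with hadef
  obtain ⟨W₀, hW₀, T₀, hT₀W, hT₀ne, hT₀k⟩ := Nat.find_spec hex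
  have han : a ≤ n := by
    refine Nat.find_min' hex ?_
    obtain ⟨W, hW⟩ := hgood
    obtain ⟨w, hw, hw0⟩ := Submodule.exists_mem_ne_zero_of_ne_bot hW.ne_bot
    exact ⟨W, hW, 1, fun v hv => hv, ⟨w, hw, hw0⟩, fun k hk v hv => by
      rw [hxP, inv_one, one_mul, mul_one]; rfl⟩
  set y := x ^ p ^ a with hydef
  set P := p ^ (n - a) with hPdef
  have hyQ : y ∈ Subgroup.normalizer (Q : Set G) := pow_mem hxQ _
  have hyP : y ^ P = 1 := by
    rw [hydef, hPdef, ← pow_mul, ← pow_add, Nat.add_sub_cancel' han, hxP]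
  have hconj : ∀ {g k : G}, g ∈ Subgroup.normalizer (Q : Set G) → k ∈ Q → g * k * g⁻¹ ∈ Q :=
    fun hg hk => (Subgroup.mem_normalizer_iff.mp hg _).mp hk
  haveI : Nontrivial W₀ := Submodule.nontrivial_iff_ne_bot.mpr hW₀.ne_bot
  -- irreducibility on a good subspace
  have hsub : ∀ {W : Submodule K V} (hW : IsGood ρ Q W), ∀ U : Submodule K W,
      (∀ (k : G) (hk : k ∈ Q), ∀ u ∈ U, (⟨ρ k u, hW.inv k hk u u.2⟩ : W) ∈ U) →
      U = ⊥ ∨ U = ⊤ := by
    intro W hW U hU
    rcases hW.minimal (U.map W.subtype) (Submodule.map_subtype_le _ _) (by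
      rintro k hk _ ⟨u, hu, rfl⟩
      exact ⟨_, hU k hk u hu, rfl⟩) with h | h
    · left
      refine Submodule.map_injective_of_injective W.injective_subtype ?_
      rw [h, Submodule.map_bot]
    · right
      refine Submodule.map_injective_of_injective W.injective_subtype ?_
      rw [h, Submodule.map_top, Submodule.range_subtype]
  have hschur : ∀ {W : Submodule K V} (hW : IsGood ρ Q W), ∀ f : End K W,
      (∀ (k : G) (hk : k ∈ Q) (w : W), f ⟨ρ k w, hW.inv k hk w w.2⟩ =
        ⟨ρ k (f w), hW.inv k hk _ (f w).2⟩) → ∃ c : K, f = c • (1 : End K W) := by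
    intro W hW f hf
    haveI : Nontrivial W := Submodule.nontrivial_iff_ne_bot.mpr hW.ne_bot
    obtain ⟨c, hc⟩ := End.exists_eigenvalue f
    refine ⟨c, ?_⟩
    rcases hsub hW (End.eigenspace f c) (fun k hk u hu => by
      rw [End.mem_eigenspace_iff] at hu ⊢
      rw [hf k hk u]
      apply Subtype.ext
      show ρ k (f u : V) = ((c • (⟨ρ k u, _⟩ : W) : W) : V)
      rw [hu, Submodule.coe_smul, Submodule.coe_smul, map_smul]) with h | h
    · exact absurd h hc
    · refine LinearMap.ext fun v => ?_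
      rw [LinearMap.smul_apply, End.one_apply]
      exact End.mem_eigenspace_iff.mp (h ▸ Submodule.mem_top)
  -- normalise the intertwiner of `W₀`
  let T : End K W₀ := T₀.restrict hT₀W
  have hTk : ∀ (k : G) (hk : k ∈ Q) (w : W₀), T ⟨ρ k w, hW₀.inv k hk w w.2⟩ =
      ⟨ρ (y * k * y⁻¹) (T w), hW₀.inv _ (hconj hyQ hk) _ (T w).2⟩ := fun k hk w =>
    Subtype.ext (hT₀k k hk w w.2)
  have hTinj : LinearMap.ker T = ⊥ := by
    refine (hsub hW₀ _ fun k hk u hu => ?_).resolve_right fun h => ?_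
    · rw [LinearMap.mem_ker] at hu ⊢
      rw [hTk k hk u, hu]
      exact Subtype.ext (map_zero _)
    · obtain ⟨w, hw, hw0⟩ := hT₀ne
      have hm : T ⟨w, hw⟩ = 0 := by
        rw [LinearMap.ker_eq_top.mp h]
        rfl
      exact hw0 (congrArg Subtype.val hm)
  have hTpow : ∀ (i : ℕ) (k : G) (hk : k ∈ Q) (w : W₀),
      ((T ^ i) ⟨ρ k w, hW₀.inv k hk w w.2⟩ : V) = ρ (y ^ i * k * (y ^ i)⁻¹) ((T ^ i) w : V) := by
    intro i
    induction i with
    | zero => intro k hk w; simp
    | succ i ih =>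
      intro k hk w
      have hk' : y ^ i * k * (y ^ i)⁻¹ ∈ Q := hconj (pow_mem hyQ i) hk
      have e : (T ^ i) ⟨ρ k w, hW₀.inv k hk w w.2⟩ =
          ⟨ρ (y ^ i * k * (y ^ i)⁻¹) ((T ^ i) w : V), hW₀.inv _ hk' _ ((T ^ i) w).2⟩ :=
        Subtype.ext (ih k hk w)
      rw [pow_succ', End.mul_apply, e, hTk _ hk', End.mul_apply]
      show ρ _ _ = ρ _ _
      congr 2
      group
  obtain ⟨c, hc⟩ := hschur hW₀ (T ^ P) fun k hk w => Subtype.ext (by
    have h := hTpow P k hk w
    rwa [hyP, one_mul, inv_one, mul_one] at h)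
  have hc0 : c ≠ 0 := by
    intro h0
    rw [h0, zero_smul] at hc
    obtain ⟨w, hw⟩ := exists_ne (0 : W₀)
    have hinj : Function.Injective (T ^ P) := by
      rw [End.coe_pow]
      exact (LinearMap.ker_eq_bot.mp hTinj).iterate P
    exact hw (hinj (by rw [hc, LinearMap.zero_apply, LinearMap.zero_apply]))
  obtain ⟨d, hd⟩ := IsAlgClosed.exists_pow_nat_eq c (n := P) (pow_pos hp.out.pos _)
  have hd0 : d ≠ 0 := by
    rintro rfl
    rw [zero_pow (pow_pos hp.out.pos _).ne'] at hd
    exact hc0 hd.symm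
  let T' : End K W₀ := d⁻¹ • T
  have hT'k : ∀ (k : G) (hk : k ∈ Q) (w : W₀),
      (T' ⟨ρ k w, hW₀.inv k hk w w.2⟩ : V) = ρ (y * k * y⁻¹) (T' w : V) := fun k hk w => by
    simp only [T', LinearMap.smul_apply, Submodule.coe_smul, hTk k hk w, map_smul]
  have hT'P : T' ^ P = 1 := by
    show (d⁻¹ • T) ^ P = 1
    rw [smul_pow, hc, smul_smul, inv_pow, hd, inv_mul_cancel₀ hc0, one_smul]
  -- a fixed intertwiner
  let L : End K (W₀ →ₗ[K] V) :=
    (LinearMap.lcomp K V (T' ^ (P - 1))).comp (LinearMap.compRight K (ρ y))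
  have hLapply : ∀ φ, L φ = (ρ y).comp (φ.comp (T' ^ (P - 1))) := fun φ => by
    show ((ρ y).comp φ).comp (T' ^ (P - 1)) = _
    rw [LinearMap.comp_assoc]
  have hP0 : 0 < P := pow_pos hp.out.pos _
  have hLP : L ^ P = 1 := by
    have key : ∀ i, ∀ φ, (L ^ i) φ = (ρ (y ^ i)).comp (φ.comp ((T' ^ (P - 1)) ^ i)) := by
      intro i
      induction i with
      | zero => intro φ; simp [End.one_eq_id]
      | succ i ih =>
        intro φ
        rw [pow_succ', End.mul_apply, ih, hLapply, pow_succ' y, map_mul, pow_succ (T' ^ (P - 1))]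
        rfl
    refine LinearMap.ext fun φ => ?_
    rw [key, hyP, map_one, ← pow_mul, mul_comm, pow_mul, hT'P, one_pow]
    rfl
  have hM : ∀ φ : W₀ →ₗ[K] V,
      (∀ (k : G) (hk : k ∈ Q) (w : W₀), φ ⟨ρ k w, hW₀.inv k hk w w.2⟩ = ρ k (φ w)) →
      ∀ (k : G) (hk : k ∈ Q) (w : W₀), L φ ⟨ρ k w, hW₀.inv k hk w w.2⟩ = ρ k (L φ w) := by
    intro φ hφ k hk w
    have e : ∀ i, ∀ (k : G) (hk : k ∈ Q) (w : W₀),
        ((T' ^ i) ⟨ρ k w, hW₀.inv k hk w w.2⟩ : V) =
          ρ (y ^ i * k * (y ^ i)⁻¹) ((T' ^ i) w : V) := by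
      intro i
      induction i with
      | zero => intro k hk w; simp
      | succ i ih =>
        intro k hk w
        have hk' : y ^ i * k * (y ^ i)⁻¹ ∈ Q := hconj (pow_mem hyQ i) hk
        rw [pow_succ', End.mul_apply,
          show (T' ^ i) ⟨ρ k w, hW₀.inv k hk w w.2⟩ =
            ⟨ρ (y ^ i * k * (y ^ i)⁻¹) ((T' ^ i) w : V), hW₀.inv _ hk' _ ((T' ^ i) w).2⟩
          from Subtype.ext (ih k hk w), hT'k _ hk', End.mul_apply]
        congr 2
        group
    have hy1 : y ^ (P - 1) = y⁻¹ := eq_inv_of_mul_eq_one_left (by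
      rw [← pow_succ, Nat.sub_add_cancel hP0, hyP])
    have hk' : y⁻¹ * k * y ∈ Q := by simpa using hconj (inv_mem hyQ) hk
    rw [hLapply]
    show ρ y (φ ((T' ^ (P - 1)) _)) = ρ k (ρ y (φ ((T' ^ (P - 1)) w)))
    rw [show (T' ^ (P - 1)) ⟨ρ k w, hW₀.inv k hk w w.2⟩ =
        ⟨ρ (y⁻¹ * k * y) ((T' ^ (P - 1)) w : V), hW₀.inv _ hk' _ ((T' ^ (P - 1)) w).2⟩ from
      Subtype.ext (by rw [e _ k hk w, hy1, inv_inv]), hφ _ hk', rho_mul_apply, rho_mul_apply]
    congr 2
    group
  obtain ⟨φ, hφ0, hφk, hφfix⟩ : ∃ φ : W₀ →ₗ[K] V, φ ≠ 0 ∧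
      (∀ (k : G) (hk : k ∈ Q) (w : W₀), φ ⟨ρ k w, hW₀.inv k hk w w.2⟩ = ρ k (φ w)) ∧
      L φ = φ := by
    have hnil : (L - 1) ^ P = 0 := by
      haveI : Nontrivial (W₀ →ₗ[K] V) := by
        refine ⟨⟨W₀.subtype, 0, fun h => ?_⟩⟩
        obtain ⟨w, hw⟩ := exists_ne (0 : W₀)
        exact hw (Subtype.ext (LinearMap.congr_fun h w))
      haveI : CharP (End K (W₀ →ₗ[K] V)) p :=
        charP_of_injective_algebraMap (algebraMap K (End K (W₀ →ₗ[K] V))).injective p
      rw [hPdef, sub_pow_char_pow_of_commute (R := End K (W₀ →ₗ[K] V)) p (n - a)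
        (Commute.one_right L), one_pow, ← hPdef, hLP, sub_self]
    have hex' : ∃ i : ℕ, ((L - 1) ^ i) W₀.subtype = 0 := ⟨P, by rw [hnil]; rfl⟩
    have h0 : Nat.find hex' ≠ 0 := fun h => by
      have := Nat.find_spec hex'
      rw [h, pow_zero, End.one_apply] at this
      obtain ⟨w, hw⟩ := exists_ne (0 : W₀)
      exact hw (Subtype.ext (LinearMap.congr_fun this w))
    obtain ⟨j, hj⟩ := Nat.exists_eq_succ_of_ne_zero h0
    refine ⟨((L - 1) ^ j) W₀.subtype, Nat.find_min hex' (by omega), ?_, ?_⟩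
    · clear hj
      induction j with
      | zero => intro k hk w; rfl
      | succ j ih =>
        intro k hk w
        rw [pow_succ', End.mul_apply, LinearMap.sub_apply, End.one_apply, LinearMap.sub_apply,
          LinearMap.sub_apply, map_sub, ih k hk w, hM _ ih k hk w]
    · have := Nat.find_spec hex'
      rw [hj, pow_succ', End.mul_apply, LinearMap.sub_apply, End.one_apply, sub_eq_zero] at this
      exact this
  have hφinj : LinearMap.ker φ = ⊥ := by
    refine (hsub hW₀ _ fun k hk u hu => ?_).resolve_right fun h => hφ0 ?_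
    · rw [LinearMap.mem_ker] at hu ⊢
      rw [hφk k hk u, hu, map_zero]
    · exact LinearMap.ker_eq_top.mp h
  set W := LinearMap.range φ with hWdef
  have hW : IsGood ρ Q W := by
    refine ⟨fun h => hφ0 (LinearMap.range_eq_bot.mp h), ?_, fun U hU hUi => ?_, ?_⟩
    · rintro k hk _ ⟨w, rfl⟩
      exact ⟨_, hφk k hk w⟩
    · rcases hsub hW₀ (U.comap φ) (fun k hk u hu => by
        rw [Submodule.mem_comap] at hu ⊢
        rw [hφk k hk u]
        exact hUi k hk _ hu) with h | h
      · left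
        rw [← Submodule.map_comap_eq_self hU, h, Submodule.map_bot]
      · right
        rw [← Submodule.map_comap_eq_self hU, h, Submodule.map_top]
    · obtain ⟨k, hk, w, hw, hne⟩ := hW₀.nontriv
      refine ⟨k, hk, φ ⟨w, hw⟩, ⟨_, rfl⟩, fun h => hne ?_⟩
      rw [← hφk k hk ⟨w, hw⟩] at h
      exact congrArg Subtype.val (LinearMap.ker_eq_bot.mp hφinj h)
  have hyW : ∀ w ∈ W, ρ y w ∈ W := by
    rintro _ ⟨w, rfl⟩
    refine ⟨T' w, ?_⟩
    conv_lhs => rw [← hφfix, hLapply]
    show ρ y (φ ((T' ^ (P - 1)) (T' w))) = _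
    rw [← End.mul_apply, ← pow_succ, Nat.sub_add_cancel hP0, hT'P, End.one_apply]
  -- the translates of `W` by small powers of `x` are pairwise different
  have hindep : ∀ i, 0 < i → i < p ^ a → ¬ IsStable ρ Q W (x ^ i) := by
    intro i hi0 hilt hst
    have hmul : ∀ g h, g ∈ Subgroup.normalizer (Q : Set G) → h ∈ Subgroup.normalizer (Q : Set G) →
        IsStable ρ Q W g → IsStable ρ Q W h → IsStable ρ Q W (g * h) := by
      rintro g h hg hh ⟨S, hSW, ⟨u, hu, hu0⟩, hSk⟩ ⟨S', hS'W, ⟨u', hu', hu'0⟩, hS'k⟩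
      refine ⟨S * S', fun w hw => hSW _ (hS'W w hw), ?_, fun k hk w hw => ?_⟩
      · refine ⟨u', hu', fun h0 => hu'0 ?_⟩
        let E : Submodule K V := W ⊓ LinearMap.ker S
        rcases hW.minimal E inf_le_left (fun k hk w hw => ⟨hW.inv k hk w hw.1,
          LinearMap.mem_ker.mpr (by rw [hSk k hk w hw.1, LinearMap.mem_ker.mp hw.2, map_zero])⟩)
          with hE | hE
        · have : S' u' ∈ E := ⟨hS'W u' hu', h0⟩
          rwa [hE, Submodule.mem_bot] at this
        · exact absurd ((hE.symm ▸ hu : u ∈ E).2) hu0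
      · rw [End.mul_apply, hS'k k hk w hw, hSk _ (hconj hh hk) _ (hS'W w hw), End.mul_apply]
        congr 2
        group
    have hone : IsStable ρ Q W 1 := by
      obtain ⟨w, hw, hw0⟩ := Submodule.exists_mem_ne_zero_of_ne_bot hW.ne_bot
      exact ⟨1, fun v hv => hv, ⟨w, hw, hw0⟩, fun k hk v hv => by
        rw [inv_one, one_mul, mul_one]; rfl⟩
    have hpows : ∀ m, IsStable ρ Q W ((x ^ i) ^ m) := by
      intro m
      induction m with
      | zero => rwa [pow_zero]
      | succ m ih =>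
        rw [pow_succ]
        exact hmul _ _ (pow_mem (pow_mem hxQ _) _) (pow_mem hxQ _) ih hst
    obtain ⟨e, -, hg⟩ := (Nat.dvd_prime_pow hp.out).mp (Nat.gcd_dvd_right i (p ^ n))
    have hea : e < a := by
      by_contra h
      push Not at h
      have h5 : Nat.gcd i (p ^ n) ≤ i := Nat.gcd_le_left _ hi0
      have h6 := Nat.pow_le_pow_right hp.out.pos h
      omega
    refine Nat.find_min hex (m := e) hea ⟨W, hW, ?_⟩
    obtain ⟨m, hm⟩ : ∃ m, (x ^ i) ^ m = x ^ Nat.gcd i (p ^ n) := by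
      have h1 : x ^ Nat.gcd i (p ^ n) ∈ Subgroup.zpowers (x ^ i) := by
        refine ⟨Nat.gcdA i (p ^ n), ?_⟩
        show (x ^ i) ^ Nat.gcdA i (p ^ n) = _
        rw [← zpow_natCast x (Nat.gcd i (p ^ n)), Nat.gcd_eq_gcd_ab, zpow_add, zpow_mul, zpow_mul,
          zpow_natCast, zpow_natCast, hxP, one_zpow, mul_one]
      exact mem_zpowers_iff_mem_range_orderOf.mp h1 |> fun h => by
        obtain ⟨m, -, hm⟩ := Finset.mem_image.mp h
        exact ⟨m, hm⟩
    rw [← hg, ← hm]
    exact hpows m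
  -- the representation on `W`
  set G₁ := Q ⊔ Subgroup.zpowers y with hG₁
  have hG₁W : ∀ g ∈ G₁, ∀ w ∈ W, ρ g w ∈ W := by
    let S : Subgroup G :=
      { carrier := {g | W.map (ρ g) = W}
        mul_mem' := fun {g h} hg hh => by
          show W.map (ρ (g * h)) = W
          rw [map_mul, End.mul_eq_comp, Submodule.map_comp, show W.map (ρ h) = W from hh]
          exact hg
        one_mem' := by show W.map (ρ 1) = W; rw [map_one]; exact Submodule.map_id W
        inv_mem' := fun {g} hg => by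
          show W.map (ρ g⁻¹) = W
          conv_lhs => rw [← show W.map (ρ g) = W from hg]
          rw [← Submodule.map_comp, ← End.mul_eq_comp, ← map_mul, inv_mul_cancel, map_one]
          exact Submodule.map_id W }
    have hin : ∀ g, (∀ w ∈ W, ρ g w ∈ W) → g ∈ S := fun g hg => by
      refine Submodule.eq_of_le_of_finrank_eq (Submodule.map_le_iff_le_comap.mpr hg) ?_
      exact (Submodule.equivMapOfInjective _
        (fun u v h => by rw [← rho_apply_inv (ρ := ρ) g u, h, rho_apply_inv]) W).finrank_eq.symm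
    have hle : G₁ ≤ S := sup_le (fun g hg => hin g (hW.inv g hg))
      (Subgroup.zpowers_le.mpr (hin y hyW))
    exact fun g hg w hw => (hle hg : W.map (ρ g) = W) ▸ Submodule.mem_map_of_mem hw
  let σ : Representation K G₁ W :=
    { toFun := fun g => (ρ (g : G)).restrict (hG₁W g g.2)
      map_one' := LinearMap.ext fun w => Subtype.ext (by simp)
      map_mul' := fun g h => LinearMap.ext fun w => Subtype.ext (by simp) }
  have hσ : ∀ (g : G₁) (w : W), (σ g w : V) = ρ (g : G) (w : V) := fun _ _ => rfl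
  let y₁ : G₁ := ⟨y, Subgroup.mem_sup_right (Subgroup.mem_zpowers y)⟩
  have hσpow : ∀ (i : ℕ) (w : W), (((σ y₁ - 1) ^ i) w : V) = ((ρ y - 1) ^ i) (w : V) := by
    intro i
    induction i with
    | zero => intro w; rfl
    | succ i ih => intro w; rw [pow_succ, pow_succ, End.mul_apply, End.mul_apply, ih]; rfl
  haveI : CharP (End K V) p := by
    haveI : Nontrivial V := nontrivial_of_ne _ _ hW.nontriv.choose_spec.2.choose_spec.2
    exact charP_of_injective_algebraMap (algebraMap K (End K V)).injective p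
  have hyPV : (ρ y - 1) ^ P = 0 := by
    rw [hPdef, sub_pow_char_pow_of_commute (R := End K V) p (n - a) (Commute.one_right (ρ y)),
      one_pow, ← map_pow, ← hPdef, hyP, map_one, sub_self]
  have hex₂ : ∃ r, (σ y₁ - 1) ^ r = 0 := ⟨P, LinearMap.ext fun w => Subtype.ext (by
    rw [hσpow, hyPV]; rfl)⟩
  set r := Nat.find hex₂ with hrdef
  have hr := Nat.find_spec hex₂
  haveI : Nontrivial W := Submodule.nontrivial_iff_ne_bot.mpr hW.ne_bot
  have hr0 : r ≠ 0 := fun h => by
    rw [← hrdef, h, pow_zero] at hr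
    exact one_ne_zero hr
  obtain ⟨w, hw⟩ : ∃ w, ((σ y₁ - 1) ^ (r - 1)) w ≠ 0 := by
    by_contra hall
    push Not at hall
    exact Nat.find_min hex₂ (m := r - 1) (by omega) (LinearMap.ext hall)
  set u := ((σ y₁ - 1) ^ (r - 1)) w with hu
  have hbig : p ^ a * r ≤ s := by
    by_contra hlt
    push Not at hlt
    have hap : 0 < p ^ a := pow_pos hp.out.pos _
    have h1 : ((ρ x - 1) ^ (p ^ a - 1)) (u : V) = 0 := by
      have hy' : ρ y - 1 = (ρ x - 1) ^ p ^ a := by
        rw [sub_pow_char_pow_of_commute (R := End K V) p a (Commute.one_right (ρ x)), one_pow,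
          ← map_pow]
      rw [hu, hσpow, hy', ← pow_mul, ← End.mul_apply, ← pow_add]
      have hle : s ≤ p ^ a - 1 + p ^ a * (r - 1) := by
        have : p ^ a * r = p ^ a + p ^ a * (r - 1) := by
          conv_lhs => rw [show r = r - 1 + 1 by omega, mul_add, mul_one, add_comm]
        omega
      rw [pow_eq_zero_of_le hle hs]
      rfl
    obtain ⟨m, hm⟩ : ∃ m, p ^ a = m + 1 := ⟨p ^ a - 1, by omega⟩
    rw [hm, Nat.add_sub_cancel] at h1
    have hexp : ((ρ x - 1) ^ m) (u : V) = ∑ i ∈ Finset.range (m + 1),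
        ((-1 : K) ^ (m - i) * (m.choose i : K)) • ρ (x ^ i) (u : V) := by
      have hcm : Commute (ρ x) (algebraMap K (End K V) (-1)) :=
        (Algebra.commutes (-1 : K) (ρ x)).symm
      rw [show ρ x - 1 = ρ x + algebraMap K (End K V) (-1) by
        rw [map_neg, map_one, sub_eq_add_neg], hcm.add_pow, LinearMap.sum_apply]
      refine Finset.sum_congr rfl fun i _ => ?_
      rw [← map_pow (algebraMap K (End K V)), ← map_pow ρ,
        ← map_natCast (algebraMap K (End K V)) (m.choose i), mul_assoc, ← map_mul,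
        End.mul_apply, Module.algebraMap_end_apply, map_smul]
    rw [hexp, Finset.sum_range_succ'] at h1
    simp only [pow_zero, Nat.sub_zero, Nat.choose_zero_right, Nat.cast_one, mul_one, map_one,
      End.one_apply] at h1
    -- so `u` lies in the sum of the other translates
    let F : ℕ → Submodule K V := fun i => W.map (ρ (x ^ (i + 1)))
    set t := (Finset.range m).sup F with ht
    have hut : (u : V) ∈ t := by
      have h2 : ((-1 : K) ^ m) • (u : V) ∈ t := by
        rw [eq_neg_of_add_eq_zero_right h1]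
        refine neg_mem (sum_mem fun i hi => Submodule.smul_mem _ _ ?_)
        exact (Finset.le_sup (f := F) hi) (Submodule.mem_map_of_mem u.2)
      have h3 := Submodule.smul_mem t (((-1 : K) ^ m)⁻¹) h2
      rwa [inv_smul_smul₀ (pow_ne_zero _ (neg_ne_zero.mpr one_ne_zero))] at h3
    have hFinv : ∀ i, IsInv ρ Q (F i) := by
      rintro i k hk _ ⟨v, hv, rfl⟩
      refine ⟨ρ ((x ^ (i + 1))⁻¹ * k * x ^ (i + 1)) v, hW.inv _ ?_ v hv, ?_⟩
      · simpa using hconj (inv_mem (pow_mem hxQ (i + 1))) hk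
      · rw [rho_mul_apply, rho_mul_apply]
        congr 2
        group
    have hFmin : ∀ i, ∀ U ≤ F i, IsInv ρ Q U → U = ⊥ ∨ U = F i := by
      intro i U hU hUi
      have hU' : U.comap (ρ (x ^ (i + 1))) ≤ W := fun v hv => by
        obtain ⟨v', hv', he⟩ := hU hv
        rwa [← rho_apply_inv (ρ := ρ) (x ^ (i + 1)) v, ← he, rho_apply_inv]
      rcases hW.minimal _ hU' (fun k hk v hv => by
        rw [Submodule.mem_comap] at hv ⊢
        rw [rho_mul_apply, show x ^ (i + 1) * k
          = x ^ (i + 1) * k * (x ^ (i + 1))⁻¹ * x ^ (i + 1) by group, ← rho_mul_apply]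
        exact hUi _ (hconj (pow_mem hxQ (i + 1)) hk) _ hv) with h | h
      · left
        rw [← Submodule.map_comap_eq_self (hU.trans LinearMap.map_le_range), h, Submodule.map_bot]
      · right
        rw [← Submodule.map_comap_eq_self (hU.trans LinearMap.map_le_range), h]
    have hWt : W ≤ t := by
      rcases hW.minimal (W ⊓ t) inf_le_left (fun k hk v hv => ⟨hW.inv k hk v hv.1, by
        have : t ≤ t.comap (ρ k) := Finset.sup_le fun i hi z hz =>
          (Finset.le_sup (f := F) hi) (hFinv i k hk z hz)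
        exact this hv.2⟩) with h | h
      · have : (u : V) ∈ W ⊓ t := ⟨u.2, hut⟩
        rw [h, Submodule.mem_bot] at this
        exact absurd (Subtype.ext this) hw
      · exact h ▸ inf_le_right
    obtain ⟨i, hi, f, hf0, hfW, hfk⟩ := exists_map_of_le_sup hW.inv hW.ne_bot F hFinv hFmin _ hWt
    rw [Finset.mem_range] at hi
    -- the map makes `x ^ (-(i+1))` stabilise `W`
    refine hindep (p ^ a - (i + 1)) (by omega) (by omega) ?_
    obtain ⟨C, hC⟩ := Submodule.exists_isCompl W
    let pr : V →ₗ[K] W := W.projectionOnto C hC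
    set g := x ^ (p ^ a - (i + 1)) with hg
    have hgy : ∀ z, z ∈ F i → ρ g z ∈ W := by
      rintro _ ⟨v, hv, rfl⟩
      rw [rho_mul_apply, hg, ← pow_add, show p ^ a - (i + 1) + (i + 1) = p ^ a by omega]
      exact hyW v hv
    refine ⟨(ρ g) ∘ₗ f ∘ₗ pr, fun v hv => hgy _ (hfW _), ?_, fun k hk v hv => ?_⟩
    · by_contra hall
      push Not at hall
      refine hf0 (LinearMap.ext fun v => ?_)
      have h := hall v v.2
      simp only [LinearMap.comp_apply] at h
      rw [show pr (v : V) = v from Submodule.projectionOnto_apply_left hC v] at h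
      by_contra hne
      exact rho_ne_zero hne h
    · simp only [LinearMap.comp_apply]
      rw [show pr v = (⟨v, hv⟩ : W) from Submodule.projectionOnto_apply_left hC ⟨v, hv⟩,
        show pr (ρ k v) = (⟨ρ k v, hW.inv k hk v hv⟩ : W) from
          Submodule.projectionOnto_apply_left hC ⟨ρ k v, hW.inv k hk v hv⟩,
        hfk k hk ⟨v, hv⟩, rho_mul_apply, rho_mul_apply]
      congr 2
      group
  rcases eq_or_lt_of_le han with han' | han'
  · left
    rw [← han']
    calc p ^ a = p ^ a * 1 := (mul_one _).symm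
      _ ≤ p ^ a * r := Nat.mul_le_mul_left _ (by omega)
      _ ≤ s := hbig
  -- the critical case on `W`
  haveI : (Q.subgroupOf G₁).Normal := Subgroup.normal_subgroupOf_iff le_sup_left |>.mpr
    fun k g hk hg => hconj ((sup_le Subgroup.le_normalizer (Subgroup.zpowers_le.mpr hyQ)) hg) hk
  have hQ₁ : IsPGroup q (Q.subgroupOf G₁) := hQ.of_equiv (Subgroup.subgroupOfEquivOfLe le_sup_left).symm
  have hirr : IsIrredOn σ (Q.subgroupOf G₁) := fun U hU =>
    hsub hW U fun k hk u hu => hU ⟨k, Subgroup.mem_sup_left hk⟩ hk u hu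
  have hzy : x ^ p ^ (n - 1) = y ^ p ^ (n - 1 - a) := by
    rw [hydef, ← pow_mul, ← pow_add]
    congr 2
    omega
  have hfix : ∀ i, 0 < i → i < p ^ (n - a) → ∀ k ∈ Q.subgroupOf G₁, Commute k (y₁ ^ i) →
      IsScalar σ k := by
    intro i hi0 hilt k hk hki
    have hki' : Commute (k : G) (y ^ i) := congrArg Subtype.val hki
    have hkz : Commute (k : G) (x ^ p ^ (n - 1)) := by
      obtain ⟨e, -, hg⟩ := (Nat.dvd_prime_pow hp.out).mp (Nat.gcd_dvd_right i P)
      have hea : e < n - a := by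
        by_contra h
        push Not at h
        have h5 : Nat.gcd i P ≤ i := Nat.gcd_le_left _ hi0
        have h6 := Nat.pow_le_pow_right hp.out.pos h
        omega
      have h1 : y ^ Nat.gcd i P ∈ Subgroup.zpowers (y ^ i) := by
        refine ⟨Nat.gcdA i P, ?_⟩
        show (y ^ i) ^ Nat.gcdA i P = _
        rw [← zpow_natCast y (Nat.gcd i P), Nat.gcd_eq_gcd_ab, zpow_add, zpow_mul, zpow_mul,
          zpow_natCast, zpow_natCast, hyP, one_zpow, mul_one]
      have h2 : x ^ p ^ (n - 1) ∈ Subgroup.zpowers (y ^ i) := by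
        rw [hzy, show p ^ (n - 1 - a) = p ^ e * p ^ (n - 1 - a - e) by
          rw [← pow_add]; congr 1; omega, pow_mul, ← hg]
        exact pow_mem h1 _
      obtain ⟨m, hm⟩ := h2
      rw [← hm]
      exact hki'.zpow_right m
    exact isScalar_of_commute hirr fun g hg => by
      rw [← map_mul, ← map_mul]
      exact congrArg σ (Subtype.ext (hcent k hk hkz g hg).eq).symm
  have hns : ∃ k ∈ Q.subgroupOf G₁, ¬ IsScalar σ k := by
    by_contra hall
    push Not at hall
    obtain ⟨k, hk, v, hv, hne⟩ := hW.nontriv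
    refine hne ?_
    let T : Subgroup G :=
      { carrier := {g | ∀ v ∈ W, ρ g v = v}
        mul_mem' := fun {g h} hg hh v hv => by rw [← rho_mul_apply, hh v hv, hg v hv]
        one_mem' := fun v _ => by rw [map_one]; rfl
        inv_mem' := fun {g} hg v hv => by
          conv_lhs => rw [← hg v hv, rho_apply_inv] }
    have hle : ⁅Q, Subgroup.zpowers (x ^ p ^ (n - 1))⁆ ≤ T := by
      refine Subgroup.commutator_le.mpr fun k hk z hz v hv => ?_
      have hz' : z ∈ G₁ := by
        refine Subgroup.mem_sup_right ((Subgroup.zpowers_le.mpr ?_) hz)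
        rw [hzy]
        exact pow_mem (Subgroup.mem_zpowers y) _
      have h := LinearMap.congr_fun (rho_commutator_scalar (ρ := σ) (g := (⟨z, hz'⟩ : G₁))
        (hall ⟨k, Subgroup.mem_sup_left hk⟩ hk)) ⟨v, hv⟩
      exact congrArg Subtype.val h
    exact (hle (hgen hk)) v hv
  rcases critical (ρ := σ) hpq hQ₁ hirr (n := n - a) (by omega)
    (Subtype.ext (by rw [Subgroup.coe_pow]; exact hyP) : y₁ ^ p ^ (n - a) = 1) hfix hns hr with
    h | ⟨h1, h2, ⟨b, hb⟩, k, hk, l, hl, hne⟩
  · left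
    calc p ^ n = p ^ a * p ^ (n - a) := by rw [← pow_add, Nat.add_sub_cancel' han]
      _ ≤ p ^ a * r := Nat.mul_le_mul_left _ h
      _ ≤ s := hbig
  · right
    have hkl : (k : G) * l ≠ l * k := fun h => hne (by
      rw [← map_mul, ← map_mul]; exact congrArg σ (Subtype.ext h))
    refine ⟨a, b, han', ?_, hb, (Nat.mul_le_mul_left _ h1).trans hbig, k, hk, l, hl, hkl⟩
    by_contra hb0
    rw [show b = 0 by omega, pow_zero] at hb
    rw [hb] at h2
    obtain ⟨v, hv⟩ := exists_ne (0 : W)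
    refine hne (LinearMap.ext fun w => ?_)
    obtain ⟨c, rfl⟩ := (finrank_eq_one_iff_of_nonzero' v hv).mp h2 w
    obtain ⟨ck, hck⟩ := (finrank_eq_one_iff_of_nonzero' v hv).mp h2 (σ k v)
    obtain ⟨cl, hcl⟩ := (finrank_eq_one_iff_of_nonzero' v hv).mp h2 (σ l v)
    simp only [End.mul_apply, map_smul, ← hcl, ← hck, smul_smul]
    congr 1
    ring

end CfsgLib.FgsC.HallHigmanB
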