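import Cfsg.Prelude.Def_CaseTheorems
import Cfsg.Prelude.Def_OddOrderLocal
import Mathlib
import Cfsg.Agent.Lib.PGroups.Basic

/-!
A finite `2`-group of sectional rank at most two is metacyclic.
-/

set_option autoImplicit false

namespace CfsgLib.FgsC.MetaTwo

open scoped commutatorElement

universe u

variable {G : Type u} [Group G]

theorem sectional_of_surjective {Q : Type u} [Group Q] {f : G →* Q} (hf : Function.Surjective f)
    (hr : Cfsg.SectionalPRankLE 2 2 G) : Cfsg.SectionalPRankLE 2 2 Q := by
  intro H N _ A hA hA2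
  let g : H.comap f →* H := (f.comp (H.comap f).subtype).codRestrict H fun x => x.2
  have hg : Function.Surjective g := fun h => by
    obtain ⟨x, hx⟩ := hf h
    exact ⟨⟨x, by rw [Subgroup.mem_comap, hx]; exact h.2⟩, Subtype.ext hx⟩
  let φ : H.comap f →* H ⧸ N := (QuotientGroup.mk' N).comp g
  have hφ : Function.Surjective φ := (QuotientGroup.mk'_surjective N).comp hg
  let e := QuotientGroup.quotientKerEquivOfSurjective φ hφ
  rw [Nat.card_congr (A.equivMapOfInjective e.symm.toMonoidHom e.symm.injective).toEquiv]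
  refine hr (H.comap f) φ.ker _ ⟨⟨fun x y => ?_⟩⟩ ?_
  · obtain ⟨⟨_, a, ha, rfl⟩, ⟨_, b, hb, rfl⟩⟩ := x, y
    refine Subtype.ext ?_
    show e.symm a * e.symm b = e.symm b * e.symm a
    rw [← map_mul, ← map_mul,
      show a * b = b * a from congrArg Subtype.val (hA.is_comm.comm ⟨a, ha⟩ ⟨b, hb⟩)]
  · rintro _ ⟨a, ha, rfl⟩
    show e.symm a ^ 2 = 1
    rw [← map_pow, hA2 a ha, map_one]

theorem comm_identity {A : Type*} [CommGroup A] (X Y W : A) (a b c a' b' c' s t r : ℤ) :
    X ^ (a' - a - 2 * s) * Y ^ (b' - b - 2 * t) * W ^ (c' - c - 2 * r) =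
      (X ^ a * Y ^ b * W ^ c)⁻¹ * (X ^ a' * Y ^ b' * W ^ c') * ((X ^ s * Y ^ t * W ^ r) ^ 2)⁻¹ := by
  rw [two_mul, two_mul, two_mul]
  simp only [zpow_sub, zpow_add, sq, mul_inv, mul_comm, mul_left_comm, mul_assoc]

/-- Three commuting elements satisfy a relation with an odd exponent. -/
theorem rel3 [Finite G] (hr : Cfsg.SectionalPRankLE 2 2 G) {x y w : G} (hxy : Commute x y)
    (hxw : Commute x w) (hyw : Commute y w) :
    ∃ i j k : ℤ, x ^ i * y ^ j * w ^ k = 1 ∧ (Odd i ∨ Odd j ∨ Odd k) := by
  classical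
  by_contra! hc
  simp only [Int.not_odd_iff_even] at hc
  set H : Subgroup G := Subgroup.closure {x, y, w} with hH
  have : IsMulCommutative H := Subgroup.isMulCommutative_closure (by
    rintro a (rfl | rfl | rfl) b (rfl | rfl | rfl) <;>
      first | rfl | exact hxy | exact hxy.symm | exact hxw | exact hxw.symm | exact hyw | exact hyw.symm)
  let : CommGroup H := { (inferInstance : Group H) with mul_comm := fun a b => this.is_comm.comm a b }
  let X : H := ⟨x, Subgroup.subset_closure (by simp)⟩
  let Y : H := ⟨y, Subgroup.subset_closure (by simp)⟩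
  let W : H := ⟨w, Subgroup.subset_closure (by simp)⟩
  let N : Subgroup H := (powMonoidHom 2 : H →* H).range
  have : N.Normal := inferInstance
  have hgen : ∀ h : H, ∃ a b c : ℤ, h = X ^ a * Y ^ b * W ^ c := by
    rintro ⟨h, hh⟩
    induction hh using Subgroup.closure_induction with
    | mem v hv =>
      rcases hv with rfl | rfl | rfl
      · exact ⟨1, 0, 0, by simp [X]⟩
      · exact ⟨0, 1, 0, by simp [Y]⟩
      · exact ⟨0, 0, 1, by simp [W]⟩
    | one => exact ⟨0, 0, 0, Subtype.ext (by simp)⟩
    | mul u v hu hv ihu ihv =>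
      obtain ⟨a, b, c, e⟩ := ihu
      obtain ⟨a', b', c', e'⟩ := ihv
      refine ⟨a + a', b + b', c + c', ?_⟩
      rw [show (⟨u * v, mul_mem hu hv⟩ : H) = ⟨u, hu⟩ * ⟨v, hv⟩ from rfl, e, e', zpow_add, zpow_add,
        zpow_add, mul_mul_mul_comm, mul_mul_mul_comm (X ^ a) (Y ^ b) (X ^ a') (Y ^ b')]
    | inv u hu ihu =>
      obtain ⟨a, b, c, e⟩ := ihu
      refine ⟨-a, -b, -c, ?_⟩
      rw [show (⟨u⁻¹, inv_mem hu⟩ : H) = (⟨u, hu⟩ : H)⁻¹ from rfl, e, mul_inv, mul_inv, zpow_neg,
        zpow_neg, zpow_neg]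
  have hsq : ∀ q : H ⧸ N, q ^ 2 = 1 := by
    intro q
    induction q using QuotientGroup.induction_on with
    | H h => rw [← QuotientGroup.mk_pow, QuotientGroup.eq_one_iff]; exact ⟨h, rfl⟩
  have hcard : Nat.card (H ⧸ N) ≤ 2 ^ 2 := by
    have h := hr H N ⊤ ⟨⟨fun a b => Subtype.ext ?_⟩⟩ (fun a _ => hsq a)
    · rwa [Subgroup.card_top] at h
    · obtain ⟨⟨a, -⟩, ⟨b, -⟩⟩ := a, b
      induction a using QuotientGroup.induction_on with
      | H a => induction b using QuotientGroup.induction_on with
        | H b => exact congrArg (fun t : H => (t : H ⧸ N)) (mul_comm a b)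
  let F : Fin 2 × Fin 2 × Fin 2 → H ⧸ N := fun e =>
    ((X ^ ((e.1 : ℕ) : ℤ) * Y ^ ((e.2.1 : ℕ) : ℤ) * W ^ ((e.2.2 : ℕ) : ℤ) : H) : H ⧸ N)
  have : Fintype (H ⧸ N) := Fintype.ofFinite _
  obtain ⟨⟨a, b, c⟩, ⟨a', b', c'⟩, hne, he⟩ := Fintype.exists_ne_map_eq_of_card_lt F (by
    rw [← Nat.card_eq_fintype_card (α := H ⧸ N)]
    simp only [Fintype.card_prod, Fintype.card_fin]
    omega)
  obtain ⟨z, hz⟩ := QuotientGroup.eq.1 he
  obtain ⟨s, t, r, rfl⟩ := hgen z
  set da : ℤ := (a' : ℕ) - (a : ℕ) - 2 * s with hda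
  set db : ℤ := (b' : ℕ) - (b : ℕ) - 2 * t with hdb
  set dc : ℤ := (c' : ℕ) - (c : ℕ) - 2 * r with hdc
  have key : X ^ da * Y ^ db * W ^ dc = 1 := by
    rw [powMonoidHom_apply] at hz
    calc X ^ da * Y ^ db * W ^ dc
        = (X ^ ((a : ℕ) : ℤ) * Y ^ ((b : ℕ) : ℤ) * W ^ ((c : ℕ) : ℤ))⁻¹ *
            (X ^ ((a' : ℕ) : ℤ) * Y ^ ((b' : ℕ) : ℤ) * W ^ ((c' : ℕ) : ℤ)) *
            ((X ^ s * Y ^ t * W ^ r) ^ 2)⁻¹ := by
          rw [hda, hdb, hdc]
          exact comm_identity X Y W _ _ _ _ _ _ s t r
      _ = 1 := by rw [← hz, mul_inv_cancel]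
  obtain ⟨ea, eb, ec⟩ := hc da db dc (by simpa [X, Y, W] using congrArg Subtype.val key)
  simp only [hda, hdb, hdc, Int.even_sub, Int.even_mul, Int.even_coe_nat] at ea eb ec
  simp only [even_two, true_or, iff_true] at ea eb ec
  apply hne
  refine Prod.ext ?_ (Prod.ext ?_ ?_)
  · revert ea; fin_cases a <;> fin_cases a' <;> simp
  · revert eb; fin_cases b <;> fin_cases b' <;> simp
  · revert ec; fin_cases c <;> fin_cases c' <;> simp

theorem metacyclic_of_two_gen {x y : G} (hgen : Subgroup.closure {x, y} = ⊤)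
    (hn : (Subgroup.zpowers x).Normal) : Cfsg.IsMetacyclic G := by
  refine ⟨Subgroup.zpowers x, hn, inferInstance, ?_⟩
  refine ⟨⟨((y : G) : G ⧸ Subgroup.zpowers x), fun q => ?_⟩⟩
  induction q using QuotientGroup.induction_on with
  | H g =>
    have hg : g ∈ (Subgroup.zpowers ((y : G) : G ⧸ Subgroup.zpowers x)).comap
        (QuotientGroup.mk' (Subgroup.zpowers x)) := by
      refine (Subgroup.closure_le _).2 ?_ (hgen ▸ Subgroup.mem_top g)
      rintro v (rfl | rfl)
      · rw [SetLike.mem_coe, Subgroup.mem_comap, QuotientGroup.mk'_apply,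
          (QuotientGroup.eq_one_iff v).2 (Subgroup.mem_zpowers v)]
        exact one_mem _
      · exact Subgroup.mem_zpowers _
    exact hg

theorem zpow_eq_self_of_odd {g : G} (hg : g * g = 1) {i : ℤ} (hi : Odd i) : g ^ i = g := by
  obtain ⟨k, rfl⟩ := hi
  rw [zpow_add, zpow_one, zpow_mul, zpow_ofNat, sq, hg, one_zpow, one_mul]

theorem zpow_eq_one_of_even {g : G} (hg : g * g = 1) {i : ℤ} (hi : Even i) : g ^ i = 1 := by
  obtain ⟨k, rfl⟩ := hi
  rw [← two_mul, zpow_mul, zpow_ofNat, sq, hg, one_zpow]

theorem mem_zpowers_of_odd_zpow [Finite G] (h2 : IsPGroup 2 G) {g : G} {i : ℤ} (hi : Odd i) :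
    g ∈ Subgroup.zpowers (g ^ i) := by
  obtain ⟨n, hn⟩ := h2 g
  obtain ⟨s, t, hst⟩ : IsCoprime i ((2 : ℤ) ^ n) := by
    refine IsCoprime.pow_right ?_
    rw [isCoprime_comm, Int.prime_two.coprime_iff_not_dvd, ← even_iff_two_dvd, Int.not_even_iff_odd]
    exact hi
  refine Subgroup.mem_zpowers_iff.2 ⟨s, ?_⟩
  have ht : g ^ (t * (2 : ℤ) ^ n) = 1 := by
    rw [mul_comm, zpow_mul, show ((2 : ℤ) ^ n) = ((2 ^ n : ℕ) : ℤ) by simp, zpow_natCast, hn, one_zpow]
  calc (g ^ i) ^ s = g ^ (s * i + t * (2 : ℤ) ^ n) := by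
        rw [zpow_add, ht, mul_one, ← zpow_mul, mul_comm]
    _ = g := by rw [hst, zpow_one]

theorem closure_pair_of_odd [Finite G] (h2 : IsPGroup 2 G) {a b g z : G}
    (hgen : Subgroup.closure {a, b} = ⊤) {i j k : ℤ} (hg : g = a ^ i * b ^ j * z ^ k) (hi : Odd i)
    (hz : z ∈ Subgroup.closure {g, b}) : Subgroup.closure {g, b} = ⊤ := by
  rw [eq_top_iff, ← hgen, Subgroup.closure_le]
  rintro v (rfl | rfl)
  · have h : v ^ i ∈ Subgroup.closure {g, b} := by
      rw [show v ^ i = g * (z ^ k)⁻¹ * (b ^ j)⁻¹ by rw [hg]; group]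
      exact mul_mem (mul_mem (Subgroup.subset_closure (by simp)) (inv_mem (zpow_mem hz _)))
        (inv_mem (zpow_mem (Subgroup.subset_closure (by simp)) _))
    exact Subgroup.zpowers_le.2 h (mem_zpowers_of_odd_zpow h2 hi)
  · exact Subgroup.subset_closure (by simp)

/-- The case of a commutator subgroup of order two. -/
theorem small_derived [Finite G] (h2 : IsPGroup 2 G) (hr : Cfsg.SectionalPRankLE 2 2 G) {a b z : G}
    (hgen : Subgroup.closure {a, b} = ⊤) (hzc : z ∈ Subgroup.center G) (hz : z * z = 1) (hz1 : z ≠ 1)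
    (hab : b * a * b⁻¹ = a * z) : Cfsg.IsMetacyclic G := by
  have hzC : ∀ g : G, g * z = z * g := Subgroup.mem_center_iff.1 hzc
  have hzinv : z⁻¹ = z := inv_eq_of_mul_eq_one_right hz
  have conj_ab : ∀ v i : ℤ, b ^ v * a ^ i * (b ^ v)⁻¹ = a ^ i * z ^ (v * i) := by
    have h1 : ∀ n : ℕ, b ^ n * a * (b ^ n)⁻¹ = a * z ^ n := by
      intro n
      induction n with
      | zero => simp
      | succ n ih =>
        calc b ^ (n + 1) * a * (b ^ (n + 1))⁻¹ = b * (b ^ n * a * (b ^ n)⁻¹) * b⁻¹ := by
              rw [pow_succ']; group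
          _ = b * a * b⁻¹ * (b * z ^ n * b⁻¹) := by rw [ih]; group
          _ = a * z ^ (n + 1) := by
              rw [hab, Subgroup.mem_center_iff.1 (pow_mem hzc n) b, mul_inv_cancel_right, mul_assoc,
                ← pow_succ']
    intro v i
    have h2' : b ^ v * a * (b ^ v)⁻¹ = a * z ^ v := by
      obtain ⟨n, rfl | rfl⟩ := v.eq_nat_or_neg
      · simpa using h1 n
      · have h := h1 n
        rw [zpow_neg, zpow_neg, zpow_natCast, zpow_natCast, inv_inv]
        calc (b ^ n)⁻¹ * a * b ^ n
            = (b ^ n)⁻¹ * (b ^ n * a * (b ^ n)⁻¹) * b ^ n * ((b ^ n)⁻¹ * (z ^ n)⁻¹ * b ^ n) := by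
              rw [h]; group
          _ = a * (z ^ n)⁻¹ := by
              rw [Subgroup.mem_center_iff.1 (inv_mem (pow_mem hzc n)) (b ^ n)⁻¹, inv_mul_cancel_right]
              group
    rw [← conj_zpow, h2', Commute.mul_zpow (Subgroup.mem_center_iff.1 (zpow_mem hzc v) a), ← zpow_mul]
  have prod : ∀ i j i' j' : ℤ, (a ^ i * b ^ j) * (a ^ i' * b ^ j') =
      a ^ (i + i') * b ^ (j + j') * z ^ (j * i') := by
    intro i j i' j'
    calc (a ^ i * b ^ j) * (a ^ i' * b ^ j') = a ^ i * (b ^ j * a ^ i' * (b ^ j)⁻¹) * (b ^ j * b ^ j') := by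
          group
      _ = _ := by
          rw [conj_ab, zpow_add a i i', zpow_add b j j', mul_assoc (a ^ i * a ^ i') (b ^ j * b ^ j'),
            Subgroup.mem_center_iff.1 (zpow_mem hzc (j * i')) (b ^ j * b ^ j')]
          group
  have rep : ∀ g : G, ∃ i j k : ℤ, g = a ^ i * b ^ j * z ^ k := by
    intro g
    have hg : g ∈ Subgroup.closure {a, b} := hgen ▸ Subgroup.mem_top g
    induction hg using Subgroup.closure_induction with
    | mem v hv =>
      rcases hv with rfl | rfl
      · exact ⟨1, 0, 0, by simp⟩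
      · exact ⟨0, 1, 0, by simp⟩
    | one => exact ⟨0, 0, 0, by simp⟩
    | mul u v _ _ ihu ihv =>
      obtain ⟨i, j, k, rfl⟩ := ihu
      obtain ⟨i', j', k', rfl⟩ := ihv
      refine ⟨i + i', j + j', j * i' + k + k', ?_⟩
      rw [show a ^ (i + i') * b ^ (j + j') * z ^ (j * i' + k + k') =
          a ^ i * b ^ j * (a ^ i' * b ^ j') * z ^ k * z ^ k' by
        rw [prod, zpow_add z (j * i' + k), zpow_add z (j * i')]; group]
      calc a ^ i * b ^ j * z ^ k * (a ^ i' * b ^ j' * z ^ k')
          = a ^ i * b ^ j * (z ^ k * (a ^ i' * b ^ j')) * z ^ k' := by group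
        _ = _ := by rw [← Subgroup.mem_center_iff.1 (zpow_mem hzc k) (a ^ i' * b ^ j'), ← mul_assoc]
    | inv u _ ihu =>
      obtain ⟨i, j, k, rfl⟩ := ihu
      refine ⟨-i, -j, j * i - k, ?_⟩
      rw [inv_eq_iff_mul_eq_one]
      calc a ^ i * b ^ j * z ^ k * (a ^ (-i) * b ^ (-j) * z ^ (j * i - k))
          = a ^ i * b ^ j * (z ^ k * (a ^ (-i) * b ^ (-j))) * z ^ (j * i - k) := by group
        _ = a ^ i * b ^ j * (a ^ (-i) * b ^ (-j)) * (z ^ k * z ^ (j * i - k)) := by
            rw [← Subgroup.mem_center_iff.1 (zpow_mem hzc k) (a ^ (-i) * b ^ (-j))]; group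
        _ = 1 := by
            rw [prod, add_neg_cancel, add_neg_cancel, ← zpow_add, zpow_zero, zpow_zero, one_mul,
              one_mul, ← zpow_add, show j * -i + (k + (j * i - k)) = 0 by ring, zpow_zero]
  -- (A): a generator whose powers contain `z`
  have caseA : (∃ h : G, z ∈ Subgroup.zpowers h ∧ h ≠ z) → Cfsg.IsMetacyclic G := by
    intro hA
    obtain ⟨g, ⟨hzg, hgz⟩, hmax⟩ := (Set.toFinite {h : G | z ∈ Subgroup.zpowers h ∧ h ≠ z}).exists_maximalFor
      orderOf _ hA
    obtain ⟨i, j, k, hg⟩ := rep g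
    have hnormal : (Subgroup.zpowers g).Normal := by
      refine ⟨fun v hv w => ?_⟩
      obtain ⟨i', j', k', hw⟩ := rep w
      obtain ⟨m, rfl⟩ := Subgroup.mem_zpowers_iff.1 hv
      obtain ⟨e, he⟩ : ∃ e : ℤ, w * g * w⁻¹ = g * z ^ e := by
        refine ⟨j' * i - j * i', ?_⟩
        rw [mul_inv_eq_iff_eq_mul, hw, hg]
        calc a ^ i' * b ^ j' * z ^ k' * (a ^ i * b ^ j * z ^ k)
            = a ^ i' * b ^ j' * (z ^ k' * (a ^ i * b ^ j)) * z ^ k := by group
          _ = (a ^ i' * b ^ j') * (a ^ i * b ^ j) * (z ^ k' * z ^ k) := by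
              rw [← Subgroup.mem_center_iff.1 (zpow_mem hzc k') (a ^ i * b ^ j)]; group
          _ = a ^ (i' + i) * b ^ (j' + j) * (z ^ (j' * i) * (z ^ k' * z ^ k)) := by
              rw [prod, mul_assoc]
          _ = a ^ (i + i') * b ^ (j + j') * (z ^ (j * i') * (z ^ k * (z ^ (j' * i - j * i') * z ^ k'))) := by
              simp only [← zpow_add]
              rw [add_comm i', add_comm j']
              congr 2
              ring
          _ = (a ^ i * b ^ j) * (a ^ i' * b ^ j') * (z ^ k * z ^ (j' * i - j * i')) * z ^ k' := by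
              rw [prod]; group
          _ = _ := by
              rw [← zpow_add, mul_assoc (a ^ i * b ^ j) (a ^ i' * b ^ j'),
                Subgroup.mem_center_iff.1 (zpow_mem hzc _) (a ^ i' * b ^ j'), zpow_add]
              group
      rw [← conj_zpow, he]
      exact zpow_mem (mul_mem (Subgroup.mem_zpowers g) (zpow_mem hzg _)) _
    have hz' : ∀ x : G, z ∈ Subgroup.closure {g, x} := fun x =>
      Subgroup.zpowers_le.2 (Subgroup.subset_closure (by simp)) hzg
    rcases Int.even_or_odd i with hi | hi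
    · rcases Int.even_or_odd j with hj | hj
      · exfalso
        obtain ⟨u, rfl⟩ := hi
        obtain ⟨v, rfl⟩ := hj
        set h := a ^ u * b ^ v with hh
        have hhh : g = h * h * z ^ (k - v * u) := by
          rw [hg, hh, prod, mul_assoc _ (z ^ (v * u)), ← zpow_add, add_sub_cancel]
        -- `g` has order at least four
        have hg2 : g * g = (h * h) * (h * h) := by
          have hzz : z ^ (k - v * u) * z ^ (k - v * u) = 1 := by
            rw [← zpow_add, zpow_eq_one_of_even hz ⟨_, rfl⟩]
          calc g * g = h * h * (z ^ (k - v * u) * (h * h)) * z ^ (k - v * u) := by rw [hhh]; group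
            _ = h * h * (h * h) * (z ^ (k - v * u) * z ^ (k - v * u)) := by
                rw [← Subgroup.mem_center_iff.1 (zpow_mem hzc _) (h * h)]; group
            _ = _ := by rw [hzz, mul_one]
        obtain ⟨m, hm⟩ := Subgroup.mem_zpowers_iff.1 hzg
        have hm2 : Even m := by
          by_contra hmo
          rw [Int.not_even_iff_odd] at hmo
          have hgz' : g ∈ Subgroup.zpowers z := hm ▸ mem_zpowers_of_odd_zpow h2 hmo
          obtain ⟨l, hl⟩ := Subgroup.mem_zpowers_iff.1 hgz'
          rcases Int.even_or_odd l with he | he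
          · rw [zpow_eq_one_of_even hz he] at hl
            rw [← hl, one_zpow] at hm
            exact hz1 hm.symm
          · rw [zpow_eq_self_of_odd hz he] at hl
            exact hgz hl.symm
        obtain ⟨m', rfl⟩ := hm2
        rw [← two_mul, zpow_mul, zpow_ofNat, sq, hg2, ← sq, ← sq, ← pow_mul, ← zpow_natCast,
          ← zpow_mul] at hm
        have hzh : z ∈ Subgroup.zpowers h := Subgroup.mem_zpowers_iff.2 ⟨_, hm⟩
        obtain ⟨n, hn⟩ := h2 h
        obtain ⟨d, -, hd⟩ := (Nat.dvd_prime_pow Nat.prime_two).1 (orderOf_dvd_of_pow_eq_one hn)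
        have hne4 : h ^ 4 ≠ 1 := fun h4 => hz1 (by
          rw [← hm]
          push_cast
          rw [zpow_mul, zpow_ofNat, h4, one_zpow])
        have hd3 : 3 ≤ d := by
          by_contra hlt
          refine hne4 (orderOf_dvd_iff_pow_eq_one.1 ?_)
          rw [hd]
          exact (pow_dvd_pow 2 (show d ≤ 2 by omega))
        have hlt : orderOf g < orderOf h := by
          have hgh : g ^ 2 ^ (d - 1) = 1 := by
            obtain ⟨e, rfl⟩ : ∃ e, d = e + 2 := ⟨d - 2, by omega⟩
            rw [show e + 2 - 1 = e + 1 by omega, pow_succ', pow_mul, sq, hg2, ← sq, ← sq, ← pow_mul,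
              ← pow_mul, show 2 * (2 * 2 ^ e) = 2 ^ (e + 2) by ring, ← hd, pow_orderOf_eq_one]
          calc orderOf g ≤ 2 ^ (d - 1) := orderOf_le_of_pow_eq_one (Nat.two_pow_pos _) hgh
            _ < 2 ^ d := Nat.pow_lt_pow_right one_lt_two (by omega)
            _ = _ := hd.symm
        refine absurd (hmax ⟨hzh, fun e => ?_⟩ hlt.le) (not_le.2 hlt)
        rw [e] at hne4
        exact hne4 (by rw [show 4 = 2 * 2 from rfl, pow_mul, sq z, hz, one_pow])
      · refine metacyclic_of_two_gen (x := g) (y := a) ?_ hnormal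
        rw [eq_top_iff, ← hgen, Subgroup.closure_le]
        rintro v (rfl | rfl)
        · exact Subgroup.subset_closure (by simp)
        · have h : v ^ j ∈ Subgroup.closure {g, a} := by
            rw [show v ^ j = (a ^ i)⁻¹ * g * (z ^ k)⁻¹ by rw [hg]; group]
            exact mul_mem (mul_mem (inv_mem (zpow_mem (Subgroup.subset_closure (by simp)) _))
              (Subgroup.subset_closure (by simp))) (inv_mem (zpow_mem (hz' a) _))
          exact Subgroup.zpowers_le.2 h (mem_zpowers_of_odd_zpow h2 hj)
    · exact metacyclic_of_two_gen (closure_pair_of_odd h2 hgen hg hi (hz' b)) hnormal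
  -- first relation
  have hz2 : a ^ (2 : ℤ) * b = b * a ^ (2 : ℤ) := by
    have h := conj_ab 1 2
    rw [zpow_one, one_mul, zpow_eq_one_of_even hz even_two, mul_one, mul_inv_eq_iff_eq_mul] at h
    exact h.symm
  obtain ⟨i, j, k, hrel, hodd⟩ := rel3 hr hz2 (hzC _) (hzC b)
  rcases Int.even_or_odd j with ⟨v, rfl⟩ | hj
  · set g := a ^ i * b ^ v with hg
    have hgg : g * g = z ^ (v * i - k) := by
      rw [hg, prod, ← two_mul i, zpow_mul, eq_inv_of_mul_eq_one_left hrel, ← zpow_neg, ← zpow_add]
      congr 1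
      ring
    by_cases hzk : Odd (v * i - k)
    · rw [zpow_eq_self_of_odd hz hzk] at hgg
      refine caseA ⟨g, hgg ▸ mul_mem (Subgroup.mem_zpowers g) (Subgroup.mem_zpowers g), fun e => ?_⟩
      rw [e, hz] at hgg
      exact hz1 hgg.symm
    · rw [Int.not_odd_iff_even] at hzk
      rw [zpow_eq_one_of_even hz hzk] at hgg
      have hi : Odd i := by
        rcases hodd with h | h | h
        · exact h
        · exact absurd h (Int.not_odd_iff_even.2 ⟨v, rfl⟩)
        · by_contra hie
          rw [Int.not_odd_iff_even] at hie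
          exact Int.not_odd_iff_even.2 ((Int.even_sub.1 hzk).1 (hie.mul_left v)) h
      have hgb : b * g * b⁻¹ = g * z := by
        have h := conj_ab 1 i
        rw [zpow_one, one_mul, zpow_eq_self_of_odd hz hi] at h
        calc b * g * b⁻¹ = (b * a ^ i * b⁻¹) * (b * b ^ v * b⁻¹) := by rw [hg]; group
          _ = a ^ i * z * b ^ v := by rw [h]; group
          _ = g * z := by rw [mul_assoc, ← hzC (b ^ v), ← mul_assoc, hg]
      have hb2 : g * b ^ (2 : ℤ) = b ^ (2 : ℤ) * g := by
        have : b ^ (2 : ℤ) * g * (b ^ (2 : ℤ))⁻¹ = g := by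
          calc b ^ (2 : ℤ) * g * (b ^ (2 : ℤ))⁻¹ = b * (b * g * b⁻¹) * b⁻¹ := by rw [zpow_ofNat, sq]; group
            _ = b * g * b⁻¹ * (b * z * b⁻¹) := by conv_lhs => rw [hgb]
                                                  group
            _ = g := by rw [hgb, hzC b, mul_inv_cancel_right, mul_assoc, hz, mul_one]
        exact (mul_inv_eq_iff_eq_mul.1 this).symm
      obtain ⟨α, β, γ, hrel', hodd'⟩ := rel3 hr hb2 (hzC g) (hzC (b ^ (2 : ℤ)))
      by_cases hα : Odd α
      · exfalso
        rw [zpow_eq_self_of_odd hgg hα, mul_assoc] at hrel'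
        have hgc : g * b = b * g := by
          rw [eq_inv_of_mul_eq_one_left hrel']
          refine (Commute.inv_left ?_).eq
          refine (Commute.zpow_left ?_ _).mul_left ((Commute.zpow_left (hzC b).symm _))
          exact (Commute.refl b).zpow_left 2
        rw [← hgc, mul_inv_cancel_right] at hgb
        exact hz1 (left_eq_mul.1 hgb)
      · rw [Int.not_odd_iff_even] at hα
        rw [zpow_eq_one_of_even hgg hα, one_mul] at hrel'
        by_cases hγ : Odd γ
        · rw [zpow_eq_self_of_odd hz hγ, ← eq_inv_iff_mul_eq_one, hzinv] at hrel'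
          refine caseA ⟨b, hrel' ▸ zpow_mem (zpow_mem (Subgroup.mem_zpowers b) _) _, fun e => ?_⟩
          rw [e, ← hzC g, mul_inv_cancel_right] at hgb
          exact hz1 (left_eq_mul.1 hgb)
        · rw [Int.not_odd_iff_even] at hγ
          rw [zpow_eq_one_of_even hz hγ, mul_one] at hrel'
          have hβ : Odd β := by
            rcases hodd' with h | h | h
            · exact absurd h (Int.not_odd_iff_even.2 hα)
            · exact h
            · exact absurd h (Int.not_odd_iff_even.2 hγ)
          have hbb : b ^ (2 : ℤ) = 1 := by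
            have := mem_zpowers_of_odd_zpow h2 (g := b ^ (2 : ℤ)) hβ
            rwa [hrel', Subgroup.zpowers_one_eq_bot, Subgroup.mem_bot] at this
          rw [zpow_ofNat, sq] at hbb
          refine caseA ⟨g * b, ?_, fun e => ?_⟩
          · have hsq : (g * b) * (g * b) = z := by
              calc g * b * (g * b) = g * (b * g * b⁻¹) * (b * b) := by group
                _ = z := by rw [hgb, hbb, mul_one, ← mul_assoc, hgg, one_mul]
            exact hsq ▸ mul_mem (Subgroup.mem_zpowers _) (Subgroup.mem_zpowers _)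
          · have hbz : b = g⁻¹ * z := by rw [← e, inv_mul_cancel_left]
            rw [hbz, hzC g⁻¹, mul_assoc z, inv_mul_cancel, mul_one, mul_inv_rev, inv_inv, ← mul_assoc,
              ← hzC g, mul_inv_cancel_right] at hgb
            exact hz1 (left_eq_mul.1 hgb)
  · exfalso
    -- `b` is a power of `a` modulo `z`
    have hbj : b ^ j = ((a ^ (2 : ℤ)) ^ i)⁻¹ * (z ^ k)⁻¹ := by
      rw [← inv_inv (b ^ j)]
      have : (a ^ (2 : ℤ)) ^ i * b ^ j = (z ^ k)⁻¹ := eq_inv_of_mul_eq_one_left hrel
      rw [inv_inv, ← this, inv_mul_cancel_left]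
    have hC : b ^ j ∈ Subgroup.centralizer ({a} : Set G) := by
      rw [hbj, Subgroup.mem_centralizer_singleton_iff]
      exact ((((Commute.refl a).zpow_left 2).zpow_left i).inv_left.mul_left
        ((Commute.zpow_left (hzC a).symm k).inv_left)).eq
    have hb : b * a = a * b := Subgroup.mem_centralizer_singleton_iff.1
      (Subgroup.zpowers_le.2 hC (mem_zpowers_of_odd_zpow h2 hj))
    rw [hb, mul_inv_cancel_right] at hab
    exact hz1 (left_eq_mul.1 hab)

theorem main_aux (n : ℕ) : ∀ (S : Type u) [Group S] [Finite S], Nat.card S = n → IsPGroup 2 S →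
    Cfsg.SectionalPRankLE 2 2 S → Cfsg.IsMetacyclic S := by
  induction n using Nat.strong_induction_on with
  | _ n IH =>
    intro S _ _ hn h2 hr
    have hf2 : Fact (Nat.Prime 2) := ⟨Nat.prime_two⟩
    by_cases hab : ∀ x y : S, x * y = y * x
    · -- abelian: the Frattini quotient has order at most four
      let : CommGroup S := { (inferInstance : Group S) with mul_comm := hab }
      let N : Subgroup S := (powMonoidHom 2 : S →* S).range
      have hsq : ∀ q : S ⧸ N, q ^ 2 = 1 := fun q => by
        induction q using QuotientGroup.induction_on with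
        | H h => rw [← QuotientGroup.mk_pow, QuotientGroup.eq_one_iff]; exact ⟨h, rfl⟩
      have hcard : Nat.card (S ⧸ N) ≤ 4 := by
        let φ : (⊤ : Subgroup S) →* S ⧸ N := (QuotientGroup.mk' N).comp (⊤ : Subgroup S).subtype
        have hφ : Function.Surjective φ := fun q => by
          obtain ⟨x, rfl⟩ := QuotientGroup.mk'_surjective N q
          exact ⟨⟨x, trivial⟩, rfl⟩
        rw [← Nat.card_congr (QuotientGroup.quotientKerEquivOfSurjective φ hφ).toEquiv,
          ← Subgroup.card_top]
        refine hr ⊤ φ.ker ⊤ ⟨⟨fun a b => Subtype.ext ?_⟩⟩ (fun a _ => ?_)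
        · exact (QuotientGroup.quotientKerEquivOfSurjective φ hφ).injective
            (by rw [Subgroup.coe_mul, Subgroup.coe_mul, map_mul, map_mul, mul_comm])
        · exact (QuotientGroup.quotientKerEquivOfSurjective φ hφ).injective
            (by rw [map_pow, hsq, map_one])
      obtain ⟨a, b, hab'⟩ : ∃ a b : S, ∀ q : S ⧸ N, q = 1 ∨ q = (a : S ⧸ N) ∨ q = (b : S ⧸ N) ∨
          q = ((a * b : S) : S ⧸ N) := by
        classical
        have : Fintype (S ⧸ N) := Fintype.ofFinite _
        by_cases h : ∀ q : S ⧸ N, q = 1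
        · exact ⟨1, 1, fun q => Or.inl (h q)⟩
        push Not at h
        obtain ⟨qa, hqa⟩ := h
        obtain ⟨a, rfl⟩ := QuotientGroup.mk'_surjective N qa
        by_cases h : ∀ q : S ⧸ N, q = 1 ∨ q = (a : S ⧸ N)
        · exact ⟨a, 1, fun q => (h q).elim Or.inl (fun e => Or.inr (Or.inl e))⟩
        push Not at h
        obtain ⟨qb, hqb1, hqba⟩ := h
        obtain ⟨b, rfl⟩ := QuotientGroup.mk'_surjective N qb
        refine ⟨a, b, fun q => ?_⟩
        by_contra hc
        push Not at hc
        obtain ⟨c1, c2, c3, c4⟩ := hc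
        simp only [QuotientGroup.mk'_apply] at hqa hqb1 hqba
        have n1 : ((a * b : S) : S ⧸ N) ≠ 1 := fun e => hqba (by
          rw [QuotientGroup.mk_mul] at e
          calc ((b : S) : S ⧸ N) = (a : S ⧸ N) * ((a : S ⧸ N) * (b : S ⧸ N)) := by
                rw [← mul_assoc, ← sq, hsq, one_mul]
            _ = _ := by rw [e, mul_one])
        have n2 : ((a * b : S) : S ⧸ N) ≠ (a : S ⧸ N) := fun e => hqb1 (by
          rw [QuotientGroup.mk_mul] at e
          exact mul_eq_left.1 e)
        have n3 : ((a * b : S) : S ⧸ N) ≠ (b : S ⧸ N) := fun e => hqa (by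
          rw [QuotientGroup.mk_mul] at e
          exact mul_eq_right.1 e)
        have h5 : ({1, (a : S ⧸ N), (b : S ⧸ N), ((a * b : S) : S ⧸ N), q} : Finset (S ⧸ N)).card = 5 := by
          rw [Finset.card_insert_of_notMem (by
              simp only [Finset.mem_insert, Finset.mem_singleton, not_or]
              exact ⟨Ne.symm hqa, Ne.symm hqb1, Ne.symm n1, Ne.symm c1⟩),
            Finset.card_insert_of_notMem (by
              simp only [Finset.mem_insert, Finset.mem_singleton, not_or]
              exact ⟨Ne.symm hqba, Ne.symm n2, Ne.symm c2⟩),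
            Finset.card_insert_of_notMem (by
              simp only [Finset.mem_insert, Finset.mem_singleton, not_or]
              exact ⟨Ne.symm n3, Ne.symm c3⟩),
            Finset.card_insert_of_notMem (by simpa using Ne.symm c4), Finset.card_singleton]
        have := Finset.card_le_univ ({1, (a : S ⧸ N), (b : S ⧸ N), ((a * b : S) : S ⧸ N), q} : Finset (S ⧸ N))
        rw [h5, ← Nat.card_eq_fintype_card] at this
        omega
      refine metacyclic_of_two_gen (x := a) (y := b) ?_ inferInstance
      set K : Subgroup S := Subgroup.closure {a, b}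
      have key : ∀ (m : ℕ) (x : S), ∃ k ∈ K, ∃ w : S, x = k * w ^ 2 ^ m := by
        intro m
        induction m with
        | zero => exact fun x => ⟨1, one_mem _, x, by simp⟩
        | succ m ih =>
          intro x
          obtain ⟨k, hk, w, rfl⟩ := ih x
          obtain ⟨c, hc, hcw⟩ : ∃ c ∈ K, (c : S ⧸ N) = (w : S ⧸ N) := by
            rcases hab' (w : S ⧸ N) with e | e | e | e
            · exact ⟨1, one_mem _, e.symm⟩
            · exact ⟨a, Subgroup.subset_closure (by simp), e.symm⟩
            · exact ⟨b, Subgroup.subset_closure (by simp), e.symm⟩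
            · exact ⟨a * b, mul_mem (Subgroup.subset_closure (by simp))
                (Subgroup.subset_closure (by simp)), e.symm⟩
          obtain ⟨d, hd⟩ := QuotientGroup.eq.1 hcw
          refine ⟨k * c ^ 2 ^ m, mul_mem hk (pow_mem hc _), d, ?_⟩
          rw [mul_assoc, show d ^ 2 ^ (m + 1) = (c⁻¹ * w) ^ 2 ^ m by
            rw [← hd, powMonoidHom_apply, ← pow_mul, pow_succ'], ← mul_pow, mul_inv_cancel_left]
      rw [eq_top_iff]
      intro x _
      obtain ⟨e, he⟩ := IsPGroup.iff_card.1 h2
      obtain ⟨k, hk, w, rfl⟩ := key e x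
      rwa [← he, pow_card_eq_one', mul_one]
    · -- a central involution in the commutator subgroup
      push Not at hab
      obtain ⟨x, y, hxy⟩ := hab
      have : Group.IsNilpotent S := h2.isNilpotent
      have hcne : commutator S ≠ ⊥ := fun h => hxy (by
        have := Subgroup.commutator_mem_commutator (Subgroup.mem_top x) (Subgroup.mem_top y)
        rw [← commutator_def, h, Subgroup.mem_bot] at this
        exact commutatorElement_eq_one_iff_mul_comm.1 this)
      have hint : ((commutator S) ⊓ Subgroup.center S) ≠ ⊥ :=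
        CfsgLib.PGroups.inf_center_ne_bot (p := 2) h2 hcne
      obtain ⟨z, hzo, hzmem⟩ : ∃ z : S, orderOf z = 2 ∧ z ∈ commutator S ⊓ Subgroup.center S := by
        have hnt := (Subgroup.nontrivial_iff_ne_bot _).2 hint
        obtain ⟨n, hn0, hn'⟩ : ∃ n > 0, Nat.card (commutator S ⊓ Subgroup.center S : Subgroup S) = 2 ^ n :=
          (h2.to_subgroup _).nontrivial_iff_card.1 hnt
        obtain ⟨⟨z, hz⟩, hzo⟩ := exists_prime_orderOf_dvd_card'
          (G := (commutator S ⊓ Subgroup.center S : Subgroup S)) 2 (hn' ▸ dvd_pow_self 2 (by omega))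
        exact ⟨z, by rw [← hzo, Subgroup.orderOf_mk], hz⟩
      have hzK : z ∈ commutator S := hzmem.1
      have hzc : z ∈ Subgroup.center S := hzmem.2
      have hzz : z * z = 1 := by rw [← sq, ← hzo, pow_orderOf_eq_one]
      have hz1 : z ≠ 1 := fun e => by rw [e, orderOf_one] at hzo; omega
      set Z := Subgroup.zpowers z with hZ
      have hZn : Z.Normal := ⟨fun v hv w => by
        obtain ⟨m, rfl⟩ := Subgroup.mem_zpowers_iff.1 hv
        rw [Subgroup.mem_center_iff.1 (zpow_mem hzc m) w, mul_inv_cancel_right]; exact hv⟩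
      have hlt : Nat.card (S ⧸ Z) < n := by
        have hcZ : Nat.card Z = 2 := by rw [hZ, Nat.card_zpowers, hzo]
        have h := Subgroup.card_eq_card_quotient_mul_card_subgroup Z
        rw [hcZ, hn] at h
        have := Nat.card_pos (α := S ⧸ Z)
        omega
      obtain ⟨A, hAn, hAc, hQc⟩ := IH _ hlt (S ⧸ Z) rfl (h2.to_quotient Z)
        (sectional_of_surjective (QuotientGroup.mk'_surjective Z) hr)
      obtain ⟨⟨qa, hqaA⟩, hqa⟩ := hAc.exists_generator
      obtain ⟨a, rfl⟩ := QuotientGroup.mk'_surjective Z qa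
      set B : Subgroup S := A.comap (QuotientGroup.mk' Z) with hB
      have : B.Normal := hAn.comap _
      have hBmem : ∀ g, g ∈ B → ∃ i e : ℤ, g = a ^ i * z ^ e := by
        intro g hg
        obtain ⟨i, hi⟩ := hqa ⟨_, hg⟩
        have hi' : ((a : S) : S ⧸ Z) ^ i = (g : S ⧸ Z) := congrArg Subtype.val hi
        rw [← QuotientGroup.mk_zpow] at hi'
        obtain ⟨e, he⟩ := Subgroup.mem_zpowers_iff.1 (QuotientGroup.eq.1 hi')
        exact ⟨i, e, by rw [he, mul_inv_cancel_left]⟩
      have haB : a ∈ B := hqaA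
      have hzB : z ∈ B := by
        show ((z : S) : S ⧸ Z) ∈ A
        rw [(QuotientGroup.eq_one_iff z).2 (Subgroup.mem_zpowers z)]
        exact one_mem _
      obtain ⟨b, hb⟩ : ∃ b : S, ∀ g : S, ∃ j : ℤ, (b ^ j)⁻¹ * g ∈ B := by
        obtain ⟨qb, hqb⟩ := hQc.exists_generator
        obtain ⟨rb, rfl⟩ := QuotientGroup.mk'_surjective A qb
        obtain ⟨b, rfl⟩ := QuotientGroup.mk'_surjective Z rb
        refine ⟨b, fun g => ?_⟩
        obtain ⟨j, hj⟩ := hqb ((((g : S) : S ⧸ Z)) : (S ⧸ Z) ⧸ A)
        refine ⟨j, ?_⟩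
        have hj' : (((b : S) : S ⧸ Z) : (S ⧸ Z) ⧸ A) ^ j = (((g : S) : S ⧸ Z) : (S ⧸ Z) ⧸ A) := hj
        rw [← QuotientGroup.mk_zpow, ← QuotientGroup.mk_zpow] at hj'
        have := QuotientGroup.eq.1 hj'
        exact this
      by_cases hza : z ∈ Subgroup.zpowers a
      · -- `B` is cyclic
        have hBc : B = Subgroup.zpowers a := by
          refine le_antisymm (fun g hg => ?_) (Subgroup.zpowers_le.2 haB)
          obtain ⟨i, e, rfl⟩ := hBmem g hg
          exact mul_mem (zpow_mem (Subgroup.mem_zpowers a) i) (zpow_mem hza e)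
        refine metacyclic_of_two_gen (x := a) (y := b) ?_ (hBc ▸ (inferInstance : B.Normal))
        rw [eq_top_iff]
        intro g _
        obtain ⟨j, hj⟩ := hb g
        rw [hBc, Subgroup.mem_zpowers_iff] at hj
        obtain ⟨i, hi⟩ := hj
        rw [show g = b ^ j * a ^ i by rw [hi, mul_inv_cancel_left]]
        exact mul_mem (zpow_mem (Subgroup.subset_closure (by simp)) _)
          (zpow_mem (Subgroup.subset_closure (by simp)) _)
      · obtain ⟨i, e, hconj⟩ := hBmem _ (‹B.Normal›.conj_mem a haB b)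
        have hCi : ∀ g : S, g * z = z * g := Subgroup.mem_center_iff.1 hzc
        -- the commutator subgroup is generated by `c`
        set c := a ^ (i - 1) * z ^ e with hc
        have hac : b * a * b⁻¹ = a * c := by
          rw [hconj, hc, ← mul_assoc, ← zpow_one_add, add_sub_cancel]
        have hza' : ∀ l m : ℤ, a ^ l * z ^ m = 1 → z ^ m = 1 := by
          intro l m h
          rcases Int.even_or_odd m with hm | hm
          · exact zpow_eq_one_of_even hzz hm
          · rw [zpow_eq_self_of_odd hzz hm] at h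
            exact absurd ⟨-l, show a ^ (-l) = z by rw [zpow_neg, inv_eq_of_mul_eq_one_right h]⟩ hza
        have hiodd : Odd i := by
          by_contra hie
          rw [Int.not_odd_iff_even] at hie
          obtain ⟨m, hm⟩ := hie
          have h1 : (b * a * b⁻¹) ^ (2 : ℤ) = a ^ (i * 2) := by
            rw [hconj, Commute.mul_zpow (Commute.zpow_zpow (hCi a) i e), ← zpow_mul, ← zpow_mul,
              zpow_eq_one_of_even hzz ⟨e, by ring⟩, mul_one]
          obtain ⟨d, hd⟩ := h2 a
          obtain ⟨d', -, hd'⟩ := (Nat.dvd_prime_pow Nat.prime_two).1 (orderOf_dvd_of_pow_eq_one hd)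
          have h3 : ∀ t : ℤ, a ^ t = 1 ↔ (b * a * b⁻¹) ^ t = 1 := fun t => by rw [conj_zpow]; simp
          rcases d' with _ | d'
          · have ha1 : a = 1 := orderOf_eq_one_iff.1 (by rw [hd', pow_zero])
            refine hxy ?_
            have hBz : ∀ g ∈ B, g ∈ Subgroup.center S := fun g hg => by
              obtain ⟨i', e', rfl⟩ := hBmem g hg
              rw [ha1, one_zpow, one_mul]
              exact zpow_mem hzc _
            obtain ⟨jx, hx⟩ := hb x
            obtain ⟨jy, hy⟩ := hb y
            have cx := Subgroup.mem_center_iff.1 (hBz _ hx)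
            have cy := Subgroup.mem_center_iff.1 (hBz _ hy)
            have ex : x = b ^ jx * ((b ^ jx)⁻¹ * x) := (mul_inv_cancel_left _ _).symm
            have ey : y = b ^ jy * ((b ^ jy)⁻¹ * y) := (mul_inv_cancel_left _ _).symm
            rw [ex, ey]
            exact (((Commute.zpow_zpow (Commute.refl b) jx jy).mul_right (cy _)).mul_left
              ((show Commute ((b ^ jx)⁻¹ * x) (b ^ jy) from (cx (b ^ jy)).symm).mul_right (cy _))).eq
          · have h4 : (b * a * b⁻¹) ^ ((2 : ℤ) ^ d') = 1 := by
              rcases d' with _ | d''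
              · exfalso
                have ha2 : a ^ i = 1 := by
                  rw [hm, ← two_mul, zpow_mul, zpow_ofNat]
                  have : a ^ 2 = 1 := by
                    have h := pow_orderOf_eq_one a
                    rwa [hd'] at h
                  rw [this, one_zpow]
                rw [ha2, one_mul] at hconj
                have hba : a = z ^ e := by
                  have h := congrArg (fun t => b⁻¹ * t * b) hconj
                  rw [show b⁻¹ * (b * a * b⁻¹) * b = a by group,
                    Subgroup.mem_center_iff.1 (zpow_mem hzc e) b⁻¹, inv_mul_cancel_right] at h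
                  exact h
                rcases Int.even_or_odd e with he | he
                · rw [zpow_eq_one_of_even hzz he] at hba
                  rw [hba, orderOf_one] at hd'
                  simp at hd'
                · rw [zpow_eq_self_of_odd hzz he] at hba
                  exact hza (hba ▸ Subgroup.mem_zpowers a)
              · rw [pow_succ', zpow_mul, h1, ← zpow_mul, hm,
                  show (m + m) * 2 * (2 : ℤ) ^ d'' = ((2 ^ (d'' + 1 + 1) : ℕ) : ℤ) * m by push_cast; ring,
                  zpow_mul, zpow_natCast, ← hd', pow_orderOf_eq_one, one_zpow]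
            have := orderOf_dvd_iff_zpow_eq_one.2 ((h3 _).2 h4)
            rw [hd', show (2 : ℤ) ^ d' = ((2 ^ d' : ℕ) : ℤ) by simp, Int.natCast_dvd_natCast,
              Nat.pow_dvd_pow_iff_le_right one_lt_two] at this
            omega
        have hcpow : b * c * b⁻¹ ∈ Subgroup.zpowers c := by
          refine Subgroup.mem_zpowers_iff.2 ⟨i, ?_⟩
          have hL : c ^ i = a ^ ((i - 1) * i) * z ^ (e * i) := by
            rw [hc, Commute.mul_zpow (Commute.zpow_zpow (hCi a) _ e), ← zpow_mul, ← zpow_mul]
          have hR : b * c * b⁻¹ = a ^ (i * (i - 1)) * z ^ (e * (i - 1)) * z ^ e := by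
            calc b * c * b⁻¹ = (b * a * b⁻¹) ^ (i - 1) * (b * z ^ e * b⁻¹) := by
                  rw [conj_zpow, hc]; group
              _ = _ := by
                  rw [hconj, Commute.mul_zpow (Commute.zpow_zpow (hCi a) _ e), ← zpow_mul, ← zpow_mul,
                    Subgroup.mem_center_iff.1 (zpow_mem hzc e) b, mul_inv_cancel_right]
          rw [hL, hR, mul_assoc, ← zpow_add, mul_comm i]
          congr 2
          ring
        have hgen : Subgroup.closure ({a, b, z} : Set S) = ⊤ := by
          rw [eq_top_iff]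
          intro g _
          obtain ⟨j, hj⟩ := hb g
          obtain ⟨i', e', hi'⟩ := hBmem _ hj
          rw [show g = b ^ j * (a ^ i' * z ^ e') by rw [← hi', mul_inv_cancel_left]]
          exact mul_mem (zpow_mem (Subgroup.subset_closure (by simp)) _)
            (mul_mem (zpow_mem (Subgroup.subset_closure (by simp)) _)
              (zpow_mem (Subgroup.subset_closure (by simp)) _))
        have hCnormal : (Subgroup.zpowers c).Normal := by
          rw [← Subgroup.normalizer_eq_top_iff, eq_top_iff, ← hgen, Subgroup.closure_le]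
          have hca : a * c = c * a := by
            rw [hc]
            exact (((Commute.refl a).zpow_right (i - 1)).mul_right ((show Commute a z from hCi a).zpow_right e)).eq
          rintro v (rfl | rfl | rfl) <;>
            rw [SetLike.mem_coe, Subgroup.mem_normalizer_iff_map_conj_eq, MonoidHom.map_zpowers]
          · show Subgroup.zpowers (v * c * v⁻¹) = _
            rw [hca, mul_inv_cancel_right]
          · show Subgroup.zpowers (v * c * v⁻¹) = _
            refine Subgroup.eq_of_le_of_card_ge (Subgroup.zpowers_le.2 hcpow) (le_of_eq ?_)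
            rw [Nat.card_zpowers, Nat.card_zpowers, orderOf_injective (MulAut.conj v).toMonoidHom
              (MulAut.conj v).injective c |> fun h => (show orderOf (v * c * v⁻¹) = orderOf c from h)]
          · show Subgroup.zpowers (v * c * v⁻¹) = _
            rw [← hCi c, mul_inv_cancel_right]
        have hcomm : commutator S ≤ Subgroup.zpowers c := by
          refine Subgroup.Normal.quotient_commutative_iff_commutator_le.1 ⟨⟨fun p q => ?_⟩⟩
          have hcq : ∀ g ∈ ({a, b, z} : Set S), ∀ h ∈ ({a, b, z} : Set S),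
              (g : S ⧸ Subgroup.zpowers c) * (h : S ⧸ Subgroup.zpowers c) =
                (h : S ⧸ Subgroup.zpowers c) * (g : S ⧸ Subgroup.zpowers c) := by
            have hba' : (b : S ⧸ Subgroup.zpowers c) * (a : S ⧸ Subgroup.zpowers c) =
                (a : S ⧸ Subgroup.zpowers c) * (b : S ⧸ Subgroup.zpowers c) := by
              rw [← QuotientGroup.mk_mul, ← QuotientGroup.mk_mul,
                show b * a = a * c * b by rw [← hac, inv_mul_cancel_right], QuotientGroup.mk_mul,
                QuotientGroup.mk_mul, (QuotientGroup.eq_one_iff c).2 (Subgroup.mem_zpowers c), mul_one,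
                ← QuotientGroup.mk_mul]
            have hzq : ∀ g : S, (g : S ⧸ Subgroup.zpowers c) * (z : S ⧸ Subgroup.zpowers c) =
                (z : S ⧸ Subgroup.zpowers c) * (g : S ⧸ Subgroup.zpowers c) := fun g =>
              congrArg (fun t : S => (t : S ⧸ Subgroup.zpowers c)) (hCi g)
            rintro g (rfl | rfl | rfl) h (rfl | rfl | rfl) <;>
              first | rfl | exact hba' | exact hba'.symm | exact hzq _ | exact (hzq _).symm
          have htop : Subgroup.closure ((QuotientGroup.mk' (Subgroup.zpowers c)) '' {a, b, z}) = ⊤ := by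
            rw [← MonoidHom.map_closure, hgen, ← MonoidHom.range_eq_map, QuotientGroup.range_mk']
          have : IsMulCommutative (Subgroup.closure
              ((QuotientGroup.mk' (Subgroup.zpowers c)) '' {a, b, z})) :=
            Subgroup.isMulCommutative_closure (by
              rintro _ ⟨g, hg, rfl⟩ _ ⟨h, hh, rfl⟩
              exact hcq g hg h hh)
          exact congrArg Subtype.val (this.is_comm.comm ⟨p, htop ▸ Subgroup.mem_top p⟩
            ⟨q, htop ▸ Subgroup.mem_top q⟩)
        obtain ⟨m, hm⟩ := Subgroup.mem_zpowers_iff.1 (hcomm hzK)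
        have hm' : a ^ ((i - 1) * m) * z ^ (e * m) = z := by
          rw [zpow_mul, zpow_mul, ← Commute.mul_zpow (Commute.zpow_zpow (hCi a) _ e), ← hc, hm]
        have hcz : c = z := by
          rcases Int.even_or_odd (e * m) with h | h
          · rw [zpow_eq_one_of_even hzz h, mul_one] at hm'
            exact absurd ⟨_, hm'⟩ hza
          · have he : Odd e := (Int.odd_mul.1 h).1
            have hmo : Odd m := (Int.odd_mul.1 h).2
            rw [zpow_eq_self_of_odd hzz h, mul_eq_right] at hm'
            have : (a ^ (i - 1)) ^ m = 1 := by rw [← zpow_mul, hm']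
            have h1 := mem_zpowers_of_odd_zpow h2 (g := a ^ (i - 1)) hmo
            rw [this, Subgroup.zpowers_one_eq_bot, Subgroup.mem_bot] at h1
            rw [hc, h1, one_mul, zpow_eq_self_of_odd hzz he]
        rw [hcz] at hac
        refine small_derived h2 hr (a := a) (b := b) ?_ hzc hzz hz1 hac
        rw [eq_top_iff, ← hgen, Subgroup.closure_le]
        have hzab : z ∈ Subgroup.closure ({a, b} : Set S) := by
          rw [show z = a⁻¹ * (b * a * b⁻¹) by rw [hac, inv_mul_cancel_left]]
          exact mul_mem (inv_mem (Subgroup.subset_closure (by simp)))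
            (mul_mem (mul_mem (Subgroup.subset_closure (by simp)) (Subgroup.subset_closure (by simp)))
              (inv_mem (Subgroup.subset_closure (by simp))))
        rintro v (rfl | rfl | rfl)
        · exact Subgroup.subset_closure (by simp)
        · exact Subgroup.subset_closure (by simp)
        · exact hzab

theorem main {S : Type u} [Group S] [Finite S] (h2 : IsPGroup 2 S)
    (hr : Cfsg.SectionalPRankLE 2 2 S) : Cfsg.IsMetacyclic S :=
  main_aux _ S rfl h2 hr

end CfsgLib.FgsC.MetaTwo
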