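import Cfsg.Agent.Lib.Base.MinimalNormal
import Cfsg.Agent.Lib.Coprime.Hall

/-!
Hall's theorem on the number of Hall subgroups of a solvable group: the index of the normaliser of
a Hall subgroup is a product of prime powers, each dividing the order of a chief factor and each
congruent to one modulo a prime divisor of the order of the Hall subgroup.
-/

set_option autoImplicit false
set_option linter.style.haveILetI false

open scoped Pointwise

namespace CfsgLib.FgsC.HallCount

open CfsgLib.Coprime CfsgLib.Base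

universe u

variable {G : Type u} [Group G]

/-- An admissible factor in Hall's counting theorem. -/
def Factor (G : Type u) [Group G] (m f : ℕ) : Prop :=
  (∃ q e : ℕ, q.Prime ∧ f = q ^ e) ∧
    (∃ K L : Subgroup G, K.Normal ∧ L.Normal ∧ K < L ∧
      (∀ M : Subgroup G, M.Normal → K ≤ M → M ≤ L → M = K ∨ M = L) ∧ f ∣ K.relIndex L) ∧
    (∃ q : ℕ, q.Prime ∧ q ∣ m ∧ f ≡ 1 [MOD q])

/-- A product of admissible factors. -/
def Good (G : Type u) [Group G] (m x : ℕ) : Prop :=
  ∃ l : List ℕ, x = l.prod ∧ ∀ f ∈ l, Factor G m f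

theorem Good.one {m : ℕ} : Good G m 1 := ⟨[], rfl, by simp⟩

theorem Good.mul {m x y : ℕ} (hx : Good G m x) (hy : Good G m y) : Good G m (x * y) := by
  obtain ⟨l, rfl, hl⟩ := hx
  obtain ⟨l', rfl, hl'⟩ := hy
  exact ⟨l ++ l', List.prod_append.symm, fun f hf => by
    rcases List.mem_append.1 hf with h | h
    exacts [hl f h, hl' f h]⟩

theorem Good.singleton {m f : ℕ} (h : Factor G m f) : Good G m f :=
  ⟨[f], by simp, by simpa using h⟩

/-- Factors lift along a surjection and to multiples of `m`. -/
theorem Good.lift {G' : Type u} [Group G'] {φ : G →* G'} (hφ : Function.Surjective φ) {m m' x : ℕ}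
    (hd : m' ∣ m) (h : Good G' m' x) : Good G m x := by
  obtain ⟨l, hx, hl⟩ := h
  refine ⟨l, hx, fun f hf => ?_⟩
  obtain ⟨hq, ⟨K, L, hK, hL, hlt, hchief, hdvd⟩, ⟨q, hq1, hq2, hq3⟩⟩ := hl f hf
  refine ⟨hq, ⟨K.comap φ, L.comap φ, hK.comap φ, hL.comap φ,
    Subgroup.comap_lt_comap_of_surjective hφ |>.2 hlt, fun M hM h1 h2 => ?_, ?_⟩,
    ⟨q, hq1, hq2.trans hd, hq3⟩⟩
  · have hker : φ.ker ≤ M := (Subgroup.ker_le_comap φ K).trans h1
    have hM' : M = (M.map φ).comap φ := by
      rw [Subgroup.comap_map_eq, sup_eq_left.2 hker]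
    have h1' : K ≤ M.map φ := by
      rw [← Subgroup.map_comap_eq_self_of_surjective hφ K]; exact Subgroup.map_mono h1
    have h2' : M.map φ ≤ L := by
      rw [← Subgroup.map_comap_eq_self_of_surjective hφ L]; exact Subgroup.map_mono h2
    rcases hchief _ (hM.map φ hφ) h1' h2' with h | h
    · exact Or.inl (by rw [hM', h])
    · exact Or.inr (by rw [hM', h])
  · rwa [Subgroup.relIndex_comap, Subgroup.map_comap_eq_self_of_surjective hφ]

variable [Finite G]

/-- A solvable group of operators coprime to a minimal normal `q`-subgroup. -/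
theorem good_relIndex_centralizer [Group.IsSolvable G] {N : Subgroup G}
    (hN : IsMinimalNormal N) {q : ℕ} [hq : Fact q.Prime] (hNq : IsPGroup q N) {m : ℕ}
    (J : Subgroup G) (hJ : ¬ q ∣ Nat.card J) (hJm : Nat.card J ∣ m) :
    Good G m ((N ⊓ Subgroup.centralizer (J : Set G)).relIndex N) := by
  classical
  haveI := hN.normal
  induction hn : Nat.card J using Nat.strong_induction_on generalizing J with
  | _ n ih =>
  by_cases hbot : J = ⊥
  · subst hbot
    have : (N : Subgroup G) ⊓ Subgroup.centralizer ((⊥ : Subgroup G) : Set G) = N := by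
      refine inf_eq_left.2 fun x _ => Subgroup.mem_centralizer_iff.2 fun a ha => ?_
      rw [Subgroup.mem_bot.1 ha, one_mul, mul_one]
    rw [this, Subgroup.relIndex_self]
    exact Good.one
  haveI : Nontrivial J := (Subgroup.nontrivial_iff_ne_bot J).2 hbot
  -- a normal coatom `K` of `J` and a prime power element outside it
  obtain ⟨K', hK'max, hK'le⟩ := (eq_top_or_exists_le_coatom (commutator J)).resolve_left
    (Group.IsSolvable.commutator_lt_top_of_nontrivial J).ne
  have hK'n : K'.Normal := Subgroup.Normal.of_commutator_le J hK'le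
  set K : Subgroup G := K'.map J.subtype with hKdef
  have hKJ : K ≤ J := Subgroup.map_subtype_le K'
  have hKlt : Nat.card K < Nat.card J := by
    rw [hKdef, Subgroup.card_subtype]
    exact lt_of_le_of_ne (Subgroup.card_le_card_group K')
      (fun e => hK'max.1 (Subgroup.eq_top_of_card_eq K' e))
  obtain ⟨p, hp, ⟨x, hxK, hxp⟩⟩ : ∃ p : ℕ, p.Prime ∧
      ∃ x : J, x ∉ K' ∧ ∃ k, orderOf x = p ^ k := by
    by_contra hall
    push Not at hall
    have hP : ∀ (p : ℕ) (_ : p.Prime), ∀ (P : Sylow p J), (P : Subgroup J) ≤ K' := by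
      intro p hp P y hy
      haveI := Fact.mk hp
      by_contra hy'
      obtain ⟨k, hk⟩ := IsPGroup.iff_orderOf.1 P.isPGroup' ⟨y, hy⟩
      exact hall p hp y hy' k (by simpa using hk)
    apply hK'max.1
    apply Subgroup.eq_top_of_card_eq
    refine Nat.dvd_antisymm (Subgroup.card_subgroup_dvd_card K') ?_
    rw [← Nat.factorization_le_iff_dvd Nat.card_pos.ne' Nat.card_pos.ne']
    intro p
    by_cases hp : p.Prime
    · haveI := Fact.mk hp
      obtain ⟨P⟩ : Nonempty (Sylow p J) := inferInstance
      have h := Subgroup.card_dvd_of_le (hP p hp P)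
      rw [P.card_eq_multiplicity] at h
      exact (hp.pow_dvd_iff_le_factorization Nat.card_pos.ne').1 h
    · simp [Nat.factorization_eq_zero_of_not_prime _ hp]
  haveI := Fact.mk hp
  obtain ⟨k, hk⟩ := hxp
  have hxne : orderOf x ≠ 1 := fun h => hxK (by rw [orderOf_eq_one_iff.1 h]; exact K'.one_mem)
  have hpJ : p ∣ Nat.card J :=
    (dvd_pow_self p (fun h0 : k = 0 => hxne (by rw [hk, h0, pow_zero]))).trans
      (hk ▸ orderOf_dvd_natCard x)
  have hpq : p ≠ q := fun h => hJ (h ▸ hpJ)
  set a : G := (x : G) with hadef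
  have hJgen : J ≤ K ⊔ Subgroup.zpowers a := by
    have h1 : K' ⊔ Subgroup.zpowers x = ⊤ := hK'max.2 _ (lt_of_le_of_ne le_sup_left fun e =>
      hxK (e ▸ (le_sup_right : Subgroup.zpowers x ≤ _) (Subgroup.mem_zpowers x)))
    have := congrArg (Subgroup.map J.subtype) h1
    rw [Subgroup.map_sup, ← MonoidHom.range_eq_map, Subgroup.range_subtype,
      MonoidHom.map_zpowers] at this
    exact this.symm.le
  set C := N ⊓ Subgroup.centralizer (K : Set G) with hCdef
  set C' := N ⊓ Subgroup.centralizer (J : Set G) with hC'def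
  have hle : C' ≤ C := inf_le_inf_left N (Subgroup.centralizer_le hKJ)
  have hinv : ∀ b ∈ Subgroup.zpowers a, ∀ c ∈ C, b * c * b⁻¹ ∈ C := by
    intro b hb c hc
    refine ⟨Subgroup.Normal.conj_mem inferInstance c hc.1 b, Subgroup.mem_centralizer_iff.2 ?_⟩
    intro y hy
    obtain ⟨i, rfl⟩ := Subgroup.mem_zpowers_iff.1 hb
    have hy' : a ^ (-i) * y * a ^ i ∈ K := by
      obtain ⟨y', hy', rfl⟩ := hy
      exact ⟨x ^ (-i) * y' * x ^ i, by
        simpa [zpow_neg] using hK'n.conj_mem y' hy' (x ^ (-i)), by simp [hadef]⟩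
    have h := Subgroup.mem_centralizer_iff.1 hc.2 _ hy'
    rw [zpow_neg] at h
    have h2 := congrArg (fun z => a ^ i * z * (a ^ i)⁻¹) h
    simp only [mul_assoc, mul_inv_cancel_left, mul_inv_cancel, mul_one] at h2
    simpa [mul_assoc] using h2
  letI : MulAction (Subgroup.zpowers a) C :=
    { smul := fun b c => ⟨b * c * (b : G)⁻¹, hinv b b.2 c c.2⟩
      one_smul := fun c => Subtype.ext (by
        show ((1 : Subgroup.zpowers a) : G) * c * ((1 : Subgroup.zpowers a) : G)⁻¹ = c
        simp)
      mul_smul := fun b b' c => Subtype.ext (by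
        show ((b * b' : Subgroup.zpowers a) : G) * c * ((b * b' : Subgroup.zpowers a) : G)⁻¹
          = (b : G) * ((b' : G) * c * (b' : G)⁻¹) * (b : G)⁻¹
        simp [mul_assoc]) }
  have hfix : ∀ c : C, c ∈ MulAction.fixedPoints (Subgroup.zpowers a) C ↔ (c : G) ∈ C' := by
    intro c
    constructor
    · intro hc
      refine ⟨c.2.1, ?_⟩
      have h1 : K ⊔ Subgroup.zpowers a ≤ Subgroup.centralizer ({(c : G)} : Set G) := by
        refine sup_le (fun y hy => Subgroup.mem_centralizer_singleton_iff.2
          (Subgroup.mem_centralizer_iff.1 c.2.2 y hy)) ?_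
        rw [Subgroup.zpowers_le, Subgroup.mem_centralizer_singleton_iff]
        have := congrArg Subtype.val (hc ⟨a, Subgroup.mem_zpowers a⟩)
        change a * (c : G) * a⁻¹ = c at this
        exact mul_inv_eq_iff_eq_mul.1 this
      exact Subgroup.mem_centralizer_iff.2 fun y hy =>
        Subgroup.mem_centralizer_singleton_iff.1 (h1 (hJgen hy))
    · intro hc b
      refine Subtype.ext ?_
      show (b : G) * c * (b : G)⁻¹ = c
      have hb : (b : G) ∈ J := Subgroup.zpowers_le.2 x.2 b.2
      rw [Subgroup.mem_centralizer_iff.1 hc.2 _ hb, mul_inv_cancel_right]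
  have hP : IsPGroup p (Subgroup.zpowers a) :=
    IsPGroup.of_card (n := k) (by rw [Nat.card_zpowers, hadef, Subgroup.orderOf_coe, hk])
  have hmod := hP.card_modEq_card_fixedPoints C
  rw [Nat.card_congr (Equiv.subtypeEquivRight hfix)] at hmod
  have hC' : Nat.card {c : C // (c : G) ∈ C'} = Nat.card C' :=
    Nat.card_congr (Subgroup.subgroupOfEquivOfLe hle).toEquiv
  rw [hC'] at hmod
  have hcard : Nat.card C' * C'.relIndex C = Nat.card C := by
    rw [← Subgroup.relIndex_bot_left, Subgroup.relIndex_mul_relIndex _ _ _ bot_le hle,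
      Subgroup.relIndex_bot_left]
  obtain ⟨e', he'⟩ := IsPGroup.iff_card.1 (hNq.to_le (inf_le_left : C' ≤ N))
  have hcop : p.Coprime (Nat.card C') := by
    rw [he']; exact Nat.Coprime.pow_right _ ((Nat.coprime_primes hp hq.out).2 hpq)
  have hfd : C'.relIndex C ∣ Nat.card N :=
    (Dvd.intro_left _ hcard).trans (Subgroup.card_dvd_of_le inf_le_left)
  obtain ⟨e, he⟩ := IsPGroup.iff_card.1 hNq
  obtain ⟨i, -, hi⟩ := (Nat.dvd_prime_pow hq.out).1 (he ▸ hfd)
  have hmodf : C'.relIndex C ≡ 1 [MOD p] := by
    refine Nat.ModEq.cancel_left_of_coprime (c := Nat.card C') hcop ?_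
    rw [hcard, mul_one]
    exact hmod
  have hfac : Factor G m (C'.relIndex C) :=
    ⟨⟨q, i, hq.out, hi⟩, ⟨⊥, N, inferInstance, inferInstance, bot_lt_iff_ne_bot.2 hN.ne_bot,
      fun M hM _ hMN => hN.eq_bot_or_eq hM hMN, by rwa [Subgroup.relIndex_bot_left]⟩,
      ⟨p, hp, hpJ.trans hJm, hmodf⟩⟩
  rw [← Subgroup.relIndex_mul_relIndex C' C N hle inf_le_left]
  refine (Good.singleton hfac).mul ?_
  exact ih _ (hn ▸ hKlt) K (fun h => hJ (h.trans (Subgroup.card_dvd_of_le hKJ)))
    ((Subgroup.card_dvd_of_le hKJ).trans hJm) rfl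

theorem good_index_normalizer_aux (k : ℕ) : ∀ (G : Type u) [Group G] [Finite G]
    [Group.IsSolvable G], Nat.card G ≤ k → ∀ H : Subgroup G, (Nat.card H).Coprime H.index →
    Good G (Nat.card H) (Subgroup.normalizer (H : Set G)).index := by
  induction k with
  | zero => intro G _ _ _ h; exact absurd h (Nat.not_le.2 Nat.card_pos)
  | succ k ih =>
  intro G _ _ _ hG H hcop
  rcases subsingleton_or_nontrivial G with hs | hs
  · rw [Subsingleton.elim (Subgroup.normalizer (H : Set G)) ⊤, Subgroup.index_top]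
    exact Good.one
  obtain ⟨N, hN⟩ := exists_isMinimalNormal (G := G)
  haveI := hN.normal
  obtain ⟨q, hq, -, -, hNq⟩ := hN.exists_prime inferInstance
  haveI := Fact.mk hq
  set f := QuotientGroup.mk' N with hf
  have hsurj : Function.Surjective f := QuotientGroup.mk'_surjective N
  have hlt : Nat.card (G ⧸ N) < Nat.card G := by
    rw [Subgroup.card_eq_card_quotient_mul_card_subgroup N]
    exact lt_mul_of_one_lt_right Nat.card_pos
      (by haveI := (Subgroup.nontrivial_iff_ne_bot N).2 hN.ne_bot; exact Finite.one_lt_card)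
  have hdvd : Nat.card (H.map f) ∣ Nat.card H := Subgroup.card_map_dvd _ _
  have hcop' : (Nat.card (H.map f)).Coprime (H.map f).index :=
    (hcop.coprime_dvd_left hdvd).coprime_dvd_right (Subgroup.index_map_dvd H hsurj)
  have h1 := (ih (G ⧸ N) (by omega) (H.map f) hcop').lift hsurj hdvd
  set A := Subgroup.normalizer (H : Set G) with hA
  -- Frattini: the preimage of the normaliser of the image
  have hnorm : (Subgroup.normalizer ((H.map f : Subgroup (G ⧸ N)) : Set (G ⧸ N))).comap f
      = A ⊔ N := by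
    rw [Subgroup.comap_normalizer_eq_of_surjective (H.map f) hsurj, Subgroup.comap_map_eq,
      hf, QuotientGroup.ker_mk']
    apply le_antisymm
    · intro g hg
      set L := H ⊔ N with hL
      have hgL : MulAut.conj g • H ≤ L := conj_smul_le_iff.2 fun h hh =>
        (Subgroup.mem_normalizer_iff.1 hg h).1 (Subgroup.mem_sup_left hh)
      haveI : Group.IsSolvable L :=
        Group.isSolvable_of_isSolvable_injective L.subtype_injective
      have hπ : Cfsg.IsPiHall {p | p ∣ Nat.card H} (H.subgroupOf L) :=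
        piHall_of_coprime_relIndex le_sup_left
          (hcop.coprime_dvd_right (Subgroup.relIndex_dvd_index_of_le le_sup_left))
      have hπ' : Cfsg.IsPiHall {p | p ∣ Nat.card H} ((MulAut.conj g • H).subgroupOf L) :=
        piHall_of_card_eq hπ (by
          rw [Nat.card_congr (Subgroup.subgroupOfEquivOfLe hgL).toEquiv, card_conj_smul,
            Nat.card_congr (Subgroup.subgroupOfEquivOfLe (le_sup_left : H ≤ L)).toEquiv])
      obtain ⟨l, hl⟩ := (hallD_of_solvable _).conj hπ hπ'
      have h' := conj_smul_map L.subtype l (H.subgroupOf L)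
      rw [hl, Subgroup.map_subgroupOf_eq_of_le le_sup_left,
        Subgroup.map_subgroupOf_eq_of_le hgL] at h'
      have hfix : MulAut.conj ((l : G)⁻¹ * g) • H = H := by
        rw [map_mul, mul_smul, ← h', ← mul_smul, ← map_mul, Subgroup.subtype_apply,
          inv_mul_cancel, map_one, one_smul]
      have hn : (l : G)⁻¹ * g ∈ A := by
        rw [hA, Subgroup.mem_normalizer_iff]
        intro x
        conv_rhs => rw [← hfix, mem_conj_smul]
        group
      have hLA : L ≤ A ⊔ N := sup_le (Subgroup.le_normalizer.trans le_sup_left) le_sup_right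
      have := Subgroup.mul_mem _ (hLA l.2) (Subgroup.mem_sup_left hn (T := N))
      rwa [mul_inv_cancel_left] at this
    · refine sup_le ?_ (le_sup_right.trans Subgroup.le_normalizer)
      intro g hg
      rw [Subgroup.mem_normalizer_iff_map_conj_eq, Subgroup.map_sup]
      rw [hA, Subgroup.mem_normalizer_iff_map_conj_eq] at hg
      have hgN := (Subgroup.mem_normalizer_iff_map_conj_eq (H := N) (g := g)).1
        (by rw [Subgroup.normalizer_eq_top_iff.2 hN.normal]; trivial)
      rw [hg, hgN]
  have hidx : (A ⊔ N).index = (Subgroup.normalizer ((H.map f : Subgroup _) : Set (G ⧸ N))).index := by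
    rw [← hnorm, Subgroup.index_comap_of_surjective _ hsurj]
  have hrel : A.relIndex (A ⊔ N) = (A ⊓ N).relIndex N := by
    have e1 : Nat.card A * A.relIndex (A ⊔ N) = Nat.card ↥(A ⊔ N) := by
      rw [← Subgroup.relIndex_bot_left, Subgroup.relIndex_mul_relIndex _ _ _ bot_le le_sup_left,
        Subgroup.relIndex_bot_left]
    have e2 : Nat.card N * N.relIndex A = Nat.card ↥(A ⊔ N) := by
      rw [← Subgroup.relIndex_bot_left, ← Subgroup.relIndex_sup_right A N,
        Subgroup.relIndex_mul_relIndex _ _ _ bot_le le_sup_right, Subgroup.relIndex_bot_left]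
    have e3 : Nat.card ↥(A ⊓ N) * N.relIndex A = Nat.card A := by
      rw [← Subgroup.relIndex_bot_left, ← Subgroup.inf_relIndex_left A N,
        Subgroup.relIndex_mul_relIndex _ _ _ bot_le inf_le_left, Subgroup.relIndex_bot_left]
    have e4 : Nat.card ↥(A ⊓ N) * (A ⊓ N).relIndex N = Nat.card N := by
      rw [← Subgroup.relIndex_bot_left, Subgroup.relIndex_mul_relIndex _ _ _ bot_le inf_le_right,
        Subgroup.relIndex_bot_left]
    rw [← e3] at e1
    rw [← e4, ← e1] at e2
    have hpos : 0 < Nat.card ↥(A ⊓ N) * N.relIndex A := by rw [e3]; exact Nat.card_pos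
    apply Nat.eq_of_mul_eq_mul_left hpos
    rw [← e2]
    ring
  rw [← Subgroup.relIndex_mul_index (le_sup_left : A ≤ A ⊔ N), hidx, hrel]
  refine Good.mul ?_ h1
  by_cases hqH : q ∣ Nat.card H
  · have hNH : N ≤ H := by
      have hπN : Cfsg.IsPiSubgroup {p | p ∣ Nat.card H} N := fun r hr hrd => by
        obtain ⟨e, he⟩ := IsPGroup.iff_card.1 hNq
        rw [he] at hrd
        rw [(Nat.prime_dvd_prime_iff_eq hr hq).1 (hr.dvd_of_dvd_pow hrd)]
        exact hqH
      obtain ⟨g, hg⟩ := (hallD_of_solvable _).conj_le hπN (piHall_of_coprime_index hcop)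
      intro y hy
      have := conj_smul_le_iff.1 hg _ (hN.normal.conj_mem y hy g⁻¹)
      simpa [mul_assoc] using this
    rw [inf_eq_right.2 (hNH.trans Subgroup.le_normalizer), Subgroup.relIndex_self]
    exact Good.one
  · have hdisj : N ⊓ H = ⊥ := Subgroup.inf_eq_bot_of_coprime (by
      obtain ⟨e, he⟩ := IsPGroup.iff_card.1 hNq
      rw [he]
      exact Nat.Coprime.pow_left _ (hq.coprime_iff_not_dvd.2 hqH))
    have heq : A ⊓ N = N ⊓ Subgroup.centralizer (H : Set G) := by
      apply le_antisymm
      · rintro n ⟨hn, hnN⟩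
        refine ⟨hnN, Subgroup.mem_centralizer_iff.2 fun h hh => ?_⟩
        have hc : n * h * n⁻¹ * h⁻¹ ∈ N ⊓ H :=
          ⟨by
            have := N.mul_mem hnN (hN.normal.conj_mem _ (N.inv_mem hnN) h)
            simpa [mul_assoc] using this,
            H.mul_mem ((Subgroup.mem_normalizer_iff.1 hn h).1 hh) (H.inv_mem hh)⟩
        rw [hdisj, Subgroup.mem_bot, mul_inv_eq_one, mul_inv_eq_iff_eq_mul] at hc
        exact hc.symm
      · rintro n ⟨hnN, hn⟩
        exact ⟨Subgroup.centralizer_le_normalizer (H : Set G) hn, hnN⟩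
    rw [heq]
    exact good_relIndex_centralizer hN hNq H hqH dvd_rfl

theorem good_index_normalizer [Group.IsSolvable G] (H : Subgroup G)
    (h : (Nat.card H).Coprime H.index) :
    Good G (Nat.card H) (Subgroup.normalizer (H : Set G)).index :=
  good_index_normalizer_aux _ G le_rfl H h

/-- The Hall subgroups of a given order are counted by a normaliser. -/
theorem card_hall_eq_index_normalizer [Group.IsSolvable G] {m n : ℕ} (hG : Nat.card G = m * n)
    (hmn : m.Coprime n) {H : Subgroup G} (hH : Nat.card H = m) :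
    Nat.card {L : Subgroup G // Nat.card L = m} = (Subgroup.normalizer (H : Set G)).index := by
  have hπ := (piHall_iff_card_eq hG hmn H).1 hH
  have hres : ∀ a b : G, (QuotientGroup.leftRel (Subgroup.normalizer (H : Set G))) a b ↔
      MulAut.conj a • H = MulAut.conj b • H := by
    intro a b
    rw [QuotientGroup.leftRel_apply]
    constructor
    · intro h
      have := conj_smul_eq_self_of_mem_normalizer h
      rw [map_mul, mul_smul, map_inv, inv_smul_eq_iff] at this
      exact this.symm
    · intro h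
      have hfix : MulAut.conj (a⁻¹ * b) • H = H := by
        rw [map_mul, mul_smul, ← h, map_inv, inv_smul_smul]
      rw [Subgroup.mem_normalizer_iff]
      intro x
      conv_rhs => rw [← hfix, mem_conj_smul]
      group
  let φ : G ⧸ Subgroup.normalizer (H : Set G) → {L : Subgroup G // Nat.card L = m} :=
    Quotient.lift (fun g => ⟨MulAut.conj g • H, (card_conj_smul g H).trans hH⟩)
      (fun a b h => Subtype.ext ((hres a b).1 h))
  rw [← Nat.card_congr (Equiv.ofBijective φ ⟨?_, ?_⟩)]
  · rfl
  · intro a b h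
    induction a using Quotient.inductionOn
    induction b using Quotient.inductionOn
    exact Quotient.sound ((hres _ _).2 (congrArg Subtype.val h))
  · rintro ⟨L, hL⟩
    obtain ⟨g, hg⟩ := (hallD_of_solvable _).conj hπ ((piHall_iff_card_eq hG hmn L).1 hL)
    exact ⟨⟦g⟧, Subtype.ext hg⟩

theorem exists_hall_card [Group.IsSolvable G] {m n : ℕ} (hG : Nat.card G = m * n)
    (hmn : m.Coprime n) : ∃ H : Subgroup G, Nat.card H = m := by
  obtain ⟨H, hH, -⟩ := hallD_of_solvable (G := G) {p | p ∣ m}
  exact ⟨H, (piHall_iff_card_eq hG hmn H).2 hH⟩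

end CfsgLib.FgsC.HallCount
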