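import Cfsg.Agent.Lib.Transfer.ThompsonComplement
import Cfsg.Agent.Lib.Transfer.Control
import Cfsg.Agent.Lib.Base.ThompsonFPF
import Cfsg.Agent.Lib.Coprime.Action2
import Cfsg.Agent.Lib.PGroups.Basic

/-!
# The theorem of Hughes and Thompson

If all elements outside a proper normal subgroup `H` have order dividing `p` and the group is not a
`p`-group, then `H` is nilpotent of index `p`.
-/

set_option autoImplicit false

open Subgroup Cfsg
open scoped Pointwise commutatorElement

universe u

namespace CfsgLib.FgsC.Hughes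

theorem dvd_card_of_nontrivial {p : ℕ} [Fact p.Prime] {K : Type*} [Group K] [Finite K]
    [Nontrivial K] (h : IsPGroup p K) : p ∣ Nat.card K := by
  obtain ⟨n, hn⟩ := IsPGroup.iff_card.mp h
  rw [hn]
  refine dvd_pow_self p fun h0 => ?_
  rw [h0, pow_zero] at hn
  exact (Finite.one_lt_card).ne' hn

section auto

variable {W : Type*} [CommGroup W]

theorem prod_pow_apply_eq_one {q : ℕ} (Z : MulAut W) (hZ : Z ^ q = 1)
    (hfix : ∀ w, Z w = w → w = 1) (w : W) : ∏ n ∈ Finset.range q, (Z ^ n) w = 1 := by
  apply hfix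
  rw [map_prod]
  have h1 := Finset.prod_range_succ (fun n => (Z ^ n) w) q
  have h2 := Finset.prod_range_succ' (fun n => (Z ^ n) w) q
  rw [h1, hZ, pow_zero] at h2
  have h3 : ∏ n ∈ Finset.range q, (Z ^ (n + 1)) w = ∏ n ∈ Finset.range q, Z ((Z ^ n) w) :=
    Finset.prod_congr rfl fun n _ => by rw [pow_succ', MulAut.mul_apply]
  rw [h3] at h2
  simpa using h2.symm

/-- If all `Y * X ^ i` are fixed-point-free of order `q`, then `X` is trivial. -/
theorem eq_one_of_coset_fixedPointFree [Finite W] {q : ℕ} (hq : q.Prime)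
    (hcop : (Nat.card W).Coprime q) (X Y : MulAut W) (hXY : Commute X Y) (hX : X ^ q = 1)
    (hY : Y ^ q = 1) (hfix : ∀ i : ℕ, ∀ w, (Y * X ^ i) w = w → w = 1) : X = 1 := by
  obtain ⟨r, rfl⟩ : ∃ r, q = r + 1 := ⟨q - 1, by have := hq.pos; omega⟩
  ext v
  have h1 : ∀ i : ℕ, ∏ n ∈ Finset.range (r + 1), ((Y * X ^ i) ^ n) v = 1 := fun i =>
    prod_pow_apply_eq_one _ (by
      rw [(hXY.symm.pow_right i).mul_pow, hY, ← pow_mul, mul_comm i, pow_mul, hX, one_pow,
        one_mul]) (hfix i) v
  have h2 : ∏ n ∈ Finset.range (r + 1), ∏ i ∈ Finset.range (r + 1), ((Y * X ^ i) ^ n) v = 1 := by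
    rw [Finset.prod_comm]; exact Finset.prod_eq_one fun i _ => h1 i
  rw [Finset.prod_range_succ'] at h2
  simp only [pow_zero, MulAut.one_apply, Finset.prod_const, Finset.card_range] at h2
  have hfixed : ∀ n ∈ Finset.range r,
      X (∏ i ∈ Finset.range (r + 1), ((Y * X ^ i) ^ (n + 1)) v)
        = ∏ i ∈ Finset.range (r + 1), ((Y * X ^ i) ^ (n + 1)) v := by
    intro n hn
    set Z := X ^ (n + 1) with hZdef
    have hZq : Z ^ (r + 1) = 1 := by rw [hZdef, ← pow_mul, mul_comm, pow_mul, hX, one_pow]
    have hrw : ∀ i : ℕ, (Y * X ^ i) ^ (n + 1) = Y ^ (n + 1) * Z ^ i := by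
      intro i
      rw [(hXY.symm.pow_right i).mul_pow, hZdef, ← pow_mul, ← pow_mul, mul_comm i]
    simp only [hrw, MulAut.mul_apply]
    rw [← map_prod]
    set s := ∏ i ∈ Finset.range (r + 1), (Z ^ i) v with hs
    have hZs : Z s = s := by
      rw [hs, map_prod]
      have e1 := Finset.prod_range_succ (fun i => (Z ^ i) v) (r + 1)
      have e2 := Finset.prod_range_succ' (fun i => (Z ^ i) v) (r + 1)
      rw [e1, hZq, pow_zero] at e2
      have e3 : ∏ i ∈ Finset.range (r + 1), (Z ^ (i + 1)) v
          = ∏ i ∈ Finset.range (r + 1), Z ((Z ^ i) v) :=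
        Finset.prod_congr rfl fun i _ => by rw [pow_succ', MulAut.mul_apply]
      rw [e3] at e2
      exact mul_right_cancel e2.symm
    have hXs : X s = s := by
      obtain ⟨m, hm⟩ : ∃ m : ℕ, X = Z ^ m := by
        have hco : (n + 1).Coprime (r + 1) := by
          rw [Nat.coprime_comm, hq.coprime_iff_not_dvd]
          intro hd
          have := Nat.le_of_dvd (Nat.succ_pos n) hd
          have := Finset.mem_range.mp hn
          omega
        obtain ⟨m, hm⟩ := Nat.exists_mul_mod_eq_one_of_coprime hco hq.one_lt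
        refine ⟨m, ?_⟩
        conv_rhs => rw [hZdef, ← pow_mul, ← Nat.mod_add_div ((n + 1) * m) (r + 1), hm.2, pow_add,
          pow_mul, hX, one_pow, mul_one, pow_one]
      rw [hm]
      clear hm
      induction m with
      | zero => simp
      | succ m ih => rw [pow_succ, MulAut.mul_apply, hZs, ih]
    rw [← MulAut.mul_apply, (hXY.pow_right (n + 1)).eq, MulAut.mul_apply, hXs]
  have h3 : X (v ^ (r + 1)) = v ^ (r + 1) := by
    have h4 := congrArg X h2
    rw [map_mul, map_one, map_prod, Finset.prod_congr rfl hfixed] at h4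
    exact mul_left_cancel (h4.trans h2.symm)
  rw [map_pow] at h3
  exact (powCoprime hcop).injective h3

end auto

variable {G : Type*} [Group G] [Finite G] {p : ℕ}

omit [Finite G] in
/-- Elements outside `H` centralize no nontrivial element of order prime to `p`. -/
theorem eq_one_of_commute (hp : p.Prime) {H : Subgroup G} (hout : ∀ g ∉ H, g ^ p = 1) {g x : G}
    (hg : g ∉ H) (hx : (orderOf x).Coprime p) (hxH : x ∈ H) (hgx : Commute g x) : x = 1 := by
  have hgxH : g * x ∉ H := fun h => hg ((H.mul_mem_cancel_right hxH).mp h)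
  have h := hout _ hgxH
  rw [hgx.mul_pow, hout g hg, one_mul] at h
  have := hp
  exact orderOf_eq_one_iff.mp (Nat.eq_one_of_dvd_coprimes hx dvd_rfl (orderOf_dvd_of_pow_eq_one h))

/-- The Hughes subgroup has index `p`. -/
theorem index_eq [hp : Fact p.Prime] {H : Subgroup G} [H.Normal] (hG : ¬ IsPGroup p G)
    (hH : H ≠ ⊤) (hout : ∀ g ∉ H, g ^ p = 1) : H.index = p := by
  classical
  have hquot : ∀ x : G ⧸ H, x ^ p = 1 := by
    intro x
    obtain ⟨g, rfl⟩ := QuotientGroup.mk_surjective x
    by_cases hg : g ∈ H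
    · rw [(QuotientGroup.eq_one_iff g).mpr hg, one_pow]
    · rw [← QuotientGroup.mk_pow, hout g hg, QuotientGroup.mk_one]
  have hquotp : IsPGroup p (G ⧸ H) := fun x => ⟨1, by rw [pow_one]; exact hquot x⟩
  by_contra hidx
  obtain ⟨q, hq, hqd, hqp⟩ : ∃ q, q.Prime ∧ q ∣ Nat.card G ∧ q ≠ p := by
    by_contra hc
    push_neg at hc
    exact hG (IsPGroup.of_card (n := (Nat.card G).primeFactorsList.length)
      (Nat.eq_prime_pow_of_unique_prime_dvd Nat.card_pos.ne' fun {d} h1 h2 => hc d h1 h2))
  haveI := Fact.mk hq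
  obtain ⟨Q⟩ : Nonempty (Sylow q G) := inferInstance
  have hQcop : ∀ x ∈ (Q : Subgroup G), (orderOf x).Coprime p := by
    intro x hx
    obtain ⟨k, hk⟩ := IsPGroup.iff_orderOf.mp Q.2 ⟨x, hx⟩
    rw [Subgroup.orderOf_mk] at hk
    rw [hk]
    exact Nat.Coprime.pow_left k ((Nat.coprime_primes hq hp.out).mpr hqp)
  have hQH : (Q : Subgroup G) ≤ H := by
    intro x hx
    by_contra hxH
    exact hxH (by
      rw [orderOf_eq_one_iff.mp (Nat.eq_one_of_dvd_coprimes (hQcop x hx) dvd_rfl
        (orderOf_dvd_of_pow_eq_one (hout x hxH)))]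
      exact H.one_mem)
  set N := normalizer ((Q : Subgroup G) : Set G) with hN
  have hNsup : N ⊔ H = ⊤ := by
    have := Sylow.normalizer_sup_eq_top (Q.subtype hQH)
    rwa [Sylow.coe_subtype, subgroupOf_map_subtype, inf_eq_left.mpr hQH] at this
  obtain ⟨S⟩ : Nonempty (Sylow p N) := inferInstance
  set P0 := (S : Subgroup N).map N.subtype with hP0
  have hP0p : IsPGroup p P0 := S.2.map _
  have hP0N : P0 ≤ N := map_subtype_le _
  have hsur : Function.Surjective ((QuotientGroup.mk' H).comp N.subtype) := by
    intro x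
    obtain ⟨g, rfl⟩ := QuotientGroup.mk'_surjective H x
    obtain ⟨n, hn, h, hh, rfl⟩ := mem_sup_of_normal_right.mp (hNsup ▸ mem_top g)
    exact ⟨⟨n, hn⟩, by simp [(QuotientGroup.eq_one_iff h).mpr hh]⟩
  have hP0top : P0 ⊔ H = ⊤ := by
    have htop : ((S.mapSurjective hsur : Sylow p (G ⧸ H)) : Subgroup (G ⧸ H)) = ⊤ :=
      ((S.mapSurjective hsur).3 (show IsPGroup p (⊤ : Subgroup (G ⧸ H)) from hquotp.to_subgroup ⊤)
        le_top).symm
    rw [Sylow.coe_mapSurjective, ← Subgroup.map_map, ← hP0] at htop
    have := congrArg (comap (QuotientGroup.mk' H)) htop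
    rwa [comap_map_eq, QuotientGroup.ker_mk', comap_top] at this
  have hQne : (Q : Subgroup G) ≠ ⊥ := Q.ne_bot_of_dvd_card hqd
  haveI : Nontrivial Q := (Subgroup.nontrivial_iff_ne_bot _).mpr hQne
  haveI := Q.2.center_nontrivial
  set W := (center (Q : Subgroup G)).map (Q : Subgroup G).subtype with hW
  haveI hWc : IsMulCommutative W := Subgroup.map_isMulCommutative (center (Q : Subgroup G)) _
  have hWQ : W ≤ Q := map_subtype_le _
  have hWne : W ≠ ⊥ := by
    rw [hW, Ne, map_eq_bot_iff_of_injective _ (Q : Subgroup G).subtype_injective]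
    exact (Subgroup.nontrivial_iff_ne_bot _).mp inferInstance
  have hPW : P0 ≤ normalizer (W : Set G) := by
    refine hP0N.trans ?_
    rw [hN, hW, ← CfsgLib.Transfer.inf_centralizer_eq_map_center]
    exact CfsgLib.Transfer.normalizer_le_normalizer_inf_centralizer _
  haveI hR : ((H ⊓ P0).subgroupOf P0).Normal := by
    rw [inf_subgroupOf_right]; infer_instance
  let φ : P0 →* MulAut W := W.normalizerMonoidHom.comp (inclusion hPW)
  have happ : ∀ (a : P0) (w : W), ((φ a w : W) : G) = a * w * (a : G)⁻¹ := fun a w => rfl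
  have hfpf : ∀ a : P0, (a : G) ∉ H → ∀ w : W, φ a w = w → w = 1 := by
    intro a ha w hw
    refine Subtype.ext (eq_one_of_commute hp.out hout ha (hQcop _ (hWQ w.2)) (hQH (hWQ w.2)) ?_)
    have := congrArg Subtype.val hw
    rw [happ] at this
    exact mul_inv_eq_iff_eq_mul.mp this
  obtain ⟨g0, hg0⟩ : ∃ g : P0, (g : G) ∉ H := by
    by_contra hc
    push_neg at hc
    exact hH (by rwa [sup_eq_right.mpr (fun x hx => hc ⟨x, hx⟩)] at hP0top)
  haveI : Nontrivial φ.range := by
    refine ⟨⟨φ g0, ⟨g0, rfl⟩⟩, 1, fun h => ?_⟩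
    obtain ⟨w, hw⟩ := (Subgroup.ne_bot_iff_exists_ne_one (H := W)).mp hWne
    refine hw (hfpf g0 hg0 w ?_)
    rw [show φ g0 = 1 from congrArg Subtype.val h]; rfl
  have hrange : IsPGroup p φ.range := hP0p.of_surjective φ.rangeRestrict φ.rangeRestrict_surjective
  haveI := hrange.center_nontrivial
  obtain ⟨z, hz⟩ := exists_prime_orderOf_dvd_card' p
    (dvd_card_of_nontrivial (hrange.to_subgroup (center φ.range)))
  obtain ⟨z0, hz0⟩ := ((z : φ.range)).2
  obtain ⟨g, hg⟩ : ∃ g : P0, g ∉ (H.subgroupOf P0) ⊔ zpowers z0 := by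
    by_contra hc
    push_neg at hc
    apply hidx
    have htop : H ⊔ zpowers (z0 : G) = ⊤ := by
      refine le_antisymm le_top ?_
      rw [← hP0top]
      refine sup_le (fun x hx => ?_) le_sup_left
      have h1 := mem_map_of_mem P0.subtype (hc ⟨x, hx⟩)
      rw [Subgroup.map_sup, MonoidHom.map_zpowers, subgroupOf_map_subtype] at h1
      exact (sup_le_sup_right (inf_le_left : H ⊓ P0 ≤ H) _) h1
    haveI : IsCyclic (G ⧸ H) := by
      refine ⟨⟨QuotientGroup.mk' H (z0 : G), fun x => ?_⟩⟩
      obtain ⟨y, rfl⟩ := QuotientGroup.mk'_surjective H x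
      obtain ⟨a, ha, b, hb, rfl⟩ := mem_sup_of_normal_left.mp (htop ▸ mem_top y)
      obtain ⟨i, rfl⟩ := hb
      exact ⟨i, by simp [(QuotientGroup.eq_one_iff a).mpr ha]⟩
    have hd : H.index ∣ p := by
      rw [index_eq_card, ← IsCyclic.exponent_eq_card]
      exact Monoid.exponent_dvd_of_forall_pow_eq_one hquot
    rcases (Nat.dvd_prime hp.out).mp hd with h | h
    · exact absurd (index_eq_one.mp h) hH
    · exact h
  have houtcoset : ∀ i : ℕ, ((g * z0 ^ i : P0) : G) ∉ H := by
    intro i hi
    refine hg ?_
    have h1 : (g * z0 ^ i : P0) ∈ H.subgroupOf P0 := hi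
    have := mul_mem (le_sup_left (b := zpowers z0) h1)
      (le_sup_right (a := H.subgroupOf P0) (inv_mem (pow_mem (mem_zpowers z0) i)))
    simpa using this
  have hgH : (g : G) ∉ H := by simpa using houtcoset 0
  letI : CommGroup W :=
    { (inferInstance : Group W) with mul_comm := fun a b => mul_comm' a b }
  have hX : φ z0 = 1 := by
    refine eq_one_of_coset_fixedPointFree (W := W) hp.out ?_ (φ z0) (φ g) ?_ ?_ ?_ ?_
    · rw [Nat.coprime_comm, hp.out.coprime_iff_not_dvd]
      intro hd
      obtain ⟨w, hw⟩ := exists_prime_orderOf_dvd_card' p hd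
      have h2 := hQcop _ (hWQ w.2)
      rw [orderOf_coe, hw, Nat.coprime_self] at h2
      exact hp.out.ne_one h2
    · show φ z0 * φ g = φ g * φ z0
      rw [hz0]
      exact (congrArg (fun e : φ.range => (e : MulAut W))
        (mem_center_iff.mp z.2 ⟨φ g, g, rfl⟩)).symm
    · rw [hz0, ← SubmonoidClass.coe_pow]
      have h1 : z ^ p = 1 := by rw [← hz]; exact pow_orderOf_eq_one z
      rw [← SubmonoidClass.coe_pow, h1]; rfl
    · rw [← map_pow, show g ^ p = 1 from Subtype.ext (by simpa using hout _ hgH), map_one]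
    · intro i w hw
      exact hfpf _ (houtcoset i) w (by rw [map_mul, map_pow]; exact hw)
  have hz1 : z = 1 := Subtype.ext (Subtype.ext (hz0.symm.trans hX))
  rw [hz1, orderOf_one] at hz
  exact hp.out.ne_one hz.symm

/-- A group with a normal Sylow subgroup centralised by all elements of coprime order and with
nilpotent quotient is nilpotent. -/
theorem isNilpotent_of_sylow_quotient {K : Type*} [Group K] [Finite K] [hp : Fact p.Prime]
    (P : Sylow p K) [(P : Subgroup K).Normal] (hq : Group.IsNilpotent (K ⧸ (P : Subgroup K)))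
    (hc : ∀ w : K, (orderOf w).Coprime p → ∀ v ∈ (P : Subgroup K), v * w = w * v) :
    Group.IsNilpotent K := by
  refine ((Group.isNilpotent_of_finite_tfae (G := K)).out 0 3 rfl rfl).mpr fun q hqf Q => ?_
  rcases eq_or_ne q p with rfl | hqp
  · haveI := Sylow.unique_of_normal P inferInstance
    rw [Subsingleton.elim Q P]
    infer_instance
  haveI := hqf
  have hQcop : ∀ x ∈ (Q : Subgroup K), (orderOf x).Coprime p := by
    intro x hx
    obtain ⟨k, hk⟩ := IsPGroup.iff_orderOf.mp Q.2 ⟨x, hx⟩
    rw [Subgroup.orderOf_mk] at hk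
    rw [hk]
    exact Nat.Coprime.pow_left k ((Nat.coprime_primes hqf.out hp.out).mpr hqp)
  haveI := hq
  have hQn : ((Q.mapSurjective (QuotientGroup.mk'_surjective (P : Subgroup K))) :
      Subgroup (K ⧸ (P : Subgroup K))).Normal :=
    ((Group.isNilpotent_of_finite_tfae (G := K ⧸ (P : Subgroup K))).out 0 3 rfl rfl).mp hq q hqf _
  refine ⟨fun x hx g => ?_⟩
  have hn := hQn.comap (QuotientGroup.mk' (P : Subgroup K))
  rw [Sylow.coe_mapSurjective, comap_map_eq, QuotientGroup.ker_mk'] at hn
  obtain ⟨w, hw, v, hv, hvw⟩ :=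
    mem_sup_of_normal_right.mp (hn.conj_mem x (mem_sup_left hx) g)
  have hcomm : Commute w v := (hc w (hQcop w hw) v hv).symm
  have hord : (orderOf (g * x * g⁻¹)).Coprime p := by
    rw [show g * x * g⁻¹ = MulAut.conj g x from rfl, MulEquiv.orderOf_eq]
    exact hQcop x hx
  have hv1 : v = 1 := by
    obtain ⟨k, hk⟩ := IsPGroup.iff_orderOf.mp P.2 ⟨v, hv⟩
    rw [Subgroup.orderOf_mk] at hk
    have hco : (orderOf w).Coprime (orderOf v) := by
      rw [hk]; exact (hQcop w hw).pow_right k
    rw [← hvw, hcomm.orderOf_mul_eq_mul_orderOf_of_coprime hco, hk] at hord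
    rw [← orderOf_eq_one_iff, hk]
    exact Nat.eq_one_of_dvd_coprimes ((hord.coprime_mul_left).pow_right k) dvd_rfl dvd_rfl
  rw [← hvw, hv1, mul_one]
  exact hw

/-- A subgroup `Q` normalised by `g ∉ H` acts trivially on an abelian normal `p`-subgroup. -/
theorem commute_of_abelian [hp : Fact p.Prime] {H : Subgroup G} [H.Normal]
    (hout : ∀ g ∉ H, g ^ p = 1) {V : Subgroup G} [V.Normal] [IsMulCommutative V]
    (hVp : IsPGroup p V) (hVH : V ≤ H) {Q : Subgroup G}
    (hQcop : ∀ x ∈ Q, (orderOf x).Coprime p) (hQH : Q ≤ H) {g : G} (hg : g ∉ H)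
    (hgQ : g ∈ normalizer (Q : Set G)) {v : G} (hv : v ∈ V) {k : G} (hk : k ∈ Q) :
    k * v = v * k := by
  classical
  haveI := Fintype.ofFinite Q
  open scoped IsMulCommutative in
  letI : CommGroup V := inferInstance
  let ψ : G →* MulAut V := MulAut.conjNormal
  have hgn : ∀ n : ℕ, ∀ x ∈ Q, g ^ n * x * (g ^ n)⁻¹ ∈ Q := fun n x hx =>
    (mem_normalizer_iff.mp (pow_mem hgQ n) x).mp hx
  -- elements of `g`'s coset have trivial norm on `V`
  have hnorm : ∀ c : G, c ∉ H → ∀ w : V, ∏ n ∈ Finset.range p, ψ (c ^ n) w = 1 := by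
    intro c hc w
    have hwc : (w : G) * c ∉ H := fun h => hc ((H.mul_mem_cancel_left (hVH w.2)).mp h)
    have key : ∀ m : ℕ,
        ((∏ n ∈ Finset.range m, ψ (c ^ n) w : V) : G) = ((w : G) * c) ^ m * (c ^ m)⁻¹ := by
      intro m
      induction m with
      | zero => simp
      | succ m ih =>
        rw [Finset.prod_range_succ, Subgroup.coe_mul, ih, pow_succ, MulAut.conjNormal_apply,
          pow_succ]
        group
    refine Subtype.ext ?_
    rw [key, hout _ hwc, hout _ hc]
    simp
  obtain ⟨r, hr⟩ : ∃ r, p = r + 1 := ⟨p - 1, by have := hp.out.pos; omega⟩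
  set w : V := ⟨v, hv⟩ with hwdef
  set θ : V → V := fun u => ∏ x : Q, ψ (x : G) u with hθ
  have hθfix : ∀ (x : Q) u, ψ (x : G) (θ u) = θ u := by
    intro x u
    rw [hθ]; dsimp only
    rw [map_prod]
    refine Fintype.prod_equiv (Equiv.mulLeft x) _ _ fun y => ?_
    rw [← MulAut.mul_apply, ← map_mul]; rfl
  have hsum : ∏ n ∈ Finset.range (r + 1), ∏ x : Q, ψ (((x : G) * g * (x : G)⁻¹) ^ n) w = 1 := by
    rw [Finset.prod_comm]
    refine Finset.prod_eq_one fun x _ => ?_
    rw [← hr]
    refine hnorm _ (fun h => hg ?_) w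
    simpa [mul_assoc] using ‹H.Normal›.conj_mem _ h (x : G)⁻¹
  rw [Finset.prod_range_succ'] at hsum
  simp only [pow_zero, map_one, MulAut.one_apply, Finset.prod_const, Finset.card_univ] at hsum
  have hterm : ∀ n ∈ Finset.range r,
      ∏ x : Q, ψ (((x : G) * g * (x : G)⁻¹) ^ (n + 1)) w = θ (ψ (g ^ (n + 1)) w) := by
    intro n hn
    have hgnH : g ^ (n + 1) ∉ H := by
      intro h
      refine hg ?_
      have hco : (n + 1).Coprime p := by
        rw [Nat.coprime_comm, hp.out.coprime_iff_not_dvd]
        intro hd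
        have := Nat.le_of_dvd (Nat.succ_pos n) hd
        have := Finset.mem_range.mp hn
        omega
      obtain ⟨m, -, hm⟩ := Nat.exists_mul_mod_eq_one_of_coprime hco hp.out.one_lt
      have := H.pow_mem h m
      rwa [← pow_mul, ← Nat.mod_add_div ((n + 1) * m) p, hm, pow_add, pow_mul, hout g hg,
        one_pow, mul_one, pow_one] at this
    let c : Q → Q := fun x => ⟨(x : G) * (g ^ (n + 1) * (x : G)⁻¹ * (g ^ (n + 1))⁻¹),
      Q.mul_mem x.2 (hgn _ _ (Q.inv_mem x.2))⟩
    have hcb : Function.Bijective c := by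
      refine Finite.injective_iff_bijective.mp fun a b hab => ?_
      have e := congrArg Subtype.val hab
      simp only [c] at e
      have e2 : (b : G)⁻¹ * a * g ^ (n + 1) = g ^ (n + 1) * ((b : G)⁻¹ * a) := by
        have := congrArg (fun z => (b : G)⁻¹ * z * (g ^ (n + 1)) * (a : G)) e
        simpa [mul_assoc] using this
      have h1 := eq_one_of_commute hp.out hout hgnH
        (hQcop _ (Q.mul_mem (Q.inv_mem b.2) a.2)) (hQH (Q.mul_mem (Q.inv_mem b.2) a.2)) e2.symm
      exact Subtype.ext (inv_mul_eq_one.mp h1).symm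
    rw [hθ]; dsimp only
    refine Fintype.prod_bijective c hcb _ _ fun x => ?_
    rw [← MulAut.mul_apply, ← map_mul, conj_pow]
    congr 2
    simp [c, mul_assoc]
  rw [Finset.prod_congr rfl hterm] at hsum
  have hfix : ψ k (w ^ Fintype.card Q) = w ^ Fintype.card Q := by
    have h := congrArg (ψ k) hsum
    rw [map_mul, map_one, map_prod,
      Finset.prod_congr rfl (fun n _ => hθfix ⟨k, hk⟩ (ψ (g ^ (n + 1)) w))] at h
    exact mul_left_cancel (h.trans hsum.symm)
  rw [map_pow] at hfix
  have hcop : (Nat.card V).Coprime (Fintype.card Q) := by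
    obtain ⟨a, ha⟩ := IsPGroup.iff_card.mp hVp
    rw [ha, ← Nat.card_eq_fintype_card]
    refine Nat.Coprime.pow_left a (hp.out.coprime_iff_not_dvd.mpr fun hd => ?_)
    obtain ⟨x, hx⟩ := exists_prime_orderOf_dvd_card' p hd
    have h2 := hQcop _ x.2
    rw [orderOf_coe, hx, Nat.coprime_self] at h2
    exact hp.out.ne_one h2
  have := congrArg Subtype.val ((powCoprime hcop).injective hfix)
  rw [MulAut.conjNormal_apply] at this
  exact mul_inv_eq_iff_eq_mul.mp this

/-- Elements of order prime to `p` centralize a normal `p`-subgroup of the Hughes kernel. -/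
theorem commute_of_normal_pGroup [hp : Fact p.Prime] {H : Subgroup G} [H.Normal]
    (hidx : H.index = p) (hout : ∀ g ∉ H, g ^ p = 1) {U : Subgroup G} [U.Normal]
    (hUp : IsPGroup p U) (hUH : U ≤ H) {w : G} (hw : (orderOf w).Coprime p) {v : G}
    (hv : v ∈ U) : v * w = w * v := by
  classical
  -- reduce to elements of prime power order
  suffices key : ∀ q, q.Prime → q ≠ p → ∀ Q : Sylow q G, ∀ x ∈ (Q : Subgroup G), v * x = x * v by
    have hmem : w ∈ centralizer ({v} : Set G) := by
      have hle : zpowers w ≤ centralizer ({v} : Set G) := by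
        have hcd : Nat.card (zpowers w) ∣
            Nat.card ((centralizer ({v} : Set G)).subgroupOf (zpowers w)) := by
          rw [← Nat.factorization_prime_le_iff_dvd Nat.card_pos.ne' Nat.card_pos.ne']
          intro q hq
          haveI := Fact.mk hq
          rcases eq_or_ne q p with rfl | hqp
          · rw [Nat.card_zpowers, Nat.factorization_eq_zero_of_not_dvd]
            · exact Nat.zero_le _
            · exact hq.coprime_iff_not_dvd.mp hw.symm
          obtain ⟨T⟩ : Nonempty (Sylow q (zpowers w)) := inferInstance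
          have hT : (T : Subgroup (zpowers w)) ≤
              (centralizer ({v} : Set G)).subgroupOf (zpowers w) := by
            intro x hx
            obtain ⟨Q, hQ⟩ := (T.2.map (zpowers w).subtype).exists_le_sylow
            exact mem_centralizer_singleton_iff.mpr (key q hq hqp Q _ (hQ ⟨x, hx, rfl⟩)).symm
          have h1 := card_dvd_of_le hT
          rw [Sylow.card_eq_multiplicity] at h1
          exact (hq.pow_dvd_iff_le_factorization Nat.card_pos.ne').mp h1
        have := Subgroup.eq_top_of_le_card _ (Nat.le_of_dvd Nat.card_pos hcd)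
        exact subgroupOf_eq_top.mp this
      exact hle (mem_zpowers w)
    exact (mem_centralizer_singleton_iff.mp hmem).symm
  intro q hq hqp Q x hx
  haveI := Fact.mk hq
  have hQcop : ∀ y ∈ (Q : Subgroup G), (orderOf y).Coprime p := by
    intro y hy
    obtain ⟨k, hk⟩ := IsPGroup.iff_orderOf.mp Q.2 ⟨y, hy⟩
    rw [Subgroup.orderOf_mk] at hk
    rw [hk]
    exact Nat.Coprime.pow_left k ((Nat.coprime_primes hq hp.out).mpr hqp)
  have hQH : (Q : Subgroup G) ≤ H := by
    intro y hy
    by_contra hyH
    exact hyH (by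
      rw [orderOf_eq_one_iff.mp (Nat.eq_one_of_dvd_coprimes (hQcop y hy) dvd_rfl
        (orderOf_dvd_of_pow_eq_one (hout y hyH)))]
      exact H.one_mem)
  have hNsup : normalizer ((Q : Subgroup G) : Set G) ⊔ H = ⊤ := by
    have := Sylow.normalizer_sup_eq_top (Q.subtype hQH)
    rwa [Sylow.coe_subtype, subgroupOf_map_subtype, inf_eq_left.mpr hQH] at this
  obtain ⟨g, hgN, hgH⟩ : ∃ g ∈ normalizer ((Q : Subgroup G) : Set G), g ∉ H := by
    by_contra hc
    push_neg at hc
    rw [sup_eq_right.mpr hc] at hNsup
    rw [hNsup, index_top] at hidx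
    exact hp.out.ne_one hidx.symm
  -- work modulo the Frattini subgroup of `U`
  set Φ := (frattini U).map U.subtype with hΦ
  haveI hΦn : Φ.Normal := by rw [hΦ]; infer_instance
  set f := QuotientGroup.mk' Φ with hf
  have hsur : Function.Surjective f := QuotientGroup.mk'_surjective Φ
  haveI : (H.map f).Normal := Normal.map inferInstance f hsur
  have hΦH : Φ ≤ H := (map_subtype_le _).trans hUH
  have hcomap : (H.map f).comap f = H := by
    rw [comap_map_eq, hf, QuotientGroup.ker_mk', sup_eq_left.mpr hΦH]
  have hout' : ∀ y ∉ H.map f, y ^ p = 1 := by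
    intro y hy
    obtain ⟨y, rfl⟩ := hsur y
    rw [← map_pow, hout y (fun h => hy (mem_map_of_mem _ h)), map_one]
  haveI : (U.map f).Normal := Normal.map inferInstance f hsur
  haveI : IsMulCommutative (U.map f) := by
    refine ⟨⟨fun a b => ?_⟩⟩
    obtain ⟨_, a, ha, rfl⟩ := a
    obtain ⟨_, b, hb, rfl⟩ := b
    refine Subtype.ext ?_
    show f a * f b = f b * f a
    rw [← map_mul, ← map_mul, hf, QuotientGroup.mk'_apply, QuotientGroup.mk'_apply,
      QuotientGroup.eq]
    refine ⟨(⟨a, ha⟩ * ⟨b, hb⟩)⁻¹ * (⟨b, hb⟩ * ⟨a, ha⟩), ?_, by simp⟩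
    haveI : Group.IsNilpotent U := hUp.isNilpotent
    have hle : commutator U ≤ frattini U := by
      exact CfsgLib.PGroups.commutator_le_frattini hUp
    refine hle ?_
    set a' : U := ⟨a, ha⟩
    set b' : U := ⟨b, hb⟩
    have h2 := commutator_mem_commutator (mem_top (b'⁻¹)) (mem_top (a'⁻¹))
    rw [show ⁅b'⁻¹, a'⁻¹⁆ = (a' * b')⁻¹ * (b' * a') by rw [commutatorElement_def]; group] at h2
    exact h2
  have htriv : ∀ a ∈ zpowers x, ∀ b ∈ U, a * b * a⁻¹ * b⁻¹ ∈ Φ := by
    intro a ha b hb
    have h := commute_of_abelian (H := H.map f) hout' (V := U.map f) (hUp.map f)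
      (map_mono hUH) (Q := (Q : Subgroup G).map f) ?_ (map_mono hQH) (g := f g) ?_ ?_
      (v := f b) (mem_map_of_mem f hb) (k := f a)
      (mem_map_of_mem f ((zpowers_le.mpr hx : zpowers x ≤ (Q : Subgroup G)) ha))
    · rw [← QuotientGroup.eq_one_iff]
      show f (a * b * a⁻¹ * b⁻¹) = 1
      rw [map_mul, map_mul, map_mul, map_inv, map_inv, h]
      group
    · rintro _ ⟨y, hy, rfl⟩
      exact (hQcop y hy).coprime_dvd_left (orderOf_map_dvd f y)
    · intro h; exact hgH (hcomap.le (mem_comap.mpr h))
    · exact le_normalizer_map f (mem_map_of_mem f hgN)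
  have hcopU : (Nat.card (zpowers x)).Coprime (Nat.card (frattini U)) := by
    obtain ⟨a, ha⟩ := IsPGroup.iff_card.mp (hUp.to_subgroup (frattini U))
    rw [Nat.card_zpowers, ha]
    exact (hQcop x hx).pow_right a
  exact mem_centralizer_iff.mp (CfsgLib.Coprime.le_centralizer_of_trivial_mod_frattini
    (le_trans le_top (normalizer_eq_top (H := U)).ge) hcopU htriv (mem_zpowers x)) v hv

/-- **Nilpotency of the Hughes subgroup.** -/
theorem isNilpotent_aux [hp : Fact p.Prime] (n : ℕ) :
    ∀ (G : Type u) [Group G] [Finite G] (H : Subgroup G), Nat.card G < n → H.Normal →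
      H.index = p → (∀ g ∉ H, g ^ p = 1) → Group.IsNilpotent H := by
  induction n with
  | zero => intro G _ _ H hlt; exact absurd hlt (Nat.not_lt_zero _)
  | succ n ih =>
    intro G _ _ H hlt hHn hidx hout
    obtain ⟨g, hg⟩ : ∃ g : G, g ∉ H := by
      by_contra hc
      push_neg at hc
      rw [show H = ⊤ from eq_top_iff.mpr fun x _ => hc x, index_top] at hidx
      exact hp.out.ne_one hidx.symm
    rcases eq_or_ne p 2 with rfl | hp2
    · -- involutions invert `H`
      haveI : IsMulCommutative H := by
        have hinv : ∀ x ∈ H, g * x * g = x⁻¹ := by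
          intro x hx
          have h1 : g * x ∉ H := fun h => hg ((H.mul_mem_cancel_right hx).mp h)
          have h2 := hout _ h1
          rw [pow_two] at h2
          exact eq_inv_of_mul_eq_one_left (by rw [← h2]; group)
        have hg2 : g * g = 1 := by simpa [pow_two] using hout g hg
        refine ⟨⟨fun a b => Subtype.ext ?_⟩⟩
        show (a : G) * b = b * a
        have h3 := hinv _ (H.mul_mem a.2 b.2)
        have h4 : g * ((a : G) * b) * g = (g * a * g) * (g * b * g) := by
          rw [show (g * a * g) * (g * b * g) = g * a * (g * g) * b * g by group, hg2]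
          group
        rw [h4, hinv _ a.2, hinv _ b.2, mul_inv_rev] at h3
        have h5 := congrArg (fun z => z⁻¹) h3
        simpa using h5.symm
      refine (Subgroup.isNilpotent_iff_lowerCentralSeries H).2 ⟨1, ?_⟩
      rw [Subgroup.lowerCentralSeries_succ, Subgroup.lowerCentralSeries_zero,
        Subgroup.commutator_eq_bot_iff_le_centralizer]
      exact H.le_centralizer
    haveI := hHn
    have hgp : g ^ p = 1 := hout g hg
    obtain ⟨P, hgP⟩ : ∃ P : Sylow p G, g ∈ (P : Subgroup G) := by
      have h1 : IsPGroup p (zpowers g) := by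
        refine IsPGroup.of_card (n := 1) ?_
        rw [Nat.card_zpowers, pow_one]
        exact orderOf_eq_prime hgp fun h => hg (h ▸ H.one_mem)
      obtain ⟨P, hP⟩ := h1.exists_le_sylow
      exact ⟨P, hP (mem_zpowers g)⟩
    set R := (P : Subgroup G) ⊓ H with hR
    have hRp : IsPGroup p R := P.2.to_le inf_le_left
    have hRH : R ≤ H := inf_le_right
    have hRsyl : ¬ p ∣ R.relIndex H := by
      rw [hR, inf_relIndex_right, relIndex]
      exact CfsgLib.Transfer.not_dvd_index_subgroupOf_of_normal P H
    have hPR : (P : Subgroup G) ≤ normalizer (R : Set G) := by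
      intro x hx
      exact (inf_le_inf le_normalizer (normalizer_eq_top (H := H)).ge).trans
        inf_normalizer_le_normalizer_inf ⟨hx, mem_top x⟩
    let RH : Sylow p H := (hRp.comap_subtype (K := H)).toSylow hRsyl
    have hRHcoe : (RH : Subgroup H) = R.subgroupOf H := rfl
    -- the fixed-point-free action on elements of order prime to `p`
    have hfpf : ∀ N : Subgroup G, N.Normal → N ≤ H → ¬ p ∣ Nat.card N →
        CfsgLib.Base.IsFPF (zpowers g) N := by
      intro N hN hNH hNp
      refine ⟨le_trans le_top (normalizer_eq_top (H := N)).ge, fun a ha ha1 => ?_⟩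
      rw [eq_bot_iff]
      rintro x ⟨hxN, hxa⟩
      have haH : a ∉ H := by
        intro haH
        have hle : zpowers g ⊓ H = ⊥ := by
          haveI : IsSimpleGroup (zpowers g) := by
            refine isSimpleGroup_of_prime_card (p := p) ?_
            rw [Nat.card_zpowers]
            exact orderOf_eq_prime hgp fun h => hg (h ▸ H.one_mem)
          rcases Subgroup.Normal.eq_bot_or_eq_top
            (inferInstance : (H.subgroupOf (zpowers g)).Normal) with h | h
          · exact disjoint_iff.mp (subgroupOf_eq_bot.mp h).symm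
          · exact absurd (subgroupOf_eq_top.mp h (mem_zpowers g)) hg
        exact ha1 (mem_bot.mp (hle ▸ ⟨ha, haH⟩ : a ∈ (⊥ : Subgroup G)))
      refine mem_bot.mpr (eq_one_of_commute hp.out hout haH ?_ (hNH hxN)
        (mem_centralizer_singleton_iff.mp hxa).symm)
      rw [Nat.coprime_comm, hp.out.coprime_iff_not_dvd]
      exact fun hd => hNp (hd.trans (N.orderOf_dvd_natCard hxN))
    have hzg : zpowers g ≠ ⊥ := by
      rw [Ne, zpowers_eq_bot]; exact fun h => hg (h ▸ H.one_mem)
    rcases eq_or_ne R ⊥ with hR0 | hR0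
    · refine (hfpf H inferInstance le_rfl ?_).isNilpotent hzg
      rw [hR0, relIndex_bot_left] at hRsyl
      exact hRsyl
    -- induction for quotients
    have hquot : ∀ K : Subgroup G, ∀ _ : K.Normal, K ≤ H → K ≠ ⊥ →
        Group.IsNilpotent (H.map (QuotientGroup.mk' K)) := by
      intro K hK hKH hK0
      have hsur := QuotientGroup.mk'_surjective K
      have hcomap : (H.map (QuotientGroup.mk' K)).comap (QuotientGroup.mk' K) = H := by
        rw [comap_map_eq, QuotientGroup.ker_mk', sup_eq_left.mpr hKH]
      refine ih (G ⧸ K) _ ?_ (Normal.map inferInstance _ hsur) ?_ ?_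
      · have h1 := K.card_mul_index
        rw [index_eq_card] at h1
        have h2 : 2 ≤ Nat.card K := K.one_lt_card_iff_ne_bot.mpr hK0
        have h3 : 0 < Nat.card (G ⧸ K) := Nat.card_pos
        nlinarith
      · rw [← index_comap_of_surjective _ hsur, hcomap, hidx]
      · intro y hy
        obtain ⟨y, rfl⟩ := hsur y
        rw [← map_pow, hout y (fun h => hy (mem_map_of_mem _ h)), map_one]
    -- a normal `p`-subgroup gives the result
    have caseB : ∀ K : Subgroup G, ∀ _ : K.Normal, IsPGroup p K → K ≤ H → K ≠ ⊥ →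
        Group.IsNilpotent H := by
      intro K hK hKp hKH hK0
      have hn := hquot K hK hKH hK0
      set φ : H →* G ⧸ K := (QuotientGroup.mk' K).comp H.subtype with hφ
      have hrange : φ.range = H.map (QuotientGroup.mk' K) := by
        rw [hφ, MonoidHom.range_comp, Subgroup.range_subtype]
      have hker : φ.ker = K.subgroupOf H := by
        rw [hφ, ← MonoidHom.comap_ker, QuotientGroup.ker_mk']; rfl
      haveI : Group.IsNilpotent φ.range := hrange ▸ hn
      haveI hq : Group.IsNilpotent (H ⧸ φ.ker) :=
        Group.nilpotent_of_mulEquiv (QuotientGroup.quotientKerEquivRange φ).symm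
      have hRn : (RH : Subgroup H).Normal := by
        have hT := ((Group.isNilpotent_of_finite_tfae (G := H ⧸ φ.ker)).out 0 3 rfl rfl).mp hq p hp
          (RH.mapSurjective (QuotientGroup.mk'_surjective φ.ker))
        have h2 := hT.comap (QuotientGroup.mk' φ.ker)
        rwa [Sylow.coe_mapSurjective, comap_map_eq, QuotientGroup.ker_mk', sup_eq_left.mpr] at h2
        have hkp : IsPGroup p φ.ker := hker ▸ hKp.comap_subtype
        obtain ⟨T, hT'⟩ := hkp.exists_le_sylow
        obtain ⟨c, hc⟩ := MulAction.exists_smul_eq H T RH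
        rw [← hc, Sylow.coe_subgroup_smul, ← Subgroup.Normal.conj_smul_eq_self c φ.ker]
        exact Subgroup.pointwise_smul_le_pointwise_smul_iff.mpr hT'
      haveI := hRn
      haveI hRG : R.Normal := by
        haveI : (RH : Subgroup H).Characteristic := RH.characteristic_of_normal hRn
        have : ((RH : Subgroup H).map H.subtype).Normal := inferInstance
        rwa [hRHcoe, subgroupOf_map_subtype, inf_eq_left.mpr hRH] at this
      refine isNilpotent_of_sylow_quotient RH ?_ ?_
      · have hle : φ.ker ≤ (RH : Subgroup H) := by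
          have hkp : IsPGroup p φ.ker := hker ▸ hKp.comap_subtype
          obtain ⟨T, hT'⟩ := hkp.exists_le_sylow
          haveI := Sylow.unique_of_normal RH hRn
          rwa [Subsingleton.elim T RH] at hT'
        exact Group.nilpotent_of_surjective
          (QuotientGroup.map φ.ker (RH : Subgroup H) (MonoidHom.id H) (by simpa using hle))
          (fun y => by
            obtain ⟨y, rfl⟩ := QuotientGroup.mk'_surjective (RH : Subgroup H) y
            exact ⟨QuotientGroup.mk y, rfl⟩)
      · intro w hw v hv
        rw [hRHcoe, mem_subgroupOf] at hv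
        exact Subtype.ext (commute_of_normal_pGroup hidx hout hRp hRH
          (orderOf_coe w ▸ hw) hv)
    -- local subgroups
    have hloc : ∀ U : Subgroup G, (P : Subgroup G) ≤ U → U ≠ ⊤ →
        HasNormalPComplement p (U ⊓ H : Subgroup G) := by
      intro U hPU hU
      have hsup : U ⊔ H = ⊤ := by
        by_contra hc
        have h1 : H ≤ U ⊔ H := le_sup_right
        have h2 := relIndex_mul_index h1
        rw [hidx] at h2
        rcases (Nat.dvd_prime hp.out).mp ⟨_, h2.symm⟩ with h | h
        · exact hg (relIndex_eq_one.mp h (mem_sup_left (hPU hgP)))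
        · exact hc (index_eq_one.mp (Nat.eq_of_mul_eq_mul_left hp.out.pos
            (by rw [mul_one]; exact (congrArg (· * _) h).symm.trans h2)))
      haveI : Group.IsNilpotent (H.subgroupOf U) := by
        refine ih U _ ?_ inferInstance ?_ ?_
        · exact lt_of_lt_of_le (CfsgLib.Transfer.card_lt_card_of_lt (lt_top_iff_ne_top.mpr hU)
            |>.trans_eq Subgroup.card_top) (Nat.le_of_lt_succ hlt)
        · rw [← relIndex, ← relIndex_sup_right, hsup, relIndex_top_right, hidx]
        · intro y hy
          exact Subtype.ext (by simpa using hout _ hy)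
      have h3 : HasNormalPComplement p ((H.subgroupOf U).map U.subtype) :=
        (CfsgLib.Transfer.hasNormalPComplement_congr ((H.subgroupOf U).equivMapOfInjective
          U.subtype U.subtype_injective)).mp CfsgLib.Transfer.hasNormalPComplement_of_isNilpotent
      rwa [subgroupOf_map_subtype, inf_comm] at h3
    set J := thompsonSubgroupOf p R with hJ
    set Z := R ⊓ centralizer (R : Set G) with hZ
    have hJR : J ≤ R := CfsgLib.PLocal.thompsonSubgroupOf_le _ _
    by_cases hJn : normalizer (J : Set G) = ⊤
    · haveI := normalizer_eq_top_iff.mp hJn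
      exact caseB J this (hRp.to_le hJR) (hJR.trans hRH)
        (CfsgLib.Transfer.thompsonSubgroupOf_ne_bot hRp hR0)
    by_cases hZn : normalizer (Z : Set G) = ⊤
    · haveI := normalizer_eq_top_iff.mp hZn
      exact caseB Z this (hRp.to_le inf_le_left) (inf_le_left.trans hRH)
        (CfsgLib.Transfer.inf_centralizer_ne_bot hRp hR0)
    -- `H` has a normal `p`-complement
    have hRHmap : (RH : Subgroup H).map H.subtype = R := by
      rw [hRHcoe, subgroupOf_map_subtype, inf_eq_left.mpr hRH]
    have hpc : HasNormalPComplement p H := by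
      refine CfsgLib.Transfer.hasNormalPComplement_of_thompson hp2 RH ?_ ?_
      · refine (CfsgLib.Transfer.hasNormalPComplement_congr
          (Subgroup.equivMapOfInjective _ H.subtype H.subtype_injective)).mpr ?_
        refine CfsgLib.Transfer.hasNormalPComplement_of_le ?_ (hloc _
          (hPR.trans (CfsgLib.Transfer.normalizer_le_normalizer_thompsonSubgroupOf R)) hJn)
        refine le_inf ?_ (map_subtype_le _)
        refine (le_normalizer_map H.subtype).trans ?_
        rw [CfsgLib.PLocal.map_thompsonSubgroupOf H.subtype_injective, hRHmap]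
      · refine (CfsgLib.Transfer.hasNormalPComplement_congr
          (Subgroup.equivMapOfInjective _ H.subtype H.subtype_injective)).mpr ?_
        refine CfsgLib.Transfer.hasNormalPComplement_of_le ?_ (hloc _
          (hPR.trans (CfsgLib.Transfer.normalizer_le_normalizer_inf_centralizer R)) hZn)
        refine le_inf ?_ (map_subtype_le _)
        refine (map_mono (centralizer_le_normalizer _)).trans ((le_normalizer_map H.subtype).trans ?_)
        rw [CfsgLib.PLocal.map_inf_centralizer H.subtype_injective, hRHmap]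
    set N := (Cfsg.pResidual p H).map H.subtype with hNdef
    haveI hNc : (Cfsg.pResidual p H).Characteristic := CfsgLib.Transfer.pResidual_characteristic
    haveI hNG : N.Normal := by rw [hNdef]; infer_instance
    have hNH : N ≤ H := map_subtype_le _
    have hNp : ¬ p ∣ Nat.card N := by
      rw [hNdef, card_map_of_injective H.subtype_injective]
      exact CfsgLib.Transfer.hasNormalPComplement_iff_pResidual.mp hpc
    haveI hNnil : Group.IsNilpotent N := (hfpf N hNG hNH hNp).isNilpotent hzg
    -- the kernel of the action of `R` on `N`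
    set K := R ⊓ centralizer (N : Set G) with hKdef
    have hcompl : ∀ x ∈ H, ∃ a ∈ N, ∃ b ∈ R, a * b = x := by
      intro x hx
      have hc := CfsgLib.Transfer.isComplement'_pResidual hpc RH
      obtain ⟨⟨a, b⟩, hab, -⟩ := hc.existsUnique (⟨x, hx⟩ : H)
      exact ⟨((a : H) : G), mem_map_of_mem H.subtype a.2, ((b : H) : G),
        by rw [← hRHmap]; exact mem_map_of_mem H.subtype b.2, congrArg Subtype.val hab⟩
    haveI hKn : K.Normal := by
      rw [← normalizer_eq_top_iff, eq_top_iff]
      have hP : (P : Subgroup G) ≤ normalizer (K : Set G) :=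
        (le_inf hPR (le_trans le_top (normalizer_eq_top (H := centralizer (N : Set G))).ge)).trans
          inf_normalizer_le_normalizer_inf
      have hN : N ≤ normalizer (K : Set G) := by
        refine le_trans ?_ (centralizer_le_normalizer _)
        intro a ha
        exact mem_centralizer_iff.mpr fun b hb => (mem_centralizer_iff.mp hb.2 a ha).symm
      have hH : H ≤ normalizer (K : Set G) := by
        intro x hx
        obtain ⟨a, ha, b, hb, rfl⟩ := hcompl x hx
        exact mul_mem (hN ha) (hP hb.1)
      have hsup : H ⊔ (P : Subgroup G) = ⊤ := by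
        have h1 : H ≤ H ⊔ (P : Subgroup G) := le_sup_left
        have h2 := relIndex_mul_index h1
        rw [hidx] at h2
        rcases (Nat.dvd_prime hp.out).mp ⟨_, h2.symm⟩ with h | h
        · exact absurd (relIndex_eq_one.mp h (mem_sup_right hgP)) hg
        · exact index_eq_one.mp (Nat.eq_of_mul_eq_mul_left hp.out.pos
            (by rw [mul_one]; exact (congrArg (· * _) h).symm.trans h2))
      rw [← hsup]
      exact sup_le hH hP
    rcases eq_or_ne K ⊥ with hK0 | hK0
    · exfalso
      -- an element of `Z(P) ∩ H` of order `p` centralizes `N`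
      have hPne : Nontrivial R := (Subgroup.nontrivial_iff_ne_bot R).mpr hR0
      haveI : ((R.subgroupOf (P : Subgroup G))).Normal :=
        (normal_subgroupOf_iff_le_normalizer inf_le_left).mpr hPR
      have hne : (R.subgroupOf (P : Subgroup G)) ≠ ⊥ := by
        rw [Ne, subgroupOf_eq_bot, disjoint_iff, inf_eq_left.mpr (inf_le_left : R ≤ P)]
        exact hR0
      have hinf := CfsgLib.PGroups.inf_center_ne_bot P.2 hne
      obtain ⟨z, hz⟩ := exists_prime_orderOf_dvd_card' p
        (haveI := (Subgroup.nontrivial_iff_ne_bot _).mpr hinf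
         dvd_card_of_nontrivial (P.2.to_subgroup
          (R.subgroupOf (P : Subgroup G) ⊓ center (P : Subgroup G))))
      have hzR : ((z : (P : Subgroup G)) : G) ∈ R := z.2.1
      have hzord : orderOf ((z : (P : Subgroup G)) : G) = p := by
        rw [orderOf_coe, orderOf_coe, hz]
      set zG : G := ((z : (P : Subgroup G)) : G) with hzG
      have hgz : Commute g zG :=
        congrArg Subtype.val (mem_center_iff.mp z.2.2 ⟨g, hgP⟩)
      let A := closure ({g, zG} : Set G)
      haveI : IsMulCommutative A := Subgroup.isMulCommutative_closure (by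
        rintro x (rfl | rfl) y (rfl | rfl)
        · rfl
        · exact hgz
        · exact hgz.symm
        · rfl)
      have hgA : g ∈ A := subset_closure (Or.inl rfl)
      have hzA : zG ∈ A := subset_closure (Or.inr rfl)
      have hAP : A ≤ (P : Subgroup G) :=
        (closure_le _).mpr (Set.insert_subset hgP (Set.singleton_subset_iff.mpr hzR.1))
      have hAexp : ∀ a ∈ A, a ^ p = 1 := by
        intro a ha
        induction ha using closure_induction with
        | mem x hx =>
          rcases hx with rfl | rfl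
          · exact hgp
          · rw [← hzord]; exact pow_orderOf_eq_one _
        | one => exact one_pow p
        | mul x y hx hy hx' hy' =>
          have hc : Commute x y := congrArg Subtype.val (mul_comm' (⟨x, hx⟩ : A) ⟨y, hy⟩)
          rw [hc.mul_pow, hx', hy', one_mul]
        | inv x hx hx' => rw [inv_pow, hx', inv_one]
      have hAH : A ⊓ H = zpowers zG := by
        refine le_antisymm ?_ (le_inf (zpowers_le.mpr hzA) (zpowers_le.mpr (hRH hzR)))
        have hd : ∀ a ∈ A, ∃ i j : ℤ, a = g ^ i * zG ^ j := by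
          intro a ha
          induction ha using closure_induction with
          | mem x hx =>
            rcases hx with rfl | rfl
            · exact ⟨1, 0, by simp⟩
            · exact ⟨0, 1, by simp⟩
          | one => exact ⟨0, 0, by simp⟩
          | mul x y _ _ hx hy =>
            obtain ⟨i, j, rfl⟩ := hx
            obtain ⟨k, l, rfl⟩ := hy
            refine ⟨i + k, j + l, ?_⟩
            rw [zpow_add, zpow_add, mul_assoc, mul_assoc, ← mul_assoc (zG ^ j),
              ← (hgz.zpow_zpow k j).eq]
            group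
          | inv x _ hx =>
            obtain ⟨i, j, rfl⟩ := hx
            refine ⟨-i, -j, ?_⟩
            rw [mul_inv_rev, ← zpow_neg, ← zpow_neg, (hgz.zpow_zpow (-i) (-j)).eq]
        rintro a ⟨ha, haH⟩
        obtain ⟨i, j, rfl⟩ := hd a ha
        have hgi : g ^ i ∈ H := (H.mul_mem_cancel_right (H.zpow_mem (hRH hzR) j)).mp haH
        have hgi1 : g ^ i = 1 := by
          by_contra hne'
          obtain ⟨m, hm⟩ : g ∈ zpowers (g ^ i) := by
            haveI : IsSimpleGroup (zpowers g) := by
              refine isSimpleGroup_of_prime_card (p := p) ?_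
              rw [Nat.card_zpowers]
              exact orderOf_eq_prime hgp fun h => hg (h ▸ H.one_mem)
            rcases Subgroup.Normal.eq_bot_or_eq_top
              (inferInstance : ((zpowers (g ^ i)).subgroupOf (zpowers g)).Normal) with h | h
            · exact absurd (mem_bot.mp
                ((disjoint_iff.mp (subgroupOf_eq_bot.mp h)).le
                  ⟨mem_zpowers _, zpow_mem (mem_zpowers g) i⟩)) hne'
            · exact subgroupOf_eq_top.mp h (mem_zpowers g)
          exact hg (hm ▸ H.zpow_mem hgi m)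
        rw [hgi1, one_mul]
        exact zpow_mem (mem_zpowers zG) j
      have hAnc : ¬ IsCyclic A := by
        intro hc
        have hd : Nat.card A ∣ p := by
          rw [← IsCyclic.exponent_eq_card]
          exact Monoid.exponent_dvd_of_forall_pow_eq_one fun a => Subtype.ext (by
            simpa using hAexp a a.2)
        have heq : A = zpowers zG := by
          refine (Subgroup.eq_of_le_of_card_ge (zpowers_le.mpr hzA) ?_).symm
          rw [Nat.card_zpowers, hzord]
          exact Nat.le_of_dvd hp.out.pos hd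
        exact hg (hRH ((zpowers_le.mpr hzR) (heq ▸ hgA)))
      have hNA : A ≤ normalizer (N : Set G) := le_trans le_top (normalizer_eq_top (H := N)).ge
      have hcop : (Nat.card A).Coprime (Nat.card N) := by
        obtain ⟨a, ha⟩ := IsPGroup.iff_card.mp (P.2.to_le hAP)
        rw [ha]
        exact Nat.Coprime.pow_left a (hp.out.coprime_iff_not_dvd.mpr hNp)
      have hNz : N ≤ centralizer ({zG} : Set G) := by
        refine CfsgLib.Coprime.le_of_centralizer_le_of_not_isCyclic hAnc hNA hcop ?_
        intro a ha ha1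
        by_cases haH : a ∈ H
        · have h4 : a ∈ zpowers zG := hAH ▸ (⟨ha, haH⟩ : a ∈ A ⊓ H)
          rintro y ⟨-, hy⟩
          obtain ⟨m, hm⟩ : zG ∈ zpowers a := by
            haveI : IsSimpleGroup (zpowers zG) :=
              isSimpleGroup_of_prime_card (p := p) (by rw [Nat.card_zpowers, hzord])
            rcases Subgroup.Normal.eq_bot_or_eq_top
              (inferInstance : ((zpowers a).subgroupOf (zpowers zG)).Normal) with h | h
            · exact absurd (mem_bot.mp
                ((disjoint_iff.mp (subgroupOf_eq_bot.mp h)).le ⟨mem_zpowers _, h4⟩)) ha1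
            · exact subgroupOf_eq_top.mp h (mem_zpowers zG)
          refine mem_centralizer_singleton_iff.mpr ?_
          rw [← hm]
          exact (show Commute y a from mem_centralizer_singleton_iff.mp hy).zpow_right m
        · rintro y ⟨hyN, hya⟩
          have : y = 1 := eq_one_of_commute hp.out hout haH (by
            rw [Nat.coprime_comm, hp.out.coprime_iff_not_dvd]
            exact fun hd => hNp (hd.trans (N.orderOf_dvd_natCard hyN))) (hNH hyN)
            (mem_centralizer_singleton_iff.mp hya).symm
          rw [this]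
          exact one_mem _
      have hzK : zG ∈ K := ⟨hzR, mem_centralizer_iff.mpr fun y hy =>
        mem_centralizer_singleton_iff.mp (hNz hy)⟩
      rw [hK0, mem_bot] at hzK
      rw [hzK, orderOf_one] at hzord
      exact hp.out.ne_one hzord.symm
    · exact caseB K hKn (hRp.to_le inf_le_left) (inf_le_left.trans hRH) hK0

theorem isNilpotent [hp : Fact p.Prime] {G : Type u} [Group G] [Finite G] {H : Subgroup G}
    [hHn : H.Normal] (hidx : H.index = p) (hout : ∀ g ∉ H, g ^ p = 1) : Group.IsNilpotent H :=
  isNilpotent_aux (Nat.card G + 1) G H (Nat.lt_succ_self _) hHn hidx hout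

end CfsgLib.FgsC.Hughes
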