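import Mathlib
import Cfsg.Agent.Lib.Base.Transport

/-!
# Indices and powers: subnormal subgroups
-/

set_option autoImplicit false

open Subgroup

namespace CfsgLib.FgsC

variable {G : Type*} [Group G]

/-- `|H : H ∩ K| = |HK : K|` for normal `H`. -/
theorem relIndex_sup_of_normal [Finite G] (K H : Subgroup G) [H.Normal] :
    K.relIndex (K ⊔ H) = K.relIndex H := by
  have h1 := CfsgLib.Base.card_sup_mul_card_inf K H
  have h2 : (K ⊓ H).relIndex H * Nat.card ↥(K ⊓ H) = Nat.card H := by
    rw [← relIndex_bot_left (H := K ⊓ H), ← relIndex_bot_left (H := H), mul_comm]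
    exact relIndex_mul_relIndex _ _ _ bot_le inf_le_right
  have h3 : K.relIndex (K ⊔ H) * Nat.card K = Nat.card ↥(K ⊔ H) := by
    rw [← relIndex_bot_left (H := K), ← relIndex_bot_left (H := K ⊔ H), mul_comm]
    exact relIndex_mul_relIndex _ _ _ bot_le le_sup_left
  rw [inf_relIndex_right] at h2
  rw [← h2, ← h3] at h1
  have h4 : K.relIndex (K ⊔ H) * (Nat.card K * Nat.card ↥(K ⊓ H)) =
      K.relIndex H * (Nat.card K * Nat.card ↥(K ⊓ H)) := by linarith [h1]
  exact Nat.eq_of_mul_eq_mul_right (Nat.mul_pos Nat.card_pos Nat.card_pos) h4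

/-- `|H : H ∩ K|` divides `|G : K|` for normal `H`. -/
theorem relIndex_dvd_index [Finite G] (K H : Subgroup G) [H.Normal] :
    K.relIndex H ∣ K.index := by
  rw [← relIndex_sup_of_normal K H]
  exact ⟨_, (relIndex_mul_index (le_sup_left : K ≤ K ⊔ H)).symm⟩

theorem pow_index_mem_of_isSubnormal {H : Subgroup G} (hH : H.IsSubnormal) (x : G) :
    x ^ H.index ∈ H := by
  induction hH with
  | top => exact mem_top _
  | step H L hHL _ hN ih =>
    have := hN
    have h := (H.subgroupOf L).pow_index_mem (⟨x ^ L.index, ih⟩ : L)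
    rw [mem_subgroupOf, SubmonoidClass.coe_pow, ← pow_mul] at h
    rwa [← relIndex_mul_index hHL, mul_comm]

/-- Every subgroup of a finite nilpotent group is subnormal. -/
theorem isSubnormal_of_isNilpotent [Finite G] (hG : Group.IsNilpotent G) (H : Subgroup G) :
    H.IsSubnormal := by
  induction H using WellFoundedGT.induction with
  | ind H ih =>
    rcases eq_or_ne H ⊤ with rfl | hne
    · exact IsSubnormal.top
    · exact IsSubnormal.step H (normalizer (H : Set G)) le_normalizer
        (ih _ (Group.normalizerCondition_of_isNilpotent H (lt_top_iff_ne_top.mpr hne))) inferInstance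

end CfsgLib.FgsC
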