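import Mathlib

/-!
# Small permutation groups, Sylow congruence for overgroups of normalizers, maximal subgroups
of solvable groups
-/

set_option autoImplicit false

open Subgroup

namespace CfsgLib.FgsC

theorem isSolvable_perm_fin_four : Group.IsSolvable (Equiv.Perm (Fin 4)) := by
  have h4 : Nat.card (Fin 4) = 4 := by simp
  have := alternatingGroup.normal_kleinFour h4
  have hk : IsKleinFour (alternatingGroup.kleinFour (Fin 4)) :=
    alternatingGroup.kleinFour_isKleinFour h4
  have h1 : Group.IsSolvable (alternatingGroup.kleinFour (Fin 4)) :=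
    Group.isSolvable_of_comm (fun a b => mul_comm_of_exponent_two hk.exponent_two a b)
  have h2 : Group.IsSolvable (alternatingGroup (Fin 4) ⧸ alternatingGroup.kleinFour (Fin 4)) := by
    refine Group.isSolvable_of_comm (fun a b => ?_)
    have hle : commutator (alternatingGroup (Fin 4)) ≤ alternatingGroup.kleinFour (Fin 4) :=
      (alternatingGroup.kleinFour_eq_commutator h4).ge
    exact ((Subgroup.Normal.quotient_commutative_iff_commutator_le).mpr hle).is_comm.comm a b
  have h3 : Group.IsSolvable (alternatingGroup (Fin 4)) :=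
    (Group.isSolvable_iff_subgroup_quotient _).mpr ⟨h1, h2⟩
  exact Group.isSolvable_of_ker_le_range (alternatingGroup (Fin 4)).subtype
    (Equiv.Perm.sign : Equiv.Perm (Fin 4) →* ℤˣ) (by rw [Subgroup.range_subtype]; rfl)

theorem isSolvable_perm_of_card_le_four (α : Type*) [Finite α] (h : Nat.card α ≤ 4) :
    Group.IsSolvable (Equiv.Perm α) := by
  have := isSolvable_perm_fin_four
  exact Group.isSolvable_of_isSolvable_injective
    (Equiv.Perm.viaEmbeddingHom_injective ((Finite.equivFin α).toEmbedding.trans (Fin.castLEEmb h)))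

/-- A group with a subgroup `M` of index at most 4 and trivial core is solvable, in the form:
a subgroup of `Perm` of at most four points. -/
theorem isSolvable_of_injective_perm {G α : Type*} [Group G] [Finite α] (h : Nat.card α ≤ 4)
    (f : G →* Equiv.Perm α) (hf : Function.Injective f) : Group.IsSolvable G := by
  have := isSolvable_perm_of_card_le_four α h
  exact Group.isSolvable_of_isSolvable_injective hf

variable {G : Type*} [Group G] [Finite G] {p : ℕ} [Fact p.Prime]

/-- A subgroup containing a Sylow normalizer has index congruent to 1 modulo `p`. -/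
theorem index_modEq_one_of_normalizer_le (P : Sylow p G) (M : Subgroup G)
    (h : Subgroup.normalizer (P : Set G) ≤ M) : M.index ≡ 1 [MOD p] := by
  have hPM : (P : Subgroup G) ≤ M := le_normalizer.trans h
  have h1 := P.card_eq_index_normalizer
  have h2 := (P.subtype hPM).card_eq_index_normalizer
  have h3 : (Subgroup.normalizer (P.subtype hPM : Set M)).index =
      (Subgroup.normalizer (P : Set G)).relIndex M := by
    rw [Subgroup.relIndex]
    congr 1
    exact (subgroupOf_normalizer_eq hPM).symm
  have h4 := relIndex_mul_index h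
  rw [← h3, ← h2] at h4
  have e1 := card_sylow_modEq_one p G
  have e2 := card_sylow_modEq_one p M
  rw [h1, ← h4] at e1
  simpa using (e2.mul_right M.index).symm.trans e1

omit [Fact p.Prime] in
/-- A maximal subgroup of a finite solvable group has prime power index. -/
theorem exists_index_eq_prime_pow (hG : Group.IsSolvable G) (M : Subgroup G) (hM : IsCoatom M) :
    ∃ q k : ℕ, q.Prime ∧ M.index = q ^ k := by
  classical
  -- a normal subgroup maximal among those contained in `M`
  set C := M.normalCore with hC
  have hCM : C ≤ M := normalCore_le M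
  let f := QuotientGroup.mk' C
  have hf : Function.Surjective f := QuotientGroup.mk'_surjective C
  have hker : f.ker ≤ M := by simpa [f] using hCM
  set M' := M.map f with hM'
  have hMc : M'.comap f = M := comap_map_eq_self hker
  have hidx : M'.index = M.index := index_map_eq M hf hker
  have htop : M' ≠ ⊤ := by
    intro h
    apply hM.1
    rw [← hMc, h, comap_top]
  have hcore : ∀ N : Subgroup (G ⧸ C), N.Normal → N ≤ M' → N = ⊥ := by
    intro N hN hle
    have h1 : N.comap f ≤ M := (comap_mono hle).trans hMc.le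
    have h2 : N.comap f ≤ C := normal_le_normalCore.mpr h1
    have h3 := map_mono (f := f) h2
    rw [map_comap_eq_self_of_surjective hf] at h3
    have h4 : C.map f = ⊥ := by
      rw [Subgroup.map_eq_bot_iff]; simp [f]
    rwa [h4, le_bot_iff] at h3
  have hmax : ∀ K : Subgroup (G ⧸ C), M' < K → K = ⊤ := by
    intro K hK
    have : M < K.comap f := by
      exact hMc.symm.trans_lt ((comap_lt_comap_of_surjective hf).mpr hK)
    have := hM.2 _ this
    rw [← map_comap_eq_self_of_surjective hf K, this, map_top_of_surjective f hf]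
  have : Group.IsSolvable (G ⧸ C) := inferInstance
  -- the last nontrivial term of the derived series
  obtain ⟨n, hn⟩ := id this
  have hne : Nontrivial (G ⧸ C) := by
    by_contra h
    rw [not_nontrivial_iff_subsingleton] at h
    exact htop (Subsingleton.elim _ _)
  have hex : ∃ i, derivedSeries (G ⧸ C) i = ⊥ := ⟨n, hn⟩
  have hi0 : Nat.find hex ≠ 0 := by
    intro h
    have := Nat.find_spec hex
    rw [h, derivedSeries_zero] at this
    exact top_ne_bot this
  obtain ⟨i, hi⟩ := Nat.exists_eq_succ_of_ne_zero hi0
  set A := derivedSeries (G ⧸ C) i with hA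
  have hAne : A ≠ ⊥ := Nat.find_min hex (by omega)
  have hAcomm : ⁅A, A⁆ = ⊥ := by
    have := Nat.find_spec hex
    rwa [hi, derivedSeries_succ] at this
  have hAn : A.Normal := by rw [hA]; infer_instance
  -- a prime `q` dividing the order, and the elements of exponent `q`
  obtain ⟨q, hq, hqd⟩ := Nat.exists_prime_and_dvd (n := Nat.card A)
    (by simpa using hAne)
  have := Fact.mk hq
  have hc : ∀ a ∈ A, ∀ b ∈ A, a * b = b * a := fun a ha b hb =>
    mem_centralizer_iff.mp (commutator_eq_bot_iff_le_centralizer.mp hAcomm hb) a ha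
  let B : Subgroup (G ⧸ C) :=
    { carrier := {a | a ∈ A ∧ a ^ q = 1}
      one_mem' := ⟨A.one_mem, one_pow q⟩
      mul_mem' := fun {a b} ha hb => ⟨A.mul_mem ha.1 hb.1, by
        rw [Commute.mul_pow (hc a ha.1 b hb.1), ha.2, hb.2, one_mul]⟩
      inv_mem' := fun {a} ha => ⟨A.inv_mem ha.1, by rw [inv_pow, ha.2, inv_one]⟩ }
  have hBn : B.Normal := ⟨fun b hb g => ⟨hAn.conj_mem b hb.1 g, by
    rw [conj_pow, hb.2]; simp⟩⟩
  have hBne : B ≠ ⊥ := by
    obtain ⟨x, hx⟩ := exists_prime_orderOf_dvd_card' q hqd
    intro h
    have hxB : (x : G ⧸ C) ∈ B := ⟨x.2, by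
      rw [← hx, ← Subgroup.orderOf_coe, pow_orderOf_eq_one]⟩
    rw [h, mem_bot] at hxB
    have : x = 1 := Subtype.ext hxB
    rw [this, orderOf_one] at hx
    exact hq.one_lt.ne hx
  have hsup : M' ⊔ B = ⊤ := by
    refine hmax _ (lt_of_le_of_ne le_sup_left fun h => hBne (hcore B hBn ?_))
    exact h ▸ le_sup_right
  have hinf : B ⊓ M' = ⊥ := by
    refine hcore _ ⟨fun b hb g => ?_⟩ inf_le_right
    have hg : g ∈ M' ⊔ B := hsup ▸ mem_top g
    rw [← SetLike.mem_coe, Subgroup.mul_normal M' B] at hg
    obtain ⟨m, hm, c, hc', rfl⟩ := Set.mem_mul.mp hg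
    refine ⟨hBn.conj_mem b hb.1 _, ?_⟩
    have hcb : c * b * c⁻¹ = b := by
      rw [hc c hc'.1 b hb.1.1, mul_inv_cancel_right]
    have : m * c * b * (m * c)⁻¹ = m * (c * b * c⁻¹) * m⁻¹ := by group
    rw [this, hcb]
    exact M'.mul_mem (M'.mul_mem hm hb.2) (M'.inv_mem hm)
  have hBp : IsPGroup q B := fun b => ⟨1, Subtype.ext (by simpa using b.2.2)⟩
  obtain ⟨k, hk⟩ := IsPGroup.iff_card.mp hBp
  refine ⟨q, k, hq, ?_⟩
  rw [← hidx, ← hk]
  exact (isComplement'_of_disjoint_and_mul_eq_univ (H := B) (K := M')
    (disjoint_iff.mpr hinf) (by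
      rw [← Subgroup.normal_mul B M', sup_comm, hsup]; rfl)).index_eq_card

end CfsgLib.FgsC
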