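import Mathlib

/-!
Finite groups all of whose subgroups are normal: the quaternion subgroup.
-/

set_option autoImplicit false
set_option linter.style.haveILetI false

namespace CfsgLib.FgsC.Hamiltonian

open Subgroup
open scoped commutatorElement

variable {G : Type*} [Group G]

theorem commutator_mem_zpowers (hn : ∀ H : Subgroup G, H.Normal) (x y : G) :
    ⁅x, y⁆ ∈ zpowers x ∧ ⁅x, y⁆ ∈ zpowers y := by
  constructor
  · rw [commutatorElement_def, show x * y * x⁻¹ * y⁻¹ = x * (y * x⁻¹ * y⁻¹) by group]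
    exact mul_mem (mem_zpowers x) ((hn _).conj_mem _ (inv_mem (mem_zpowers x)) y)
  · rw [commutatorElement_def]
    exact mul_mem ((hn _).conj_mem _ (mem_zpowers y) x) (inv_mem (mem_zpowers y))

theorem commute_commutator (hn : ∀ H : Subgroup G, H.Normal) (x y : G) :
    Commute x ⁅x, y⁆ ∧ Commute y ⁅x, y⁆ := by
  obtain ⟨h1, h2⟩ := commutator_mem_zpowers hn x y
  obtain ⟨i, hi⟩ := mem_zpowers_iff.mp h1
  obtain ⟨j, hj⟩ := mem_zpowers_iff.mp h2
  exact ⟨hi ▸ Commute.self_zpow x i, hj ▸ Commute.self_zpow y j⟩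

theorem pow_commutator (hn : ∀ H : Subgroup G, H.Normal) (x y : G) (k : ℕ) :
    x ^ k * y * (x ^ k)⁻¹ = ⁅x, y⁆ ^ k * y := by
  induction k with
  | zero => simp
  | succ k ih =>
    have hc := ((commute_commutator hn x y).1).pow_right k
    calc x ^ (k + 1) * y * (x ^ (k + 1))⁻¹ = x * (x ^ k * y * (x ^ k)⁻¹) * x⁻¹ := by
          rw [pow_succ' x k]; group
      _ = x * ⁅x, y⁆ ^ k * y * x⁻¹ := by rw [ih, ← mul_assoc]
      _ = ⁅x, y⁆ ^ k * (x * y * x⁻¹) := by rw [hc.eq]; group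
      _ = ⁅x, y⁆ ^ k * (⁅x, y⁆ * y) := by rw [commutatorElement_def]; group
      _ = ⁅x, y⁆ ^ (k + 1) * y := by rw [pow_succ, mul_assoc]

/-- Powers of a product in a group of class two. -/
theorem mul_pow_class_two {x y c : G} (hyx : y * x = c * (x * y)) (hx : Commute x c)
    (hy : Commute y c) : ∀ n : ℕ, (x * y) ^ n = c ^ n.choose 2 * (x ^ n * y ^ n) := by
  have hym : ∀ k : ℕ, y ^ k * x = c ^ k * (x * y ^ k) := by
    intro k
    induction k with
    | zero => simp
    | succ k ih =>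
      calc y ^ (k + 1) * x = y * (y ^ k * x) := by rw [pow_succ', mul_assoc]
        _ = y * c ^ k * (x * y ^ k) := by rw [ih, ← mul_assoc]
        _ = c ^ k * (y * x) * y ^ k := by rw [(hy.pow_right k).eq]; group
        _ = c ^ k * (c * (x * y)) * y ^ k := by rw [hyx]
        _ = c ^ (k + 1) * (x * y ^ (k + 1)) := by
          rw [pow_succ c k, pow_succ' y k]; simp only [mul_assoc]
  intro n
  induction n with
  | zero => simp
  | succ n ih =>
    rw [pow_succ, ih]
    calc c ^ n.choose 2 * (x ^ n * y ^ n) * (x * y)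
        = c ^ n.choose 2 * x ^ n * (y ^ n * x) * y := by simp only [mul_assoc]
      _ = c ^ n.choose 2 * x ^ n * (c ^ n * (x * y ^ n)) * y := by rw [hym]
      _ = c ^ n.choose 2 * (x ^ n * c ^ n) * (x * (y ^ n * y)) := by simp only [mul_assoc]
      _ = c ^ n.choose 2 * (c ^ n * x ^ n) * (x * (y ^ n * y)) := by
          rw [((hx.pow_left n).pow_right n).eq]
      _ = c ^ (n + 1).choose 2 * (x ^ (n + 1) * y ^ (n + 1)) := by
          rw [Nat.choose_succ_succ' n 1, Nat.choose_one_right, add_comm n (n.choose 2), pow_add,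
            pow_succ x n, pow_succ y n]
          simp only [mul_assoc]

/-- A non-abelian group with all subgroups normal contains a pair generating a quaternion group. -/
theorem exists_quaternion_pair [Finite G] (hn : ∀ H : Subgroup G, H.Normal)
    (hna : ∃ x y : G, x * y ≠ y * x) :
    ∃ x y : G, x * y ≠ y * x ∧ orderOf x = 4 ∧ y * y = x * x ∧ y * x * y⁻¹ = x⁻¹ := by
  classical
  obtain ⟨a, b, hab⟩ := hna
  obtain ⟨⟨x, y⟩, hxy, hmin⟩ := Set.exists_min_image {q : G × G | q.1 * q.2 ≠ q.2 * q.1}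
    (fun q => orderOf q.1 + orderOf q.2) (Set.toFinite _) ⟨(a, b), hab⟩
  simp only [Set.mem_ofPred_eq] at hxy
  wlog hle : orderOf y ≤ orderOf x generalizing x y
  · exact this y x (Ne.symm hxy) (fun q hq => by have := hmin q hq; dsimp only at this ⊢; omega) (by omega)
  have hsmall : ∀ u v : G, orderOf u + orderOf v < orderOf x + orderOf y → u * v = v * u := by
    intro u v hlt
    by_contra h
    exact absurd (hmin (u, v) h) (not_le.mpr hlt)
  set c := ⁅x, y⁆ with hc
  have hc1 : c ≠ 1 := fun h => hxy (commutatorElement_eq_one_iff_mul_comm.mp h)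
  obtain ⟨hxc, hyc⟩ := commute_commutator hn x y
  obtain ⟨hcx, hcy⟩ := commutator_mem_zpowers hn x y
  have hpow : ∀ r : ℕ, r.Prime → r ∣ orderOf x → c ^ r = 1 := by
    intro r hr hd
    have hlt : orderOf (x ^ r) < orderOf x := by
      rw [orderOf_pow_of_dvd hr.ne_zero hd]
      exact Nat.div_lt_self (orderOf_pos x) hr.one_lt
    have h1 := hsmall (x ^ r) y (by omega)
    have h2 := pow_commutator hn x y r
    rw [h1, mul_inv_cancel_right, ← hc] at h2
    exact mul_eq_right.mp h2.symm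
  have hpow' : ∀ r : ℕ, r.Prime → r ∣ orderOf y → c ^ r = 1 := by
    intro r hr hd
    have hlt : orderOf (y ^ r) < orderOf y := by
      rw [orderOf_pow_of_dvd hr.ne_zero hd]
      exact Nat.div_lt_self (orderOf_pos y) hr.one_lt
    have h1 := (hsmall x (y ^ r) (by omega)).symm
    have h2 := pow_commutator hn y x r
    rw [h1, mul_inv_cancel_right, ← commutatorElement_inv, ← hc, inv_pow] at h2
    exact inv_eq_one.mp (mul_eq_right.mp h2.symm)
  obtain ⟨p, hp, hpd⟩ := Nat.exists_prime_and_dvd (n := orderOf x) fun h => hxy (by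
    rw [orderOf_eq_one_iff.mp h, one_mul, mul_one])
  haveI : Fact p.Prime := ⟨hp⟩
  have hcp : orderOf c = p := orderOf_eq_prime (hpow p hp hpd) hc1
  have huniq : ∀ r : ℕ, r.Prime → c ^ r = 1 → r = p := fun r hr h =>
    ((Nat.prime_dvd_prime_iff_eq hp hr).mp (hcp ▸ orderOf_dvd_of_pow_eq_one h)).symm
  obtain ⟨m, hm⟩ : ∃ m, orderOf x = p ^ m := ⟨_, Nat.eq_prime_pow_of_unique_prime_dvd
    (orderOf_pos x).ne' fun {d} hd hdvd => huniq d hd (hpow d hd hdvd)⟩
  obtain ⟨n, hn'⟩ : ∃ n, orderOf y = p ^ n := ⟨_, Nat.eq_prime_pow_of_unique_prime_dvd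
    (orderOf_pos y).ne' fun {d} hd hdvd => huniq d hd (hpow' d hd hdvd)⟩
  have hnm : n ≤ m := (Nat.pow_le_pow_iff_right hp.one_lt).mp (hm ▸ hn' ▸ hle)
  -- the subgroup of order `p` of a cyclic `p`-group
  have hgen : ∀ (u : G) (k : ℕ), orderOf u = p ^ k → c ∈ zpowers u → 1 ≤ k ∧
      ∃ j : ℤ, c = (u ^ p ^ (k - 1)) ^ j := by
    intro u k hu hcu
    obtain ⟨i, hi⟩ := mem_zpowers_iff.mp hcu
    have hk1 : 1 ≤ k := by
      by_contra h
      rw [show k = 0 by omega, pow_zero, orderOf_eq_one_iff] at hu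
      rw [hu, one_zpow] at hi
      exact hc1 hi.symm
    have h1 : u ^ (i * (p : ℤ)) = 1 := by
      rw [zpow_mul, zpow_natCast, hi, ← hcp, pow_orderOf_eq_one]
    have h2 := orderOf_dvd_iff_zpow_eq_one.mpr h1
    rw [hu, show p ^ k = p ^ (k - 1) * p by rw [← pow_succ, Nat.sub_add_cancel hk1], Nat.cast_mul] at h2
    obtain ⟨j, hj⟩ := Int.dvd_of_mul_dvd_mul_right (by exact_mod_cast hp.ne_zero) h2
    exact ⟨hk1, j, by rw [← hi, hj, zpow_mul, zpow_natCast]⟩
  obtain ⟨hm1, jx, hjx⟩ := hgen x m hm hcx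
  obtain ⟨hn1, jy, hjy⟩ := hgen y n hn' hcy
  have hn2 : 2 ≤ n := by
    by_contra h
    have hn0 : n = 1 := by omega
    rw [hn0, Nat.sub_self, pow_zero, pow_one] at hjy
    -- then `y` is a power of `c`
    rw [hn0, pow_one] at hn'
    obtain ⟨u, v, huv⟩ : IsCoprime (p : ℤ) jy := (Nat.prime_iff_prime_int.mp hp).coprime_iff_not_dvd.mpr
      fun hd => hc1 (by
        obtain ⟨w, rfl⟩ := hd
        rw [hjy, zpow_mul, zpow_natCast, ← hn', pow_orderOf_eq_one, one_zpow])
    have hy : y = c ^ v := by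
      conv_lhs => rw [← zpow_one y, ← huv]
      rw [zpow_add, mul_comm u, zpow_mul, zpow_natCast, ← hn', pow_orderOf_eq_one, one_zpow, one_mul,
        mul_comm v, zpow_mul, ← hjy]
    exact hxy (hy ▸ (hxc.zpow_right v).eq)
  -- express the element of order `p` of `⟨y⟩` as a power of `x`
  obtain ⟨u, v, huv⟩ : IsCoprime (p : ℤ) jy := (Nat.prime_iff_prime_int.mp hp).coprime_iff_not_dvd.mpr
    fun hd => hc1 (by
      obtain ⟨w, rfl⟩ := hd
      rw [hjy, zpow_mul, zpow_natCast, ← pow_mul, ← pow_succ, Nat.sub_add_cancel hn1, ← hn',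
        pow_orderOf_eq_one, one_zpow])
  have hy' : y ^ p ^ (n - 1) = c ^ v := by
    conv_lhs => rw [← zpow_one (y ^ p ^ (n - 1)), ← huv]
    rw [zpow_add, mul_comm u, zpow_mul, zpow_natCast, ← pow_mul, ← pow_succ, Nat.sub_add_cancel hn1,
      ← hn', pow_orderOf_eq_one, one_zpow, one_mul, mul_comm v, zpow_mul, ← hjy]
  -- `y' = x ^ e * y` with `x ^ (e * p ^ (n - 1)) = (y ^ p ^ (n - 1))⁻¹`
  obtain ⟨e, he⟩ : ∃ e : ℕ, x ^ (e * p ^ (m - n) * p ^ (n - 1)) = (y ^ p ^ (n - 1))⁻¹ := by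
    have hmem : (y ^ p ^ (n - 1))⁻¹ ∈ zpowers (x ^ p ^ (m - 1)) := by
      rw [hy', hjx, ← zpow_mul, ← zpow_neg]
      exact zpow_mem (mem_zpowers _) _
    obtain ⟨e, he⟩ := (mem_powers_iff_mem_zpowers.mpr hmem)
    refine ⟨e, ?_⟩
    rw [mul_assoc, ← pow_add, show m - n + (n - 1) = m - 1 by omega, mul_comm, pow_mul]
    exact he
  set k := e * p ^ (m - n) with hk
  set x₁ := x ^ k with hx₁
  set c₁ := c ^ k with hc₁
  have hcomm' : y * x₁ = c₁⁻¹ * (x₁ * y) := by
    have h := pow_commutator hn x y k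
    rw [← hx₁, ← hc, ← hc₁] at h
    rw [eq_inv_mul_iff_mul_eq, ← mul_assoc, ← h, inv_mul_cancel_right]
  have hne : x * (x₁ * y) ≠ x₁ * y * x := fun h => hxy (by
    have h' : x₁ * (x * y) = x₁ * (y * x) := by
      rw [← mul_assoc, ← mul_assoc, (Commute.self_pow x k).symm.eq, mul_assoc, h, mul_assoc]
    exact mul_left_cancel h')
  have hbig : orderOf y ≤ orderOf (x₁ * y) := by
    have := hmin (x, x₁ * y) hne
    change orderOf x + orderOf y ≤ orderOf x + orderOf (x₁ * y) at this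
    omega
  have hkey : (c₁⁻¹) ^ (p ^ (n - 1)).choose 2 ≠ 1 := by
    intro h
    have h1 : (x₁ * y) ^ p ^ (n - 1) = 1 := by
      rw [mul_pow_class_two hcomm' (((hxc.pow_left k).pow_right k).inv_right)
        ((hyc.pow_right k).inv_right), h, one_mul, hx₁, ← pow_mul, he, inv_mul_cancel]
    have h2 := Nat.le_of_dvd (pow_pos hp.pos _) (orderOf_dvd_of_pow_eq_one h1)
    rw [hn'] at hbig
    have h3 : p ^ (n - 1) < p ^ n := Nat.pow_lt_pow_right hp.one_lt (by omega)
    omega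
  have hnd : ¬ p ∣ k * (p ^ (n - 1)).choose 2 := by
    rintro ⟨w, hw⟩
    apply hkey
    rw [inv_pow, hc₁, ← pow_mul, hw, pow_mul, ← hcp, pow_orderOf_eq_one, one_pow, inv_one]
  have hmn : m = n := by
    by_contra hne'
    apply hnd
    refine Dvd.dvd.mul_right ?_ _
    rw [hk]
    exact Dvd.dvd.mul_left (dvd_pow_self p (by omega)) _
  have hchoose : ¬ p ∣ (p ^ (n - 1)).choose 2 := fun h => hnd (Dvd.dvd.mul_left h _)
  have h2dvd : (p ^ (n - 1)).choose 2 * 2 = p ^ (n - 1) * (p ^ (n - 1) - 1) := by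
    have h := Nat.choose_two_right (p ^ (n - 1))
    have hev : 2 ∣ p ^ (n - 1) * (p ^ (n - 1) - 1) := by
      rcases Nat.even_or_odd (p ^ (n - 1)) with ⟨w, hw⟩ | ⟨w, hw⟩
      · exact Dvd.dvd.mul_right ⟨w, by omega⟩ _
      · exact Dvd.dvd.mul_left ⟨w, by omega⟩ _
    rw [h, Nat.div_mul_cancel hev]
  have hp2 : p = 2 := by
    by_contra h
    apply hchoose
    have hd : p ∣ (p ^ (n - 1)).choose 2 * 2 := h2dvd ▸ Dvd.dvd.mul_right (dvd_pow_self p (by omega)) _
    exact (hp.dvd_mul.mp hd).resolve_right fun h' => h ((Nat.prime_dvd_prime_iff_eq hp Nat.prime_two).mp h')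
  subst hp2
  have hn3 : n = 2 := by
    by_contra h
    apply hchoose
    obtain ⟨w, hw⟩ : 4 ∣ (2 : ℕ) ^ (n - 1) := by
      rw [show n - 1 = 2 + (n - 3) by omega, pow_add]
      exact dvd_mul_right _ _
    refine ⟨w * (2 ^ (n - 1) - 1), ?_⟩
    rw [hw, mul_assoc] at h2dvd
    rw [hw]
    linarith [h2dvd]
  subst hn3
  rw [hmn] at hm hjx
  -- the involutions of `⟨x⟩` and `⟨y⟩` are `c`
  have hinv : ∀ (u : G) (j : ℤ), orderOf u = 2 ^ 2 → c = (u ^ 2 ^ (2 - 1)) ^ j → c = u * u := by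
    intro u j hu hj
    have h2 : (u * u) * (u * u) = 1 := by
      rw [← mul_assoc, show u * u * u * u = u ^ 4 by simp [pow_succ, mul_assoc],
        show (4 : ℕ) = orderOf u by rw [hu]; norm_num, pow_orderOf_eq_one]
    have hj' : c = (u * u) ^ j := by rw [hj, show (2 : ℕ) ^ (2 - 1) = 2 from rfl, sq]
    obtain ⟨w, rfl | rfl⟩ := Int.even_or_odd' j
    · exfalso
      rw [zpow_mul, zpow_two, h2, one_zpow] at hj'
      exact hc1 hj'
    · rw [zpow_add_one, zpow_mul, zpow_two, h2, one_zpow, one_mul] at hj'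
      exact hj'
  have hx2 : c = x * x := hinv x jx hm hjx
  have hy2 : c = y * y := hinv y jy hn' hjy
  refine ⟨x, y, hxy, by rw [hm]; norm_num, by rw [← hx2, ← hy2], ?_⟩
  have hc2 : c⁻¹ = c := inv_eq_of_mul_eq_one_right (by
    rw [← sq, ← hcp, pow_orderOf_eq_one])
  calc y * x * y⁻¹ = c⁻¹ * x := by rw [hc, commutatorElement_inv, commutatorElement_def]; group
    _ = (x * x)⁻¹ * x := by rw [hx2]
    _ = x⁻¹ := by group

end CfsgLib.FgsC.Hamiltonian
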