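/-
An elementary abelian section in a group of maximal class.
-/
import Cfsg.Agent.Lib.PGroups.Pearl
import Cfsg.Agent.Lib.PGroups.ClassBreadth
import Cfsg.Agent.Lib.PLocal.RegularTheory
import Cfsg.Agent.Lib.Base.Rank

set_option autoImplicit false
set_option linter.unusedSectionVars false

namespace CfsgLib.FgsC.MaxClassSection

open Subgroup CfsgLib.PLocal CfsgLib.PGroups.Pearl CfsgLib.PGroups
open scoped commutatorElement

variable {G : Type*} [Group G] [Finite G] {p m : ℕ} [hp : Fact p.Prime]

/-- `|G| = p ^ m` and `G` has maximal class -/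
structure MC (G : Type*) [Group G] (p m : ℕ) : Prop where
  card : Nat.card G = p ^ m
  cls : Group.nilpotencyClass G = m - 1
  three : 3 ≤ m

variable (H : MC G p m)
include H

lemma MC.card_lcs {i : ℕ} (hi : 1 ≤ i) (hin : i ≤ m - 1) :
    Nat.card (lcsT G i) = p ^ (m - 1 - i) := maximalClass_card H.card H.cls H.three i hi hin

lemma MC.lcs_eq_bot {i : ℕ} (hi : m - 1 ≤ i) : lcsT G i = ⊥ := by
  haveI := (IsPGroup.of_card H.card).isNilpotent
  exact Subgroup.lowerCentralSeries_eq_bot_iff_nilpotencyClass_le.2 (by rw [H.cls]; exact hi)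

lemma MC.lcs_lt {i : ℕ} (hi : i + 1 ≤ m - 1) : lcsT G (i + 1) < lcsT G i := by
  refine lt_of_le_of_ne (Subgroup.lowerCentralSeries_antitone _ i.le_succ) fun h => ?_
  have hp1 := hp.1.one_lt
  rcases Nat.eq_zero_or_pos i with rfl | hi0
  · have h1 := H.card_lcs (i := 1) le_rfl (by omega)
    rw [show lcsT G 1 = (⊤ : Subgroup G) from h, Subgroup.card_top, H.card] at h1
    have := Nat.pow_right_injective hp.1.two_le h1
    omega
  · have h1 := H.card_lcs (i := i + 1) (by omega) hi
    rw [h, H.card_lcs hi0 (by omega)] at h1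
    have := Nat.pow_right_injective hp.1.two_le h1
    omega

lemma MC.twoStep_ne_top {i : ℕ} (hi : i + 2 ≤ m - 1) : twoStepCentralizer G i ≠ ⊤ := fun h => by
  refine (H.lcs_lt (i := i + 1) hi).not_ge ?_
  show ⁅lcsT G i, (⊤ : Subgroup G)⁆ ≤ _
  rw [Subgroup.commutator_le]
  intro a ha x _
  exact mem_twoStepCentralizer.1 (h ▸ mem_top x) a ha

lemma MC.layer_card {i : ℕ} (hi : 1 ≤ i) (hin : i + 1 ≤ m - 1) :
    Nat.card (lcsT G i) = Nat.card (lcsT G (i + 1)) * p := by
  rw [H.card_lcs hi (by omega), H.card_lcs (by omega) hin, ← pow_succ]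
  congr 1
  omega

/-- a subgroup containing one layer and a new element contains the layer above -/
lemma MC.layer_le {i : ℕ} (hi : 1 ≤ i) (hin : i + 1 ≤ m - 1) {P : Subgroup G}
    (hP : lcsT G (i + 1) ≤ P) {y : G} (hy : y ∈ lcsT G i) (hy' : y ∉ lcsT G (i + 1)) (hyP : y ∈ P) :
    lcsT G i ≤ P := by
  have hlt : lcsT G (i + 1) < P ⊓ lcsT G i :=
    lt_of_le_of_ne (le_inf hP (Subgroup.lowerCentralSeries_antitone _ i.le_succ)) fun h =>
      hy' (h ▸ ⟨hyP, hy⟩)
  obtain ⟨a, ha⟩ := card_subgroup_eq_pow (IsPGroup.of_card H.card) (P ⊓ lcsT G i)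
  have h1 : Nat.card (lcsT G (i + 1)) < Nat.card ↥(P ⊓ lcsT G i) :=
    lt_of_le_of_ne (card_le_of_le hlt.le) fun h => hlt.ne (eq_of_le_of_card_ge hlt.le h.ge)
  rw [ha, H.card_lcs (by omega) hin] at h1
  have h2 := (Nat.pow_lt_pow_iff_right hp.1.one_lt).1 h1
  refine inf_eq_right.1 (eq_of_le_of_card_ge inf_le_right ?_)
  rw [ha, H.card_lcs hi (by omega)]
  exact Nat.pow_le_pow_right hp.1.pos (by omega)

lemma MC.layer_not_mem {i : ℕ} (hi : 1 ≤ i) (hin : i + 2 ≤ m - 1) {g y : G}
    (hg : g ∉ twoStepCentralizer G i) (hy : y ∈ lcsT G i) (hy' : y ∉ lcsT G (i + 1)) :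
    ⁅y, g⁆ ∉ lcsT G (i + 2) := by
  intro hc
  haveI : (lcsT G (i + 2)).Normal := lcsT_normal _
  set π := QuotientGroup.mk' (lcsT G (i + 2))
  set P := (centralizer ({π g} : Set _)).comap π with hP
  have hmem : ∀ a, a ∈ P ↔ ⁅a, g⁆ ∈ lcsT G (i + 2) := fun a => by
    rw [hP, mem_comap, mem_centralizer_singleton_iff, ← commutatorElement_eq_one_iff_mul_comm,
      ← map_commutatorElement]
    exact QuotientGroup.eq_one_iff _
  refine hg (mem_twoStepCentralizer.2 fun a ha => (hmem a).1 ?_)
  refine H.layer_le hi (by omega) (P := P) ?_ hy hy' ((hmem y).2 hc) ha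
  intro b hb
  refine (hmem b).2 ?_
  rw [show lcsT G (i + 2) = ⁅lcsT G (i + 1), (⊤ : Subgroup G)⁆ from rfl]
  exact commutator_mem_commutator hb (mem_top g)

lemma MC.descend {g v : G} (hv : Commute v g) {i : ℕ} (hi : 1 ≤ i) (hin : i + 2 ≤ m - 1)
    (hg : g ∉ twoStepCentralizer G i) (hvi : v ∈ lcsT G i) : v ∈ lcsT G (i + 1) := by
  by_contra h
  refine H.layer_not_mem hi hin hg hvi h ?_
  rw [commutatorElement_eq_one_iff_commute.2 hv]
  exact one_mem _

theorem MC.pow_mem {j : ℕ} (hj1 : 1 ≤ j) (hjp : j < p) (hjm : j + 1 ≤ m - 1) :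
    ∀ x : G, x ^ p ∈ lcsT G j := by
  induction j, hj1 using Nat.le_induction with
  | base =>
    intro x
    rw [lcsT, top_lowerCentralSeries_one]
    haveI : (commutator G).Normal := inferInstance
    have h2 := index_commutator_of_maximalClass H.three H.card H.cls
    have hna : ¬ IsCyclic (G ⧸ commutator G) := fun hc => by
      have hab : IsMulCommutative G := by
        have hn : Group.IsNilpotent G := (IsPGroup.of_card H.card).isNilpotent
        by_contra hnc
        have h0 : lcsT G 2 < lcsT G 1 := H.lcs_lt (by have := H.three; omega)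
        refine h0.not_ge ?_
        obtain ⟨⟨a⟩, ha⟩ := hc.exists_generator
        rw [show lcsT G 1 = ⁅(⊤ : Subgroup G), ⊤⁆ from rfl, commutator_le]
        intro u _ w _
        have key : ∀ u : G, u ∈ Subgroup.zpowers a ⊔ commutator G := fun u => by
          obtain ⟨i, hi⟩ := ha (QuotientGroup.mk u)
          have : (a ^ i)⁻¹ * u ∈ commutator G := by
            rw [← QuotientGroup.eq]; exact hi
          have h := mul_mem (mem_sup_left (zpow_mem (mem_zpowers a) i) : a ^ i ∈ zpowers a ⊔ commutator G)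
            (mem_sup_right this)
          rwa [mul_inv_cancel_left] at h
        haveI : (lcsT G 2).Normal := lcsT_normal _
        rw [← QuotientGroup.eq_one_iff]
        show QuotientGroup.mk' (lcsT G 2) ⁅u, w⁆ = 1
        rw [map_commutatorElement, commutatorElement_eq_one_iff_commute]
        set π := QuotientGroup.mk' (lcsT G 2)
        have hc1 : ∀ v ∈ commutator G, ∀ z : G, Commute (π v) (π z) := fun v hv z => by
          rw [← commutatorElement_eq_one_iff_commute, ← map_commutatorElement]
          refine (QuotientGroup.eq_one_iff _).2 ?_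
          rw [show lcsT G 2 = ⁅lcsT G 1, (⊤ : Subgroup G)⁆ from rfl]
          exact commutator_mem_commutator (by rw [lcsT, top_lowerCentralSeries_one]; exact hv)
            (mem_top z)
        obtain ⟨_, ⟨i, rfl⟩, v, hv, rfl⟩ := mem_sup_of_normal_right.1 (key u)
        obtain ⟨_, ⟨l, rfl⟩, v', hv', rfl⟩ := mem_sup_of_normal_right.1 (key w)
        rw [map_mul, map_mul]
        refine Commute.mul_left (Commute.mul_right ?_ (hc1 v' hv' _).symm) (hc1 v hv _ |>.mul_right
          (hc1 v hv _))
        rw [map_zpow, map_zpow]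
        exact (Commute.refl _).zpow_zpow i l
      haveI := (IsPGroup.of_card H.card).isNilpotent
      have := Group.IsNilpotent.nilpotencyClass_le_one_iff.mpr hab
      rw [H.cls] at this
      have := H.three
      omega
    rw [← QuotientGroup.eq_one_iff, QuotientGroup.mk_pow]
    set u : G ⧸ commutator G := (x : G ⧸ commutator G)
    have hcard : Nat.card (G ⧸ commutator G) = p ^ 2 := h2
    obtain ⟨a, ha, hu⟩ := (Nat.dvd_prime_pow hp.1).1 (hcard ▸ orderOf_dvd_natCard u)
    rcases Nat.lt_or_ge a 2 with h | h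
    · exact orderOf_dvd_iff_pow_eq_one.1 (hu ▸ (pow_dvd_pow p (show a ≤ 1 by omega)).trans (by rw [pow_one]))
    · exfalso
      exact hna (isCyclic_of_orderOf_eq_card u (by rw [hu, hcard, show a = 2 by omega]))
  | succ j hj1 ih =>
    have ihx := ih (by omega) (by omega)
    haveI : (lcsT G (j + 1)).Normal := lcsT_normal _
    have hout : ∀ x, x ∉ twoStepCentralizer G j → x ^ p ∈ lcsT G (j + 1) := fun x hx =>
      H.descend ((Commute.refl x).pow_left p) hj1 (by omega) hx (ihx x)
    intro x
    set π := QuotientGroup.mk' (lcsT G (j + 1)) with hπ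
    have hR : PRegular p (G ⧸ lcsT G (j + 1)) := by
      refine pRegular_of_lowerCentralSeries_eq_bot ?_
      have hmap : ((⊤ : Subgroup G).lowerCentralSeries (p - 1)).map π = ⊥ := by
        rw [Subgroup.map_eq_bot_iff, hπ, QuotientGroup.ker_mk']
        exact Subgroup.lowerCentralSeries_antitone _ (by omega)
      rw [map_lowerCentralSeries,
        Subgroup.map_top_of_surjective _ (QuotientGroup.mk'_surjective _)] at hmap
      exact hmap
    have hout' : ∀ x, x ∉ twoStepCentralizer G j → π x ^ p = 1 := fun x hx => by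
      rw [← map_pow]; exact (QuotientGroup.eq_one_iff _).2 (hout x hx)
    by_cases hx : x ∈ twoStepCentralizer G j
    · obtain ⟨y, hy⟩ : ∃ y, y ∉ twoStepCentralizer G j := by
        by_contra! h
        exact H.twoStep_ne_top (i := j) (by omega) (eq_top_iff.2 fun y _ => h y)
      have hxy : x * y⁻¹ ∉ twoStepCentralizer G j := fun h =>
        hy (inv_mem_iff.1 ((mul_mem_cancel_left hx).1 h))
      rw [← QuotientGroup.eq_one_iff]
      show π (x ^ p) = 1
      rw [map_pow, show π x = π (x * y⁻¹) * π y by rw [← map_mul, inv_mul_cancel_right]]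
      have := pow_mul_eq_one ((IsPGroup.of_card H.card).to_quotient _) hR 1 (π (x * y⁻¹)) (π y)
      simp only [pow_one] at this
      exact this (hout' _ hxy) (hout' _ hy)
    · exact hout x hx

omit H in
lemma sum_one_add_pow {A : Type*} [Ring A] (D : A) (n : ℕ) :
    ∑ j ∈ Finset.range n, (1 + D) ^ j = ∑ i ∈ Finset.range n, n.choose (i + 1) • D ^ i := by
  induction n with
  | zero => simp
  | succ n ih =>
    rw [Finset.sum_range_succ, ih, add_comm (1 : A) D, (Commute.one_right D).add_pow,
      Finset.sum_range_succ (fun i => (n + 1).choose (i + 1) • D ^ i), Nat.choose_self,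
      Finset.sum_range_succ (f := fun i => D ^ i * 1 ^ (n - i) * (n.choose i : A))]
    simp only [Nat.choose_succ_succ', add_smul, Finset.sum_add_distrib, one_pow, mul_one,
      nsmul_eq_mul, Nat.choose_self, Nat.cast_one]
    simp only [Nat.cast_comm, one_mul, Nat.add_comm 1]
    abel

theorem MC.section_exponent {k : ℕ} (hk : 2 ≤ k) (hm : m = 2 * k + 1) (hpk : k + 2 ≤ p) :
    (∀ a ∈ lcsT G (k - 1), ∀ b ∈ lcsT G (k - 1), a * b = b * a) ∧
      (∀ a ∈ lcsT G (k - 1), a ^ p = 1) := by
  classical
  subst hm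
  have hG : IsPGroup p G := IsPGroup.of_card H.card
  set K := lcsT G (k - 1) with hKdef
  have hk1 : k - 1 + 1 = k := by omega
  -- commutativity
  have hKk : ∀ a ∈ K, ∀ b ∈ lcsT G k, Commute a b := fun a ha b hb => by
    rw [← commutatorElement_eq_one_iff_commute, ← Subgroup.mem_bot,
      ← H.lcs_eq_bot (i := k - 1 + k + 1) (by omega)]
    exact commutator_lowerCentralSeries_le _ _ (commutator_mem_commutator ha hb)
  obtain ⟨y, hyK, hyk⟩ : ∃ y ∈ K, y ∉ lcsT G k := by
    refine SetLike.not_le_iff_exists.1 fun h => ?_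
    have := H.lcs_lt (i := k - 1) (by omega)
    rw [hk1] at this
    exact this.not_ge h
  have hab : ∀ a ∈ K, ∀ b ∈ K, a * b = b * a := by
    have hy : ∀ a ∈ K, Commute a y := by
      intro a ha
      have hle : K ≤ centralizer ({y} : Set G) := by
        refine H.layer_le (i := k - 1) (by omega) (by omega) (P := centralizer ({y} : Set G)) ?_
          hyK (by rwa [hk1]) (mem_centralizer_singleton_iff.2 rfl)
        rw [hk1]
        exact fun b hb => mem_centralizer_singleton_iff.2 (hKk y hyK b hb).symm.eq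
      exact mem_centralizer_singleton_iff.1 (hle ha)
    intro a ha b hb
    have hle : K ≤ centralizer ({a} : Set G) := by
      refine H.layer_le (i := k - 1) (by omega) (by omega) (P := centralizer ({a} : Set G)) ?_
        hyK (by rwa [hk1]) (mem_centralizer_singleton_iff.2 (hy a ha).symm.eq)
      rw [hk1]
      exact fun c hc => mem_centralizer_singleton_iff.2 (hKk a ha c hc).symm.eq
    exact (mem_centralizer_singleton_iff.1 (hle hb)).symm
  refine ⟨hab, ?_⟩
  -- an element outside the relevant two-step centralisers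
  obtain ⟨g, hg⟩ : ∃ g : G, ∀ l < k + 1, g ∉ twoStepCentralizer G (k - 2 + l) := by
    obtain ⟨x, hx⟩ := exists_many_not_mem hG (m := k + 1) (by omega)
      (fun l => twoStepCentralizer G (k - 2 + l)) fun l hl => H.twoStep_ne_top (by omega)
    refine ⟨x, fun l hl hmem => ?_⟩
    have hle : ((Finset.range (k + 1)).filter
        fun l => x ∉ twoStepCentralizer G (k - 2 + l)).card ≤ k := by
      have hsub : ((Finset.range (k + 1)).filter
          fun l => x ∉ twoStepCentralizer G (k - 2 + l)) ⊆ (Finset.range (k + 1)).erase l := by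
        intro i hi
        rw [Finset.mem_filter] at hi
        exact Finset.mem_erase.2 ⟨fun e => hi.2 (e ▸ hmem), hi.1⟩
      have := Finset.card_le_card hsub
      rw [Finset.card_erase_of_mem (Finset.mem_range.2 hl), Finset.card_range] at this
      omega
    have h1 := lt_of_lt_of_le hx (Nat.mul_le_mul_right p hle)
    have : (k + 1) * (p - 1) + (k + 1) = (k + 1) * p := by
      rw [← Nat.mul_succ]; congr 1; omega
    rw [add_one_mul k p] at this
    omega
  have hgC : ∀ i, k - 2 ≤ i → i ≤ 2 * k - 2 → g ∉ twoStepCentralizer G i := fun i h1 h2 => by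
    have := hg (i - (k - 2)) (by omega)
    rwa [show k - 2 + (i - (k - 2)) = i by omega] at this
  -- `g ^ p` is central
  have hgp : g ^ p ∈ lcsT G (2 * k - 1) := by
    have : ∀ d, d ≤ k → g ^ p ∈ lcsT G (k - 1 + d) := by
      intro d
      induction d with
      | zero => exact fun _ => H.pow_mem (by omega) (by omega) (by omega) g
      | succ d ih =>
        intro hd
        exact H.descend (i := k - 1 + d) ((Commute.refl g).pow_left p) (by omega) (by omega)
          (hgC _ (by omega) (by omega)) (ih (by omega))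
    have h := this k le_rfl
    rwa [show k - 1 + k = 2 * k - 1 by omega] at h
  have hcen : ∀ z : G, g ^ p * z = z * g ^ p := fun z => by
    rw [← commutatorElement_eq_one_iff_mul_comm, ← Subgroup.mem_bot,
      ← H.lcs_eq_bot (i := 2 * k - 1 + 1) (by omega)]
    show _ ∈ ⁅lcsT G (2 * k - 1), (⊤ : Subgroup G)⁆
    exact commutator_mem_commutator hgp (mem_top z)
  -- the first commutator
  obtain ⟨x, hx, hc⟩ : ∃ x ∈ lcsT G (k - 2), ⁅g, x⁆ ∉ lcsT G k := by
    by_contra! h
    refine hgC (k - 2) le_rfl (by omega) (mem_twoStepCentralizer.2 fun a ha => ?_)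
    rw [show k - 2 + 2 = k by omega, ← commutatorElement_inv]
    exact inv_mem (h a ha)
  have hcK : ⁅g, x⁆ ∈ K := by
    rw [hKdef, show k - 1 = k - 2 + 1 by omega, ← commutatorElement_inv]
    exact inv_mem (show _ ∈ ⁅lcsT G (k - 2), (⊤ : Subgroup G)⁆ from
      commutator_mem_commutator hx (mem_top g))
  haveI hKn : K.Normal := lcsT_normal _
  letI : CommGroup ↥K :=
    { (inferInstance : Group ↥K) with mul_comm := fun a b => Subtype.ext (hab _ a.2 _ b.2) }
  let T : AddMonoid.End (Additive ↥K) := MonoidHom.toAdditive (MulAut.conjNormal g : MulAut ↥K).toMonoidHom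
  let D : AddMonoid.End (Additive ↥K) := T - 1
  let c : Additive ↥K := Additive.ofMul ⟨⁅g, x⁆, hcK⟩
  let val : Additive ↥K → G := fun a => ((Additive.toMul a : ↥K) : G)
  have hT : ∀ a : Additive ↥K, val (T a) = g * val a * g⁻¹ := fun a => MulAut.conjNormal_apply _ _
  have hadd : ∀ a b : Additive ↥K, val (a + b) = val a * val b := fun a b => rfl
  have hD : ∀ a : Additive ↥K, val (D a) = g * val a * g⁻¹ * (val a)⁻¹ := fun a => by
    have : D a = T a + -a := sub_eq_add_neg (T a) a
    rw [this, hadd, hT]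
    rfl
  have hsum : ∀ n, val ((∑ j ∈ Finset.range n, T ^ j) c) = g ^ n * x * (g ^ n)⁻¹ * x⁻¹ := by
    intro n
    induction n with
    | zero => simp [val]
    | succ n ih =>
      have : (∑ j ∈ Finset.range (n + 1), T ^ j) = 1 + T * ∑ j ∈ Finset.range n, T ^ j := by
        rw [Finset.sum_range_succ', Finset.mul_sum, add_comm, pow_zero]
        simp only [pow_succ']
      rw [this]
      show val (c + T ((∑ j ∈ Finset.range n, T ^ j) c)) = _
      rw [add_comm c, hadd, hT, ih]
      show _ * ⁅g, x⁆ = _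
      rw [pow_succ']
      simp [commutatorElement_def, mul_assoc]
  have h0 : (∑ i ∈ Finset.range p, p.choose (i + 1) • D ^ i) c = 0 := by
    rw [← sum_one_add_pow, show 1 + D = T from add_sub_cancel 1 T]
    refine Additive.toMul.injective (Subtype.ext ?_)
    show val _ = 1
    rw [hsum, hcen x]
    group
  have hlayer : ∀ i, k - 1 + i ≤ 2 * k → val ((D ^ i) c) ∈ lcsT G (k - 1 + i) ∧
      (k + i ≤ 2 * k → val ((D ^ i) c) ∉ lcsT G (k + i)) := by
    intro i
    induction i with
    | zero => exact fun _ => ⟨hcK, fun _ => hc⟩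
    | succ i ih =>
      intro hi
      obtain ⟨h1, h2⟩ := ih (by omega)
      have hv : val ((D ^ (i + 1)) c) = ⁅g, val ((D ^ i) c)⁆ := by
        rw [pow_succ']
        show val (D ((D ^ i) c)) = _
        rw [hD, commutatorElement_def]
      rw [hv, ← commutatorElement_inv]
      refine ⟨inv_mem ?_, fun hik hmem => ?_⟩
      · show _ ∈ ⁅lcsT G (k - 1 + i), (⊤ : Subgroup G)⁆
        exact commutator_mem_commutator h1 (mem_top g)
      · refine H.layer_not_mem (i := k - 1 + i) (by omega) (by omega)
          (hgC _ (by omega) (by omega)) h1 ?_ ?_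
        · rw [show k - 1 + i + 1 = k + i by omega]
          exact h2 (by omega)
        · rw [show k - 1 + i + 2 = k + (i + 1) by omega]
          exact inv_mem_iff.1 hmem
  have hDzero : ∀ i, k + 1 ≤ i → (D ^ i) c = 0 := by
    intro i hi
    have hz : (D ^ (k + 1)) c = 0 := by
      refine Additive.toMul.injective (Subtype.ext ?_)
      show val _ = 1
      rw [← Subgroup.mem_bot, ← H.lcs_eq_bot (i := k - 1 + (k + 1)) (by omega)]
      exact (hlayer _ (by omega)).1
    obtain ⟨l, rfl⟩ := Nat.exists_eq_add_of_le hi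
    rw [add_comm, pow_add]
    show (D ^ l) ((D ^ (k + 1)) c) = 0
    rw [hz, map_zero]
  have hpD : ∀ d i, k + 1 ≤ i + d → p • (D ^ i) c = 0 := by
    intro d
    induction d with
    | zero => intro i hi; rw [hDzero i (by omega), smul_zero]
    | succ d ih =>
      intro i hi
      have h1 := congrArg (D ^ i) h0
      let E : AddMonoid.End (Additive ↥K) →+ Additive ↥K :=
        { toFun := fun f => f c, map_zero' := rfl, map_add' := fun _ _ => rfl }
      rw [show ∀ (s : Finset ℕ) (F : ℕ → AddMonoid.End (Additive ↥K)),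
          (∑ j ∈ s, F j) c = ∑ j ∈ s, F j c from fun s F => map_sum E F s, map_sum, map_zero] at h1
      rw [Finset.sum_eq_single 0] at h1
      · rw [zero_add, Nat.choose_one_right] at h1
        rw [← h1]
        show p • (D ^ i) c = (D ^ i) (p • ((1 : AddMonoid.End (Additive ↥K)) c))
        rw [map_nsmul]
        rfl
      · intro l hl hl0
        show (D ^ i) (p.choose (l + 1) • (D ^ l) c) = 0
        rw [map_nsmul, show (D ^ i) ((D ^ l) c) = (D ^ (i + l)) c by rw [pow_add]; rfl]
        rcases Nat.lt_or_ge (l + 1) p with hlp | hlp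
        · obtain ⟨t, ht⟩ := hp.1.dvd_choose_self (Nat.succ_ne_zero l) hlp
          rw [ht, mul_comm p t, mul_smul, ih (i + l) (by omega), smul_zero]
        · rw [hDzero (i + l) (by rw [Finset.mem_range] at hl; omega), smul_zero]
      · intro h; exact absurd (Finset.mem_range.2 hp.1.pos) h
  -- the elements of order `p` fill the layers
  let P : Subgroup G :=
    { carrier := {a | a ∈ K ∧ a ^ p = 1}
      one_mem' := ⟨one_mem K, one_pow p⟩
      mul_mem' := fun {a b} ha hb =>
        ⟨mul_mem ha.1 hb.1, by rw [(show Commute a b from hab a ha.1 b hb.1).mul_pow, ha.2, hb.2, one_mul]⟩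
      inv_mem' := fun {a} ha => ⟨inv_mem ha.1, by rw [inv_pow, ha.2, inv_one]⟩ }
  have hfill : ∀ d, d ≤ k + 1 → lcsT G (2 * k - d) ≤ P := by
    intro d
    induction d with
    | zero => intro _; rw [Nat.sub_zero, H.lcs_eq_bot (by omega)]; exact bot_le
    | succ d ih =>
      intro hd
      obtain ⟨h1, h2⟩ := hlayer (k - d) (by omega)
      rw [show k - 1 + (k - d) = 2 * k - (d + 1) by omega] at h1
      have h2' := h2 (by omega)
      rw [show k + (k - d) = 2 * k - (d + 1) + 1 by omega] at h2'
      refine H.layer_le (by omega) (by omega) ?_ h1 h2' ⟨?_, ?_⟩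
      · rw [show 2 * k - (d + 1) + 1 = 2 * k - d by omega]; exact ih (by omega)
      · exact Subgroup.lowerCentralSeries_antitone _ (show k - 1 ≤ 2 * k - (d + 1) by omega) h1
      · have := congrArg val (hpD (k + 1) (k - d) (by omega))
        simpa [val] using this
  intro a ha
  have := hfill (k + 1) le_rfl
  rw [show 2 * k - (k + 1) = k - 1 by omega] at this
  exact (this ha).2

omit H

theorem card_le {S : Type*} [Group S] [Finite S] (hS : IsPGroup p S) {n : ℕ} (hn : 2 ≤ n)
    (hcard : Nat.card S = p ^ n) (hmax : Group.nilpotencyClass S = n - 1) {k : ℕ} (hk : 1 ≤ k)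
    (hsr : Cfsg.SectionalPRankLE p k S) (hpk : k + 2 ≤ p) : Nat.card S ≤ p ^ (2 * k) := by
  rw [hcard]
  refine Nat.pow_le_pow_right hp.1.pos ?_
  by_contra hlt
  push Not at hlt
  have H : MC S p n := ⟨hcard, hmax, by omega⟩
  rcases hk.eq_or_lt with rfl | hk2
  · -- the abelianisation has rank two
    set N := (commutator S).subgroupOf (⊤ : Subgroup S) with hN
    haveI : N.Normal := inferInstance
    have hx : ∀ x : S, x ^ p ∈ commutator S := fun x => by
      rw [← top_lowerCentralSeries_one]
      exact H.pow_mem le_rfl hp.1.one_lt (by omega) x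
    have h := hsr ⊤ N ⊤ ⟨⟨fun a b => ?_⟩⟩ ?_
    · rw [Subgroup.card_top, ← Subgroup.index, hN, ← Subgroup.relIndex, Subgroup.relIndex_top_right,
        index_commutator_of_maximalClass (show 3 ≤ n by omega) hcard hmax] at h
      have := (Nat.pow_le_pow_iff_right hp.1.one_lt).1 h
      omega
    · obtain ⟨a, -⟩ := a
      obtain ⟨b, -⟩ := b
      induction a using QuotientGroup.induction_on with | _ a => ?_
      induction b using QuotientGroup.induction_on with | _ b => ?_
      refine Subtype.ext (QuotientGroup.eq.2 (Subgroup.mem_subgroupOf.2 ?_))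
      show ((a : S) * b)⁻¹ * (b * a) ∈ commutator S
      rw [show ((a : S) * b)⁻¹ * (b * a) = ⁅(b : S)⁻¹, (a : S)⁻¹⁆ by
        simp [commutatorElement_def, mul_assoc]]
      exact commutator_mem_commutator (mem_top _) (mem_top _)
    · rintro a -
      induction a using QuotientGroup.induction_on with | _ a => ?_
      rw [← QuotientGroup.mk_pow, QuotientGroup.eq_one_iff]
      exact Subgroup.mem_subgroupOf.2 (by simpa using hx a)
  set N0 := lcsT S (2 * k) with hN0
  haveI : N0.Normal := lcsT_normal _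
  set π := QuotientGroup.mk' N0 with hπ
  have hmap : ∀ i, lcsT (S ⧸ N0) i = (lcsT S i).map π := fun i => by
    rw [lcsT, lcsT, map_lowerCentralSeries,
      Subgroup.map_top_of_surjective π (QuotientGroup.mk'_surjective N0)]
  have hcardQ : Nat.card (S ⧸ N0) = p ^ (2 * k + 1) := by
    have h := Subgroup.card_mul_index N0
    rw [hN0, H.card_lcs (by omega) (by omega), hcard,
      show p ^ n = p ^ (n - 1 - 2 * k) * p ^ (2 * k + 1) by rw [← pow_add]; congr 1; omega] at h
    exact Nat.eq_of_mul_eq_mul_left (pow_pos hp.1.pos _) h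
  have hQ : IsPGroup p (S ⧸ N0) := hS.to_quotient _
  have hclsQ : Group.nilpotencyClass (S ⧸ N0) = 2 * k + 1 - 1 := by
    haveI := hQ.isNilpotent
    rw [Nat.add_sub_cancel]
    refine le_antisymm (Subgroup.lowerCentralSeries_eq_bot_iff_nilpotencyClass_le.1 ?_) ?_
    · show lcsT (S ⧸ N0) (2 * k) = ⊥
      rw [hmap, Subgroup.map_eq_bot_iff, hπ, QuotientGroup.ker_mk']
    · by_contra hc
      have hb : lcsT (S ⧸ N0) (2 * k - 1) = ⊥ :=
        Subgroup.lowerCentralSeries_eq_bot_iff_nilpotencyClass_le.2 (by omega)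
      rw [hmap, Subgroup.map_eq_bot_iff, hπ, QuotientGroup.ker_mk'] at hb
      have := H.lcs_lt (i := 2 * k - 1) (by omega)
      rw [show 2 * k - 1 + 1 = 2 * k by omega] at this
      exact this.not_ge hb
  have HQ : MC (S ⧸ N0) p (2 * k + 1) := ⟨hcardQ, hclsQ, by omega⟩
  obtain ⟨hc, he⟩ := HQ.section_exponent (k := k) (by omega) rfl hpk
  set K := lcsT S (k - 1) with hK
  have hNK : N0 ≤ K := Subgroup.lowerCentralSeries_antitone _ (by omega)
  haveI : (N0.subgroupOf K).Normal := inferInstance
  have hker : ∀ a : ↥K, π a = 1 → (a : ↥K ⧸ N0.subgroupOf K) = 1 := fun a h =>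
    (QuotientGroup.eq_one_iff a).2 (Subgroup.mem_subgroupOf.2 ((QuotientGroup.eq_one_iff _).1 h))
  have hmem : ∀ a : ↥K, π a ∈ lcsT (S ⧸ N0) (k - 1) := fun a => by
    rw [hmap]; exact ⟨a, a.2, rfl⟩
  have h := hsr K (N0.subgroupOf K) ⊤ ⟨⟨fun a b => ?_⟩⟩ ?_
  · rw [Subgroup.card_top, ← Subgroup.index, ← Subgroup.relIndex] at h
    have h2 := relIndex_mul_relIndex ⊥ N0 K bot_le hNK
    rw [relIndex_bot_left, relIndex_bot_left, hN0, hK, H.card_lcs (by omega) (by omega),
      H.card_lcs (by omega) (by omega), show p ^ (n - 1 - (k - 1)) =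
        p ^ (n - 1 - 2 * k) * p ^ (k + 1) by rw [← pow_add]; congr 1; omega] at h2
    rw [hN0, hK, Nat.eq_of_mul_eq_mul_left (pow_pos hp.1.pos _) h2] at h
    have := (Nat.pow_le_pow_iff_right hp.1.one_lt).1 h
    omega
  · obtain ⟨a, -⟩ := a
    obtain ⟨b, -⟩ := b
    induction a using QuotientGroup.induction_on with | _ a => ?_
    induction b using QuotientGroup.induction_on with | _ b => ?_
    refine Subtype.ext ?_
    show ((a * b : ↥K) : ↥K ⧸ N0.subgroupOf K) = ((b * a : ↥K) : _)
    rw [← mul_inv_eq_one, ← QuotientGroup.mk_inv, ← QuotientGroup.mk_mul]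
    refine hker _ ?_
    simp only [Subgroup.coe_mul, Subgroup.coe_inv, map_mul, map_inv]
    rw [hc _ (hmem a) _ (hmem b), mul_inv_eq_one]
  · rintro a -
    induction a using QuotientGroup.induction_on with | _ a => ?_
    rw [← QuotientGroup.mk_pow]
    refine hker _ ?_
    rw [SubmonoidClass.coe_pow, map_pow]
    exact he _ (hmem a)

end CfsgLib.FgsC.MaxClassSection
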