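import Mathlib
import Cfsg.Prelude.Def_Solvable

/-!
# Fixed-point-free actions and Frobenius complements; squares from quaternion commutation
-/

set_option autoImplicit false

open scoped Pointwise

namespace CfsgLib.FgsC

/-- A group with a fixed-point-free action on a nontrivial finite group is a Frobenius
complement. -/
theorem exists_frobenius_of_fpf (K : Type) [Group K] [Finite K] [Nontrivial K] (C : Type*) [Group C]
    [Finite C] [Nontrivial C] (φ : C →* MulAut K) (hfpf : ∀ c : C, c ≠ 1 → ∀ k : K, φ c k = k → k = 1) :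
    ∃ (L : Type) (_ : Group L) (_ : Finite L) (H : Subgroup L),
      Cfsg.IsFrobeniusComplement H ∧ H.index = Nat.card K ∧ Nonempty (C ≃* H) := by
  have hinj : Function.Injective φ := by
    rw [injective_iff_map_eq_one]
    intro c hc
    by_contra hne
    obtain ⟨k, hk⟩ := exists_ne (1 : K)
    exact hk (hfpf c hne k (by rw [hc]; rfl))
  let e : C ≃* φ.range := MonoidHom.ofInjective hinj
  let ψ : φ.range →* MulAut K := φ.range.subtype
  have : Finite (MulAut K) := Finite.of_injective MulEquiv.toEquiv MulEquiv.toEquiv_injective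
  let H : Subgroup (K ⋊[ψ] φ.range) := (SemidirectProduct.inr : φ.range →* K ⋊[ψ] φ.range).range
  have : Finite (K ⋊[ψ] φ.range) :=
    Finite.of_injective (fun x => (x.left, x.right)) fun a b h =>
      SemidirectProduct.ext (congrArg Prod.fst h) (congrArg Prod.snd h)
  have memH : ∀ x : K ⋊[ψ] φ.range, x ∈ H ↔ x.left = 1 := by
    intro x
    refine ⟨?_, fun h => ⟨x.right, ?_⟩⟩
    · rintro ⟨a, rfl⟩; rfl
    · exact SemidirectProduct.ext (by simp [h]) rfl
  have hidx : H.index = Nat.card K := by
    have h1 := H.card_mul_index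
    have h2 : Nat.card H = Nat.card φ.range :=
      (Nat.card_congr (MonoidHom.ofInjective SemidirectProduct.inr_injective).toEquiv).symm
    rw [h2, SemidirectProduct.card, mul_comm (Nat.card K)] at h1
    exact Nat.eq_of_mul_eq_mul_left Nat.card_pos h1
  refine ⟨K ⋊[ψ] φ.range, inferInstance, this, H, ⟨?_, ?_, fun g hg => ?_⟩, hidx,
    ⟨e.trans (MonoidHom.ofInjective SemidirectProduct.inr_injective)⟩⟩
  · intro h
    obtain ⟨c, hc⟩ := exists_ne (1 : C)
    have : SemidirectProduct.inr (e c) ∈ H := ⟨_, rfl⟩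
    rw [h, Subgroup.mem_bot, ← map_one (SemidirectProduct.inr : φ.range →* K ⋊[ψ] φ.range)] at this
    exact hc (e.injective ((SemidirectProduct.inr_injective this).trans (map_one e).symm))
  · intro h
    obtain ⟨k, hk⟩ := exists_ne (1 : K)
    exact hk ((memH (SemidirectProduct.inl k)).mp (h ▸ Subgroup.mem_top _))
  · rw [Subgroup.eq_bot_iff_forall]
    intro x hx
    obtain ⟨hx1, hx2⟩ := Subgroup.mem_inf.mp hx
    rw [Subgroup.mem_pointwise_smul_iff_inv_smul_mem, ← map_inv, MulAut.smul_def, MulAut.conj_apply, inv_inv] at hx2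
    have hxl := (memH x).mp hx1
    -- strip the complement part of `g`
    have h3 : (SemidirectProduct.inl g.left : K ⋊[ψ] φ.range)⁻¹ * x * SemidirectProduct.inl g.left ∈ H := by
      have hg' : (SemidirectProduct.inl g.left : K ⋊[ψ] φ.range) = g * (SemidirectProduct.inr g.right)⁻¹ := by
        rw [eq_mul_inv_iff_mul_eq, SemidirectProduct.inl_left_mul_inr_right]
      rw [hg']
      have hr : (SemidirectProduct.inr g.right : K ⋊[ψ] φ.range) ∈ H := ⟨_, rfl⟩
      have := H.mul_mem (H.mul_mem hr hx2) (H.inv_mem hr)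
      simpa [mul_assoc] using this
    rw [memH] at h3
    simp [hxl] at h3
    have h4 : ψ x.right g.left = g.left := by
      rwa [inv_mul_eq_one, eq_comm] at h3
    obtain ⟨c, hc⟩ := x.right.2
    by_cases hc1 : c = 1
    · refine SemidirectProduct.ext hxl (Subtype.ext ?_)
      rw [← hc, hc1, map_one]
      rfl
    · refine absurd ((memH g).mpr (hfpf c hc1 g.left ?_)) hg
      have : ψ x.right = φ c := hc.symm
      rw [← this]; exact h4

/-- Matrices acting without fixed points give Frobenius complements. -/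
theorem exists_frobenius_of_matrix {R : Type} [CommRing R] [Finite R] [Nontrivial R] {d : ℕ}
    (hd : 0 < d) (C : Type*) [Group C] [Finite C] [Nontrivial C] (ρ : C →* Matrix (Fin d) (Fin d) R)
    (hfpf : ∀ c : C, c ≠ 1 → IsUnit (ρ c - 1).det) :
    ∃ (L : Type) (_ : Group L) (_ : Finite L) (H : Subgroup L),
      Cfsg.IsFrobeniusComplement H ∧ H.index = Nat.card R ^ d ∧ Nonempty (C ≃* H) := by
  classical
  have : Nonempty (Fin d) := ⟨⟨0, hd⟩⟩
  let φ : C →* MulAut (Multiplicative (Fin d → R)) :=
    MonoidHom.mk' (fun c => AddEquiv.toMultiplicative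
      { toFun := fun v => (ρ c).mulVec v
        invFun := fun v => (ρ c⁻¹).mulVec v
        left_inv := fun v => by simp only [Matrix.mulVec_mulVec, ← map_mul, inv_mul_cancel, map_one, Matrix.one_mulVec]
        right_inv := fun v => by simp only [Matrix.mulVec_mulVec, ← map_mul, mul_inv_cancel, map_one, Matrix.one_mulVec]
        map_add' := fun u v => Matrix.mulVec_add _ u v })
      fun a b => MulEquiv.ext fun v => by
        apply Multiplicative.toAdd.injective
        show (ρ (a * b)).mulVec v.toAdd = (ρ a).mulVec ((ρ b).mulVec v.toAdd)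
        rw [map_mul, Matrix.mulVec_mulVec]
  obtain ⟨L, i1, i2, H, h1, h2, h3⟩ := exists_frobenius_of_fpf (Multiplicative (Fin d → R)) C φ (fun c hc v hv => by
    apply Multiplicative.toAdd.injective
    have hv' : (ρ c).mulVec v.toAdd = v.toAdd := congrArg Multiplicative.toAdd hv
    have h0 : (ρ c - 1).mulVec v.toAdd = (ρ c - 1).mulVec 0 := by
      rw [Matrix.sub_mulVec, Matrix.one_mulVec, hv', sub_self, Matrix.mulVec_zero]
    exact Matrix.mulVec_injective_of_isUnit ((Matrix.isUnit_iff_isUnit_det _).mpr (hfpf c hc)) h0)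
  refine ⟨L, i1, i2, H, h1, ?_, h3⟩
  rw [h2, Nat.card_congr Multiplicative.toAdd, Nat.card_fun, Nat.card_fin]

theorem det_linearEquiv_neg (F V : Type*) [Field F] [AddCommGroup V] [Module F V] :
    LinearMap.det ((LinearEquiv.neg F : V ≃ₗ[F] V) : V →ₗ[F] V) = (-1 : F) ^ Module.finrank F V := by
  have h : ((LinearEquiv.neg F : V ≃ₗ[F] V) : V →ₗ[F] V) = (-1 : F) • LinearMap.id := by
    ext x; simp
  rw [h, LinearMap.det_smul, LinearMap.det_id, mul_one]

theorem isSquare_card_of_exponent {W : Type*} [CommGroup W] [Finite W] {p : ℕ} [Fact p.Prime]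
    (hp2 : p ≠ 2) (hexp : ∀ x : W, x ^ p = 1) (φ ψ : MulAut W)
    (hcomm : ∀ x, φ (ψ x) = ψ (φ x⁻¹)) : IsSquare (Nat.card W) := by
  let _ : Module (ZMod p) (Additive W) := AddCommGroup.zmodModule (n := p) fun x => hexp x.toMul
  let lin : MulAut W → (Additive W ≃ₗ[ZMod p] Additive W) := fun θ =>
    { MulEquiv.toAdditive θ with map_smul' := fun c x => ZMod.map_smul (MulEquiv.toAdditive θ) c x }
  have h : (lin ψ).trans (lin φ) = ((LinearEquiv.neg (ZMod p)).trans (lin φ)).trans (lin ψ) :=
    LinearEquiv.ext fun x => hcomm _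
  have hd := congrArg LinearEquiv.det h
  simp only [LinearEquiv.det_trans] at hd
  rw [mul_comm (LinearEquiv.det (lin φ)) (LinearEquiv.det (lin ψ)), ← mul_assoc] at hd
  have hd3 := congrArg Units.val (mul_eq_left.mp hd.symm)
  rw [LinearEquiv.coe_det, Units.val_one, det_linearEquiv_neg] at hd3
  have heven : Even (Module.finrank (ZMod p) (Additive W)) := by
    by_contra ho
    rw [Nat.not_even_iff_odd] at ho
    rw [ho.neg_one_pow] at hd3
    have : Fact (2 < p) := ⟨lt_of_le_of_ne (Fact.out : p.Prime).two_le (Ne.symm hp2)⟩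
    exact ZMod.neg_one_ne_one hd3
  have hcard := Module.natCard_eq_pow_finrank (K := ZMod p) (V := Additive W)
  rw [Nat.card_zmod, Nat.card_congr (Additive.toMul (α := W))] at hcard
  rw [hcard]
  exact heven.isSquare_pow p

/-- A finite abelian group of odd order with two automorphisms whose commutator is the inversion
has square order. -/
theorem isSquare_card_of_commutator_eq_inv.{u} (n : ℕ) : ∀ (K : Type u) [CommGroup K] [Finite K],
    Nat.card K = n → Odd n → ∀ φ ψ : MulAut K, (∀ x, φ (ψ x) = ψ (φ x⁻¹)) → IsSquare n := by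
  induction n using Nat.strong_induction_on with
  | _ n ih =>
  intro K _ _ hn hodd φ ψ hcomm
  subst hn
  by_cases h1 : Nat.card K = 1
  · rw [h1]; exact IsSquare.one
  obtain ⟨p, hp, hpd⟩ := Nat.exists_prime_and_dvd h1
  have := Fact.mk hp
  have hp2 : p ≠ 2 := fun e => (Nat.not_even_iff_odd.mpr hodd) (even_iff_two_dvd.mpr (e ▸ hpd))
  let W : Subgroup K := (powMonoidHom p : K →* K).ker
  have memW : ∀ x, x ∈ W ↔ x ^ p = 1 := fun x => Iff.rfl
  have hWne : W ≠ ⊥ := by
    obtain ⟨x, hx⟩ := exists_prime_orderOf_dvd_card' p hpd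
    intro h
    have : x ∈ W := (memW x).mpr (hx ▸ pow_orderOf_eq_one x)
    rw [h, Subgroup.mem_bot] at this
    rw [this, orderOf_one] at hx
    exact hp.one_lt.ne hx
  have hres : ∀ (θ : MulAut K), W.map θ.toMonoidHom = W := by
    intro θ
    ext x
    simp only [Subgroup.mem_map, memW, MulEquiv.coe_toMonoidHom]
    exact ⟨fun ⟨y, hy, e⟩ => by rw [← e, ← map_pow, hy, map_one],
      fun hx => ⟨θ.symm x, by rw [← map_pow, hx, map_one], θ.apply_symm_apply x⟩⟩
  -- the elementary part has square order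
  have hW : IsSquare (Nat.card W) := by
    let res : MulAut K → MulAut W := fun θ =>
      (W.equivMapOfInjective θ.toMonoidHom θ.injective).trans (MulEquiv.subgroupCongr (hres θ))
    exact isSquare_card_of_exponent hp2 (fun x => Subtype.ext ((memW _).mp x.2)) (res φ) (res ψ)
      (fun x => Subtype.ext (hcomm _))
  have hc := Subgroup.card_eq_card_quotient_mul_card_subgroup W
  rw [hc]
  refine IsSquare.mul ?_ hW
  refine ih _ ?_ (K ⧸ W) rfl ?_ (QuotientGroup.congr W W φ (hres φ)) (QuotientGroup.congr W W ψ (hres ψ)) ?_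
  · rw [hc]
    exact lt_mul_of_one_lt_right Nat.card_pos ((Subgroup.one_lt_card_iff_ne_bot _).mpr hWne)
  · exact hodd.of_dvd_nat ⟨_, hc⟩
  · intro x
    obtain ⟨y, rfl⟩ := QuotientGroup.mk_surjective x
    show ((φ (ψ y) : K) : K ⧸ W) = ((ψ (φ y⁻¹) : K) : K ⧸ W)
    rw [hcomm]

end CfsgLib.FgsC
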