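import Cfsg.Agent.Lib.KnownA.AutAlt

/-!
Automorphisms of odd prime power order of the alternating groups are conjugations by permutations,
degree 6 included; a nonabelian `p`-subgroup of a symmetric group of degree `n` forces `p ^ 2 ≤ n`.
-/

set_option autoImplicit false
set_option linter.style.haveILetI false

namespace CfsgLib.FgsC.AltOddAut

open Equiv Equiv.Perm MulAction CfsgLib.KnownA
open scoped Nat Pointwise

variable {Ω : Type*} [Fintype Ω] [DecidableEq Ω]

/-- An automorphism preserving the 3-cycles is a conjugation (after `exists_conj_aut`). -/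
theorem exists_conj_of_threeCycles (h5 : 5 ≤ Fintype.card Ω) (ψ : MulAut (alternatingGroup Ω))
    (h3c : ∀ g : alternatingGroup Ω, (g : Perm Ω).IsThreeCycle →
      ((ψ g : alternatingGroup Ω) : Perm Ω).IsThreeCycle) : ∃ σ : Perm Ω, MulAut.conjNormal σ = ψ := by
  classical
  have hstep : ∀ x : Ω, ∃ y : Ω,
      (stabilizer (alternatingGroup Ω) x).map ψ.toMonoidHom = stabilizer (alternatingGroup Ω) y := by
    intro x
    set L := (stabilizer (alternatingGroup Ω) x).map ψ.toMonoidHom with hL
    set s : Set (Perm Ω) := (fun g : alternatingGroup Ω => ((ψ g : alternatingGroup Ω) : Perm Ω)) ''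
      {g | (g : Perm Ω).IsThreeCycle ∧ (g : Perm Ω) x = x}
    have hK : L.map (alternatingGroup Ω).subtype = Subgroup.closure s := by
      rw [hL, stabilizer_eq_closure, MonoidHom.map_closure, MonoidHom.map_closure, Set.image_image]
      rfl
    have hcard : Nat.card (L.map (alternatingGroup Ω).subtype) * Fintype.card Ω =
        Nat.card (alternatingGroup Ω) := by
      rw [Subgroup.card_map_of_injective (Subgroup.subtype_injective _), hL,
        Subgroup.card_map_of_injective ψ.injective]
      exact card_stabilizer_alt (by omega) x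
    obtain ⟨y, hy⟩ := exists_fixed_of_threeCycles h5 _ s
      (by rintro _ ⟨g, hg, rfl⟩; exact h3c g hg.1) hK hcard
    refine ⟨y, Subgroup.eq_of_le_of_card_ge (fun g hg => hy _ ⟨g, hg, rfl⟩) (le_of_eq ?_)⟩
    refine Nat.eq_of_mul_eq_mul_right (by omega : 0 < Fintype.card Ω) ?_
    rw [card_stabilizer_alt (by omega) y, hL, Subgroup.card_map_of_injective ψ.injective,
      card_stabilizer_alt (by omega) x]
  choose σ hσ using hstep
  have hψ : ∀ x (g : alternatingGroup Ω),
      (g : Perm Ω) x = x → ((ψ g : alternatingGroup Ω) : Perm Ω) (σ x) = σ x := fun x g hg =>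
    show ψ g ∈ stabilizer (alternatingGroup Ω) (σ x) from hσ x ▸ Subgroup.mem_map_of_mem _ hg
  have hψ' : ∀ x (g : alternatingGroup Ω),
      ((ψ g : alternatingGroup Ω) : Perm Ω) (σ x) = σ x → (g : Perm Ω) x = x := by
    intro x g hg
    have hm : ψ g ∈ stabilizer (alternatingGroup Ω) (σ x) := hg
    rw [← hσ x] at hm
    obtain ⟨g', hg', e⟩ := hm
    rw [← ψ.injective e]
    exact hg'
  have hinj : Function.Injective σ := fun x y e =>
    eq_of_stabilizer_le (by omega) fun g hg => hψ' y g (e ▸ hψ x g hg)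
  let e : Perm Ω := Equiv.ofBijective σ (Finite.injective_iff_bijective.1 hinj)
  have heq : ∀ (g : alternatingGroup Ω) x,
      σ ((g : Perm Ω) x) = ((ψ g : alternatingGroup Ω) : Perm Ω) (σ x) := by
    intro g x
    refine eq_of_stabilizer_le (by omega) fun h hh => ?_
    obtain ⟨h, rfl⟩ := ψ.surjective h
    have h1 := hψ' _ h hh
    have h2 : ((g⁻¹ * h * g : alternatingGroup Ω) : Perm Ω) x = x := by
      simp [Perm.mul_apply, h1]
    have h3 := hψ x _ h2
    simp only [map_mul, map_inv, Subgroup.coe_mul, InvMemClass.coe_inv, Perm.mul_apply] at h3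
    exact (Perm.inv_eq_iff_eq.1 h3)
  refine ⟨e, MulEquiv.ext fun g => Subtype.ext ?_⟩
  rw [MulAut.conjNormal_apply, mul_inv_eq_iff_eq_mul]
  exact Perm.ext fun x => heq g x

/-- Elements of type (3,3) in degree six are conjugate in the alternating group. -/
theorem isConj_double {x y : alternatingGroup Ω}
    (hx : (x : Perm Ω).cycleType = Multiset.replicate 2 3)
    (hy : (y : Perm Ω).cycleType = Multiset.replicate 2 3) :
    ∃ t : alternatingGroup Ω, t * x * t⁻¹ = y := by
  classical
  obtain ⟨τ, hτ⟩ := isConj_iff.1 (Perm.isConj_iff_cycleType_eq.2 (hx.trans hy.symm))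
  have hnot : ¬ Subgroup.centralizer {(x : Perm Ω)} ≤ alternatingGroup Ω := fun hle => by
    have := Perm.count_le_one_of_centralizer_le_alternating hle 3
    rw [hx, Multiset.count_replicate_self] at this
    omega
  obtain ⟨c, hc, hcA⟩ := SetLike.not_le_iff_exists.1 hnot
  have hcx : c * (x : Perm Ω) * c⁻¹ = x := by
    rw [Subgroup.mem_centralizer_singleton_iff.1 hc, mul_inv_cancel_right]
  rcases Int.units_eq_one_or (Perm.sign τ) with h | h
  · exact ⟨⟨τ, Perm.mem_alternatingGroup.2 h⟩, Subtype.ext hτ⟩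
  · have hcs : Perm.sign c = -1 := (Int.units_eq_one_or _).resolve_left
      fun h1 => hcA (Perm.mem_alternatingGroup.2 h1)
    refine ⟨⟨τ * c, Perm.mem_alternatingGroup.2 (by rw [map_mul, h, hcs]; rfl)⟩, Subtype.ext ?_⟩
    show τ * c * (x : Perm Ω) * (τ * c)⁻¹ = y
    rw [show τ * c * (x : Perm Ω) * (τ * c)⁻¹ = τ * (c * x * c⁻¹) * τ⁻¹ by group, hcx, hτ]

/-- An automorphism of odd prime power order preserves 3-cycles. -/
theorem isThreeCycle_of_odd (h5 : 5 ≤ Fintype.card Ω) (ψ : MulAut (alternatingGroup Ω))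
    {m : ℕ} (hm : Odd m) (hψ : ψ ^ m = 1) {g : alternatingGroup Ω}
    (hg : (g : Perm Ω).IsThreeCycle) : ((ψ g : alternatingGroup Ω) : Perm Ω).IsThreeCycle := by
  classical
  by_cases h6 : Fintype.card Ω = 6
  swap
  · exact isThreeCycle_aut h5 h6 ψ hg
  have hnum : ∀ (ρ : MulAut (alternatingGroup Ω)) {a : alternatingGroup Ω},
      orderOf (a : Perm Ω) = 3 → ((ρ a : alternatingGroup Ω) : Perm Ω).IsThreeCycle ∨
        ((ρ a : alternatingGroup Ω) : Perm Ω).cycleType = Multiset.replicate 2 3 := by
    intro ρ a ha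
    set h : Perm Ω := ((ρ a : alternatingGroup Ω) : Perm Ω) with hh
    have hord : orderOf h = 3 := by
      rw [hh, Subgroup.orderOf_coe, MulEquiv.orderOf_eq, ← Subgroup.orderOf_coe, ha]
    obtain ⟨k, hk⟩ : ∃ k, h.cycleType = Multiset.replicate k 3 := by
      refine ⟨_, Multiset.eq_replicate.2 ⟨rfl, fun i hi => ?_⟩⟩
      have h1 := dvd_of_mem_cycleType hi
      rw [hord] at h1
      rcases (Nat.dvd_prime Nat.prime_three).1 h1 with h2 | h2
      · exact absurd h2 (by have := two_le_of_mem_cycleType hi; omega)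
      · exact h2
    have hk0 : k ≠ 0 := fun e => by
      rw [e, Multiset.replicate_zero, cycleType_eq_zero] at hk
      rw [hk, orderOf_one] at hord
      omega
    have hkn : 3 * k ≤ 6 := by
      have := h.support.card_le_univ
      rw [← sum_cycleType, hk, Multiset.sum_replicate, smul_eq_mul, mul_comm, h6] at this
      exact this
    obtain rfl | rfl : k = 1 ∨ k = 2 := by omega
    · exact Or.inl hk
    · exact Or.inr hk
  by_contra hnot
  have hd := (hnum ψ hg.orderOf).resolve_left hnot
  set d := ψ g with hddef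
  -- `ψ` carries 3-cycles to double 3-cycles
  have hAB : ∀ a : alternatingGroup Ω, (a : Perm Ω).IsThreeCycle →
      ((ψ a : alternatingGroup Ω) : Perm Ω).cycleType = Multiset.replicate 2 3 := by
    intro a ha
    obtain ⟨t, ht⟩ := isConj_iff.1 (alternatingGroup.isThreeCycle_isConj
      (by rw [Nat.card_eq_fintype_card]; exact h5) hg ha)
    rw [← ht, map_mul, map_mul, map_inv, ← hddef]
    push_cast
    rw [Perm.cycleType_conj, hd]
  -- and double 3-cycles to 3-cycles
  have hBA : ∀ a : alternatingGroup Ω, (a : Perm Ω).cycleType = Multiset.replicate 2 3 →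
      ((ψ a : alternatingGroup Ω) : Perm Ω).IsThreeCycle := by
    intro a ha
    have hao : orderOf (a : Perm Ω) = 3 := by rw [← lcm_cycleType, ha]; rfl
    refine (hnum ψ hao).resolve_right fun hb => ?_
    obtain ⟨t, ht⟩ := isConj_double hd hb
    have e : a = ψ.symm t * g * (ψ.symm t)⁻¹ := ψ.injective (by
      rw [map_mul, map_mul, map_inv, MulEquiv.apply_symm_apply, ← hddef, ht])
    rw [e] at ha
    push_cast at ha
    rw [Perm.cycleType_conj, show (g : Perm Ω).cycleType = {3} from hg] at ha
    have := congrArg Multiset.card ha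
    simp at this
  have hiter : ∀ j : ℕ, (((ψ ^ (2 * j)) g : alternatingGroup Ω) : Perm Ω).IsThreeCycle := by
    intro j
    induction j with
    | zero => simpa using hg
    | succ j ih =>
      rw [show 2 * (j + 1) = 1 + (1 + 2 * j) by ring, pow_add, pow_add, pow_one, MulAut.mul_apply,
        MulAut.mul_apply]
      exact hBA _ (hAB _ ih)
  obtain ⟨j, rfl⟩ := hm
  have h2 := hAB _ (hiter j)
  rw [← MulAut.mul_apply, ← pow_succ', hψ, MulAut.one_apply,
    show (g : Perm Ω).cycleType = {3} from hg] at h2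
  have := congrArg Multiset.card h2
  simp at this

/-- A nonabelian `p`-group of permutations needs at least `p ^ 2` points. -/
theorem sq_le_card_of_not_comm {p : ℕ} [hp : Fact p.Prime] {P : Subgroup (Perm Ω)}
    (hP : IsPGroup p P) (hnc : ¬ IsMulCommutative P) : p ^ 2 ≤ Fintype.card Ω := by
  classical
  by_contra hlt
  push Not at hlt
  refine hnc ⟨⟨fun a b => Subtype.ext (Perm.ext fun x => ?_)⟩⟩
  set ρ := MulAction.toPermHom P (orbit P x) with hρ
  obtain ⟨i, hi⟩ := hP.card_orbit x
  have hi1 : i ≤ 1 := by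
    by_contra h
    have h1 : Nat.card (orbit P x) ≤ Fintype.card Ω := by
      rw [← Nat.card_eq_fintype_card]; exact Finite.card_subtype_le _
    rw [hi] at h1
    exact absurd ((Nat.pow_le_pow_right hp.out.pos (by omega : 2 ≤ i)).trans h1) (by omega)
  have hrange : IsPGroup p ρ.range := hP.of_surjective ρ.rangeRestrict ρ.rangeRestrict_surjective
  obtain ⟨e, he⟩ := IsPGroup.iff_card.1 hrange
  have hd : p ^ e ∣ (p ^ i)! := by
    rw [← he, ← hi, ← Nat.card_perm]
    exact Subgroup.card_subgroup_dvd_card _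
  have he1 : e ≤ 1 := by
    by_contra h
    have h2 : p ^ 2 ∣ (p ^ i)! := (pow_dvd_pow p (by omega : 2 ≤ e)).trans hd
    have h3 : p ^ 2 ∣ p ! := h2.trans (Nat.factorial_dvd_factorial
      (by calc p ^ i ≤ p ^ 1 := Nat.pow_le_pow_right hp.out.pos hi1
            _ = p := pow_one p))
    rw [← Nat.mul_factorial_pred hp.out.pos.ne', pow_two] at h3
    have h4 := hp.out.dvd_factorial.1 (Nat.dvd_of_mul_dvd_mul_left hp.out.pos h3)
    have := hp.out.pos
    omega
  have hcyc : IsCyclic ρ.range := by
    interval_cases e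
    · haveI : Subsingleton ρ.range := (Nat.card_eq_one_iff_unique.1 (by simpa using he)).1
      exact isCyclic_of_subsingleton
    · exact isCyclic_of_prime_card (p := p) (by simpa using he)
  haveI := hcyc.commGroup
  have h := congrArg (fun f : Perm (orbit P x) => ((f ⟨x, mem_orbit_self x⟩ : orbit P x) : Ω))
    (congrArg Subtype.val
      (IsCyclic.commGroup.mul_comm (ρ.rangeRestrict a) (ρ.rangeRestrict b)))
  exact h

end CfsgLib.FgsC.AltOddAut
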