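import Cfsg.Agent.Lib.PLocal.PSolvable
import Cfsg.Agent.Lib.PLocal.Thompson
import Cfsg.Agent.Lib.Classical.Order
import Cfsg.Agent.Lib.Chars.Burnside
import Cfsg.Agent.S0609
import Cfsg.Agent.S0618

/-!
If a prime `q` divides the order of an automiser of a `p`-subgroup, it divides one for a normal
subgroup of a Sylow `p`-subgroup, for `{p, q} ≠ {2, 3}` and `p`-solvable automisers.
-/

set_option autoImplicit false

namespace CfsgLib.FgsC.AutPrime

open Cfsg

universe u

variable {p q : ℕ} [Fact p.Prime] [Fact q.Prime]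

/-- An element moving some element of a subgroup. -/
def Moves {G : Type*} [Group G] (y : G) (K : Subgroup G) : Prop := ∃ r ∈ K, y * r * y⁻¹ ≠ r

theorem index_of_sup_eq_top {G : Type*} [Group G] [Finite G] {N D : Subgroup G} [D.Normal]
    (h : N ⊔ D = ⊤) : N.index = N.relIndex D := by
  have h1 := CfsgLib.Base.card_sup_mul_card_inf N D
  rw [h, Subgroup.card_top, ← Subgroup.card_mul_index N] at h1
  have h2 : Nat.card ↥(N ⊓ D) * N.relIndex D = Nat.card D := by
    simpa [Subgroup.relIndex_bot_left, Subgroup.inf_relIndex_right] using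
      Subgroup.relIndex_mul_relIndex ⊥ (N ⊓ D) D bot_le inf_le_right
  rw [← h2] at h1
  refine Nat.eq_of_mul_eq_mul_left (Nat.mul_pos (Nat.card_pos (α := N)) (Nat.card_pos (α := ↥(N ⊓ D)))) ?_
  linear_combination h1

theorem normal_le_sylow {G : Type*} [Group G] [Finite G] {N : Subgroup G} [N.Normal]
    (h : IsPGroup p N) (S : Sylow p G) : N ≤ (S : Subgroup G) :=
  (CfsgLib.Base.le_pCore h).trans (CfsgLib.Base.pCore_le_sylow S)

theorem two_prime_dvd {G : Type*} [Group G] [Finite G]
    (hX : ∀ r : ℕ, r.Prime → r ∣ Nat.card G → r = p ∨ r = q) (hpq : p ≠ q) :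
    ∃ a b : ℕ, Nat.card G = p ^ a * q ^ b := by
  refine ⟨(Nat.card G).factorization p, (Nat.card G).factorization q, ?_⟩
  have hp : p.Prime := Fact.out
  have hq : q.Prime := Fact.out
  refine Nat.eq_of_factorization_eq Nat.card_pos.ne'
    (mul_ne_zero (pow_ne_zero _ hp.ne_zero) (pow_ne_zero _ hq.ne_zero)) fun r => ?_
  rw [Nat.factorization_mul (pow_ne_zero _ hp.ne_zero) (pow_ne_zero _ hq.ne_zero),
    Finsupp.add_apply, hp.factorization_pow, hq.factorization_pow]
  by_cases hrp : r = p
  · subst hrp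
    rw [Finsupp.single_eq_same, Finsupp.single_eq_of_ne hpq, add_zero]
  by_cases hrq : r = q
  · subst hrq
    rw [Finsupp.single_eq_same, Finsupp.single_eq_of_ne hrp, zero_add]
  · rw [Finsupp.single_eq_of_ne hrp, Finsupp.single_eq_of_ne hrq, add_zero]
    by_cases hr : r.Prime
    · exact Nat.factorization_eq_zero_of_not_dvd fun hd => (hX r hr hd).elim hrp hrq
    · exact Nat.factorization_eq_zero_of_not_prime _ hr

theorem isPSolvable_pair {G : Type u} [Group G] [Finite G]
    (hX : ∀ r : ℕ, r.Prime → r ∣ Nat.card G → r = p ∨ r = q) : IsPSolvable p G := by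
  by_cases hpq : p = q
  · subst hpq
    refine CfsgLib.PLocal.isPSolvable_of_isPGroup (IsPGroup.of_card (n := (Nat.card G).factorization p) ?_)
    rw [Nat.eq_prime_pow_of_unique_prime_dvd Nat.card_pos.ne'
      (fun {d} hd hdd => (hX d hd hdd).elim id id), Nat.Prime.factorization_pow Fact.out,
      Finsupp.single_eq_same]
  obtain ⟨a, b, h⟩ := two_prime_dvd hX hpq
  have := CfsgLib.Chars.isSolvable_of_card_eq_pow_mul_pow (Fact.out : p.Prime) (Fact.out : q.Prime) h
  exact CfsgLib.PLocal.isPSolvable_of_isSolvable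

theorem factorizable {X : Type u} [Group X] [Finite X] (h23 : ¬ ((p = 2 ∧ q = 3) ∨ (p = 3 ∧ q = 2)))
    (hX : ∀ r : ℕ, r.Prime → r ∣ Nat.card X → r = p ∨ r = q) : IsThompsonFactorizable p X := by
  rw [Cfsg.Agent.S0609.result]
  set O := pPrimeCore p X
  have hXbar : ∀ r : ℕ, r.Prime → r ∣ Nat.card (X ⧸ O) → r = p ∨ r = q := fun r hr hd =>
    hX r hr (hd.trans (Subgroup.card_quotient_dvd_card O))
  by_contra hnf
  obtain ⟨hp, E, -, -, -, hn, ⟨e⟩⟩ := Cfsg.Agent.S0618.result (isPSolvable_pair hXbar)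
    (CfsgLib.Base.pPrimeCore_quotient_pPrimeCore p X) hnf
  have hd : Nat.card (Matrix.SpecialLinearGroup (Fin 2) (ZMod p)) ∣ Nat.card (X ⧸ O) := by
    rw [← Nat.card_congr e.toEquiv]
    exact (Subgroup.card_quotient_dvd_card _).trans E.card_subgroup_dvd_card
  rw [CfsgLib.Classical.card_SL_two, Nat.card_zmod] at hd
  rcases hp with rfl | rfl
  · rcases hXbar 3 (by norm_num) ((show 3 ∣ 2 * (2 ^ 2 - 1) by norm_num).trans hd) with h | h
    · omega
    · exact h23 (Or.inl ⟨rfl, h.symm⟩)
  · rcases hXbar 2 Nat.prime_two ((show 2 ∣ 3 * (3 ^ 2 - 1) by norm_num).trans hd) with h | h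
    · omega
    · exact h23 (Or.inr ⟨rfl, h.symm⟩)

theorem omega_center_map {T X : Type*} [Group T] [Group X] (j : T →* X)
    (hj : Function.Injective j) :
    (omegaOne p ((⊤ : Subgroup T) ⊓ Subgroup.centralizer ((⊤ : Subgroup T) : Set T))).map j =
      omegaOne p (j.range ⊓ Subgroup.centralizer (j.range : Set X)) := by
  rw [omegaOne, omegaOne, MonoidHom.map_closure]
  congr 1
  ext x
  constructor
  · rintro ⟨t, ⟨⟨-, ht⟩, htp⟩, rfl⟩
    refine ⟨⟨⟨t, rfl⟩, ?_⟩, by rw [← map_pow, htp, map_one]⟩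
    rintro _ ⟨s, rfl⟩
    show j s * j t = j t * j s
    rw [← map_mul, ← map_mul, ht s (Subgroup.mem_top s)]
  · rintro ⟨⟨⟨t, rfl⟩, hx⟩, htp⟩
    refine ⟨t, ⟨⟨Subgroup.mem_top t, ?_⟩, hj (by rw [map_pow, htp, map_one])⟩, rfl⟩
    intro s _
    exact hj (by rw [map_mul, map_mul]; exact hx (j s) ⟨s, rfl⟩)

theorem char_thompson (T : Type*) [Group T] :
    (thompsonSubgroupOf p (⊤ : Subgroup T)).Characteristic := by
  rw [Subgroup.characteristic_iff_map_eq]
  intro φ
  rw [CfsgLib.PLocal.map_thompsonSubgroupOf (f := φ.toMonoidHom) φ.injective,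
    Subgroup.map_top_of_surjective φ.toMonoidHom φ.surjective]

theorem char_omega (T : Type*) [Group T] :
    (omegaOne p ((⊤ : Subgroup T) ⊓ Subgroup.centralizer ((⊤ : Subgroup T) : Set T))).Characteristic := by
  rw [Subgroup.characteristic_iff_map_eq]
  intro φ
  rw [omega_center_map φ.toMonoidHom φ.injective, MonoidHom.range_eq_top.2 φ.surjective]

theorem char_comap {T : Type*} [Group T] (Z : Subgroup T) [Z.Normal] (hZ : Z.Characteristic)
    {K : Subgroup (T ⧸ Z)} (hK : K.Characteristic) :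
    (K.comap (QuotientGroup.mk' Z)).Characteristic := by
  rw [Subgroup.characteristic_iff_comap_eq]
  intro φ
  have hφ : Z.map φ.toMonoidHom = Z := Subgroup.characteristic_iff_map_eq.1 hZ φ
  let ψ : T ⧸ Z ≃* T ⧸ Z := QuotientGroup.congr Z Z φ hφ
  ext t
  simp only [Subgroup.mem_comap]
  have h := Subgroup.characteristic_iff_comap_eq.1 hK ψ
  conv_rhs => rw [← h, Subgroup.mem_comap]
  exact Iff.rfl

/-- An element has a power of `q`-power order with the same image, if the image has such order. -/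
theorem exists_q_lift {G H : Type*} [Group G] [Finite G] [Group H] (f : G →* H) {g : G} {a : ℕ}
    (ha : f g ^ q ^ a = 1) : ∃ y : G, (∃ b : ℕ, y ^ q ^ b = 1) ∧ f y = f g ∧ y ∈ Subgroup.zpowers g := by
  obtain ⟨b, m, hm, he⟩ := Nat.exists_eq_pow_mul_and_not_dvd (orderOf_pos g).ne' q
    (Fact.out : q.Prime).ne_one
  obtain ⟨u, v, huv⟩ : IsCoprime (m : ℤ) ((q ^ a : ℕ) : ℤ) :=
    (((Nat.Prime.coprime_iff_not_dvd Fact.out).2 hm).symm.pow_right a).isCoprime
  refine ⟨g ^ ((m : ℤ) * u), ⟨b, ?_⟩, ?_, zpow_mem (Subgroup.mem_zpowers g) _⟩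
  · rw [← zpow_natCast, ← zpow_mul, show (m : ℤ) * u * ((q ^ b : ℕ) : ℤ) =
      ((q ^ b * m : ℕ) : ℤ) * u by push_cast; ring, zpow_mul, zpow_natCast, ← he, pow_orderOf_eq_one,
      one_zpow]
  · rw [map_zpow, show (m : ℤ) * u = 1 + ((q ^ a : ℕ) : ℤ) * (-v) by linear_combination huv,
      zpow_add, zpow_one, zpow_mul, zpow_natCast, ha, one_zpow, mul_one]

/-- The key statement inside a `{p, q}`-group. -/
theorem pair_step (hpq : p ≠ q) (h23 : ¬ ((p = 2 ∧ q = 3) ∨ (p = 3 ∧ q = 2))) (n : ℕ) :
    ∀ (X : Type u) [Group X] [Finite X] (T : Type u) [Group T] (j : T →* X) (S : Sylow p X)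
      (R : Subgroup X) (x : X), Nat.card X = n → (∀ r : ℕ, r.Prime → r ∣ Nat.card X → r = p ∨ r = q) →
      Function.Injective j → j.range = (S : Subgroup X) → R.Normal → IsPGroup p R →
      (∃ a : ℕ, x ^ q ^ a = 1) → Moves x R →
      ∃ (K : Subgroup T) (y : X), K.Characteristic ∧ y ∈ Subgroup.normalizer (K.map j : Set X) ∧
        (∃ b : ℕ, y ^ q ^ b = 1) ∧ Moves y (K.map j) := by
  induction n using Nat.strong_induction_on with
  | _ n IH =>
    intro X _ _ T _ j S R x hn hX hj hjS hRn hRp hxq hxm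
    have hp : p.Prime := Fact.out
    have hq : q.Prime := Fact.out
    set J := thompsonSubgroupOf p (S : Subgroup X) with hJ
    have hJmap : (thompsonSubgroupOf p (⊤ : Subgroup T)).map j = J := by
      rw [CfsgLib.PLocal.map_thompsonSubgroupOf hj, ← MonoidHom.range_eq_map, hjS, hJ]
    by_cases hcase : ∃ y ∈ Subgroup.normalizer (J : Set X), (∃ b : ℕ, y ^ q ^ b = 1) ∧ Moves y J
    · obtain ⟨y, hy, hyq, hym⟩ := hcase
      exact ⟨_, y, char_thompson T, hJmap.symm ▸ hy, hyq, hJmap.symm ▸ hym⟩
    have hqN : ∀ y ∈ Subgroup.normalizer (J : Set X), (∃ b : ℕ, y ^ q ^ b = 1) →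
        y ∈ Subgroup.centralizer (J : Set X) := by
      intro y hy hyq
      rw [Subgroup.mem_centralizer_iff]
      intro r hr
      by_contra hne
      exact hcase ⟨y, hy, hyq, r, hr, fun e => hne (mul_inv_eq_iff_eq_mul.1 e).symm⟩
    set Z := omegaOne p ((S : Subgroup X) ⊓ Subgroup.centralizer ((S : Subgroup X) : Set X)) with hZ
    have hZJ : Z ≤ J := by
      obtain ⟨A, hA⟩ := CfsgLib.PLocal.maxEAOf_nonempty p (S : Subgroup X)
      exact (CfsgLib.PLocal.omegaOne_center_le hA).trans (CfsgLib.PLocal.le_thompsonSubgroupOf hA)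
    have hZS : Z ≤ (S : Subgroup X) := hZJ.trans (CfsgLib.PLocal.thompsonSubgroupOf_le _ _)
    have hSZ : (S : Subgroup X) ≤ Subgroup.centralizer (Z : Set X) := by
      rw [Subgroup.le_centralizer_iff]
      exact (Subgroup.closure_le _).2 fun z hz => hz.1.2
    have hNC : Subgroup.normalizer (J : Set X) ≤ Subgroup.centralizer (Z : Set X) := by
      set N := Subgroup.normalizer (J : Set X)
      set M := (Subgroup.centralizer (Z : Set X)).subgroupOf N
      have hSN : (S : Subgroup X) ≤ N := by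
        intro s hs
        rw [Subgroup.mem_normalizer_iff_map_conj_eq, hJ]
        show (thompsonSubgroupOf p (S : Subgroup X)).map (MulAut.conj s).toMonoidHom = _
        rw [CfsgLib.PLocal.map_thompsonSubgroupOf (f := (MulAut.conj s).toMonoidHom) (MulAut.conj s).injective]
        congr 1
        exact Subgroup.mem_normalizer_iff_map_conj_eq.1 ((Subgroup.le_normalizer (H := (S : Subgroup X))) hs)
      have hidx : M.index = 1 := by
        by_contra hne
        obtain ⟨r, hr, hrd⟩ := Nat.exists_prime_and_dvd hne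
        rcases hX r hr (hrd.trans ((Subgroup.index_dvd_card M).trans N.card_subgroup_dvd_card)) with rfl | rfl
        · have h1 : M.index ∣ ((S : Subgroup X).subgroupOf N).index :=
            Subgroup.index_dvd_of_le (Subgroup.comap_mono hSZ)
          exact S.not_dvd_index ((hrd.trans h1).trans (Subgroup.relIndex_dvd_index_of_le hSN))
        · obtain ⟨Q⟩ : Nonempty (Sylow r N) := inferInstance
          refine Q.not_dvd_index (hrd.trans (Subgroup.index_dvd_of_le ?_))
          rintro ⟨y, hy⟩ hyQ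
          obtain ⟨b, hb⟩ := Q.isPGroup' ⟨⟨y, hy⟩, hyQ⟩
          have hb' : y ^ r ^ b = 1 := congrArg (fun t : (Q : Subgroup N) => ((t : N) : X)) hb
          exact Subgroup.centralizer_le hZJ (hqN y hy ⟨b, hb'⟩)
      exact Subgroup.subgroupOf_eq_top.1 (Subgroup.index_eq_one.1 hidx)
    set C := Subgroup.centralizer (Z : Set X) with hC
    have hRS : R ≤ (S : Subgroup X) := normal_le_sylow hRp S
    have hRC : R ≤ C := hRS.trans hSZ
    -- an element of `C` acting on `R` as `x` does
    obtain ⟨x', hx'C, hx'q, hx'm⟩ : ∃ x' ∈ C, (∃ a : ℕ, x' ^ q ^ a = 1) ∧ Moves x' R := by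
      obtain ⟨o, ho, c, hc, m, hm, hx⟩ := factorizable h23 hX S x
      have hcm : c * m ∈ C := mul_mem hc (hNC hm)
      have hOR : ∀ r ∈ R, o * r = r * o := by
        intro r hr
        refine Subgroup.commute_of_normal_of_disjoint (pPrimeCore p X) R inferInstance hRn ?_ o r ho hr
        obtain ⟨k, hk⟩ := IsPGroup.iff_card.1 hRp
        refine disjoint_iff.2 (Subgroup.inf_eq_bot_of_coprime ?_)
        rw [hk]
        exact (CfsgLib.Base.pPrimeCore_coprime p X).pow_right k
      have hRnC : (R.subgroupOf C).Normal := hRn.comap _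
      let f : C →* MulAut R := (MulAut.conjNormal).comp C.subtype
      obtain ⟨a, ha⟩ := hxq
      have hact : MulAut.conjNormal (H := R) x = MulAut.conjNormal (H := R) (c * m) := by
        rw [hx, mul_assoc, map_mul]
        have h1 : MulAut.conjNormal (H := R) o = 1 := by
          refine MulEquiv.ext fun r => Subtype.ext ?_
          rw [MulAut.conjNormal_apply, hOR r r.2, mul_inv_cancel_right]
          rfl
        rw [h1, one_mul]
      obtain ⟨y, hyq, hy, -⟩ := exists_q_lift f (g := ⟨c * m, hcm⟩) (a := a) (by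
        show MulAut.conjNormal (H := R) (c * m) ^ q ^ a = 1
        rw [← hact, ← map_pow, ha, map_one])
      obtain ⟨b, hb⟩ := hyq
      refine ⟨y, y.2, ⟨b, congrArg Subtype.val hb⟩, ?_⟩
      obtain ⟨r, hr, hne⟩ := hxm
      refine ⟨r, hr, fun e => hne ?_⟩
      have h2 : MulAut.conjNormal (H := R) (y : X) = MulAut.conjNormal (H := R) x := by
        rw [hact]; exact hy
      have h3 := congrArg Subtype.val (DFunLike.congr_fun h2 ⟨r, hr⟩)
      rw [MulAut.conjNormal_apply, MulAut.conjNormal_apply] at h3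
      rw [← h3]
      exact e
    by_cases hCtop : C = ⊤
    swap
    · -- induction inside the centraliser
      have hlt : Nat.card C < n := by
        rw [← hn]
        exact lt_of_le_of_ne (Subgroup.card_le_card_group C)
          (fun e => hCtop (Subgroup.eq_top_of_card_eq C e))
      let j' : T →* C := j.codRestrict C fun t => hSZ (hjS ▸ ⟨t, rfl⟩)
      obtain ⟨K, y, hK, hy, ⟨b, hb⟩, r, hr, hyr⟩ := IH _ hlt C T j' (S.subtype hSZ) (R.subgroupOf C)
        ⟨x', hx'C⟩ rfl (fun r hr hd => hX r hr (hd.trans C.card_subgroup_dvd_card))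
        (fun a b h => hj (congrArg Subtype.val h)) (by
          ext ⟨v, hv⟩
          rw [Sylow.coe_subtype, Subgroup.mem_subgroupOf, ← hjS]
          constructor
          · rintro ⟨t, ht⟩; exact ⟨t, congrArg Subtype.val ht⟩
          · rintro ⟨t, ht⟩; exact ⟨t, Subtype.ext ht⟩)
        (hRn.comap _) (hRp.of_equiv (Subgroup.subgroupOfEquivOfLe hRC).symm)
        ⟨hx'q.choose, Subtype.ext hx'q.choose_spec⟩ (by
          obtain ⟨r, hr, hne⟩ := hx'm
          exact ⟨⟨r, hRC hr⟩, Subgroup.mem_subgroupOf.2 hr, fun e => hne (congrArg Subtype.val e)⟩)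
      have hmap : (K.map j').map C.subtype = K.map j := by
        rw [Subgroup.map_map]
        rfl
      refine ⟨K, y, hK, ?_, ⟨b, congrArg Subtype.val hb⟩, (r : X), ?_, fun e => hyr (Subtype.ext e)⟩
      · rw [Subgroup.mem_normalizer_iff_map_conj_eq] at hy ⊢
        conv_rhs => rw [← hmap, ← hy]
        rw [← hmap]
        simp only [Subgroup.map_map]
        congr 1
      · exact hmap ▸ ⟨r, hr, rfl⟩
    · -- a central subgroup
      have hZc : Z ≤ Subgroup.center X := fun z hz => by
        rw [Subgroup.mem_center_iff]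
        intro g
        exact ((Subgroup.mem_centralizer_iff.1 (hCtop ▸ Subgroup.mem_top g : g ∈ C)) z hz).symm
      obtain ⟨r₀, hr₀, hne₀⟩ := hx'm
      have hZne : Z ≠ ⊥ := by
        have hSne : Nontrivial (S : Subgroup X) :=
          ⟨⟨⟨r₀, hRS hr₀⟩, 1, fun e => hne₀ (by rw [show r₀ = 1 from congrArg Subtype.val e]; group)⟩⟩
        have := S.isPGroup'.center_nontrivial
        obtain ⟨k, hk0, hk⟩ := (S.isPGroup'.to_subgroup (Subgroup.center (S : Subgroup X))).nontrivial_iff_card.1 this
        obtain ⟨⟨⟨z, hzS⟩, hzc⟩, hzo⟩ := exists_prime_orderOf_dvd_card'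
          (G := Subgroup.center (S : Subgroup X)) p (hk ▸ dvd_pow_self p (by omega))
        rw [Subgroup.orderOf_mk, Subgroup.orderOf_mk] at hzo
        intro h
        have hzZ : z ∈ Z := Subgroup.subset_closure ⟨⟨hzS, Subgroup.mem_centralizer_iff.2 fun s hs =>
          congrArg Subtype.val (Subgroup.mem_center_iff.1 hzc ⟨s, hs⟩)⟩, by rw [← hzo, pow_orderOf_eq_one]⟩
        rw [h, Subgroup.mem_bot] at hzZ
        rw [hzZ, orderOf_one] at hzo
        exact hp.ne_one hzo.symm
      have hZn : Z.Normal := ⟨fun z hz g => by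
        rw [Subgroup.mem_center_iff.1 (hZc hz) g, mul_inv_cancel_right]; exact hz⟩
      set ZT := omegaOne p ((⊤ : Subgroup T) ⊓ Subgroup.centralizer ((⊤ : Subgroup T) : Set T)) with hZT
      have hZTc := char_omega (p := p) T
      rw [← hZT] at hZTc
      have : ZT.Normal := Subgroup.normal_of_characteristic ZT
      have hmapZ : ZT.map j = Z := by rw [hZT, omega_center_map j hj, hjS, hZ]
      let jb : T ⧸ ZT →* X ⧸ Z := QuotientGroup.map ZT Z j (Subgroup.map_le_iff_le_comap.1 hmapZ.le)
      have hjb : Function.Injective jb := by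
        refine (injective_iff_map_eq_one _).2 fun t => ?_
        induction t using QuotientGroup.induction_on with
        | H t =>
          intro h
          rw [QuotientGroup.map_mk, QuotientGroup.eq_one_iff, ← hmapZ] at h
          obtain ⟨s, hs, e⟩ := h
          rw [QuotientGroup.eq_one_iff, ← hj e]
          exact hs
      have hsurj := QuotientGroup.mk'_surjective Z
      have hlt : Nat.card (X ⧸ Z) < n := by
        have h := Subgroup.card_eq_card_quotient_mul_card_subgroup Z
        rw [hn] at h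
        have h1 : 1 < Nat.card Z := Subgroup.one_lt_card_iff_ne_bot Z |>.2 hZne
        rw [h]
        exact (lt_mul_iff_one_lt_right Nat.card_pos).2 h1
      obtain ⟨a, ha⟩ := hx'q
      obtain ⟨K, yb, hK, hy, ⟨b, hb⟩, hyr⟩ := IH _ hlt (X ⧸ Z) (T ⧸ ZT) jb
        (S.mapSurjective hsurj) (R.map (QuotientGroup.mk' Z)) (x' : X ⧸ Z) rfl
        (fun r hr hd => hX r hr (hd.trans (Subgroup.card_quotient_dvd_card Z))) hjb (by
          rw [Sylow.coe_mapSurjective, ← hjS, MonoidHom.map_range]
          refine le_antisymm ?_ ?_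
          · rintro _ ⟨t, rfl⟩
            induction t using QuotientGroup.induction_on with
            | H t => exact ⟨t, rfl⟩
          · rintro _ ⟨t, rfl⟩
            exact ⟨(t : T ⧸ ZT), rfl⟩)
        (hRn.map _ hsurj) (hRp.map _) ⟨a, by rw [← QuotientGroup.mk_pow, ha, QuotientGroup.mk_one]⟩ (by
          -- `x'` moves `R` modulo `Z`
          by_contra hc
          refine hne₀ ?_
          set e := r₀⁻¹ * (x' * r₀ * x'⁻¹) with he
          have hmem : e ∈ Z := by
            by_contra h
            refine hc ⟨(r₀ : X ⧸ Z), ⟨r₀, hr₀, rfl⟩, fun e' => h (QuotientGroup.eq.1 ?_)⟩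
            rw [← e']
            rfl
          have hce := Subgroup.mem_center_iff.1 (hZc hmem)
          have hpow : ∀ k : ℕ, x' ^ k * r₀ * (x' ^ k)⁻¹ = r₀ * e ^ k := by
            intro k
            induction k with
            | zero => simp
            | succ k ih =>
              calc x' ^ (k + 1) * r₀ * (x' ^ (k + 1))⁻¹ = x' * (x' ^ k * r₀ * (x' ^ k)⁻¹) * x'⁻¹ := by
                    rw [pow_succ']; group
                _ = x' * r₀ * x'⁻¹ * (x' * e ^ k * x'⁻¹) := by rw [ih]; group
                _ = r₀ * e ^ (k + 1) := by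
                    rw [Subgroup.mem_center_iff.1 (pow_mem (hZc hmem) k) x', mul_inv_cancel_right,
                      show x' * r₀ * x'⁻¹ = r₀ * e by rw [he, mul_inv_cancel_left], mul_assoc, ← pow_succ']
          have h1 := hpow (q ^ a)
          rw [ha, one_mul, inv_one, mul_one, left_eq_mul] at h1
          obtain ⟨k, hk⟩ := S.isPGroup' ⟨e, hZS hmem⟩
          have h2 : e ^ p ^ k = 1 := congrArg Subtype.val hk
          have h3 : orderOf e = 1 := Nat.eq_one_of_dvd_coprimes
            (Nat.coprime_pow_primes k a hp hq hpq) (orderOf_dvd_of_pow_eq_one h2)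
            (orderOf_dvd_of_pow_eq_one h1)
          rw [orderOf_eq_one_iff, he, inv_mul_eq_one] at h3
          exact h3.symm)
      obtain ⟨g, hg⟩ := hsurj yb
      obtain ⟨y, hyq, hyg, -⟩ := exists_q_lift (QuotientGroup.mk' Z) (g := g) (a := b) (by rw [hg, hb])
      rw [hg] at hyg
      have hpre : (K.comap (QuotientGroup.mk' ZT)).map j = (K.map jb).comap (QuotientGroup.mk' Z) := by
        refine le_antisymm ?_ ?_
        · rintro _ ⟨t, ht, rfl⟩
          exact ⟨(t : T ⧸ ZT), ht, rfl⟩
        · intro v hv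
          obtain ⟨tb, htb, e⟩ := hv
          obtain ⟨t, rfl⟩ := QuotientGroup.mk'_surjective ZT tb
          have hd : (j t)⁻¹ * v ∈ Z := QuotientGroup.eq.1 e
          rw [← hmapZ] at hd
          obtain ⟨s, hs, es⟩ := hd
          refine ⟨t * s, ?_, by rw [map_mul, es, mul_inv_cancel_left]⟩
          show ((t * s : T) : T ⧸ ZT) ∈ K
          rw [QuotientGroup.mk_mul, (QuotientGroup.eq_one_iff s).2 hs, mul_one]
          exact htb
      refine ⟨K.comap (QuotientGroup.mk' ZT), y, char_comap ZT hZTc hK, ?_, hyq, ?_⟩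
      · rw [hpre, Subgroup.mem_normalizer_iff]
        intro v
        rw [Subgroup.mem_normalizer_iff] at hy
        simp only [Subgroup.mem_comap, map_mul, map_inv, hyg]
        exact hy _
      · obtain ⟨rb, hrb, hne⟩ := hyr
        obtain ⟨r, rfl⟩ := hsurj rb
        refine ⟨r, hpre ▸ hrb, fun e => hne ?_⟩
        rw [← hyg, ← map_inv, ← map_mul, ← map_mul, e]

/-- A `p`-solvable group has a subgroup with only the primes `p, q` and full Sylow subgroups. -/
theorem exists_pair_subgroup (n : ℕ) : ∀ (L : Type u) [Group L] [Finite L], Nat.card L = n →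
    IsPSolvable p L → p ≠ q → ∃ X : Subgroup L, (∀ r : ℕ, r.Prime → r ∣ Nat.card X → r = p ∨ r = q) ∧
      ¬ p ∣ X.index ∧ ¬ q ∣ X.index := by
  induction n using Nat.strong_induction_on with
  | _ n IH =>
    intro L _ _ hn hL hpq
    have hp : p.Prime := Fact.out
    have hq : q.Prime := Fact.out
    -- reduction to a proper subgroup
    have hsub : ∀ N : Subgroup L, N ≠ ⊤ → ¬ p ∣ N.index → ¬ q ∣ N.index →
        ∃ X : Subgroup L, (∀ r : ℕ, r.Prime → r ∣ Nat.card X → r = p ∨ r = q) ∧
          ¬ p ∣ X.index ∧ ¬ q ∣ X.index := by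
      intro N hN hpN hqN
      obtain ⟨X, hX, hpX, hqX⟩ := IH _ (by
        rw [← hn]
        exact lt_of_le_of_ne (Subgroup.card_le_card_group N) (fun e => hN (Subgroup.eq_top_of_card_eq N e)))
        N rfl (CfsgLib.PLocal.isPSolvable_subgroup hL N) hpq
      have hidx : (X.map N.subtype).index = X.index * N.index := by
        rw [Subgroup.index_map_subtype]
      refine ⟨X.map N.subtype, ?_, ?_, ?_⟩
      · rw [← Nat.card_congr (X.equivMapOfInjective N.subtype N.subtype_injective).toEquiv]
        exact hX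
      · rw [hidx]; exact fun h => (hp.dvd_mul.1 h).elim hpX hpN
      · rw [hidx]; exact fun h => (hq.dvd_mul.1 h).elim hqX hqN
    -- reduction to a quotient
    have hquot : ∀ (N : Subgroup L) (_ : N.Normal), N ≠ ⊥ →
        (∀ r : ℕ, r.Prime → r ∣ Nat.card N → r = p ∨ r = q) →
        ∃ X : Subgroup L, (∀ r : ℕ, r.Prime → r ∣ Nat.card X → r = p ∨ r = q) ∧
          ¬ p ∣ X.index ∧ ¬ q ∣ X.index := by
      intro N _ hN hNpq
      obtain ⟨X, hX, hpX, hqX⟩ := IH _ (by
        have h := Subgroup.card_eq_card_quotient_mul_card_subgroup N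
        rw [hn] at h
        rw [h]
        exact (lt_mul_iff_one_lt_right Nat.card_pos).2 ((Subgroup.one_lt_card_iff_ne_bot N).2 hN))
        (L ⧸ N) rfl (CfsgLib.PLocal.isPSolvable_quotient hL N) hpq
      refine ⟨X.comap (QuotientGroup.mk' N), ?_, ?_, ?_⟩
      · intro r hr hd
        have hidx : (X.comap (QuotientGroup.mk' N)).index = X.index :=
          X.index_comap_of_surjective (QuotientGroup.mk'_surjective N)
        have hc : Nat.card (X.comap (QuotientGroup.mk' N)) = Nat.card X * Nat.card N := by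
          refine Nat.eq_of_mul_eq_mul_right (m := X.index)
            (Nat.pos_of_ne_zero Subgroup.index_ne_zero_of_finite) ?_
          calc Nat.card (X.comap (QuotientGroup.mk' N)) * X.index
              = Nat.card L := by rw [← hidx, Subgroup.card_mul_index]
            _ = Nat.card (L ⧸ N) * Nat.card N := Subgroup.card_eq_card_quotient_mul_card_subgroup N
            _ = Nat.card X * Nat.card N * X.index := by rw [← Subgroup.card_mul_index X]; ring
        rw [hc] at hd
        exact (hr.dvd_mul.1 hd).elim (hX r hr) (hNpq r hr)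
      · rw [X.index_comap_of_surjective (QuotientGroup.mk'_surjective N)]; exact hpX
      · rw [X.index_comap_of_surjective (QuotientGroup.mk'_surjective N)]; exact hqX
    have pgroup_primes : ∀ (N : Subgroup L) (r : ℕ), r = p ∨ r = q → IsPGroup r N → r.Prime →
        ∀ s : ℕ, s.Prime → s ∣ Nat.card N → s = p ∨ s = q := by
      intro N r hr hN hrp s hs hd
      have : Fact r.Prime := ⟨hrp⟩
      obtain ⟨k, hk⟩ := IsPGroup.iff_card.1 hN
      rw [hk] at hd
      rwa [(Nat.prime_dvd_prime_iff_eq hs hrp).1 (hs.dvd_of_dvd_pow hd)]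
    by_cases hL1 : Subsingleton L
    · refine ⟨⊤, fun r hr hd => ?_, ?_, ?_⟩
      · rw [Nat.card_of_subsingleton (1 : (⊤ : Subgroup L))] at hd
        exact absurd (Nat.dvd_one.1 hd) hr.ne_one
      · rw [Subgroup.index_top]; exact hp.not_dvd_one
      · rw [Subgroup.index_top]; exact hq.not_dvd_one
    have : Nontrivial L := not_subsingleton_iff_nontrivial.1 hL1
    set M := pPrimeCore p L with hM
    have hMcop : (Nat.card M).Coprime p := CfsgLib.Base.pPrimeCore_coprime p L
    have hpM : ¬ p ∣ Nat.card M := fun h => (hp.coprime_iff_not_dvd.1 hMcop.symm) h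
    by_cases hMb : M = ⊥
    · exact hquot (pCore p L) inferInstance
        ((CfsgLib.PLocal.pCore_ne_bot_or_pPrimeCore_ne_bot hL).resolve_right (fun h => h hMb))
        (pgroup_primes _ p (Or.inl rfl) (CfsgLib.Base.isPGroup_pCore p L) hp)
    obtain ⟨Q⟩ : Nonempty (Sylow q M) := inferInstance
    by_cases hQ : (Q : Subgroup M) = ⊥
    · -- `M` is a `q'`-group
      have hqM : ¬ q ∣ Nat.card M := by
        have := Q.not_dvd_index
        rwa [hQ, Subgroup.index_bot] at this
      set D := (pCore p (L ⧸ M)).comap (QuotientGroup.mk' M) with hD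
      by_cases hbar : Nontrivial (L ⧸ M)
      · have hne : pCore p (L ⧸ M) ≠ ⊥ :=
          (CfsgLib.PLocal.pCore_ne_bot_or_pPrimeCore_ne_bot
            (CfsgLib.PLocal.isPSolvable_quotient hL M)).resolve_right
            (fun h => h (CfsgLib.Base.pPrimeCore_quotient_pPrimeCore p L))
        obtain ⟨P1⟩ : Nonempty (Sylow p D) := inferInstance
        set P := (P1 : Subgroup D).map D.subtype with hP
        set N := Subgroup.normalizer (P : Set L)
        have hfr : N ⊔ D = ⊤ := Sylow.normalizer_sup_eq_top P1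
        have hNidx : N.index = N.relIndex D := index_of_sup_eq_top hfr
        have hPD : P.relIndex D = (P1 : Subgroup D).index := by
          show (P.subgroupOf D).index = _
          rw [hP, Subgroup.subgroupOf, Subgroup.comap_map_eq_self_of_injective D.subtype_injective]
        have hdvd : N.index ∣ (P1 : Subgroup D).index := by
          rw [hNidx, ← hPD]
          exact Subgroup.relIndex_dvd_of_le_left _ Subgroup.le_normalizer
        have hDcard : Nat.card D = Nat.card (pCore p (L ⧸ M)) * Nat.card M := by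
          refine Nat.eq_of_mul_eq_mul_right (m := (pCore p (L ⧸ M)).index)
            (Nat.pos_of_ne_zero Subgroup.index_ne_zero_of_finite) ?_
          calc Nat.card D * (pCore p (L ⧸ M)).index = Nat.card L := by
                rw [← (pCore p (L ⧸ M)).index_comap_of_surjective (QuotientGroup.mk'_surjective M),
                  Subgroup.card_mul_index]
            _ = Nat.card (L ⧸ M) * Nat.card M := Subgroup.card_eq_card_quotient_mul_card_subgroup M
            _ = _ := by rw [← Subgroup.card_mul_index (pCore p (L ⧸ M))]; ring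
        have hqN : ¬ q ∣ N.index := by
          intro h
          have h1 : q ∣ Nat.card D := h.trans (hdvd.trans (Subgroup.index_dvd_card _))
          rw [hDcard] at h1
          obtain ⟨k, hk⟩ := IsPGroup.iff_card.1 (CfsgLib.Base.isPGroup_pCore p (L ⧸ M))
          rcases hq.dvd_mul.1 h1 with h2 | h2
          · rw [hk] at h2
            exact hpq ((Nat.prime_dvd_prime_iff_eq hq hp).1 (hq.dvd_of_dvd_pow h2)).symm
          · exact hqM h2
        by_cases hN : N = ⊤
        · refine hquot P (Subgroup.normalizer_eq_top_iff.1 hN) (fun h => ?_)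
            (pgroup_primes _ p (Or.inl rfl) (P1.isPGroup'.map _) hp)
          have hb : (P1 : Subgroup D) = ⊥ := by
            rwa [hP, Subgroup.map_eq_bot_iff_of_injective _ D.subtype_injective] at h
          have hnd := P1.not_dvd_index
          rw [hb, Subgroup.index_bot, hDcard] at hnd
          obtain ⟨k, hk0, hk⟩ := ((CfsgLib.Base.isPGroup_pCore p (L ⧸ M)).nontrivial_iff_card).1
            ((Subgroup.nontrivial_iff_ne_bot _).2 hne)
          exact hnd (dvd_mul_of_dvd_left (hk ▸ dvd_pow_self p (by omega)) _)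
        · exact hsub N hN (fun h => P1.not_dvd_index (h.trans hdvd)) hqN
      · have hsub' : Subsingleton (L ⧸ M) := not_nontrivial_iff_subsingleton.1 hbar
        have hMt : M = ⊤ := (Subgroup.index_eq_one).1 (Nat.card_of_subsingleton (1 : L ⧸ M))
        have hcL : Nat.card L = Nat.card M := by rw [hMt, Subgroup.card_top]
        refine ⟨⊥, fun r hr hd => ?_, ?_, ?_⟩
        · rw [Subgroup.card_bot] at hd
          exact absurd (Nat.dvd_one.1 hd) hr.ne_one
        · rw [Subgroup.index_bot, hcL]; exact hpM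
        · rw [Subgroup.index_bot, hcL]; exact hqM
    · set P := (Q : Subgroup M).map M.subtype with hP
      set N := Subgroup.normalizer (P : Set L)
      have hfr : N ⊔ M = ⊤ := Sylow.normalizer_sup_eq_top Q
      have hNidx : N.index = N.relIndex M := index_of_sup_eq_top hfr
      have hdvd : N.index ∣ (Q : Subgroup M).index := by
        rw [hNidx]
        refine (Subgroup.relIndex_dvd_of_le_left _ (Subgroup.le_normalizer (H := P))).trans ?_
        show (P.subgroupOf M).index ∣ _
        rw [hP, Subgroup.subgroupOf, Subgroup.comap_map_eq_self_of_injective M.subtype_injective]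
      by_cases hN : N = ⊤
      · exact hquot P (Subgroup.normalizer_eq_top_iff.1 hN)
          (fun h => hQ (by rwa [hP, Subgroup.map_eq_bot_iff_of_injective _ M.subtype_injective] at h))
          (pgroup_primes _ q (Or.inr rfl) (Q.isPGroup'.map _) hq)
      · exact hsub N hN (fun h => hpM (h.trans (hdvd.trans (Subgroup.index_dvd_card _))))
          (fun h => Q.not_dvd_index (h.trans hdvd))

theorem exists_pair_subgroup_containing {L : Type u} [Group L] [Finite L] (hL : IsPSolvable p L)
    (hpq : p ≠ q) (S : Sylow p L) : ∃ X : Subgroup L, (∀ r : ℕ, r.Prime → r ∣ Nat.card X → r = p ∨ r = q) ∧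
      ¬ q ∣ X.index ∧ (S : Subgroup L) ≤ X := by
  obtain ⟨X, hX, hpX, hqX⟩ := exists_pair_subgroup _ L rfl hL hpq
  obtain ⟨P⟩ : Nonempty (Sylow p X) := inferInstance
  set PL := (P : Subgroup X).map X.subtype with hPL
  have hPidx : ¬ p ∣ PL.index := by
    rw [hPL, Subgroup.index_map_subtype]
    exact fun h => ((Fact.out : p.Prime).dvd_mul.1 h).elim P.not_dvd_index hpX
  obtain ⟨g, hg⟩ := MulAction.exists_smul_eq L ((P.isPGroup'.map X.subtype).toSylow hPidx) S
  refine ⟨X.map (MulAut.conj g).toMonoidHom, ?_, ?_, ?_⟩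
  · rw [← Nat.card_congr (X.equivMapOfInjective _ (MulAut.conj g).injective).toEquiv]
    exact hX
  · show ¬ q ∣ (X.map ((MulAut.conj g : L ≃* L) : L →* L)).index
    rwa [Subgroup.index_map_equiv]
  · intro s hs
    rw [← hg] at hs
    obtain ⟨t, ht, rfl⟩ := hs
    exact ⟨t, Subgroup.map_subtype_le _ ht, rfl⟩

/-- The step at one subgroup. -/
theorem char_step {G : Type u} [Group G] [Finite G] (hpq : p ≠ q)
    (h23 : ¬ ((p = 2 ∧ q = 3) ∨ (p = 3 ∧ q = 2))) (K : Subgroup G) (hK : IsPGroup p K)
    [((Subgroup.centralizer (K : Set G)).subgroupOf (Subgroup.normalizer (K : Set G))).Normal]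
    (hsol : IsPSolvable p (↥(Subgroup.normalizer (K : Set G)) ⧸
      (Subgroup.centralizer (K : Set G)).subgroupOf (Subgroup.normalizer (K : Set G))))
    (hq : q ∣ ((Subgroup.centralizer (K : Set G)).subgroupOf (Subgroup.normalizer (K : Set G))).index)
    (S : Sylow p (Subgroup.normalizer (K : Set G))) :
    ∃ (K' : Subgroup G) (y : G), K' ≤ (S : Subgroup _).map (Subgroup.normalizer (K : Set G)).subtype ∧
      Subgroup.normalizer ((S : Subgroup _).map (Subgroup.normalizer (K : Set G)).subtype : Set G) ≤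
        Subgroup.normalizer (K' : Set G) ∧
      y ∈ Subgroup.normalizer (K' : Set G) ∧ (∃ b : ℕ, y ^ q ^ b = 1) ∧ Moves y K' := by
  let Γ := Subgroup.normalizer (K : Set G)
  let C : Subgroup Γ := (Subgroup.centralizer (K : Set G)).subgroupOf Γ
  have hp : p.Prime := Fact.out
  have hqp : q.Prime := Fact.out
  have hsurj := QuotientGroup.mk'_surjective C
  obtain ⟨Xb, hXb, hqXb, hSXb⟩ := exists_pair_subgroup_containing hsol hpq (S.mapSurjective hsurj)
  have hqcard : q ∣ Nat.card Xb := by
    have h : q ∣ Nat.card Xb * Xb.index := by rw [Subgroup.card_mul_index]; exact hq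
    exact (hqp.dvd_mul.1 h).resolve_right hqXb
  set Y := Xb.comap (QuotientGroup.mk' C) with hY
  have hCY : C ≤ Y := QuotientGroup.le_comap_mk' C Xb
  have hSY : (S : Subgroup Γ) ≤ Y := fun s hs => hSXb ⟨s, hs, rfl⟩
  set T := (S : Subgroup Γ) ⊓ C with hT
  set Y1 := Y ⊓ Subgroup.normalizer (T : Set Γ) with hY1
  have hSN : (S : Subgroup Γ) ≤ Subgroup.normalizer (T : Set Γ) := by
    intro s (hs : s ∈ (S : Subgroup Γ))
    rw [Subgroup.mem_normalizer_iff]
    intro v
    have hCn : C.Normal := inferInstanceAs ((Subgroup.centralizer (K : Set G)).subgroupOf Γ).Normal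
    simp only [hT, SetLike.mem_coe, Subgroup.mem_inf]
    constructor
    · rintro ⟨hv, hvC⟩
      exact ⟨mul_mem (mul_mem hs hv) (inv_mem hs), hCn.conj_mem v hvC s⟩
    · rintro ⟨hv, hvC⟩
      have e : v = s⁻¹ * (s * v * s⁻¹) * s := by group
      refine ⟨?_, ?_⟩
      · rw [e]; exact mul_mem (mul_mem (inv_mem hs) hv) hs
      · rw [e]
        have := hCn.conj_mem _ hvC s⁻¹
        rwa [inv_inv] at this
  have hSY1 : (S : Subgroup Γ) ≤ Y1 := le_inf hSY hSN
  -- the image of `Y1` is all of `Xb`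
  have hfull : ∀ v : Γ, v ∈ Y → ∃ c ∈ C, ∃ m ∈ Y1, v = c * m := by
    intro v hv
    obtain ⟨c, hc, m, hm, he⟩ := CfsgLib.PLocal.exists_mul_normalizer S C v
    refine ⟨c, hc, m, Subgroup.mem_inf.2 ⟨?_, hm⟩, he⟩
    rw [show m = c⁻¹ * v by rw [he, inv_mul_cancel_left]]
    exact mul_mem (inv_mem (hCY hc)) hv
  let φ : Y1 →* Xb := ((QuotientGroup.mk' C).comp Y1.subtype).codRestrict Xb fun m => m.2.1
  have hφ : Function.Surjective φ := by
    rintro ⟨vb, hvb⟩
    obtain ⟨v, rfl⟩ := hsurj vb
    obtain ⟨c, hc, m, hm, rfl⟩ := hfull v hvb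
    refine ⟨⟨m, hm⟩, Subtype.ext ?_⟩
    show (m : Γ ⧸ C) = ((c * m : Γ) : Γ ⧸ C)
    rw [QuotientGroup.mk_mul, (QuotientGroup.eq_one_iff c).2 hc, one_mul]
  have hkmem : ∀ m : Y1, m ∈ φ.ker ↔ (m : Γ) ∈ C := fun m => by
    rw [MonoidHom.mem_ker, ← (QuotientGroup.eq_one_iff (m : Γ) : _ ↔ _)]
    exact Subtype.ext_iff
  have hY1sol : IsPSolvable p Y1 := by
    refine CfsgLib.PLocal.isPSolvable_of_normal φ.ker ?_
      ((CfsgLib.PLocal.isPSolvable_congr (QuotientGroup.quotientKerEquivOfSurjective φ hφ)).2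
        (isPSolvable_pair hXb))
    -- the kernel has a normal Sylow subgroup
    let Tk : Subgroup φ.ker := T.comap (Y1.subtype.comp φ.ker.subtype)
    have hTk : Tk.Normal := ⟨fun v hv m => by
      have h : ((m : Y1) : Γ) ∈ Subgroup.normalizer (T : Set Γ) := (m : Y1).2.2
      rw [Subgroup.mem_normalizer_iff] at h
      exact (h ((v : Y1) : Γ)).1 hv⟩
    have hTkp : IsPGroup p Tk := (S.isPGroup'.to_le inf_le_left).comap_of_injective _
      (Y1.subtype_injective.comp φ.ker.subtype_injective)
    refine CfsgLib.PLocal.isPSolvable_of_normal Tk (CfsgLib.PLocal.isPSolvable_of_isPGroup hTkp) ?_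
    refine CfsgLib.PLocal.isPSolvable_of_coprime ?_
    show Tk.index.Coprime p
    refine Nat.Coprime.symm (hp.coprime_iff_not_dvd.2 fun hd => ?_)
    have hSY1' : ¬ p ∣ ((S.subtype hSY1 : Sylow p Y1) : Subgroup Y1).index := Sylow.not_dvd_index _
    have hrel : Tk.index ∣ ((S : Subgroup Γ) ⊓ C).relIndex C := by
      have h1 : Tk.index = T.relIndex ((φ.ker.map Y1.subtype)) := by
        rw [show φ.ker.map Y1.subtype = (Y1.subtype.comp φ.ker.subtype).range by
          rw [MonoidHom.range_comp, Subgroup.range_subtype]]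
        exact Subgroup.index_comap T _
      rw [h1]
      have hle : φ.ker.map Y1.subtype = Y1 ⊓ C := by
        ext v
        constructor
        · rintro ⟨m, hm, rfl⟩
          exact ⟨m.2, (hkmem m).1 hm⟩
        · rintro ⟨hv, hvC⟩
          exact ⟨⟨v, hv⟩, (hkmem _).2 hvC, rfl⟩
      rw [hle, ← Subgroup.relIndex_mul_relIndex T (Y1 ⊓ C) C
        (le_inf (inf_le_left.trans hSY1) inf_le_right) inf_le_right]
      exact dvd_mul_right _ _
    exact CfsgLib.PLocal.not_dvd_relIndex_sylow_inf S C (hd.trans hrel)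
  obtain ⟨X2, hX2, hqX2, hSX2⟩ := exists_pair_subgroup_containing hY1sol hpq (S.subtype hSY1)
  -- an element of `q`-power order in `X2` moving `K`
  obtain ⟨x, hxX, hxq, hxC⟩ : ∃ x : Y1, x ∈ X2 ∧ (∃ a : ℕ, x ^ q ^ a = 1) ∧ (x : Γ) ∉ C := by
    by_contra! hc
    obtain ⟨Q⟩ : Nonempty (Sylow q X2) := inferInstance
    set QY := (Q : Subgroup X2).map X2.subtype
    have hQidx : ¬ q ∣ QY.index := by
      rw [Subgroup.index_map_subtype]
      exact fun h => (hqp.dvd_mul.1 h).elim Q.not_dvd_index hqX2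
    have hle : QY ≤ φ.ker := by
      rintro _ ⟨v, hv, rfl⟩
      obtain ⟨k, hk⟩ := Q.isPGroup' ⟨v, hv⟩
      exact (hkmem _).2 (hc _ v.2 ⟨k, congrArg (fun t : (Q : Subgroup X2) => ((t : X2) : Y1)) hk⟩)
    refine hQidx (dvd_trans ?_ (Subgroup.index_dvd_of_le hle))
    rw [Subgroup.index, Nat.card_congr (QuotientGroup.quotientKerEquivOfSurjective φ hφ).toEquiv]
    exact hqcard
  -- pass to the pair step
  let ι : X2 →* G := (Γ.subtype.comp Y1.subtype).comp X2.subtype
  have hι : Function.Injective ι := (Γ.subtype_injective.comp Y1.subtype_injective).comp X2.subtype_injective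
  set SG := (S : Subgroup Γ).map Γ.subtype with hSG
  have key : ∀ s : SG, (⟨s.1, Subgroup.map_subtype_le _ s.2⟩ : Γ) ∈ (S : Subgroup Γ) := by
    rintro ⟨_, t, ht, rfl⟩
    exact ht
  let jX : SG →* X2 :=
    { toFun := fun s => ⟨⟨⟨s.1, Subgroup.map_subtype_le _ s.2⟩, hSY1 (key s)⟩, hSX2 (by
        rw [Sylow.coe_subtype, Subgroup.mem_subgroupOf]
        exact key s)⟩
      map_one' := rfl
      map_mul' := fun _ _ => rfl }
  have hjι : ι.comp jX = SG.subtype := rfl
  obtain ⟨S2, hS2⟩ : ∃ S2 : Sylow p X2, jX.range = (S2 : Subgroup X2) := by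
    refine ⟨(S.subtype hSY1).subtype hSX2, ?_⟩
    ext v
    rw [Sylow.coe_subtype, Subgroup.mem_subgroupOf, Sylow.coe_subtype, Subgroup.mem_subgroupOf]
    constructor
    · rintro ⟨s, rfl⟩
      exact key s
    · intro hv
      exact ⟨⟨ι v, ⟨((v : Y1) : Γ), hv, rfl⟩⟩, hι rfl⟩
  have hKΓ : K ≤ Γ := Subgroup.le_normalizer
  have hKS : K ≤ SG := by
    have hn : (K.subgroupOf Γ).Normal := ⟨fun v hv w => (Subgroup.mem_normalizer_iff.1 w.2 v).1 hv⟩
    have hn' : (K.comap Γ.subtype).Normal := hn
    rw [← Subgroup.map_subgroupOf_eq_of_le hKΓ]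
    exact Subgroup.map_mono (normal_le_sylow (hK.comap_of_injective _ Γ.subtype_injective) S)
  set R := K.comap ι with hR
  have hRn : R.Normal := ⟨fun v hv w => by
    have h : (((w : Y1) : Γ) : G) ∈ Subgroup.normalizer (K : Set G) := ((w : Y1) : Γ).2
    rw [Subgroup.mem_normalizer_iff] at h
    exact (h (ι v)).1 hv⟩
  obtain ⟨a, ha⟩ := hxq
  obtain ⟨r, hr, hne⟩ : ∃ r ∈ K, ((x : Γ) : G) * r * ((x : Γ) : G)⁻¹ ≠ r := by
    by_contra! hc
    refine hxC ?_
    show (x : Γ) ∈ (Subgroup.centralizer (K : Set G)).subgroupOf Γ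
    rw [Subgroup.mem_subgroupOf, Subgroup.mem_centralizer_iff]
    exact fun r hr => (mul_inv_eq_iff_eq_mul.1 (hc r hr)).symm
  obtain ⟨K', y, hK', hy, ⟨b, hb⟩, r', hr', hne'⟩ := pair_step hpq h23 _ X2 SG jX S2 R ⟨x, hxX⟩ rfl
    hX2 (fun u v h => Subtype.ext (congrArg ι h)) hS2 hRn (hK.comap_of_injective _ hι)
    ⟨a, Subtype.ext ha⟩
    ⟨jX ⟨r, hKS hr⟩, hr, fun e => hne (congrArg ι e)⟩
  have hmap : (K'.map jX).map ι = K'.map SG.subtype := by rw [Subgroup.map_map, hjι]
  refine ⟨K'.map SG.subtype, ι y, Subgroup.map_subtype_le _, ?_, ?_,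
    ⟨b, by rw [← map_pow, hb, map_one]⟩, ι r', hmap ▸ ⟨r', hr', rfl⟩, fun e => hne' (hι ?_)⟩
  · intro v hv
    have hc := hK'
    rw [Subgroup.mem_normalizer_iff_map_conj_eq] at hv
    rw [Subgroup.mem_normalizer_iff_map_conj_eq]
    let ψ : SG ≃* SG := (SG.equivMapOfInjective (MulAut.conj v).toMonoidHom (MulAut.conj v).injective).trans
      (MulEquiv.subgroupCongr hv)
    conv_rhs => rw [← Subgroup.characteristic_iff_map_eq.1 hc ψ]
    rw [Subgroup.map_map, Subgroup.map_map]
    rfl
  · rw [Subgroup.mem_normalizer_iff_map_conj_eq] at hy ⊢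
    calc _ = ((K'.map jX).map (MulAut.conj y).toMonoidHom).map ι := by
          rw [← hmap, Subgroup.map_map (K'.map jX) ι, Subgroup.map_map (K'.map jX)]
          congr 1
      _ = _ := by
          rw [← hmap]
          exact congrArg (Subgroup.map ι) hy
  · rw [map_mul, map_mul, map_inv]
    exact e

theorem dvd_of_moves {G : Type*} [Group G] [Finite G] {K : Subgroup G} {y : G}
    (hy : y ∈ Subgroup.normalizer (K : Set G)) (hq : ∃ b : ℕ, y ^ q ^ b = 1) (hm : Moves y K) :
    q ∣ ((Subgroup.centralizer (K : Set G)).subgroupOf (Subgroup.normalizer (K : Set G))).index := by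
  set N := Subgroup.normalizer (K : Set G)
  set C := (Subgroup.centralizer (K : Set G)).subgroupOf N
  have : C.Normal := inferInstance
  obtain ⟨b, hb⟩ := hq
  have hne : ((⟨y, hy⟩ : N) : N ⧸ C) ≠ 1 := by
    rw [Ne, QuotientGroup.eq_one_iff]
    intro h
    obtain ⟨r, hr, hne⟩ := hm
    exact hne (mul_inv_eq_iff_eq_mul.2 (Subgroup.mem_centralizer_iff.1 h r hr).symm)
  obtain ⟨k, -, hk⟩ := (Nat.dvd_prime_pow (Fact.out : q.Prime)).1 (orderOf_dvd_of_pow_eq_one
    (show ((⟨y, hy⟩ : N) : N ⧸ C) ^ q ^ b = 1 by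
      rw [← QuotientGroup.mk_pow, show (⟨y, hy⟩ : N) ^ q ^ b = 1 from Subtype.ext hb, QuotientGroup.mk_one]))
  rcases k with _ | k
  · exact absurd (orderOf_eq_one_iff.1 (by rw [hk, pow_zero])) hne
  · exact (dvd_pow_self q (Nat.succ_ne_zero k)).trans (hk ▸ orderOf_dvd_natCard _)

theorem main {G : Type u} [Group G] [Finite G] (hpq : p ≠ q)
    (h23 : ¬ ((p = 2 ∧ q = 3) ∨ (p = 3 ∧ q = 2)))
    (hsol : ∀ H : Subgroup G, IsPGroup p ↥H →
      IsPSolvable p (↥(Subgroup.normalizer (H : Set G)) ⧸
        (Subgroup.centralizer (H : Set G)).subgroupOf (Subgroup.normalizer (H : Set G))))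
    (H : Subgroup G) (hH : IsPGroup p ↥H)
    (hq : q ∣ ((Subgroup.centralizer (H : Set G)).subgroupOf (Subgroup.normalizer (H : Set G))).index)
    (Gp : Sylow p G) :
    ∃ K : Subgroup G, K ≤ (Gp : Subgroup G) ∧ (Gp : Subgroup G) ≤ Subgroup.normalizer (K : Set G) ∧
      q ∣ ((Subgroup.centralizer (K : Set G)).subgroupOf (Subgroup.normalizer (K : Set G))).index := by
  let sc : Subgroup G → ℕ := fun K => (Nat.card (Subgroup.normalizer (K : Set G))).factorization p
  obtain ⟨K, ⟨hKp, hKq⟩, hmax⟩ := (Set.toFinite {K : Subgroup G | IsPGroup p K ∧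
    q ∣ ((Subgroup.centralizer (K : Set G)).subgroupOf (Subgroup.normalizer (K : Set G))).index}).exists_maximalFor
      sc _ ⟨H, hH, hq⟩
  -- a conjugate with normaliser Sylow inside `Gp`
  obtain ⟨P0⟩ : Nonempty (Sylow p (Subgroup.normalizer (K : Set G))) := inferInstance
  obtain ⟨T, hT⟩ := (P0.isPGroup'.map (Subgroup.normalizer (K : Set G)).subtype).exists_le_sylow
  obtain ⟨g, hg⟩ := MulAction.exists_smul_eq G T Gp
  set c : G ≃* G := MulAut.conj g
  set K1 := K.map c.toMonoidHom with hK1
  have hN1 : Subgroup.normalizer (K1 : Set G) = (Subgroup.normalizer (K : Set G)).map c.toMonoidHom :=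
    (Subgroup.map_equiv_normalizer_eq K c).symm
  have hK1p : IsPGroup p K1 := hKp.map _
  have hsc : sc K1 = sc K := by
    show (Nat.card _).factorization p = _
    rw [hN1, ← Nat.card_congr ((Subgroup.normalizer (K : Set G)).equivMapOfInjective _ c.injective).toEquiv]
  have hC1 : Subgroup.centralizer (K1 : Set G) = (Subgroup.centralizer (K : Set G)).map c.toMonoidHom := by
    ext v
    constructor
    · intro hv
      refine ⟨c.symm v, fun r hr => c.injective ?_, c.apply_symm_apply v⟩
      rw [map_mul, map_mul, MulEquiv.apply_symm_apply]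
      exact hv (c r) ⟨r, hr, rfl⟩
    · rintro ⟨w, hw, rfl⟩ _ ⟨r, hr, rfl⟩
      show c r * c w = c w * c r
      rw [← map_mul, ← map_mul, hw r hr]
  have hK1q : q ∣ ((Subgroup.centralizer (K1 : Set G)).subgroupOf (Subgroup.normalizer (K1 : Set G))).index := by
    show q ∣ (Subgroup.centralizer (K1 : Set G)).relIndex (Subgroup.normalizer (K1 : Set G))
    rw [hC1, hN1, Subgroup.relIndex_map_map_of_injective _ _ c.injective]
    exact hKq
  obtain ⟨S, hS⟩ : ∃ S : Sylow p (Subgroup.normalizer (K1 : Set G)),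
      (S : Subgroup _).map (Subgroup.normalizer (K1 : Set G)).subtype ≤ (Gp : Subgroup G) := by
    set P1 := ((P0 : Subgroup _).map (Subgroup.normalizer (K : Set G)).subtype).map c.toMonoidHom
    have hle : P1 ≤ Subgroup.normalizer (K1 : Set G) :=
      hN1.symm ▸ Subgroup.map_mono (Subgroup.map_subtype_le _)
    have hcard : Nat.card (P1.subgroupOf (Subgroup.normalizer (K1 : Set G))) = p ^ sc K1 := by
      rw [Nat.card_congr (Subgroup.subgroupOfEquivOfLe hle).toEquiv, hsc,
        ← Nat.card_congr (Subgroup.equivMapOfInjective _ _ c.injective).toEquiv,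
        ← Nat.card_congr ((P0 : Subgroup (Subgroup.normalizer (K : Set G))).equivMapOfInjective _
          (Subgroup.subtype_injective _)).toEquiv]
      exact P0.card_eq_multiplicity
    refine ⟨Sylow.ofCard _ hcard, ?_⟩
    rw [Sylow.coe_ofCard, Subgroup.map_subgroupOf_eq_of_le hle]
    rintro _ ⟨v, hv, rfl⟩
    rw [← hg]
    exact ⟨v, hT hv, rfl⟩
  let N1 := Subgroup.normalizer (K1 : Set G)
  set SG := (S : Subgroup N1).map N1.subtype with hSG
  by_cases hfull : (Gp : Subgroup G) ≤ SG
  · refine ⟨K1, ?_, hfull.trans (Subgroup.map_subtype_le _), hK1q⟩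
    have hn : (K1.subgroupOf N1).Normal := ⟨fun v hv w => (Subgroup.mem_normalizer_iff.1 w.2 v).1 hv⟩
    have hn' : (K1.comap N1.subtype).Normal := hn
    rw [← Subgroup.map_subgroupOf_eq_of_le (Subgroup.le_normalizer : K1 ≤ N1)]
    exact (Subgroup.map_mono (normal_le_sylow (hK1p.comap_of_injective _ N1.subtype_injective) S)).trans hS
  exfalso
  obtain ⟨K', y, hK'S, hnorm, hyN, hyq, hym⟩ := char_step hpq h23 K1 hK1p (hsol K1 hK1p) hK1q S
  have hq' := dvd_of_moves hyN hyq hym
  have hle : sc K1 ≤ sc K' := by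
    have h1 : SG ≤ Subgroup.normalizer (K' : Set G) := Subgroup.le_normalizer.trans hnorm
    have h2 : Nat.card SG = p ^ sc K1 := by
      rw [← Nat.card_congr ((S : Subgroup N1).equivMapOfInjective _ N1.subtype_injective).toEquiv]
      exact S.card_eq_multiplicity
    exact ((Fact.out : p.Prime).pow_dvd_iff_le_factorization Nat.card_pos.ne').1
      (h2 ▸ Subgroup.card_dvd_of_le h1)
  have hlt : sc K1 < sc K' := by
    -- the normaliser condition inside `Gp`
    have : Group.IsNilpotent (Gp : Subgroup G) := Gp.isPGroup'.isNilpotent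
    have hproper : SG.subgroupOf (Gp : Subgroup G) < ⊤ :=
      lt_top_iff_ne_top.2 fun h => hfull (Subgroup.subgroupOf_eq_top.1 h)
    obtain ⟨v, hv, hvS⟩ := SetLike.exists_of_lt
      (Group.normalizerCondition_of_isNilpotent _ hproper)
    set B := (Subgroup.normalizer (SG.subgroupOf (Gp : Subgroup G) : Set (Gp : Subgroup G))).map
      (Gp : Subgroup G).subtype with hB
    have hBS : SG < B := by
      refine lt_of_le_of_ne ?_ fun e => ?_
      · intro s hs
        exact ⟨⟨s, hS hs⟩, Subgroup.le_normalizer (Subgroup.mem_subgroupOf.2 hs), rfl⟩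
      · exact hvS (Subgroup.mem_subgroupOf.2 (e ▸ (⟨v, hv, rfl⟩ : (v : G) ∈ B)))
    have hBN : B ≤ Subgroup.normalizer (K' : Set G) := by
      refine le_trans ?_ hnorm
      rintro _ ⟨w, hw, rfl⟩
      rw [Subgroup.mem_normalizer_iff]
      intro s
      rw [SetLike.mem_coe, Subgroup.mem_normalizer_iff] at hw
      constructor
      · intro hs
        exact Subgroup.mem_subgroupOf.1 ((hw ⟨s, hS hs⟩).1 (Subgroup.mem_subgroupOf.2 hs))
      · intro hs
        have hsG : s ∈ (Gp : Subgroup G) := by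
          have := mul_mem (mul_mem (inv_mem w.2) (hS hs)) w.2
          simpa [mul_assoc] using this
        exact Subgroup.mem_subgroupOf.1 ((hw ⟨s, hsG⟩).2 (Subgroup.mem_subgroupOf.2 hs))
    have hBp : IsPGroup p B := Gp.isPGroup'.to_le (Subgroup.map_subtype_le _)
    obtain ⟨k, hk⟩ := IsPGroup.iff_card.1 hBp
    have h2 : Nat.card SG = p ^ sc K1 := by
      rw [← Nat.card_congr ((S : Subgroup N1).equivMapOfInjective _ N1.subtype_injective).toEquiv]
      exact S.card_eq_multiplicity
    have h3 : Nat.card SG < Nat.card B :=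
      lt_of_not_ge fun h => hBS.ne (Subgroup.eq_of_le_of_card_ge hBS.le h)
    rw [h2, hk] at h3
    exact lt_of_lt_of_le ((Nat.pow_lt_pow_iff_right (Fact.out : p.Prime).one_lt).1 h3)
      (((Fact.out : p.Prime).pow_dvd_iff_le_factorization Nat.card_pos.ne').1
        (hk ▸ Subgroup.card_dvd_of_le hBN))
  have hK'p : IsPGroup p K' := (S.isPGroup'.map _).to_le hK'S
  exact absurd (hmax ⟨hK'p, hq'⟩ (hsc ▸ hle)) (not_le.2 (hsc ▸ hlt))

end CfsgLib.FgsC.AutPrime
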