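import Mathlib
import Cfsg.Agent.Lib.PGroups.Basic

/-!
# A group of odd prime power order has a regular orbit on the power set
-/

set_option autoImplicit false
set_option linter.style.haveILetI false

open scoped Pointwise

universe u v

namespace CfsgLib.FgsC.PowerSet

variable {p : ℕ} [Fact p.Prime]

/-- The transitive case, by induction on the order of the group. -/
theorem exists_subset_transitive (hp : p ≠ 2) : ∀ (N : ℕ) {P : Type u} [Group P] [Finite P],
    Nat.card P ≤ N → IsPGroup p P → ∀ {Ω : Type v} [MulAction P Ω] (ω : Ω),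
      ∃ S ⊆ MulAction.orbit P ω,
        ∀ x : P, x • S = S → ∀ a ∈ MulAction.orbit P ω, x • a = a := by
  intro N
  induction N with
  | zero =>
    intro P _ _ hN
    exact absurd hN (not_le.2 Nat.card_pos)
  | succ N ih =>
    intro P _ _ hN hP Ω _ ω
    rcases eq_or_ne (MulAction.stabilizer P ω) ⊤ with htop | htop
    · refine ⟨∅, Set.empty_subset _, fun x _ a ha => ?_⟩
      obtain ⟨g, rfl⟩ := ha
      have hfix : ∀ y : P, y • ω = ω := fun y =>
        MulAction.mem_stabilizer_iff.1 (htop ▸ Subgroup.mem_top y)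
      simp only [hfix]
    obtain ⟨K, hK, hle⟩ := (IsCoatomic.eq_top_or_exists_le_coatom _).resolve_left htop
    haveI hKn : K.Normal := CfsgLib.PGroups.normal_of_isCoatom hP hK
    have hKi : K.index = p := CfsgLib.PGroups.index_eq_of_isCoatom hP hK
    have hKlt : Nat.card K ≤ N := by
      have h1 := K.card_mul_index
      rw [hKi] at h1
      have := (Fact.out : p.Prime).two_le
      have : 0 < Nat.card K := Nat.card_pos
      nlinarith
    obtain ⟨g, hg⟩ : ∃ g : P, g ∉ K := by
      by_contra hall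
      push Not at hall
      exact hK.1 (eq_top_iff.2 fun x _ => hall x)
    have hpow : ∀ i : ℕ, g ^ i ∈ K ↔ p ∣ i := by
      intro i
      have hord : orderOf (QuotientGroup.mk' K g) = p := by
        refine orderOf_eq_prime ?_ fun h1 => hg ((QuotientGroup.eq_one_iff g).1 h1)
        rw [← hKi, Subgroup.index_eq_card]
        exact pow_card_eq_one'
      rw [← QuotientGroup.eq_one_iff, ← QuotientGroup.mk'_apply, map_pow,
        ← orderOf_dvd_iff_pow_eq_one, hord]
    have hrep : ∀ y : P, ∃ i < p, (g ^ i)⁻¹ * y ∈ K := by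
      intro y
      have hgen : Subgroup.zpowers (QuotientGroup.mk' K g) = ⊤ := by
        refine Subgroup.eq_top_of_card_eq _ ?_
        rw [Nat.card_zpowers, orderOf_eq_prime (p := p), ← Subgroup.index_eq_card, hKi]
        · rw [← hKi, Subgroup.index_eq_card]
          exact pow_card_eq_one'
        · exact fun h1 => hg ((QuotientGroup.eq_one_iff g).1 h1)
      obtain ⟨z, hz⟩ := Subgroup.mem_zpowers_iff.1 (hgen ▸ Subgroup.mem_top (QuotientGroup.mk' K y))
      refine ⟨(z % (p : ℤ)).toNat, ?_, ?_⟩
      · have hp0 : (0 : ℤ) < p := by exact_mod_cast (Fact.out : p.Prime).pos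
        have := Int.emod_lt_of_pos z hp0
        have := Int.emod_nonneg z hp0.ne'
        omega
      · rw [← QuotientGroup.eq]
        show QuotientGroup.mk' K (g ^ _) = QuotientGroup.mk' K y
        have hgp : (QuotientGroup.mk' K g) ^ p = 1 := by
          rw [← hKi, Subgroup.index_eq_card]
          exact pow_card_eq_one'
        rw [map_pow, ← hz, ← zpow_natCast, Int.toNat_of_nonneg (Int.emod_nonneg z
          (by exact_mod_cast (Fact.out : p.Prime).ne_zero))]
        exact (zpow_eq_zpow_emod z (by rw [← zpow_natCast] at hgp; exact_mod_cast hgp)).symm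
    set B : Set Ω := MulAction.orbit K ω with hB
    have hBfin : B.Finite := by
      rw [hB]
      exact Set.finite_range _
    have hBP : B ⊆ MulAction.orbit P ω := fun a ⟨k, hk⟩ => ⟨(k : P), hk⟩
    have hBK : ∀ k ∈ K, ∀ a ∈ B, k • a ∈ B := by
      rintro k hk _ ⟨l, rfl⟩
      exact ⟨⟨k, hk⟩ * l, (mul_smul _ _ _)⟩
    have hBmem : ∀ y : P, y • ω ∈ B → y ∈ K := by
      rintro y ⟨k, hk⟩
      have h2 : ((k : P)⁻¹ * y) • ω = ω := by
        rw [mul_smul, inv_smul_eq_iff]
        exact hk.symm
      have := K.mul_mem k.2 (hle (MulAction.mem_stabilizer_iff.2 h2))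
      rwa [mul_inv_cancel_left] at this
    -- the translate `g ^ i • B` determines `i`
    have hblock : ∀ i j : ℕ, i < p → j < p → ∀ a ∈ B, ∀ b ∈ B, g ^ i • a = g ^ j • b → i = j := by
      rintro i j hi hj _ ⟨k, rfl⟩ _ ⟨l, rfl⟩ he
      wlog hij : i ≤ j generalizing i j k l
      · exact (this j i hj hi l k he.symm (by omega)).symm
      have he' : (k : P) • ω = g ^ (j - i) • ((l : P) • ω) := by
        have he2 : g ^ i • ((k : P) • ω) = g ^ i • (g ^ (j - i) • ((l : P) • ω)) := by
          rw [smul_smul (g ^ i) (g ^ (j - i)), ← pow_add, Nat.add_sub_cancel' hij]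
          exact he
        exact MulAction.injective _ he2
      have h4 : ((k : P)⁻¹ * g ^ (j - i) * l) • ω = ω := by
        rw [mul_smul, mul_smul, ← he', inv_smul_smul]
      have h5 := K.mul_mem (K.mul_mem k.2 (hle (MulAction.mem_stabilizer_iff.2 h4))) (K.inv_mem l.2)
      rw [show (k : P) * ((k : P)⁻¹ * g ^ (j - i) * l) * (l : P)⁻¹ = g ^ (j - i) by group, hpow] at h5
      have := Nat.eq_zero_of_dvd_of_lt h5 (by omega)
      omega
    obtain ⟨S₀, hS₀, hS₀'⟩ := ih hKlt (hP.to_subgroup K) ω
    have hBodd : Odd B.ncard := by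
      haveI : Finite (MulAction.orbit K ω) := hBfin.to_subtype
      obtain ⟨m, hm⟩ := (hP.to_subgroup K).card_orbit ω
      rw [hB, ← Nat.card_coe_set_eq, hm]
      exact ((Fact.out : p.Prime).odd_of_ne_two hp).pow
    let T : ℕ → Set Ω := fun i => if i = 1 then B \ S₀ else S₀
    have hT : ∀ i, T i ⊆ B := fun i => by
      simp only [T]; split
      · exact Set.sdiff_subset
      · exact hS₀
    set S : Set Ω := {a | ∃ i < p, ∃ b ∈ T i, a = g ^ i • b} with hS
    have hmemS : ∀ i < p, ∀ b ∈ B, (g ^ i • b ∈ S ↔ b ∈ T i) := by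
      intro i hi b hb
      refine ⟨?_, fun h => ⟨i, hi, b, h, rfl⟩⟩
      rintro ⟨j, hj, c, hc, he⟩
      obtain rfl := hblock i j hi hj b hb c (hT j hc) he
      rwa [MulAction.injective _ he]
    refine ⟨S, ?_, fun x hx => ?_⟩
    · rintro _ ⟨i, -, b, hb, rfl⟩
      obtain ⟨k, hk⟩ := hBP (hT i hb)
      exact ⟨g ^ i * k, by show (g ^ i * k) • ω = g ^ i • b; rw [mul_smul, show k • ω = b from hk]⟩
    -- `x` fixes every block
    have hxS : ∀ a, (x • a ∈ S ↔ a ∈ S) := fun a => by
      conv_lhs => rw [← hx]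
      exact Set.smul_mem_smul_set_iff
    obtain ⟨j, hj, hxj⟩ := hrep x
    have hxK : x ∈ K := by
      rcases Nat.eq_zero_or_pos j with rfl | hjpos
      · simpa using hxj
      exfalso
      -- `x` carries the block `1 - j` onto the block `1`
      set i := (1 + (p - j)) % p with hi
      have hip : i < p := Nat.mod_lt _ (Fact.out : p.Prime).pos
      have hij : (i + j) % p = 1 := by
        rw [hi, Nat.mod_add_mod, show 1 + (p - j) + j = 1 + p by omega, Nat.add_mod_right]
        exact Nat.one_mod_eq_one.2 (Fact.out : p.Prime).ne_one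
      have hi1 : i ≠ 1 := by
        intro h1
        rw [h1] at hij
        have hmod := Nat.mod_add_div (1 + j) p
        rw [hij] at hmod
        have hd : p ∣ j := ⟨(1 + j) / p, by omega⟩
        exact absurd (Nat.eq_zero_of_dvd_of_lt hd hj) hjpos.ne'
      set d := (g ^ 1)⁻¹ * x * g ^ i with hd
      have hdK : d ∈ K := by
        have hm1 : ∀ z : P, z ∈ K ↔ QuotientGroup.mk' K z = 1 := fun z =>
          (QuotientGroup.eq_one_iff z).symm
        have hgp : (QuotientGroup.mk' K g) ^ p = 1 := by
          rw [← hKi, Subgroup.index_eq_card]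
          exact pow_card_eq_one'
        have hxg : QuotientGroup.mk' K x = (QuotientGroup.mk' K g) ^ j := by
          rw [← map_pow]
          exact (QuotientGroup.eq.2 hxj).symm
        rw [hm1, hd, map_mul, map_mul, map_inv, map_pow, map_pow, hxg, pow_one, mul_assoc,
          ← pow_add, pow_eq_pow_mod _ hgp, add_comm j i, hij, pow_one, inv_mul_cancel]
      have hgd : ∀ b : Ω, g ^ 1 • d • b = x • g ^ i • b := fun b => by
        rw [smul_smul, smul_smul, hd]
        congr 1
        group
      have himg : d • S₀ = B \ S₀ := by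
        refine Set.Subset.antisymm ?_ fun b hb => ?_
        · rintro _ ⟨b, hb, rfl⟩
          have h1 : g ^ 1 • d • b ∈ S := by
            rw [hgd, hxS, hmemS i hip b (hS₀ hb)]
            simp only [T, if_neg hi1]
            exact hb
          rw [hmemS 1 (Fact.out : p.Prime).one_lt _ (hBK d hdK b (hS₀ hb))] at h1
          simpa [T] using h1
        · refine ⟨d⁻¹ • b, ?_, smul_inv_smul d b⟩
          have hb' : d⁻¹ • b ∈ B := hBK _ (K.inv_mem hdK) b hb.1
          have h1 : g ^ 1 • d • (d⁻¹ • b) ∈ S := by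
            rw [smul_inv_smul, hmemS 1 (Fact.out : p.Prime).one_lt b hb.1]
            simpa [T] using hb
          rw [hgd, hxS, hmemS i hip _ hb'] at h1
          simpa [T, hi1] using h1
      have hc := congrArg Set.ncard himg
      rw [show (d • S₀).ncard = S₀.ncard from Set.ncard_image_of_injective _ (MulAction.injective d),
        Set.ncard_sdiff hS₀ (hBfin.subset hS₀)] at hc
      have hle' := Set.ncard_le_ncard hS₀ hBfin
      obtain ⟨m, hm⟩ := hBodd
      rw [hB] at hm; omega
    intro a ha
    obtain ⟨y, rfl⟩ := ha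
    obtain ⟨i, hi, hyi⟩ := hrep y
    set b : Ω := ((g ^ i)⁻¹ * y) • ω with hb
    have hbB : b ∈ B := ⟨⟨_, hyi⟩, rfl⟩
    have hd : (g ^ i)⁻¹ * x * g ^ i ∈ K := by simpa using hKn.conj_mem x hxK (g ^ i)⁻¹
    set d : K := ⟨_, hd⟩
    have hdS₀ : ∀ c ∈ B, (d • c ∈ T i ↔ c ∈ T i) := by
      intro c hc
      have hdc : g ^ i • d • c = x • g ^ i • c := by
        show g ^ i • ((d : P) • c) = _
        rw [smul_smul, smul_smul]
        congr 1
        simp [d, mul_assoc]
      rw [← hmemS i hi (d • c) (hBK _ d.2 c hc), hdc, hxS, hmemS i hi c hc]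
    have hd0 : d • S₀ = S₀ := by
      have h' : ∀ c ∈ B, (d • c ∈ S₀ ↔ c ∈ S₀) := by
        intro c hc
        have h1 := hdS₀ c hc
        have hdc : d • c ∈ B := hBK _ d.2 c hc
        simp only [T] at h1
        split at h1
        · simp only [Set.mem_sdiff, hdc, hc, true_and] at h1
          exact not_iff_not.1 h1
        · exact h1
      refine Set.Subset.antisymm ?_ fun c hc => ?_
      · rintro _ ⟨c, hc, rfl⟩
        exact (h' c (hS₀ hc)).2 hc
      · refine ⟨d⁻¹ • c, ?_, smul_inv_smul d c⟩
        refine (h' _ (hBK _ (K.inv_mem d.2) c (hS₀ hc))).1 ?_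
        show (d : P) • (d : P)⁻¹ • c ∈ S₀
        rwa [smul_inv_smul]
    have hfix : d • b = b := hS₀' d hd0 b hbB
    show x • y • ω = y • ω
    have he : y • ω = g ^ i • b := by rw [hb, smul_smul, mul_inv_cancel_left]
    rw [he]
    clear_value b
    calc x • g ^ i • b = g ^ i • ((d : P) • b) := by
          rw [smul_smul, smul_smul]; congr 1; simp [d, mul_assoc]
      _ = g ^ i • b := by rw [show (d : P) • b = b from hfix]

/-- The stabiliser of some subset fixes every point. -/
theorem exists_subset (hp : p ≠ 2) {P : Type u} [Group P] [Finite P] (hP : IsPGroup p P)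
    {Ω : Type v} [MulAction P Ω] :
    ∃ S : Set Ω, ∀ x : P, x • S = S → ∀ a : Ω, x • a = a := by
  choose S hS hS' using fun ω : Ω => exists_subset_transitive hp (Nat.card P) le_rfl hP ω
  let r : MulAction.orbitRel.Quotient P Ω → Ω := fun o => o.out
  have horb : ∀ o o' : MulAction.orbitRel.Quotient P Ω, ∀ c,
      c ∈ MulAction.orbit P (r o) → c ∈ MulAction.orbit P (r o') → o = o' := by
    intro o o' c h h'
    rw [← MulAction.orbit_eq_iff] at h h'
    have h2 : r o ∈ MulAction.orbit P (r o') := MulAction.orbit_eq_iff.1 (h.symm.trans h')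
    rw [← Quotient.out_eq o, ← Quotient.out_eq o']
    exact Quotient.sound h2
  refine ⟨⋃ o, S (r o), fun x hx a => ?_⟩
  set o : MulAction.orbitRel.Quotient P Ω := Quotient.mk _ a with ho
  have hao : a ∈ MulAction.orbit P (r o) := by
    have : r o ∈ MulAction.orbit P a := Quotient.mk_out (s := MulAction.orbitRel P Ω) a
    exact MulAction.mem_orbit_symm.1 this
  refine hS' (r o) x ?_ a hao
  refine Set.Subset.antisymm ?_ fun c hc => ?_
  · rintro _ ⟨c, hc, rfl⟩
    have : x • c ∈ ⋃ o, S (r o) := hx ▸ Set.smul_mem_smul_set (Set.mem_iUnion.2 ⟨o, hc⟩)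
    obtain ⟨o', ho'⟩ := Set.mem_iUnion.1 this
    obtain rfl := horb o o' (x • c) (by
      obtain ⟨k, hk⟩ := hS (r o) hc
      exact ⟨x * k, by show (x * k) • r o = x • c; rw [mul_smul, show k • r o = c from hk]⟩) (hS _ ho')
    exact ho'
  · obtain ⟨c', hc', rfl⟩ : c ∈ x • ⋃ o, S (r o) := hx.symm ▸ Set.mem_iUnion.2 ⟨o, hc⟩
    obtain ⟨o', ho'⟩ := Set.mem_iUnion.1 hc'
    obtain rfl := horb o o' (x • c') (hS _ hc) (by
      obtain ⟨k, hk⟩ := hS (r o') ho'
      exact ⟨x * k, by show (x * k) • r o' = x • c'; rw [mul_smul, show k • r o' = c' from hk]⟩)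
    exact Set.smul_mem_smul_set ho'

end CfsgLib.FgsC.PowerSet
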