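import Cfsg.Agent.Lib.FgsC.OddCore
import Cfsg.Agent.Lib.FgsC.PowerSet
import Cfsg.Agent.Lib.Coprime.Action2

/-!
# A vector fixed by no conjugate of an element of odd prime order

If `P` is a normal `p`-subgroup (`p` odd) of a group `Γ` of automorphisms of an abelian group `V` of
order prime to `p` and `a ∈ P` has order `p`, some `v : V` is fixed by no `Γ`-conjugate of `a`.
-/

set_option autoImplicit false
set_option linter.style.haveILetI false
set_option linter.unusedSectionVars false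

open scoped commutatorElement Pointwise

universe u

namespace CfsgLib.FgsC.AvoidFixed

variable {V : Type u} [CommGroup V] [Finite V] {p : ℕ} [hp : Fact p.Prime]

/-- The fixed points of `K`. -/
def fixed (K : Subgroup (MulAut V)) : Subgroup V where
  carrier := {v | ∀ k ∈ K, k v = v}
  one_mem' := fun _ _ => map_one _
  mul_mem' := fun {a b} ha hb k hk => by rw [map_mul, ha k hk, hb k hk]
  inv_mem' := fun {a} ha k hk => by rw [map_inv, ha k hk]

theorem mem_fixed {K : Subgroup (MulAut V)} {v : V} : v ∈ fixed K ↔ ∀ k ∈ K, k v = v := Iff.rfl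

/-- The stabiliser of a subgroup. -/
def stab (U : Subgroup V) : Subgroup (MulAut V) where
  carrier := {g | ∀ u, g u ∈ U ↔ u ∈ U}
  one_mem' := fun _ => Iff.rfl
  mul_mem' := fun {g h} hg hh u => by rw [MulAut.mul_apply, hg, hh]
  inv_mem' := fun {g} hg u => by rw [← hg (g⁻¹ u), MulAut.apply_inv_self]

theorem mem_stab_of_forall {U : Subgroup V} {g : MulAut V} (h : ∀ u ∈ U, g u ∈ U) :
    g ∈ stab U := by
  intro u
  refine ⟨fun hu => ?_, h u⟩
  have hs : Function.Surjective (fun w : U => (⟨g w, h w w.2⟩ : U)) :=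
    Finite.surjective_of_injective fun a b hab =>
      Subtype.ext (g.injective (congrArg Subtype.val hab))
  obtain ⟨⟨w, hw⟩, hwe⟩ := hs ⟨g u, hu⟩
  rwa [← g.injective (congrArg Subtype.val hwe)]

/-- Restriction to an invariant subgroup. -/
def res (U : Subgroup V) : stab U →* MulAut U where
  toFun g :=
    { toFun := fun u => ⟨g.1 (u : V), (g.2 u).2 u.2⟩
      invFun := fun u => ⟨g.1⁻¹ (u : V), ((stab U).inv_mem g.2 u).2 u.2⟩
      left_inv := fun u => Subtype.ext (MulAut.inv_apply_self _ _ _)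
      right_inv := fun u => Subtype.ext (MulAut.apply_inv_self _ _ _)
      map_mul' := fun u w => Subtype.ext (map_mul g.1 (u : V) (w : V)) }
  map_one' := rfl
  map_mul' _ _ := rfl

theorem res_apply (U : Subgroup V) (g : stab U) (u : U) : ((res U g u : U) : V) = g.1 (u : V) := rfl

/-- Conjugate subgroup. -/
def conjS (g : MulAut V) (K : Subgroup (MulAut V)) : Subgroup (MulAut V) :=
  K.map (MulAut.conj g).toMonoidHom

theorem mem_conjS {g x : MulAut V} {K : Subgroup (MulAut V)} :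
    x ∈ conjS g K ↔ g⁻¹ * x * g ∈ K := by
  constructor
  · rintro ⟨k, hk, rfl⟩
    simpa [mul_assoc] using hk
  · exact fun h => ⟨_, h, by simp [mul_assoc]⟩

theorem conjS_mul (g h : MulAut V) (K : Subgroup (MulAut V)) :
    conjS (g * h) K = conjS g (conjS h K) := by
  ext x
  simp only [mem_conjS, mul_inv_rev, mul_assoc]

theorem conjS_one (K : Subgroup (MulAut V)) : conjS 1 K = K := by
  ext x
  simp [mem_conjS]

theorem apply_mem_fixed {g : MulAut V} {K : Subgroup (MulAut V)} {v : V} (hv : v ∈ fixed K) :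
    g v ∈ fixed (conjS g K) := by
  intro k hk
  have h := hv _ (mem_conjS.1 hk)
  rw [MulAut.mul_apply, MulAut.mul_apply] at h
  have := congrArg g h
  rwa [MulAut.apply_inv_self] at this

/-- The norm of `K`. -/
noncomputable def nm (K : Subgroup (MulAut V)) : V →* V :=
  haveI := Fintype.ofFinite K
  { toFun := fun v => ∏ k : K, (k : MulAut V) v
    map_one' := by simp
    map_mul' := fun a b => by simp [Finset.prod_mul_distrib] }

theorem nm_apply (K : Subgroup (MulAut V)) [Fintype K] (v : V) :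
    nm K v = ∏ k : K, (k : MulAut V) v := by
  unfold nm
  simp only [MonoidHom.coe_mk, OneHom.coe_mk]
  exact Finset.prod_congr (Finset.ext fun x => by simp) fun _ _ => rfl

theorem nm_mem_fixed (K : Subgroup (MulAut V)) (v : V) : nm K v ∈ fixed K := by
  classical
  haveI := Fintype.ofFinite K
  intro k hk
  rw [nm_apply, map_prod]
  exact Fintype.prod_equiv (Equiv.mulLeft (⟨k, hk⟩ : K)) _ _ fun y => rfl

theorem nm_eq_pow {K : Subgroup (MulAut V)} {v : V} (hv : v ∈ fixed K) :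
    nm K v = v ^ Nat.card K := by
  haveI := Fintype.ofFinite K
  rw [nm_apply, Finset.prod_congr rfl fun (k : K) _ => hv k k.2, Finset.prod_const,
    Finset.card_univ, Nat.card_eq_fintype_card]

theorem nm_conj (g : MulAut V) (K : Subgroup (MulAut V)) (v : V) :
    g (nm K v) = nm (conjS g K) (g v) := by
  haveI := Fintype.ofFinite K
  haveI := Fintype.ofFinite (conjS g K)
  rw [nm_apply, nm_apply, map_prod]
  let e : K ≃ conjS g K := (K.equivMapOfInjective _ (MulAut.conj g).injective).toEquiv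
  refine Fintype.prod_equiv e _ _ fun k => ?_
  show g ((k : MulAut V) v) = (g * k * g⁻¹) (g v)
  rw [MulAut.mul_apply, MulAut.mul_apply, MulAut.inv_apply_self]

theorem pow_eq_one_imp {n : ℕ} (h : (Nat.card V).Coprime n) {v : V} (hv : v ^ n = 1) : v = 1 :=
  orderOf_eq_one_iff.1 (Nat.eq_one_of_dvd_coprimes h (orderOf_dvd_natCard v)
    (orderOf_dvd_of_pow_eq_one hv))

theorem mem_of_pow_mem {n : ℕ} (h : (Nat.card V).Coprime n) {U : Subgroup V} {v : V}
    (hv : v ^ n ∈ U) : v ∈ U := by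
  obtain ⟨m, hm⟩ := exists_pow_eq_self_of_coprime
    ((h.coprime_dvd_left (orderOf_dvd_natCard v)).symm)
  rw [← hm]
  exact U.pow_mem hv m

theorem coprime_card {K : Subgroup (MulAut V)} (hcop : (Nat.card V).Coprime p) (hK : IsPGroup p K) :
    (Nat.card V).Coprime (Nat.card K) := by
  obtain ⟨n, hn⟩ := IsPGroup.iff_card.1 hK
  rw [hn]
  exact hcop.pow_right n

/-- The sum over the powers of an element of order dividing `p`. -/
noncomputable def cyc (p : ℕ) (x : MulAut V) (v : V) : V := ∏ n ∈ Finset.range p, (x ^ n) v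

theorem apply_cyc {x : MulAut V} (hx : x ^ p = 1) (v : V) : x (cyc p x v) = cyc p x v := by
  have h1 := Finset.prod_range_succ (fun n => (x ^ n) v) p
  have h2 := Finset.prod_range_succ' (fun n => (x ^ n) v) p
  rw [h1, hx, pow_zero] at h2
  have h3 : x (cyc p x v) = ∏ n ∈ Finset.range p, (x ^ (n + 1)) v := by
    rw [cyc, map_prod]
    exact Finset.prod_congr rfl fun n _ => by rw [pow_succ', MulAut.mul_apply]
  rw [h3, cyc]
  exact (mul_right_cancel h2).symm

theorem cyc_commute {x k : MulAut V} (h : Commute k x) {v : V} (hv : k v = v) :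
    k (cyc p x v) = cyc p x v := by
  rw [cyc, map_prod]
  refine Finset.prod_congr rfl fun n _ => ?_
  rw [← MulAut.mul_apply, (h.pow_right n).eq, MulAut.mul_apply, hv]

theorem apply_pow_of_fixed {x : MulAut V} {v : V} (h : x v = v) (m : ℕ) : (x ^ m) v = v := by
  induction m with
  | zero => rfl
  | succ m ih => rw [pow_succ, MulAut.mul_apply, h, ih]

theorem fixed_of_pow {x : MulAut V} (hx : x ^ p = 1) {n : ℕ} (hn : n.Coprime p) {v : V}
    (h : (x ^ n) v = v) : x v = v := by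
  obtain ⟨m, hm⟩ := Nat.exists_mul_mod_eq_one_of_coprime hn hp.out.one_lt
  have := apply_pow_of_fixed h m
  rwa [← pow_mul, pow_eq_pow_mod _ hx, hm.2, pow_one] at this

/-- The maximal subgroups of `E`. -/
def IsComp (E K : Subgroup (MulAut V)) : Prop :=
  K ≤ E ∧ K ≠ E ∧ ∀ e ∈ E, e ∉ K → K ⊔ Subgroup.zpowers e = E

section Decomposition

variable {E : Subgroup (MulAut V)}

theorem nm_eq_one_of_ne (hEc : ∀ a ∈ E, ∀ b ∈ E, a * b = b * a) (hfix : fixed E = ⊥)
    {K K' : Subgroup (MulAut V)} (hK : IsComp E K) (hK' : IsComp E K') (hne : K ≠ K') {v : V}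
    (hv : v ∈ fixed K') : nm K v = 1 := by
  haveI := Fintype.ofFinite K
  obtain ⟨e, heK, heK'⟩ : ∃ e ∈ K, e ∉ K' := by
    by_contra hall
    push Not at hall
    obtain ⟨x, hx, hxK⟩ := SetLike.exists_of_lt (lt_of_le_of_ne hall hne)
    have h := hK.2.2 x (hK'.1 hx) hxK
    exact hK'.2.1 (le_antisymm hK'.1 (h ▸ sup_le hall (Subgroup.zpowers_le.2 hx)))
  rw [← Subgroup.mem_bot, ← hfix]
  have hle : E ≤ MulAction.stabilizer (MulAut V) (nm K v) := by
    rw [← hK'.2.2 e (hK.1 heK) heK', sup_le_iff, Subgroup.zpowers_le]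
    refine ⟨fun k hk => ?_, nm_mem_fixed K v e heK⟩
    rw [MulAction.mem_stabilizer_iff, MulAut.smul_def, nm_apply, map_prod]
    refine Finset.prod_congr rfl fun l _ => ?_
    rw [← MulAut.mul_apply, hEc k (hK'.1 hk) l (hK.1 l.2), MulAut.mul_apply, hv k hk]
  exact fun k hk => hle hk

theorem nm_prod (hEc : ∀ a ∈ E, ∀ b ∈ E, a * b = b * a) (hfix : fixed E = ⊥)
    [DecidableEq (Subgroup (MulAut V))]
    (S : Finset (Subgroup (MulAut V))) (f : Subgroup (MulAut V) → V)
    (hS : ∀ K ∈ S, IsComp E K ∧ f K ∈ fixed K) {K₀ : Subgroup (MulAut V)} (hK₀ : IsComp E K₀) :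
    nm K₀ (∏ K ∈ S, f K) = if K₀ ∈ S then f K₀ ^ Nat.card K₀ else 1 := by
  rw [map_prod, ← Finset.prod_ite_eq' S K₀ fun K => f K ^ Nat.card K₀]
  refine Finset.prod_congr rfl fun K hK => ?_
  split_ifs with h
  · subst h; exact nm_eq_pow (hS K hK).2
  · exact nm_eq_one_of_ne hEc hfix hK₀ (hS K hK).1 (Ne.symm h) (hS K hK).2

/-- The fixed points of the maximal subgroups generate. -/
theorem fixed_le_generated (hcop : (Nat.card V).Coprime p)
    (hEc : ∀ a ∈ E, ∀ b ∈ E, a * b = b * a) (hEp : ∀ a ∈ E, a ^ p = 1) (hfix : fixed E = ⊥)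
    {U : Subgroup V} (hU : ∀ K, IsComp E K → fixed K ≤ U) :
    ∀ (n : ℕ) (F : Subgroup (MulAut V)), F ≤ E → Nat.card E ≤ Nat.card F + n → fixed F ≤ U := by
  intro n
  induction n with
  | zero =>
    intro F hF hcard
    rw [Subgroup.eq_of_le_of_card_ge hF (by simpa using hcard), hfix]
    exact bot_le
  | succ n ih =>
    intro F hF hcard
    rcases eq_or_ne F E with rfl | hne
    · rw [hfix]; exact bot_le
    by_cases hmax : ∀ e ∈ E, e ∉ F → F ⊔ Subgroup.zpowers e = E
    · exact hU F ⟨hF, hne, hmax⟩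
    push Not at hmax
    obtain ⟨f, hfE, hfF, hf⟩ := hmax
    obtain ⟨e, heE, he⟩ := SetLike.exists_of_lt
      (lt_of_le_of_ne (sup_le hF (Subgroup.zpowers_le.2 hfE)) hf)
    have hbig : ∀ x ∈ E, x ∉ F → fixed (F ⊔ Subgroup.zpowers x) ≤ U := by
      intro x hx hxF
      refine ih _ (sup_le hF (Subgroup.zpowers_le.2 hx)) ?_
      have : Nat.card F < Nat.card ↥(F ⊔ Subgroup.zpowers x) := lt_of_not_ge fun h =>
        hxF (Subgroup.eq_of_le_of_card_ge (le_sup_left (b := Subgroup.zpowers x)) h ▸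
          Subgroup.mem_sup_right (Subgroup.mem_zpowers x))
      omega
    have hmem : ∀ x ∈ E, x ∉ F → ∀ w : V, (∀ k ∈ F, k w = w) → x w = w → w ∈ U := by
      intro x hx hxF w hw hxw
      refine hbig x hx hxF ?_
      have hle : F ⊔ Subgroup.zpowers x ≤ MulAction.stabilizer (MulAut V) w :=
        sup_le hw (Subgroup.zpowers_le.2 hxw)
      exact fun k hk => hle hk
    intro v hv
    refine mem_of_pow_mem hcop ?_
    have hef : Commute e f := hEc e heE f hfE
    have hrow : ∀ i ∈ Finset.range p, cyc p (e * f ^ i) v ∈ U := by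
      intro i _
      have hx : e * f ^ i ∈ E := E.mul_mem heE (E.pow_mem hfE i)
      refine hmem _ hx (fun h => he ?_) _
        (fun k hk => cyc_commute (hEc k (hF hk) _ hx) (hv k hk)) (apply_cyc (hEp _ hx) v)
      rw [← mul_inv_cancel_right e (f ^ i)]
      exact Subgroup.mul_mem _ (Subgroup.mem_sup_left h)
        (Subgroup.mem_sup_right (inv_mem (pow_mem (Subgroup.mem_zpowers f) i)))
    have hall := U.prod_mem hrow
    simp only [cyc] at hall
    rw [Finset.prod_comm, Finset.prod_eq_mul_prod_sdiff_singleton_of_mem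
      (Finset.mem_range.2 hp.out.pos)] at hall
    simp only [pow_zero, MulAut.one_apply, Finset.prod_const, Finset.card_range] at hall
    refine (Subgroup.mul_mem_cancel_right U (U.prod_mem fun k hk => ?_)).1 hall
    obtain ⟨hk, hk0⟩ := Finset.mem_sdiff.1 hk
    rw [Finset.mem_singleton] at hk0
    have hcol : ∏ i ∈ Finset.range p, ((e * f ^ i) ^ k) v = cyc p (f ^ k) ((e ^ k) v) := by
      refine Finset.prod_congr rfl fun i _ => ?_
      rw [← MulAut.mul_apply, (hef.pow_right i).mul_pow, ← pow_mul, ← pow_mul, mul_comm i k,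
        (hef.pow_pow k (k * i)).eq]
    rw [hcol]
    have hfk : f ^ k ∈ E := E.pow_mem hfE k
    refine hmem f hfE hfF _ (fun l hl => cyc_commute (hEc l (hF hl) _ hfk) ?_) ?_
    · rw [← MulAut.mul_apply, hEc l (hF hl) _ (E.pow_mem heE k), MulAut.mul_apply, hv l hl]
    · refine fixed_of_pow (hEp f hfE) (n := k) ?_ (apply_cyc (hEp _ hfk) _)
      refine ((Nat.Prime.coprime_iff_not_dvd (n := k) hp.out).2 fun hd => hk0 ?_).symm
      exact Nat.eq_zero_of_dvd_of_lt hd (Finset.mem_range.1 hk)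

end Decomposition

/-- The induction hypothesis. -/
def Avoid (p : ℕ) (V : Type u) [CommGroup V] : Prop :=
  ∀ (Γ P : Subgroup (MulAut V)) (a : MulAut V), P ≤ Γ → (∀ g ∈ Γ, ∀ x ∈ P, g * x * g⁻¹ ∈ P) →
    IsPGroup p P → a ∈ P → a ^ p = 1 → a ≠ 1 → ∃ v : V, ∀ g ∈ Γ, (g * a * g⁻¹) v ≠ v

/-- Use of the induction hypothesis on an invariant subgroup. -/
theorem avoid_on {U : Subgroup V} (hih : Avoid p U) {Γ P : Subgroup (MulAut V)} {a : MulAut V}
    (hPΓ : P ≤ Γ) (hn : ∀ g ∈ Γ, ∀ x ∈ P, g * x * g⁻¹ ∈ P) (hP : IsPGroup p P) (ha : a ∈ P)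
    (hap : a ^ p = 1) (haU : a ∈ stab U) (hmove : ∃ u ∈ U, a u ≠ u) :
    ∃ v ∈ U, ∀ g ∈ Γ ⊓ stab U, (g * a * g⁻¹) v ≠ v := by
  obtain ⟨v, hv⟩ := hih ((Γ.subgroupOf (stab U)).map (res U))
    ((P.subgroupOf (stab U)).map (res U)) (res U ⟨a, haU⟩)
    (Subgroup.map_mono (Subgroup.comap_mono hPΓ))
    (by
      rintro _ ⟨g, hg, rfl⟩ _ ⟨x, hx, rfl⟩
      exact ⟨g * x * g⁻¹, hn _ hg _ hx, by simp⟩)
    ((hP.comap_of_injective (stab U).subtype (stab U).subtype_injective).map (res U))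
    ⟨⟨a, haU⟩, ha, rfl⟩
    (by rw [← map_pow, show (⟨a, haU⟩ : stab U) ^ p = 1 from Subtype.ext (by simpa using hap),
      map_one])
    (fun h => by
      obtain ⟨u, hu, hau⟩ := hmove
      exact hau (congrArg Subtype.val (DFunLike.congr_fun h (⟨u, hu⟩ : U))))
  exact ⟨v, v.2, fun g hg he =>
    hv (res U ⟨g, hg.2⟩) ⟨⟨g, hg.2⟩, hg.1, rfl⟩ (Subtype.ext he)⟩

theorem card_lt_of_ne_top {U : Subgroup V} (h : U ≠ ⊤) : Nat.card U < Nat.card V :=
  lt_of_le_of_ne (Subgroup.card_le_card_group U) fun e => h (Subgroup.eq_top_of_card_eq U e)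

/-- First case: some invariant elementary abelian subgroup has fixed points. -/
theorem avoid_of_fixed (hcop : (Nat.card V).Coprime p)
    (ih : ∀ U : Subgroup V, Nat.card U < Nat.card V → Avoid p U)
    {Γ P : Subgroup (MulAut V)} {a : MulAut V} (hPΓ : P ≤ Γ)
    (hn : ∀ g ∈ Γ, ∀ x ∈ P, g * x * g⁻¹ ∈ P) (hP : IsPGroup p P) (ha : a ∈ P) (hap : a ^ p = 1)
    (ha1 : a ≠ 1) {E : Subgroup (MulAut V)} (hEP : E ≤ P)
    (hEn : ∀ g ∈ Γ, conjS g E = E) (hE : E ≠ ⊥) (hfix : fixed E ≠ ⊥) :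
    ∃ v : V, ∀ g ∈ Γ, (g * a * g⁻¹) v ≠ v := by
  have hUn : ∀ g ∈ Γ, g ∈ stab (fixed E) := fun g hg => mem_stab_of_forall fun u hu => by
    have := apply_mem_fixed (g := g) hu
    rwa [hEn g hg] at this
  have hWn : ∀ g ∈ Γ, g ∈ stab (nm E).ker := fun g hg => mem_stab_of_forall fun u hu => by
    have h := nm_conj g E u
    rw [hEn g hg, MonoidHom.mem_ker.1 hu, map_one] at h
    exact MonoidHom.mem_ker.2 h.symm
  have hcE := coprime_card hcop (hP.to_le hEP)
  have hU : fixed E ≠ ⊤ := fun h => hE ((Subgroup.eq_bot_iff_forall _).2 fun k hk =>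
    MulEquiv.ext fun v => (h ▸ Subgroup.mem_top v : v ∈ fixed E) k hk)
  have hW : (nm E).ker ≠ ⊤ := fun h => hfix ((Subgroup.eq_bot_iff_forall _).2 fun v hv =>
    pow_eq_one_imp hcE (by
      rw [← nm_eq_pow hv]
      exact MonoidHom.mem_ker.1 (h ▸ Subgroup.mem_top v)))
  by_cases h1 : ∃ u ∈ fixed E, a u ≠ u
  · obtain ⟨v, -, hv⟩ := avoid_on (ih _ (card_lt_of_ne_top hU)) hPΓ hn hP ha hap
      (hUn a (hPΓ ha)) h1
    exact ⟨v, fun g hg => hv g ⟨hg, hUn g hg⟩⟩
  by_cases h2 : ∃ u ∈ (nm E).ker, a u ≠ u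
  · obtain ⟨v, -, hv⟩ := avoid_on (ih _ (card_lt_of_ne_top hW)) hPΓ hn hP ha hap
      (hWn a (hPΓ ha)) h2
    exact ⟨v, fun g hg => hv g ⟨hg, hWn g hg⟩⟩
  push Not at h1 h2
  refine absurd (MulEquiv.ext fun v => ?_) ha1
  have hfixv : a (v ^ Nat.card E) = v ^ Nat.card E := by
    have hd : v ^ Nat.card E / nm E v ∈ (nm E).ker := by
      rw [MonoidHom.mem_ker, map_div, map_pow, nm_eq_pow (nm_mem_fixed E v), div_self']
    have := h2 _ hd
    rw [map_div, h1 _ (nm_mem_fixed E v)] at this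
    exact div_left_injective this
  rw [map_pow] at hfixv
  rw [MulAut.one_apply, ← mul_inv_eq_one]
  exact pow_eq_one_imp hcE (by rw [mul_pow, inv_pow, hfixv, mul_inv_cancel])

/-- Second case: a noncyclic invariant elementary abelian subgroup without fixed points. -/
theorem avoid_of_noncyclic (hodd : p ≠ 2) (hcop : (Nat.card V).Coprime p)
    (ih : ∀ U : Subgroup V, Nat.card U < Nat.card V → Avoid p U)
    {Γ P : Subgroup (MulAut V)} {a : MulAut V} (hPΓ : P ≤ Γ)
    (hn : ∀ g ∈ Γ, ∀ x ∈ P, g * x * g⁻¹ ∈ P) (hP : IsPGroup p P) (ha : a ∈ P) (hap : a ^ p = 1)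
    (ha1 : a ≠ 1) {E : Subgroup (MulAut V)} (hEP : E ≤ P)
    (hEn : ∀ g ∈ Γ, conjS g E = E) (hEc : ∀ x ∈ E, ∀ y ∈ E, x * y = y * x)
    (hEp : ∀ x ∈ E, x ^ p = 1) (hEcard : p < Nat.card E) (hfix : fixed E = ⊥) :
    ∃ v : V, ∀ g ∈ Γ, (g * a * g⁻¹) v ≠ v := by
  classical
  have hcomp : ∀ g ∈ Γ, ∀ K, IsComp E K → IsComp E (conjS g K) := by
    intro g hg K hK
    have hinj := Subgroup.map_injective (f := (MulAut.conj g).toMonoidHom) (MulAut.conj g).injective
    refine ⟨(Subgroup.map_mono hK.1).trans (hEn g hg).le, fun h => hK.2.1 (hinj ?_), fun e he he' => ?_⟩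
    · exact h.trans (hEn g hg).symm
    · rw [← hEn g hg] at he
      obtain ⟨e, he, rfl⟩ := he
      have := hK.2.2 e he fun h => he' ⟨e, h, rfl⟩
      conv_rhs => rw [← hEn g hg, conjS, ← this, Subgroup.map_sup, MonoidHom.map_zpowers]
      rfl
  have hcK : ∀ K, IsComp E K → (Nat.card V).Coprime (Nat.card K) := fun K hK =>
    coprime_card hcop (hP.to_le (hK.1.trans hEP))
  by_cases hperm : ∀ K, IsComp E K → fixed K ≠ ⊥ → conjS a K = K
  · -- `a` fixes every component
    obtain ⟨K₀, hK₀, u, hu, hau⟩ : ∃ K, IsComp E K ∧ ∃ u ∈ fixed K, a u ≠ u := by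
      by_contra hall
      push Not at hall
      refine ha1 (MulEquiv.ext fun v => ?_)
      let U : Subgroup V :=
        { carrier := {w | a w = w}
          one_mem' := map_one _
          mul_mem' := fun {x y} (hx : a x = x) (hy : a y = y) => by
            show a (x * y) = x * y; rw [map_mul, hx, hy]
          inv_mem' := fun {x} (hx : a x = x) => by show a x⁻¹ = x⁻¹; rw [map_inv, hx] }
      exact fixed_le_generated hcop hEc hEp hfix (U := U) hall (Nat.card E) ⊥ bot_le
        (Nat.le_add_left _ _) (fun k hk => by rw [Subgroup.mem_bot.1 hk]; rfl : v ∈ fixed ⊥)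
    have hne : fixed K₀ ≠ ⊥ := fun h => hau (by
      rw [h, Subgroup.mem_bot] at hu; rw [hu, map_one])
    have hK₀ne : K₀ ≠ ⊥ := by
      intro h
      obtain ⟨e, he, he1⟩ : ∃ e ∈ E, e ∉ K₀ := SetLike.exists_of_lt (lt_of_le_of_ne hK₀.1 hK₀.2.1)
      have h1 := hK₀.2.2 e he he1
      rw [h, bot_sup_eq] at h1
      rw [← h1, Nat.card_zpowers] at hEcard
      exact absurd (orderOf_le_of_pow_eq_one hp.out.pos (hEp e he)) (not_le.2 hEcard)
    have hUtop : fixed K₀ ≠ ⊤ := fun h => hK₀ne ((Subgroup.eq_bot_iff_forall _).2 fun k hk =>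
      MulEquiv.ext fun v => (h ▸ Subgroup.mem_top v : v ∈ fixed K₀) k hk)
    have hstab : ∀ g, conjS g K₀ = K₀ → g ∈ stab (fixed K₀) := fun g hg =>
      mem_stab_of_forall fun w hw => by
        have := apply_mem_fixed (g := g) hw
        rwa [hg] at this
    obtain ⟨v₀, hv₀U, hv₀⟩ := avoid_on (ih _ (card_lt_of_ne_top hUtop)) hPΓ hn hP ha hap
      (hstab a (hperm K₀ hK₀ hne)) ⟨u, hu, hau⟩
    haveI := Fintype.ofFinite (Subgroup (MulAut V))
    let S : Finset (Subgroup (MulAut V)) := Finset.univ.filter fun K => ∃ g ∈ Γ, conjS g K₀ = K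
    have hS : ∀ K, K ∈ S ↔ ∃ g ∈ Γ, conjS g K₀ = K := fun K => by simp [S]
    let rep : Subgroup (MulAut V) → MulAut V := fun K =>
      if h : ∃ g ∈ Γ, conjS g K₀ = K then h.choose else 1
    have hrep : ∀ K ∈ S, rep K ∈ Γ ∧ conjS (rep K) K₀ = K := fun K hK => by
      simp only [rep, dif_pos ((hS K).1 hK)]
      exact ((hS K).1 hK).choose_spec
    let f : Subgroup (MulAut V) → V := fun K => rep K v₀
    have hf : ∀ K ∈ S, IsComp E K ∧ f K ∈ fixed K := fun K hK => by
      obtain ⟨h1, h2⟩ := hrep K hK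
      refine ⟨h2 ▸ hcomp _ h1 K₀ hK₀, ?_⟩
      have := apply_mem_fixed (g := rep K) hv₀U
      rwa [h2] at this
    refine ⟨∏ K ∈ S, f K, fun g hg hfixn => ?_⟩
    set K := conjS g K₀ with hK
    have hKS : K ∈ S := (hS K).2 ⟨g, hg, rfl⟩
    obtain ⟨h1, h2⟩ := hrep K hKS
    have hxK : conjS (g * a * g⁻¹) K = K := by
      rw [hK, ← conjS_mul, inv_mul_cancel_right, conjS_mul, hperm K₀ hK₀ hne]
    have h3 := nm_conj (g * a * g⁻¹) K (∏ K ∈ S, f K)
    rw [hxK, hfixn, nm_prod hEc hfix S f hf (hf K hKS).1, if_pos hKS] at h3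
    have h4 : (g * a * g⁻¹) (f K) = f K := by
      rw [← mul_inv_eq_one]
      refine pow_eq_one_imp (hcK K (hf K hKS).1) ?_
      rw [mul_pow, inv_pow, ← map_pow, h3, mul_inv_cancel]
    set y := (rep K)⁻¹ * g with hy
    have hyK : conjS y K₀ = K₀ := by
      calc conjS y K₀ = conjS (rep K)⁻¹ (conjS (rep K) K₀) := by rw [hy, conjS_mul, ← hK, h2]
        _ = K₀ := by rw [← conjS_mul, inv_mul_cancel, conjS_one]
    refine hv₀ y ⟨Γ.mul_mem (Γ.inv_mem h1) hg, hstab y hyK⟩ ?_
    rw [show y * a * y⁻¹ = (rep K)⁻¹ * (g * a * g⁻¹) * rep K by rw [hy]; group, MulAut.mul_apply,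
      MulAut.mul_apply, show rep K v₀ = f K from rfl, h4]
    exact MulAut.inv_apply_self _ _ _
  · -- `a` moves some component
    push Not at hperm
    obtain ⟨K₁, hK₁, hK₁ne, hmove⟩ := hperm
    let Ω := {K : Subgroup (MulAut V) // IsComp E K ∧ fixed K ≠ ⊥}
    have hΩ : ∀ x ∈ Γ, ∀ K, IsComp E K ∧ fixed K ≠ ⊥ →
        IsComp E (conjS x K) ∧ fixed (conjS x K) ≠ ⊥ := by
      rintro x hx K ⟨hK, hK'⟩
      refine ⟨hcomp x hx K hK, fun h => hK' ((Subgroup.eq_bot_iff_forall _).2 fun w hw => ?_)⟩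
      have := apply_mem_fixed (g := x) hw
      rw [h, Subgroup.mem_bot] at this
      exact x.injective (this.trans (map_one x).symm)
    letI : MulAction P Ω :=
      { smul := fun x K => ⟨conjS (x : MulAut V) K.1, hΩ _ (hPΓ x.2) K.1 K.2⟩
        one_smul := fun K => Subtype.ext (conjS_one K.1)
        mul_smul := fun x y K => Subtype.ext (conjS_mul _ _ K.1) }
    obtain ⟨S, hS⟩ := CfsgLib.FgsC.PowerSet.exists_subset hodd hP (Ω := Ω)
    haveI := Fintype.ofFinite (Subgroup (MulAut V))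
    let T : Finset (Subgroup (MulAut V)) :=
      Finset.univ.filter fun K => ∃ h : IsComp E K ∧ fixed K ≠ ⊥, (⟨K, h⟩ : Ω) ∈ S
    let f : Subgroup (MulAut V) → V := fun K =>
      if h : fixed K ≠ ⊥ then (Subgroup.ne_bot_iff_exists_ne_one.1 h).choose.1 else 1
    have hf : ∀ K, fixed K ≠ ⊥ → f K ∈ fixed K ∧ f K ≠ 1 := by
      intro K h
      simp only [f, dif_pos h]
      exact ⟨(Subgroup.ne_bot_iff_exists_ne_one.1 h).choose.2,
        fun he => (Subgroup.ne_bot_iff_exists_ne_one.1 h).choose_spec (Subtype.ext he)⟩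
    have hT : ∀ K ∈ T, IsComp E K ∧ f K ∈ fixed K := by
      intro K hK
      obtain ⟨h, -⟩ := (Finset.mem_filter.1 hK).2
      exact ⟨h.1, (hf K h.2).1⟩
    have hTS : ∀ K : Ω, K.1 ∈ T ↔ K ∈ S := fun K =>
      ⟨fun h => by obtain ⟨_, h'⟩ := (Finset.mem_filter.1 h).2; exact h',
        fun h => Finset.mem_filter.2 ⟨Finset.mem_univ _, K.2, h⟩⟩
    set v := ∏ K ∈ T, f K with hv
    have hsupp : ∀ K : Ω, nm K.1 v ≠ 1 ↔ K ∈ S := by
      intro K
      rw [hv, nm_prod hEc hfix T f hT K.2.1]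
      split_ifs with h
      · exact ⟨fun _ => (hTS K).1 h, fun _ he => (hf _ K.2.2).2 (pow_eq_one_imp (hcK _ K.2.1) he)⟩
      · exact ⟨fun he => absurd rfl he, fun he => absurd ((hTS K).2 he) h⟩
    refine ⟨v, fun g hg hfixv => hmove ?_⟩
    set x : P := ⟨g * a * g⁻¹, hn g hg a ha⟩
    have hiff : ∀ K : Ω, x • K ∈ S ↔ K ∈ S := by
      intro K
      rw [← hsupp, ← hsupp]
      show nm (conjS (g * a * g⁻¹) K.1) v ≠ 1 ↔ _
      have h := nm_conj (g * a * g⁻¹) K.1 v
      rw [hfixv] at h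
      rw [← h, Ne, MulEquivClass.map_eq_one_iff]
    have hxS : x • S = S := by
      ext K
      rw [Set.mem_smul_set_iff_inv_smul_mem, ← hiff (x⁻¹ • K), smul_inv_smul]
    have h := congrArg Subtype.val (hS x hxS ⟨conjS g K₁, hΩ g hg K₁ ⟨hK₁, hK₁ne⟩⟩)
    have h' : conjS (g * a * g⁻¹) (conjS g K₁) = conjS g K₁ := h
    rw [← conjS_mul, inv_mul_cancel_right, conjS_mul] at h'
    exact Subgroup.map_injective (f := (MulAut.conj g).toMonoidHom) (MulAut.conj g).injective h'

section Core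

variable {z : MulAut V} {R : Subgroup (MulAut V)}

theorem apply_eq_self_imp (hzfix : ∀ v, z v = v → v = 1) (hz : orderOf z = p) {w : MulAut V}
    (hw : w ∈ Subgroup.zpowers z) (hw1 : w ≠ 1) {v : V} (hv : w v = v) : v = 1 := by
  have hzp : z ^ p = 1 := by rw [← hz, pow_orderOf_eq_one]
  obtain ⟨n, rfl⟩ := (Submonoid.mem_powers_iff _ _).1 (mem_powers_iff_mem_zpowers.2 hw)
  refine hzfix v (fixed_of_pow hzp (n := n) ?_ hv)
  refine ((Nat.Prime.coprime_iff_not_dvd (n := n) hp.out).2 fun hd => hw1 ?_).symm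
  exact orderOf_dvd_iff_pow_eq_one.1 (hz ▸ hd)

theorem card_le_mul (hz : orderOf z = p) (hzR : ∀ r ∈ R, z * r = r * z)
    (hcomm : ∀ r ∈ R, ∀ s ∈ R, ⁅r, s⁆ ∈ Subgroup.zpowers z)
    {S : Subgroup (MulAut V)} (hS : S ≤ R) {y : MulAut V} (hy : y ∈ R) :
    Nat.card S ≤ Nat.card ↥(S ⊓ Subgroup.centralizer {y}) * p ∧
    ∀ x ∈ S, ⁅x, y⁆ ≠ 1 → ∀ s ∈ S, ∃ j : ℕ, s * (x ^ j)⁻¹ ∈ S ⊓ Subgroup.centralizer {y} := by
  have hc : ∀ w ∈ Subgroup.zpowers z, ∀ r ∈ R, Commute w r := by
    intro w hw r hr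
    obtain ⟨i, rfl⟩ := Subgroup.mem_zpowers_iff.1 hw
    exact (show Commute z r from hzR r hr).zpow_left i
  let f : S →* Subgroup.zpowers z :=
    MonoidHom.mk' (fun s => ⟨⁅(s : MulAut V), y⁆, hcomm s (hS s.2) y hy⟩) fun s t => Subtype.ext (by
      show ⁅((s : MulAut V) * t), y⁆ = ⁅(s : MulAut V), y⁆ * ⁅(t : MulAut V), y⁆
      calc ⁅((s : MulAut V) * t), y⁆
          = s * ⁅(t : MulAut V), y⁆ * (s : MulAut V)⁻¹ * ⁅(s : MulAut V), y⁆ := by
            simp only [commutatorElement_def]; group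
        _ = ⁅(t : MulAut V), y⁆ * ⁅(s : MulAut V), y⁆ := by
            rw [← (hc _ (hcomm t (hS t.2) y hy) s (hS s.2)).eq, mul_inv_cancel_right]
        _ = _ := (hc _ (hcomm t (hS t.2) y hy) _
            ((Subgroup.zpowers z).mul_mem (one_mem _) (hcomm s (hS s.2) y hy) |> fun _ =>
              (by
                rw [commutatorElement_def]
                exact R.mul_mem (R.mul_mem (R.mul_mem (hS s.2) hy) (R.inv_mem (hS s.2)))
                  (R.inv_mem hy)))).eq)
  have hker : ∀ s : S, f s = 1 → (s : MulAut V) ∈ S ⊓ Subgroup.centralizer {y} := fun s hs =>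
    ⟨s.2, Subgroup.mem_centralizer_singleton_iff.2
      (commutatorElement_eq_one_iff_mul_comm.1 (congrArg Subtype.val hs))⟩
  refine ⟨?_, fun x hx hxy s hs => ?_⟩
  · rw [← f.ker.card_mul_index, Subgroup.index_ker]
    refine Nat.mul_le_mul ?_ (le_trans (Subgroup.card_le_card_group _) (by rw [Nat.card_zpowers, hz]))
    rw [← CfsgLib.Base.card_map_subtype]
    refine Subgroup.card_le_of_le ?_
    rintro _ ⟨s, hs, rfl⟩
    exact hker s (MonoidHom.mem_ker.1 hs)
  · have hgen : Subgroup.zpowers (f ⟨x, hx⟩) = ⊤ := by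
      have hne : f ⟨x, hx⟩ ≠ 1 := fun h => hxy (congrArg Subtype.val h)
      refine Subgroup.eq_top_of_card_eq _ ?_
      rw [Nat.card_zpowers, Nat.card_zpowers, hz, orderOf_eq_prime (p := p) ?_ hne]
      rw [← hz, ← Nat.card_zpowers]
      exact pow_card_eq_one'
    obtain ⟨j, hj⟩ := (Submonoid.mem_powers_iff _ _).1
      (mem_powers_iff_mem_zpowers.2 (hgen ▸ Subgroup.mem_top (f ⟨s, hs⟩)))
    refine ⟨j, hker (⟨s, hs⟩ * (⟨x, hx⟩ ^ j)⁻¹) ?_⟩
    rw [map_mul, map_inv, map_pow, hj, mul_inv_cancel]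

/-- The fixed points of a noncentral element of `R` have order at most the `p`-th root. -/
theorem pow_card_fixed (hcop : (Nat.card V).Coprime p) (hz : orderOf z = p)
    (hzfix : ∀ v, z v = v → v = 1) (hzR : ∀ r ∈ R, z * r = r * z)
    (hexp : ∀ r ∈ R, r ^ p = 1) (hcomm : ∀ r ∈ R, ∀ s ∈ R, ⁅r, s⁆ ∈ Subgroup.zpowers z)
    {x y : MulAut V} (hx : x ∈ R) (hy : y ∈ R) (hxy : ⁅y, x⁆ ≠ 1) {U : Subgroup V}
    (hxU : x ∈ stab U) (hyU : y ∈ stab U) :
    Nat.card ↥(U ⊓ fixed (Subgroup.zpowers x)) ^ p ≤ Nat.card U ∧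
      (U ≠ ⊥ → U ⊓ fixed (Subgroup.zpowers x) ≠ ⊥) := by
  classical
  set w := ⁅y, x⁆ with hw
  have hwz : w ∈ Subgroup.zpowers z := hcomm y hy x hx
  have hwc : ∀ r ∈ R, Commute w r := by
    intro r hr
    obtain ⟨i, hi⟩ := Subgroup.mem_zpowers_iff.1 hwz
    rw [← hi]
    exact (show Commute z r from hzR r hr).zpow_left i
  have hwp : w ^ p = 1 := by
    obtain ⟨i, hi⟩ := Subgroup.mem_zpowers_iff.1 hwz
    rw [← hi, ← zpow_natCast, ← zpow_mul, mul_comm, zpow_mul, zpow_natCast, ← hz,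
      pow_orderOf_eq_one, one_zpow]
  have hwU : w ∈ stab U := by
    rw [hw, commutatorElement_def]
    exact mul_mem (mul_mem (mul_mem hyU hxU) (inv_mem hyU)) (inv_mem hxU)
  have hxp := hexp x hx
  let X : ℕ → MulAut V := fun i => x * w ^ i
  have hXp : ∀ i, X i ^ p = 1 := fun i => by
    rw [((hwc x hx).pow_left i).symm.mul_pow, hxp, ← pow_mul, mul_comm, pow_mul, hwp, one_pow,
      one_mul]
  let C : ℕ → Subgroup V := fun i => U ⊓ fixed (Subgroup.zpowers (X i))
  have hmemC : ∀ i v, v ∈ C i ↔ v ∈ U ∧ X i v = v := by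
    intro i v
    refine ⟨fun h => ⟨h.1, h.2 _ (Subgroup.mem_zpowers _)⟩, fun h => ⟨h.1, ?_⟩⟩
    have hle : Subgroup.zpowers (X i) ≤ MulAction.stabilizer (MulAut V) v :=
      Subgroup.zpowers_le.2 h.2
    exact fun k hk => hle hk
  have hstep : ∀ i v, v ∈ C i → y v ∈ C (i + 1) := by
    intro i v hv
    obtain ⟨hvU, hvi⟩ := (hmemC i v).1 hv
    refine (hmemC _ _).2 ⟨(hyU v).2 hvU, ?_⟩
    have e1 : X (i + 1) * y = y * X i := by
      have e2 : y * x = w * x * y := by rw [hw, commutatorElement_def]; group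
      show x * w ^ (i + 1) * y = y * (x * w ^ i)
      rw [← mul_assoc y, e2, (hwc x hx).eq, mul_assoc x w y, mul_assoc x,
        mul_assoc x (w * y), mul_assoc w y (w ^ i), ← ((hwc y hy).pow_left i).eq, pow_succ',
        mul_assoc w (w ^ i) y]
    rw [← MulAut.mul_apply, e1, MulAut.mul_apply, hvi]
  have hstepcard : ∀ i, Nat.card (C i) ≤ Nat.card (C (i + 1)) := fun i =>
    Nat.card_le_card_of_injective (fun v : C i => (⟨y v, hstep i v v.2⟩ : C (i + 1)))
      fun u v huv => Subtype.ext (y.injective (congrArg Subtype.val huv))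
  have hCp : C p = C 0 := by simp only [C, X, hwp, pow_zero]
  have hcard : ∀ i ≤ p, Nat.card (C i) = Nat.card (C 0) := by
    have hmono : ∀ i j, i ≤ j → Nat.card (C i) ≤ Nat.card (C j) := fun i j hij =>
      monotone_nat_of_le_succ (f := fun i => Nat.card (C i)) hstepcard hij
    intro i hi
    refine le_antisymm ?_ (hmono 0 i (Nat.zero_le i))
    exact le_trans (hmono i p hi) (le_of_eq (by rw [hCp]))
  have hC0 : C 0 = U ⊓ fixed (Subgroup.zpowers x) := by simp only [C, X, pow_zero, mul_one]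
  rw [← hC0]
  refine ⟨?_, fun hU hbot => hU ?_⟩
  · have hkill : ∀ i j : Fin p, i ≠ j → ∀ v ∈ C j, cyc p (X i) v = 1 := by
      intro i j hij v hv
      set u := cyc p (X i) v with hu
      have hui : X i u = u := apply_cyc (hXp i) v
      have huj : X j u = u := cyc_commute (by
        have h1 := (hwc x hx)
        exact ((Commute.refl x).mul_right (h1.pow_left (i : ℕ)).symm).mul_left
          (((h1.pow_left (j : ℕ))).mul_right ((Commute.refl w).pow_pow _ _))) ((hmemC j v).1 hv).2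
      have he : (w ^ (i : ℕ)) u = (w ^ (j : ℕ)) u := x.injective (by
        rw [← MulAut.mul_apply, ← MulAut.mul_apply]
        exact hui.trans huj.symm)
      wlog hlt : (i : ℕ) < j generalizing u with H
      · have hlt' : (j : ℕ) < i := lt_of_le_of_ne (not_lt.1 hlt) fun h => hij (Fin.ext h.symm)
        have h5 : (w ^ ((i : ℕ) - j)) u = u := by
          have : (w ^ (j : ℕ)) ((w ^ ((i : ℕ) - j)) u) = (w ^ (j : ℕ)) u := by
            rw [← MulAut.mul_apply, ← pow_add, Nat.add_sub_cancel' hlt'.le, he]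
          exact (w ^ (j : ℕ)).injective this
        refine apply_eq_self_imp hzfix hz hwz hxy (fixed_of_pow hwp (n := (i : ℕ) - j) ?_ h5)
        exact ((Nat.Prime.coprime_iff_not_dvd (n := (i : ℕ) - j) hp.out).2 fun hd => by
          have := Nat.eq_zero_of_dvd_of_lt hd (by omega)
          omega).symm
      · have h5 : (w ^ ((j : ℕ) - i)) u = u := by
          have : (w ^ (i : ℕ)) ((w ^ ((j : ℕ) - i)) u) = (w ^ (i : ℕ)) u := by
            rw [← MulAut.mul_apply, ← pow_add, Nat.add_sub_cancel' hlt.le, he]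
          exact (w ^ (i : ℕ)).injective this
        refine apply_eq_self_imp hzfix hz hwz hxy (fixed_of_pow hwp (n := (j : ℕ) - i) ?_ h5)
        exact ((Nat.Prime.coprime_iff_not_dvd (n := (j : ℕ) - i) hp.out).2 fun hd => by
          have := Nat.eq_zero_of_dvd_of_lt hd (by omega)
          omega).symm
    have hcyc : ∀ (i : Fin p) (u v : V), cyc p (X i) (u * v) = cyc p (X i) u * cyc p (X i) v :=
      fun i u v => by simp only [cyc, map_mul, Finset.prod_mul_distrib]
    let F : (Π i : Fin p, C i) → U := fun c =>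
      ⟨∏ i, (c i : V), U.prod_mem fun i _ => (c i).2.1⟩
    have hF : Function.Injective F := by
      intro c d hcd
      funext i
      have key : ∀ c : Π i : Fin p, C i, cyc p (X i) (∏ j, (c j : V)) = (c i : V) ^ p := by
        intro c
        let φ : V →* V := MonoidHom.mk' (cyc p (X i)) (hcyc i)
        show φ _ = _
        rw [map_prod]
        refine (Finset.prod_eq_single i (fun j _ hj => hkill i j hj.symm _ (c j).2)
          (fun h => absurd (Finset.mem_univ i) h)).trans ?_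
        show cyc p (X i) (c i : V) = _
        rw [cyc, Finset.prod_congr rfl fun n _ => apply_pow_of_fixed ((hmemC i _).1 (c i).2).2 n,
          Finset.prod_const, Finset.card_range]
      have h := key c
      rw [show (∏ j, (c j : V)) = ∏ j, (d j : V) from congrArg Subtype.val hcd, key d] at h
      refine Subtype.ext (mul_inv_eq_one.1 (pow_eq_one_imp hcop ?_))
      rw [mul_pow, inv_pow, h, mul_inv_cancel]
    have := Nat.card_le_card_of_injective F hF
    rw [Nat.card_pi, Finset.prod_congr rfl fun (i : Fin p) _ => hcard i i.2.le, Finset.prod_const,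
      Finset.card_univ, Fintype.card_fin] at this
    exact this
  · have hall : ∀ i < p, C i = ⊥ := fun i hi => Subgroup.card_eq_one.1 (by
      rw [hcard i hi.le, hbot, Subgroup.card_bot])
    refine (Subgroup.eq_bot_iff_forall _).2 fun v hv => ?_
    have h := CfsgLib.Coprime.eq_one_of_fixedPointFree_pair hp.out
      (fun (u : U) hu => pow_eq_one_imp ((hcop.coprime_dvd_left (Subgroup.card_subgroup_dvd_card U)))
        hu)
      (res U ⟨x, hxU⟩) (res U ⟨w, hwU⟩) ?_ ?_ ?_ (fun u hu => ?_) (fun i hi u hu => ?_)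
      (⟨v, hv⟩ : U)
    · exact congrArg Subtype.val h
    · exact Commute.map (show Commute (⟨x, hxU⟩ : stab U) ⟨w, hwU⟩ from
        Subtype.ext (hwc x hx).symm.eq) _
    · rw [← map_pow, show (⟨x, hxU⟩ : stab U) ^ p = 1 from Subtype.ext (by simpa using hxp), map_one]
    · rw [← map_pow, show (⟨w, hwU⟩ : stab U) ^ p = 1 from Subtype.ext (by simpa using hwp), map_one]
    · exact Subtype.ext (apply_eq_self_imp hzfix hz hwz hxy (congrArg Subtype.val hu))
    · have hmem : (u : V) ∈ C i := (hmemC i _).2 ⟨u.2, by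
        have := congrArg Subtype.val hu
        rw [← map_pow, ← map_mul, res_apply] at this
        simpa [X] using this⟩
      rw [hall i hi, Subgroup.mem_bot] at hmem
      exact Subtype.ext hmem

/-- The degree bound. -/
theorem degree_bound (hcop : (Nat.card V).Coprime p) (hz : orderOf z = p)
    (hzfix : ∀ v, z v = v → v = 1) (hzR : ∀ r ∈ R, z * r = r * z)
    (hexp : ∀ r ∈ R, r ^ p = 1) (hcomm : ∀ r ∈ R, ∀ s ∈ R, ⁅r, s⁆ ∈ Subgroup.zpowers z) :
    ∀ (N : ℕ) (S : Subgroup (MulAut V)), Nat.card S ≤ N → S ≤ R → z ∈ S →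
      ∀ U : Subgroup V, U ≠ ⊥ → S ≤ stab U →
        ∃ m, Nat.card S ≤ Nat.card ↥(S ⊓ Subgroup.centralizer (S : Set (MulAut V))) * p ^ (2 * m) ∧
          (p + 1) ^ p ^ m ≤ Nat.card U := by
  classical
  intro N
  induction N with
  | zero => intro S hS; exact absurd hS (not_le.2 Nat.card_pos)
  | succ N ih =>
    intro S hN hSR hzS U hU hSU
    by_cases habel : ∀ x ∈ S, ∀ y ∈ S, x * y = y * x
    · refine ⟨0, ?_, ?_⟩
      · rw [Nat.mul_zero, pow_zero, mul_one]
        exact Subgroup.card_le_of_le (le_inf le_rfl fun x hx =>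
          Subgroup.mem_centralizer_iff.2 fun y hy => habel y hy x hx)
      · rw [pow_zero, pow_one]
        obtain ⟨⟨v, hv⟩, hv1⟩ := Subgroup.ne_bot_iff_exists_ne_one.1 hU
        have hv1' : v ≠ 1 := fun h => hv1 (Subtype.ext h)
        let F : Option (Fin p) → U := fun o => o.elim 1 fun i =>
          ⟨(z ^ (i : ℕ)) v, ((pow_mem (hSU hzS) (i : ℕ)) v).2 hv⟩
        have hinj : Function.Injective F := by
          rintro (_ | i) (_ | j) h
          · rfl
          · exact absurd ((map_eq_one_iff _ (z ^ (j : ℕ)).injective).1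
              (congrArg Subtype.val h).symm) hv1'
          · exact absurd ((map_eq_one_iff _ (z ^ (i : ℕ)).injective).1
              (congrArg Subtype.val h)) hv1'
          · have he : (z ^ (i : ℕ)) v = (z ^ (j : ℕ)) v := congrArg Subtype.val h
            by_contra hne
            have hij : (i : ℕ) ≠ j := fun e => hne (congrArg some (Fin.ext e))
            have hzz : ((z ^ (i : ℕ))⁻¹ * z ^ (j : ℕ)) v = v := by
              rw [MulAut.mul_apply, ← he, MulAut.inv_apply_self]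
            refine hv1' (apply_eq_self_imp hzfix hz ?_ ?_ hzz)
            · exact mul_mem (inv_mem (pow_mem (Subgroup.mem_zpowers z) _))
                (pow_mem (Subgroup.mem_zpowers z) _)
            · intro h1
              rw [inv_mul_eq_one] at h1
              exact hij (pow_injOn_Iio_orderOf (Set.mem_Iio.2 (hz ▸ i.2))
                (Set.mem_Iio.2 (hz ▸ j.2)) h1)
        have := Nat.card_le_card_of_injective F hinj
        simpa [Finite.card_option, Nat.card_eq_fintype_card (α := Fin p)] using this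
    push Not at habel
    obtain ⟨x, hx, y, hy, hxy⟩ := habel
    have hyx : ⁅y, x⁆ ≠ 1 := fun h => hxy (commutatorElement_eq_one_iff_mul_comm.1 h).symm
    obtain ⟨hp1, hne⟩ := pow_card_fixed hcop hz hzfix hzR hexp hcomm (hSR hx) (hSR hy) hyx
      (hSU hx) (hSU hy)
    set S' := S ⊓ Subgroup.centralizer {x} with hS'
    have hlt : Nat.card S' < Nat.card S := lt_of_le_of_ne (Subgroup.card_le_of_le inf_le_left)
      fun h => by
        have he : S' = S := Subgroup.eq_of_le_of_card_ge inf_le_left h.ge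
        have hy' : y ∈ S' := he.symm ▸ hy
        exact hxy (Subgroup.mem_centralizer_singleton_iff.1 hy'.2).symm
    have hzS' : z ∈ S' := ⟨hzS, Subgroup.mem_centralizer_singleton_iff.2 (hzR x (hSR hx))⟩
    have hS'U : S' ≤ stab (U ⊓ fixed (Subgroup.zpowers x)) := fun g hg =>
      mem_stab_of_forall fun u hu => ⟨(hSU hg.1 u).2 hu.1, fun k hk => by
        have hc : Commute g k := by
          obtain ⟨i, rfl⟩ := Subgroup.mem_zpowers_iff.1 hk
          exact (show Commute g x from Subgroup.mem_centralizer_singleton_iff.1 hg.2).zpow_right i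
        rw [← MulAut.mul_apply, ← hc.eq, MulAut.mul_apply, hu.2 k hk]⟩
    obtain ⟨m, hm1, hm2⟩ := ih S' (by omega) (inf_le_left.trans hSR) hzS' _ (hne hU) hS'U
    refine ⟨m + 1, ?_, ?_⟩
    · obtain ⟨hc1, hdec⟩ := card_le_mul hz hzR hcomm hSR (hSR hx)
      obtain ⟨hc2, -⟩ := card_le_mul hz hzR hcomm (inf_le_left.trans
        (inf_le_left.trans hSR) : S' ⊓ Subgroup.centralizer (S' : Set (MulAut V)) ≤ R) (hSR hy)
      have hsub : Nat.card ↥(S' ⊓ Subgroup.centralizer (S' : Set (MulAut V)) ⊓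
          Subgroup.centralizer {y}) ≤
          Nat.card ↥(S ⊓ Subgroup.centralizer (S : Set (MulAut V))) := by
        refine Subgroup.card_le_of_le ?_
        rintro w ⟨⟨hw, hwc⟩, hwy⟩
        refine ⟨hw.1, Subgroup.mem_centralizer_iff.2 fun s hs => ?_⟩
        obtain ⟨j, hj⟩ := hdec y hy hyx s hs
        have c1 : Commute (s * (y ^ j)⁻¹) w := Subgroup.mem_centralizer_iff.1 hwc _ hj
        have c2 : Commute y w := (Subgroup.mem_centralizer_singleton_iff.1 hwy).symm
        have := c1.mul_left (c2.pow_left j)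
        rwa [inv_mul_cancel_right] at this
      calc Nat.card S ≤ Nat.card S' * p := hc1
        _ ≤ Nat.card ↥(S' ⊓ Subgroup.centralizer (S' : Set (MulAut V))) * p ^ (2 * m) * p :=
          Nat.mul_le_mul_right p hm1
        _ ≤ Nat.card ↥(S ⊓ Subgroup.centralizer (S : Set (MulAut V))) * p * p ^ (2 * m) * p :=
          Nat.mul_le_mul_right p (Nat.mul_le_mul_right _
            (hc2.trans (Nat.mul_le_mul_right p hsub)))
        _ = _ := by ring
    · calc (p + 1) ^ p ^ (m + 1) = ((p + 1) ^ p ^ m) ^ p := by rw [← pow_mul, pow_succ]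
        _ ≤ _ := (Nat.pow_le_pow_left hm2 p).trans hp1

theorem arith (hp3 : 3 ≤ p) (k : ℕ) :
    p ^ (2 * k + 3) ≤ (p - 1) * (p + 1) ^ (p ^ k * (p - 1)) := by
  induction k with
  | zero =>
    rcases eq_or_lt_of_le hp3 with h | h
    · subst h; norm_num
    · simp only [pow_zero, one_mul, mul_zero, zero_add]
      calc p ^ 3 ≤ (p + 1) ^ 3 := Nat.pow_le_pow_left (Nat.le_succ p) 3
        _ ≤ (p + 1) ^ (p - 1) := Nat.pow_le_pow_right (Nat.succ_pos p) (by omega)
        _ ≤ _ := Nat.le_mul_of_pos_left _ (by omega)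
  | succ k ih =>
    set Y := (p + 1) ^ (p ^ k * (p - 1)) with hY
    have hY2 : p ^ (2 * k + 2) ≤ Y := by
      refine Nat.le_of_mul_le_mul_left ?_ (by omega : 0 < p)
      calc p * p ^ (2 * k + 2) = p ^ (2 * k + 3) := by ring
        _ ≤ (p - 1) * Y := ih
        _ ≤ p * Y := Nat.mul_le_mul_right Y (Nat.sub_le p 1)
    have h1 : Y ^ 3 ≤ Y ^ p :=
      Nat.pow_le_pow_right (pow_pos (Nat.succ_pos p) _) hp3
    calc p ^ (2 * (k + 1) + 3) ≤ p ^ (2 * k + 3) * (p ^ (2 * k + 2) * p ^ (2 * k + 2)) := by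
          rw [← pow_add, ← pow_add]
          exact Nat.pow_le_pow_right (by omega) (by omega)
      _ ≤ (p - 1) * Y * (Y * Y) := Nat.mul_le_mul ih (Nat.mul_le_mul hY2 hY2)
      _ = (p - 1) * Y ^ 3 := by ring
      _ ≤ (p - 1) * Y ^ p := Nat.mul_le_mul_left _ h1
      _ = _ := by rw [hY, ← pow_mul]; ring_nf

end Core

/-- Third case: no noncyclic invariant elementary abelian subgroup and none with fixed points. -/
theorem avoid_of_core (hodd : p ≠ 2) (hcop : (Nat.card V).Coprime p)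
    {Γ P : Subgroup (MulAut V)} {a : MulAut V} (hPΓ : P ≤ Γ)
    (hn : ∀ g ∈ Γ, ∀ x ∈ P, g * x * g⁻¹ ∈ P) (hP : IsPGroup p P) (ha : a ∈ P) (hap : a ^ p = 1)
    (ha1 : a ≠ 1)
    (hsmall : ∀ E : Subgroup (MulAut V), E ≤ P → (∀ g ∈ Γ, conjS g E = E) →
      (∀ x ∈ E, ∀ y ∈ E, x * y = y * x) → (∀ x ∈ E, x ^ p = 1) → Nat.card E ≤ p)
    (hfree : ∀ E : Subgroup (MulAut V), E ≤ P → (∀ g ∈ Γ, conjS g E = E) →
      (∀ x ∈ E, ∀ y ∈ E, x * y = y * x) → (∀ x ∈ E, x ^ p = 1) → E ≠ ⊥ → fixed E = ⊥) :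
    ∃ v : V, ∀ g ∈ Γ, (g * a * g⁻¹) v ≠ v := by
  classical
  have hM : Γ ≤ Subgroup.normalizer (P : Set (MulAut V)) := fun g hg => by
    rw [Subgroup.mem_normalizer_iff]
    refine fun x => ⟨hn g hg x, fun hx => ?_⟩
    simpa [mul_assoc] using hn g⁻¹ (Γ.inv_mem hg) _ hx
  have hconj : ∀ E : Subgroup (MulAut V), Γ ≤ Subgroup.normalizer (E : Set (MulAut V)) →
      ∀ g ∈ Γ, conjS g E = E := by
    intro E hE g hg
    ext x
    rw [mem_conjS]
    conv_rhs => rw [show x = g * (g⁻¹ * x * g) * g⁻¹ by group]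
    exact Subgroup.mem_normalizer_iff.1 (hE hg) _
  obtain ⟨z, R, hz, hRP, hzR', hzΓ, hzP, hexp, hmem, hcomm, hcent⟩ :=
    CfsgLib.FgsC.OddCore.exists_core hodd P Γ hP (fun h => ha1 (by rwa [h, Subgroup.mem_bot] at ha))
      hPΓ hM (fun E h1 h2 h3 h4 => hsmall E h1 (hconj E h2) h3 h4)
  have hzp : z ^ p = 1 := by rw [← hz, pow_orderOf_eq_one]
  have hzfix : ∀ v, z v = v → v = 1 := by
    have h := hfree (Subgroup.zpowers z) (Subgroup.zpowers_le.2 (hRP hzR')) (hconj _ hzΓ)
      (fun x hx y hy => by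
        obtain ⟨i, rfl⟩ := Subgroup.mem_zpowers_iff.1 hx
        obtain ⟨j, rfl⟩ := Subgroup.mem_zpowers_iff.1 hy
        exact ((Commute.refl z).zpow_zpow i j).eq)
      (fun x hx => by
        obtain ⟨i, rfl⟩ := Subgroup.mem_zpowers_iff.1 hx
        rw [← zpow_natCast, ← zpow_mul, mul_comm, zpow_mul, zpow_natCast, hzp, one_zpow])
      (fun h => by
        have := Subgroup.card_eq_one.2 h
        rw [Nat.card_zpowers, hz] at this
        exact hp.out.ne_one this)
    intro v hv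
    rw [← Subgroup.mem_bot, ← h]
    have hle : Subgroup.zpowers z ≤ MulAction.stabilizer (MulAut V) v := Subgroup.zpowers_le.2 hv
    exact fun k hk => hle hk
  have hzR : ∀ r ∈ R, z * r = r * z := fun r hr => hzP r (hRP hr)
  have hVne : (⊤ : Subgroup V) ≠ ⊥ := fun h => ha1 (MulEquiv.ext fun v => by
    have : v ∈ (⊥ : Subgroup V) := h ▸ Subgroup.mem_top v
    rw [Subgroup.mem_bot] at this
    rw [this, map_one, map_one])
  have hconjz : ∀ g ∈ Γ, ∀ w ∈ Subgroup.zpowers z, g * w * g⁻¹ ∈ Subgroup.zpowers z :=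
    fun g hg w hw => (Subgroup.mem_normalizer_iff.1 (hzΓ hg) w).1 hw
  by_cases haz : a ∈ Subgroup.zpowers z
  · obtain ⟨⟨v, hvm⟩, hv⟩ := Subgroup.ne_bot_iff_exists_ne_one.1 hVne
    refine ⟨v, fun g hg h => hv (Subtype.ext ?_)⟩
    refine apply_eq_self_imp hzfix hz (hconjz g hg a haz) (fun h1 => ha1 ?_) h
    simpa using h1
  by_contra hcov
  push Not at hcov
  have haR : a ∈ R := hmem a ha hap
  have hout : ∀ g ∈ Γ, g * a * g⁻¹ ∈ R ∧ g * a * g⁻¹ ∉ Subgroup.zpowers z := by
    refine fun g hg => ⟨hmem _ (hn g hg a ha) (by rw [conj_pow, hap, mul_one, mul_inv_cancel]),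
      fun h => haz ?_⟩
    simpa [mul_assoc] using hconjz g⁻¹ (Γ.inv_mem hg) _ h
  obtain ⟨m, hm1, hm2⟩ := degree_bound hcop hz hzfix hzR hexp hcomm _ R le_rfl le_rfl hzR' ⊤ hVne
    (fun g _ u => ⟨fun _ => trivial, fun _ => trivial⟩)
  rw [Subgroup.card_top] at hm2
  have hcZ : Nat.card ↥(R ⊓ Subgroup.centralizer (R : Set (MulAut V))) ≤ p := by
    refine le_of_le_of_eq (Subgroup.card_le_of_le fun r hr => ?_)
      (by rw [Nat.card_zpowers, hz] : Nat.card (Subgroup.zpowers z) = p)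
    exact hcent r hr.1 fun s hs => (Subgroup.mem_centralizer_iff.1 hr.2 s hs).symm
  have hRle : Nat.card R ≤ p ^ (2 * m + 1) := by
    calc Nat.card R ≤ p * p ^ (2 * m) := hm1.trans (Nat.mul_le_mul_right _ hcZ)
      _ = _ := by ring
  haveI := Fintype.ofFinite (MulAut V)
  haveI := Fintype.ofFinite V
  set Tset : Finset (MulAut V) :=
    Finset.univ.filter fun u => u ∈ R ∧ u ∉ Subgroup.zpowers z with hTset
  set 𝓛 : Finset (Subgroup (MulAut V)) := Tset.image fun u => Subgroup.zpowers u with h𝓛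
  -- few lines
  have hT : Tset.card + p ≤ Nat.card R := by
    have h1 : Tset.card + (Finset.univ.filter fun u => u ∈ Subgroup.zpowers z).card =
        (Finset.univ.filter fun u => u ∈ R).card := by
      rw [← Finset.card_union_of_disjoint (Finset.disjoint_filter.2 fun u _ h => h.2)]
      congr 1
      ext u
      simp only [hTset, Finset.mem_union, Finset.mem_filter, Finset.mem_univ, true_and]
      exact ⟨fun h => h.elim (fun h => h.1) fun h => (Subgroup.zpowers_le.2 hzR') h,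
        fun h => (em (u ∈ Subgroup.zpowers z)).elim Or.inr fun h' => Or.inl ⟨h, h'⟩⟩
    have h2 : ∀ H : Subgroup (MulAut V),
        (Finset.univ.filter fun u => u ∈ H).card = Nat.card H := fun H => by
      rw [← Fintype.card_subtype, Nat.card_eq_fintype_card]
    rw [h2, h2, Nat.card_zpowers, hz] at h1
    omega
  have hlines : 𝓛.card * (p - 1) ≤ Tset.card := by
    rw [h𝓛, Finset.card_eq_sum_card_image (fun u => Subgroup.zpowers u) Tset, ← smul_eq_mul]
    refine Finset.card_nsmul_le_sum _ _ _ fun L hL => ?_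
    obtain ⟨u, hu, rfl⟩ := Finset.mem_image.1 hL
    obtain ⟨-, huR, huz⟩ := Finset.mem_filter.1 hu
    have hu1 : u ≠ 1 := fun h => huz (h ▸ one_mem _)
    have hou : orderOf u = p := orderOf_eq_prime (hexp u huR) hu1
    refine le_trans (le_of_eq ?_) (Finset.card_le_card (s := (Finset.Icc 1 (p - 1)).image (u ^ ·))
      fun w hw => ?_)
    · rw [Finset.card_image_of_injOn, Nat.card_Icc, Nat.add_sub_cancel]
      intro i hi j hj h
      have hi' := Finset.mem_Icc.1 hi
      have hj' := Finset.mem_Icc.1 hj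
      have := hp.out.two_le
      exact pow_injOn_Iio_orderOf (Set.mem_Iio.2 (by rw [hou]; omega))
        (Set.mem_Iio.2 (by rw [hou]; omega)) h
    · obtain ⟨i, hi, rfl⟩ := Finset.mem_image.1 hw
      have hi' := Finset.mem_Icc.1 hi
      have hcop' : i.Coprime (orderOf u) := by
        rw [hou]
        exact ((Nat.Prime.coprime_iff_not_dvd (n := i) hp.out).2 fun hd => by
          have := Nat.le_of_dvd (by omega) hd; omega).symm
      have hzz : Subgroup.zpowers (u ^ i) = Subgroup.zpowers u := by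
        obtain ⟨j, hj⟩ := exists_pow_eq_self_of_coprime hcop'
        refine le_antisymm (Subgroup.zpowers_le.2 (pow_mem (Subgroup.mem_zpowers u) i))
          (Subgroup.zpowers_le.2 ?_)
        exact ⟨j, by simpa using hj⟩
      refine Finset.mem_filter.2 ⟨Finset.mem_filter.2 ⟨Finset.mem_univ _, R.pow_mem huR i,
        fun h => huz ?_⟩, hzz⟩
      have := Subgroup.zpowers_le.2 h
      rw [hzz, Subgroup.zpowers_le] at this
      exact this
  -- the covering
  have hfixcard : ∀ L ∈ 𝓛, Nat.card (fixed L) ^ p ≤ Nat.card V := by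
    intro L hL
    obtain ⟨u, hu, rfl⟩ := Finset.mem_image.1 hL
    obtain ⟨-, huR, huz⟩ := Finset.mem_filter.1 hu
    obtain ⟨y, hy, hyu⟩ : ∃ y ∈ R, ⁅y, u⁆ ≠ 1 := by
      by_contra hall
      push Not at hall
      exact huz (hcent u huR fun s hs => (commutatorElement_eq_one_iff_mul_comm.1 (hall s hs)).symm)
    have := (pow_card_fixed hcop hz hzfix hzR hexp hcomm huR hy hyu (U := ⊤)
      (fun _ => ⟨fun _ => trivial, fun _ => trivial⟩)
      (fun _ => ⟨fun _ => trivial, fun _ => trivial⟩)).1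
    rwa [top_inf_eq, Subgroup.card_top] at this
  have hcover : Nat.card V ≤ ∑ L ∈ 𝓛, Nat.card (fixed L) := by
    have h2 : ∀ L : Subgroup (MulAut V),
        (Finset.univ.filter fun v => v ∈ fixed L).card = Nat.card (fixed L) := fun L => by
      rw [← Fintype.card_subtype, Nat.card_eq_fintype_card]
    simp only [← h2]
    refine le_trans (le_of_eq ?_) (Finset.card_biUnion_le)
    rw [Nat.card_eq_fintype_card, ← Finset.card_univ]
    congr 1
    ext v
    simp only [Finset.mem_univ, true_iff, Finset.mem_biUnion, Finset.mem_filter, true_and]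
    obtain ⟨g, hg, hgv⟩ := hcov v
    refine ⟨_, Finset.mem_image.2 ⟨g * a * g⁻¹,
      Finset.mem_filter.2 ⟨Finset.mem_univ _, hout g hg⟩, rfl⟩, ?_⟩
    have hle : Subgroup.zpowers (g * a * g⁻¹) ≤ MulAction.stabilizer (MulAut V) v :=
      Subgroup.zpowers_le.2 hgv
    exact fun k hk => hle hk
  have hm0 : 1 ≤ m := by
    by_contra h
    rw [show m = 0 by omega] at hRle
    rw [mul_zero, zero_add, pow_one] at hRle
    have h1 : Subgroup.zpowers z = R := Subgroup.eq_of_le_of_card_ge (Subgroup.zpowers_le.2 hzR')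
      (by rwa [Nat.card_zpowers, hz])
    exact haz (h1 ▸ haR)
  set r := 𝓛.card with hr
  have hpow : Nat.card V ^ p ≤ r ^ p * Nat.card V := by
    have hne : 𝓛.Nonempty := by
      rw [Finset.nonempty_iff_ne_empty]
      intro h
      rw [h, Finset.sum_empty] at hcover
      exact absurd hcover (not_le.2 Nat.card_pos)
    obtain ⟨L₀, hL₀, hmax⟩ := Finset.exists_max_image 𝓛 (fun L => Nat.card (fixed L)) hne
    have h1 : Nat.card V ≤ r * Nat.card (fixed L₀) := by
      refine hcover.trans ((Finset.sum_le_card_nsmul _ _ _ hmax).trans (le_of_eq ?_))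
      rw [smul_eq_mul, hr]
    calc Nat.card V ^ p ≤ (r * Nat.card (fixed L₀)) ^ p := Nat.pow_le_pow_left h1 p
      _ = r ^ p * Nat.card (fixed L₀) ^ p := mul_pow _ _ _
      _ ≤ _ := Nat.mul_le_mul_left _ (hfixcard L₀ hL₀)
  have hp3 : 3 ≤ p := by have := hp.out.two_le; omega
  have hpow' : Nat.card V ^ (p - 1) ≤ r ^ p := by
    refine Nat.le_of_mul_le_mul_right ?_ (Nat.card_pos (α := V))
    rw [← pow_succ, Nat.sub_add_cancel (by omega : 1 ≤ p)]
    exact hpow
  set q := (p + 1) ^ (p ^ (m - 1) * (p - 1)) with hq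
  have hqr : q ≤ r := by
    refine (Nat.pow_le_pow_iff_left (by omega : p ≠ 0)).1 (le_trans ?_ hpow')
    calc q ^ p = ((p + 1) ^ p ^ m) ^ (p - 1) := by
          rw [hq, ← pow_mul, ← pow_mul, show p ^ m = p ^ (m - 1) * p by
            rw [← pow_succ, Nat.sub_add_cancel hm0]]
          ring_nf
      _ ≤ _ := Nat.pow_le_pow_left hm2 _
  have harith := arith (p := p) hp3 (m - 1)
  rw [show 2 * (m - 1) + 3 = 2 * m + 1 by omega, ← hq] at harith
  have h5 : (p - 1) * q ≤ r * (p - 1) := by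
    rw [mul_comm (p - 1) q]
    exact Nat.mul_le_mul_right _ hqr
  omega

/-- Some vector is fixed by no conjugate of `a`. -/
theorem exists_avoid (hodd : p ≠ 2) :
    ∀ (N : ℕ) {V : Type u} [CommGroup V] [Finite V], Nat.card V ≤ N → (Nat.card V).Coprime p →
      Avoid p V := by
  intro N
  induction N with
  | zero => intro V _ _ hN; exact absurd hN (not_le.2 Nat.card_pos)
  | succ N ihN =>
    intro V _ _ hN hcop Γ P a hPΓ hn hP ha hap ha1
    have ih : ∀ U : Subgroup V, Nat.card U < Nat.card V → Avoid p U := fun U hU =>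
      ihN (by omega) (hcop.coprime_dvd_left (Subgroup.card_subgroup_dvd_card U))
    by_cases h1 : ∃ E : Subgroup (MulAut V), E ≤ P ∧ (∀ g ∈ Γ, conjS g E = E) ∧
        (∀ x ∈ E, ∀ y ∈ E, x * y = y * x) ∧ (∀ x ∈ E, x ^ p = 1) ∧ E ≠ ⊥ ∧ fixed E ≠ ⊥
    · obtain ⟨E, hEP, hEn, -, -, hE, hfix⟩ := h1
      exact avoid_of_fixed hcop ih hPΓ hn hP ha hap ha1 hEP hEn hE hfix
    by_cases h2 : ∃ E : Subgroup (MulAut V), E ≤ P ∧ (∀ g ∈ Γ, conjS g E = E) ∧
        (∀ x ∈ E, ∀ y ∈ E, x * y = y * x) ∧ (∀ x ∈ E, x ^ p = 1) ∧ p < Nat.card E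
    · obtain ⟨E, hEP, hEn, hEc, hEp, hEcard⟩ := h2
      refine avoid_of_noncyclic hodd hcop ih hPΓ hn hP ha hap ha1 hEP hEn hEc hEp hEcard ?_
      by_contra hne
      exact h1 ⟨E, hEP, hEn, hEc, hEp, fun h => by
        rw [h, Subgroup.card_bot] at hEcard
        exact absurd hEcard (not_lt.2 hp.out.one_le), hne⟩
    push Not at h1 h2
    exact avoid_of_core hodd hcop hPΓ hn hP ha hap ha1 h2 h1

end CfsgLib.FgsC.AvoidFixed
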