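/-
Modules of `C_p^3 ⋊ C_2` with scalar endomorphisms, in arbitrarily large dimension.
-/
import Mathlib

set_option autoImplicit false

namespace CfsgLib.FgsC.Brick

open Matrix

variable (p : ℕ) [Fact p.Prime]

abbrev A := Multiplicative (Fin 3 → ZMod p)

/-- inversion action -/
def psi : ℤˣ →* MulAut (A p) where
  toFun u :=
    { toFun := fun a => a ^ (u : ℤ)
      invFun := fun a => a ^ (u : ℤ)
      left_inv := fun a => by
        show (a ^ (u : ℤ)) ^ (u : ℤ) = a
        rw [← _root_.zpow_mul, Int.units_coe_mul_self, zpow_one]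
      right_inv := fun a => by
        show (a ^ (u : ℤ)) ^ (u : ℤ) = a
        rw [← _root_.zpow_mul, Int.units_coe_mul_self, zpow_one]
      map_mul' := fun a b => mul_zpow a b _ }
  map_one' := MulEquiv.ext fun a => zpow_one a
  map_mul' u v := MulEquiv.ext fun a => by
    show a ^ ((u * v : ℤˣ) : ℤ) = (a ^ (v : ℤ)) ^ (u : ℤ)
    rw [← _root_.zpow_mul, Units.val_mul, mul_comm]

abbrev H := A p ⋊[psi p] ℤˣ

instance : Finite (H p) := Finite.of_equiv _ SemidirectProduct.equivProd.symm

lemma card_H : Nat.card (H p) = 2 * p ^ 3 := by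
  rw [Nat.card_congr SemidirectProduct.equivProd, Nat.card_prod, Nat.card_eq_fintype_card,
    Nat.card_eq_fintype_card, Fintype.card_units_int, Fintype.card_multiplicative, Fintype.card_fun,
    ZMod.card, Fintype.card_fin, mul_comm]

variable (m : ℕ)

/-- the shift -/
def shift : Matrix (Fin m) (Fin m) (ZMod p) := Matrix.of fun i j => if (i : ℕ) + 1 = j then 1 else 0

def E (c : Fin 3 → ZMod p) : Matrix (Fin m) (Fin m) (ZMod p) :=
  c 0 • 1 + c 1 • shift p m + c 2 • (shift p m)ᵀ

lemma E_add (c d : Fin 3 → ZMod p) : E p m (c + d) = E p m c + E p m d := by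
  simp only [E, Pi.add_apply, add_smul]
  abel

lemma E_zero : E p m 0 = 0 := by simp [E]

abbrev SLs := SpecialLinearGroup (Fin m ⊕ Fin m) (ZMod p)

def fn : A p →* SLs p m where
  toFun a := ⟨fromBlocks 1 0 (E p m a.toAdd) 1, by simp⟩
  map_one' := Subtype.ext (by simp [E_zero, fromBlocks_one])
  map_mul' a b := Subtype.ext (by
    show fromBlocks 1 0 (E p m (a * b).toAdd) 1 = fromBlocks 1 0 _ 1 * fromBlocks 1 0 _ 1
    simp [fromBlocks_multiply, E_add, add_comm])

def fg (hm : Even m) : ℤˣ →* SLs p m where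
  toFun u := ⟨fromBlocks 1 0 0 (((u : ℤ) : ZMod p) • 1), by
    rcases Int.units_eq_one_or u with rfl | rfl <;>
      simp [det_smul, hm.neg_one_pow, -neg_smul]⟩
  map_one' := Subtype.ext (by simp [fromBlocks_one])
  map_mul' u v := Subtype.ext (by
    show fromBlocks 1 0 0 ((((u * v : ℤˣ) : ℤ) : ZMod p) • 1) = fromBlocks 1 0 0 _ * fromBlocks 1 0 0 _
    simp [fromBlocks_multiply, smul_smul, mul_comm])

lemma fn_coe (a : A p) : (fn p m a).1 = fromBlocks 1 0 (E p m a.toAdd) 1 := rfl

lemma fg_coe (hm : Even m) (u : ℤˣ) :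
    (fg p m hm u).1 = fromBlocks 1 0 0 (((u : ℤ) : ZMod p) • 1) := rfl

def rep (hm : Even m) : H p →* SLs p m :=
  SemidirectProduct.lift (fn p m) (fg p m hm) fun u => by
    refine MonoidHom.ext fun a => ?_
    show fn p m (psi p u a) = fg p m hm u * fn p m a * (fg p m hm u)⁻¹
    rw [eq_mul_inv_iff_mul_eq]
    refine Subtype.ext ?_
    rcases Int.units_eq_one_or u with rfl | rfl
    · rw [map_one, map_one, mul_one, one_mul]
      rfl
    · have h : psi p (-1) a = a⁻¹ := by
        show a ^ ((-1 : ℤˣ) : ℤ) = a⁻¹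
        simp
      have hE : E p m (-a.toAdd) = -E p m a.toAdd := by
        simp only [E, Pi.neg_apply, neg_smul]
        abel
      rw [h]
      show fromBlocks 1 0 (E p m (-a.toAdd)) 1 * fromBlocks 1 0 0 _ =
        fromBlocks 1 0 0 _ * fromBlocks 1 0 (E p m a.toAdd) 1
      simp [fromBlocks_multiply, hE]

/-- commuting with the shift and its transpose forces a scalar -/
lemma eq_scalar {a : Matrix (Fin m) (Fin m) (ZMod p)} (h1 : a * shift p m = shift p m * a)
    (h2 : a * (shift p m)ᵀ = (shift p m)ᵀ * a) (hm : 0 < m) :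
    a = a ⟨0, hm⟩ ⟨0, hm⟩ • 1 := by
  have col : ∀ i : ℕ, ∀ hi : i + 1 < m, a ⟨i + 1, hi⟩ ⟨0, hm⟩ = 0 := fun i hi => by
    have := congrFun (congrFun h1 ⟨i, by omega⟩) ⟨0, hm⟩
    simp only [Matrix.mul_apply, shift, Matrix.of_apply] at this
    rw [Finset.sum_eq_zero (fun x _ => by simp), Finset.sum_eq_single ⟨i + 1, hi⟩
      (fun x _ hx => by rw [if_neg (fun e => hx (Fin.ext e.symm)), zero_mul])
      (fun h => absurd (Finset.mem_univ _) h), if_pos rfl, one_mul] at this
    exact this.symm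
  have shiftup : ∀ i j : ℕ, ∀ hi : i + 1 < m, ∀ hj : j + 1 < m,
      a ⟨i + 1, hi⟩ ⟨j + 1, hj⟩ = a ⟨i, by omega⟩ ⟨j, by omega⟩ := fun i j hi hj => by
    have := congrFun (congrFun h1 ⟨i, by omega⟩) ⟨j + 1, hj⟩
    simp only [Matrix.mul_apply, shift, Matrix.of_apply] at this
    rw [Finset.sum_eq_single ⟨j, by omega⟩
      (fun x _ hx => by rw [if_neg (fun e => hx (Fin.ext (Nat.succ_injective e))), mul_zero])
      (fun h => absurd (Finset.mem_univ _) h), if_pos rfl, mul_one,
      Finset.sum_eq_single ⟨i + 1, hi⟩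
      (fun x _ hx => by rw [if_neg (fun e => hx (Fin.ext e.symm)), zero_mul])
      (fun h => absurd (Finset.mem_univ _) h), if_pos rfl, one_mul] at this
    exact this.symm
  have row : ∀ j : ℕ, ∀ hj : j + 1 < m, a ⟨0, hm⟩ ⟨j + 1, hj⟩ = 0 := fun j hj => by
    have := congrFun (congrFun h2 ⟨0, hm⟩) ⟨j, by omega⟩
    simp only [Matrix.mul_apply, shift, Matrix.of_apply, Matrix.transpose_apply] at this
    rw [Finset.sum_eq_single ⟨j + 1, hj⟩
      (fun x _ hx => by rw [if_neg (fun e => hx (Fin.ext e.symm)), mul_zero])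
      (fun h => absurd (Finset.mem_univ _) h), if_pos rfl, mul_one,
      Finset.sum_eq_zero (fun x _ => by simp)] at this
    exact this
  suffices h : ∀ i j : ℕ, ∀ hi : i < m, ∀ hj : j < m,
      a ⟨i, hi⟩ ⟨j, hj⟩ = if i = j then a ⟨0, hm⟩ ⟨0, hm⟩ else 0 by
    ext ⟨i, hi⟩ ⟨j, hj⟩
    rw [h i j hi hj, Matrix.smul_apply, Matrix.one_apply]
    simp
  intro i
  induction i with
  | zero =>
    intro j hi hj
    cases j with
    | zero => simp
    | succ j => simpa using row j hj
  | succ i ih =>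
    intro j hi hj
    cases j with
    | zero => simpa using col i hi
    | succ j => rw [shiftup i j hi hj, ih j (by omega) (by omega)]; simp

lemma two_ne_zero' (hp : p ≠ 2) : (2 : ZMod p) ≠ 0 := fun h => by
  have h2 : ((2 : ℕ) : ZMod p) = 0 := by exact_mod_cast h
  rw [ZMod.natCast_eq_zero_iff] at h2
  exact hp ((Nat.prime_dvd_prime_iff_eq Fact.out Nat.prime_two).1 h2)

variable {p m}

theorem injective (hp : p ≠ 2) (hm : Even m) (hm2 : 2 ≤ m) :
    Function.Injective ((QuotientGroup.mk' (Subgroup.center (SLs p m))).comp (rep p m hm)) := by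
  rw [injective_iff_map_eq_one]
  rintro ⟨a, u⟩ h
  rw [MonoidHom.comp_apply, QuotientGroup.mk'_apply, QuotientGroup.eq_one_iff,
    Matrix.SpecialLinearGroup.mem_center_iff] at h
  obtain ⟨r, -, hr⟩ := h
  have hv : ((rep p m hm ⟨a, u⟩).1 : Matrix (Fin m ⊕ Fin m) (Fin m ⊕ Fin m) (ZMod p)) =
      fromBlocks 1 0 (E p m a.toAdd) (((u : ℤ) : ZMod p) • 1) := by
    show (fn p m a).1 * (fg p m hm u).1 = _
    simp [fn_coe, fg_coe, fromBlocks_multiply]
  rw [hv] at hr
  have i0 : Fin m := ⟨0, by omega⟩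
  have hr1 : r = 1 := by simpa using congrFun (congrFun hr (Sum.inl i0)) (Sum.inl i0)
  subst hr1
  have hu : u = 1 := by
    rcases Int.units_eq_one_or u with rfl | rfl
    · rfl
    · have h := congrFun (congrFun hr (Sum.inr i0)) (Sum.inr i0)
      simp at h
      exact absurd (show (2 : ZMod p) = 0 by linear_combination h) (two_ne_zero' p hp)
  subst hu
  have hE : ∀ i j, E p m a.toAdd i j = 0 := fun i j => by
    simpa using (congrFun (congrFun hr (Sum.inr i)) (Sum.inl j)).symm
  have ha : a = 1 := by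
    refine Multiplicative.toAdd.injective (funext fun k => ?_)
    fin_cases k
    · simpa [E, shift] using hE ⟨0, by omega⟩ ⟨0, by omega⟩
    · simpa [E, shift, Fin.ext_iff] using hE ⟨0, by omega⟩ ⟨1, by omega⟩
    · simpa [E, shift, Fin.ext_iff] using hE ⟨1, by omega⟩ ⟨0, by omega⟩
  subst ha
  rfl

theorem centralizer_eq_bot (hp : p ≠ 2) (hm : Even m) (hm2 : 2 ≤ m) :
    Subgroup.centralizer
      (((QuotientGroup.mk' (Subgroup.center (SLs p m))).comp (rep p m hm)).range :
        Set (SLs p m ⧸ Subgroup.center (SLs p m))) = ⊥ := by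
  rw [Subgroup.eq_bot_iff_forall]
  intro y hy
  induction y using QuotientGroup.induction_on with | _ x => ?_
  have hcomm : ∀ g : H p, ∃ r : ZMod p, (x : Matrix _ _ (ZMod p)) * (rep p m hm g).1 =
      r • ((rep p m hm g).1 * x.1) := fun g => by
    have h := Subgroup.mem_centralizer_iff.1 hy _ ⟨g, rfl⟩
    rw [MonoidHom.comp_apply, QuotientGroup.mk'_apply, ← QuotientGroup.mk_mul, ← QuotientGroup.mk_mul,
      QuotientGroup.eq, Matrix.SpecialLinearGroup.mem_center_iff] at h
    obtain ⟨r, -, hr⟩ := h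
    refine ⟨r, ?_⟩
    have h2 : x * rep p m hm g = (rep p m hm g * x) * ((rep p m hm g * x)⁻¹ * (x * rep p m hm g)) := by
      group
    have h3 := congrArg Subtype.val h2
    rw [Matrix.SpecialLinearGroup.coe_mul, Matrix.SpecialLinearGroup.coe_mul, ← hr] at h3
    rw [h3, Matrix.scalar_apply, ← smul_one_eq_diagonal, mul_smul_comm, mul_one]
    rfl
  set M : Matrix (Fin m ⊕ Fin m) (Fin m ⊕ Fin m) (ZMod p) := x.1 with hM
  have hblocks := (fromBlocks_toBlocks M).symm
  set a := M.toBlocks₁₁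
  set b := M.toBlocks₁₂
  set c := M.toBlocks₂₁
  set d := M.toBlocks₂₂
  have hU : ∀ v : Fin 3 → ZMod p, ∃ r : ZMod p,
      a + b * E p m v = r • a ∧ b = r • b ∧ c + d * E p m v = r • (E p m v * a + c) ∧
        d = r • (E p m v * b + d) := fun v => by
    obtain ⟨r, hr⟩ := hcomm (SemidirectProduct.inl (Multiplicative.ofAdd v))
    rw [rep, SemidirectProduct.lift_inl, hblocks] at hr
    simp [fn_coe, fromBlocks_multiply, fromBlocks_smul, fromBlocks_inj] at hr
    exact ⟨r, hr.1, hr.2.1, by rw [smul_add]; exact hr.2.2.1, by rw [smul_add]; exact hr.2.2.2⟩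
  have hm0 : 0 < m := by omega
  have hb : b = 0 := by
    obtain ⟨r, -, h2, -, h4⟩ := hU ![1, 0, 0]
    by_contra hb
    have hr : r = 1 := by
      by_contra hr
      refine hb (smul_right_injective _ (sub_ne_zero.2 hr) ?_)
      show (r - 1) • b = (r - 1) • 0
      rw [sub_smul, one_smul, ← h2, sub_self, smul_zero]
    rw [hr, one_smul] at h4
    refine hb ?_
    simpa [E] using h4
  haveI : Nonempty (Fin m) := ⟨⟨0, hm0⟩⟩
  have ha : a ≠ 0 := by
    intro ha
    have h := x.2
    rw [← hM, hblocks, hb, det_fromBlocks_zero₁₂, ha, det_zero, zero_mul] at h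
    exact zero_ne_one h
  have hone : ∀ r : ZMod p, a = r • a → r = 1 := fun r h => by
    by_contra hr
    refine ha (smul_right_injective _ (sub_ne_zero.2 hr) ?_)
    show (r - 1) • a = (r - 1) • 0
    rw [sub_smul, one_smul, ← h, sub_self, smul_zero]
  have hcd : ∀ v, d * E p m v = E p m v * a := fun v => by
    obtain ⟨r, h1, -, h3, -⟩ := hU v
    rw [hb, zero_mul, add_zero] at h1
    rw [hone r h1, one_smul, add_comm (E p m v * a) c] at h3
    exact add_left_cancel h3
  have hc : c = 0 := by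
    obtain ⟨r, hr⟩ := hcomm (SemidirectProduct.inr (-1))
    rw [rep, SemidirectProduct.lift_inr, hblocks] at hr
    simp [fg_coe, fromBlocks_multiply, fromBlocks_smul, fromBlocks_inj] at hr
    obtain ⟨h1, -, h3, -⟩ := hr
    rw [hone r h1] at h3
    have h4 : (2 : ZMod p) • c = 0 := by
      rw [two_smul]
      simp at h3
      nth_rewrite 1 [h3]
      exact neg_add_cancel c
    exact (smul_eq_zero.1 h4).resolve_left (two_ne_zero' p hp)
  have had : d = a := by simpa [E] using hcd ![1, 0, 0]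
  have hs1 : a * shift p m = shift p m * a := by
    have h := hcd ![0, 1, 0]
    rw [had] at h
    simpa [E] using h
  have hs2 : a * (shift p m)ᵀ = (shift p m)ᵀ * a := by
    have h := hcd ![0, 0, 1]
    rw [had] at h
    simpa [E] using h
  have hscal := eq_scalar p m hs1 hs2 hm0
  rw [QuotientGroup.eq_one_iff, Subgroup.mem_center_iff]
  intro g
  refine Subtype.ext ?_
  rw [Matrix.SpecialLinearGroup.coe_mul, Matrix.SpecialLinearGroup.coe_mul, ← hM, hblocks, hb, hc,
    had, hscal]
  rw [show fromBlocks (a ⟨0, hm0⟩ ⟨0, hm0⟩ • (1 : Matrix (Fin m) (Fin m) (ZMod p))) 0 0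
      (a ⟨0, hm0⟩ ⟨0, hm0⟩ • 1) = a ⟨0, hm0⟩ ⟨0, hm0⟩ • 1 by
    rw [← fromBlocks_one, fromBlocks_smul, smul_zero]]
  rw [mul_smul_comm, smul_mul_assoc, mul_one, one_mul]

/-- transport along a bijection of index sets -/
def reindexSL {ι κ R : Type*} [Fintype ι] [DecidableEq ι] [Fintype κ] [DecidableEq κ] [CommRing R]
    (e : ι ≃ κ) : SpecialLinearGroup ι R ≃* SpecialLinearGroup κ R where
  toFun x := ⟨Matrix.reindex e e x.1, by rw [det_reindex_self]; exact x.2⟩
  invFun x := ⟨Matrix.reindex e.symm e.symm x.1, by rw [det_reindex_self]; exact x.2⟩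
  left_inv x := Subtype.ext (by ext i j; simp)
  right_inv x := Subtype.ext (by ext i j; simp)
  map_mul' x y := Subtype.ext (by
    show Matrix.reindex e e (x.1 * y.1) = Matrix.reindex e e x.1 * Matrix.reindex e e y.1
    simp [Matrix.submatrix_mul_equiv])

theorem exists_embeddings (hp : p ≠ 2) :
    ∃ (H : Type) (_ : Group H) (_ : Finite H), Nat.card H = 2 * p ^ 3 ∧
      ∀ N : ℕ, ∃ n, N ≤ n ∧ ∃ φ : H →* Matrix.ProjectiveSpecialLinearGroup (Fin n) (ZMod p),
        Function.Injective φ ∧
        Subgroup.centralizer (φ.range : Set (Matrix.ProjectiveSpecialLinearGroup (Fin n) (ZMod p))) = ⊥ := by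
  refine ⟨H p, inferInstance, inferInstance, card_H p, fun N => ?_⟩
  set m := 2 * (N + 1) with hmdef
  have hm : Even m := even_two_mul _
  set ε : SLs p m ≃* SpecialLinearGroup (Fin (m + m)) (ZMod p) := reindexSL finSumFinEquiv
  have hmap : (Subgroup.center (SLs p m)).map ε.toMonoidHom = Subgroup.center _ := by
    ext y
    rw [Subgroup.mem_map_equiv, Subgroup.mem_center_iff, Subgroup.mem_center_iff]
    constructor
    · intro h g
      have := congrArg ε (h (ε.symm g))
      simpa using this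
    · intro h g
      have := congrArg ε.symm (h (ε g))
      simpa using this
  set η := QuotientGroup.congr _ _ ε hmap
  refine ⟨m + m, by omega,
    η.toMonoidHom.comp ((QuotientGroup.mk' (Subgroup.center (SLs p m))).comp (rep p m hm)),
    η.injective.comp (injective hp hm (by omega)), ?_⟩
  rw [Subgroup.eq_bot_iff_forall]
  intro y hy
  have h : η.symm y ∈ Subgroup.centralizer
      (((QuotientGroup.mk' (Subgroup.center (SLs p m))).comp (rep p m hm)).range : Set _) := by
    rw [Subgroup.mem_centralizer_iff]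
    rintro _ ⟨g, rfl⟩
    have := Subgroup.mem_centralizer_iff.1 hy _ ⟨g, rfl⟩
    apply η.injective
    rw [map_mul, map_mul, η.apply_symm_apply]
    exact this
  rw [centralizer_eq_bot hp hm (by omega), Subgroup.mem_bot] at h
  simpa using congrArg η h

end CfsgLib.FgsC.Brick
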