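import Mathlib
import Cfsg.Prelude.Def_HallClasses

/-! Pronormality of Sylow overgroups in extensions. -/

set_option autoImplicit false

namespace Cfsg.FgsC.Pronormal

variable {G : Type*} [Group G]

/-- The conjugate `g H g⁻¹`. -/
abbrev cj (g : G) (H : Subgroup G) : Subgroup G := H.map (MulAut.conj g).toMonoidHom

theorem cj_cj (a b : G) (H : Subgroup G) : cj a (cj b H) = cj (a * b) H := by
  rw [cj, cj, cj, Subgroup.map_map, map_mul]; rfl

theorem cj_one (H : Subgroup G) : cj (1 : G) H = H := by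
  ext x; simp [cj]

theorem mem_cj {g x : G} {H : Subgroup G} : x ∈ cj g H ↔ g⁻¹ * x * g ∈ H := by
  constructor
  · rintro ⟨y, hy, rfl⟩
    show g⁻¹ * (g * y * g⁻¹) * g ∈ H
    simpa [mul_assoc] using hy
  · intro h
    exact ⟨_, h, by show g * (g⁻¹ * x * g) * g⁻¹ = x; group⟩

theorem cj_eq_self_iff {g : G} {H : Subgroup G} :
    cj g H = H ↔ g ∈ Subgroup.normalizer (H : Set G) :=
  (Subgroup.mem_normalizer_iff_map_conj_eq).symm

theorem cj_mono (g : G) {H K : Subgroup G} (h : H ≤ K) : cj g H ≤ cj g K := Subgroup.map_mono h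

theorem cj_le_of_mem {g : G} {H K : Subgroup G} (hg : g ∈ K) (h : H ≤ K) : cj g H ≤ K := fun x hx => by
  have := K.mul_mem (K.mul_mem hg (h (mem_cj.1 hx))) (K.inv_mem hg)
  simpa [mul_assoc] using this

theorem map_cj {G' : Type*} [Group G'] (f : G →* G') (g : G) (H : Subgroup G) :
    (cj g H).map f = cj (f g) (H.map f) := by
  rw [cj, cj, Subgroup.map_map, Subgroup.map_map]
  congr 1
  ext x
  simp

theorem inv_mul_mem_normalizer {a b : G} {H : Subgroup G} (h : cj a H = cj b H) :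
    b⁻¹ * a ∈ Subgroup.normalizer (H : Set G) := by
  rw [← cj_eq_self_iff, ← cj_cj, h, cj_cj, inv_mul_cancel, cj_one]

theorem pronormal_map {G' : Type*} [Group G'] (f : G →* G') (hf : Function.Surjective f)
    {H : Subgroup G} (h : Cfsg.IsPronormal H) : Cfsg.IsPronormal (H.map f) := by
  intro g
  obtain ⟨g, rfl⟩ := hf g
  obtain ⟨x, hx, he⟩ := h g
  refine ⟨f x, ?_, ?_⟩
  · have := Subgroup.mem_map_of_mem f hx
    rwa [Subgroup.map_sup, map_cj] at this
  · change cj (f g) (H.map f) = cj (f x) (H.map f)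
    rw [← map_cj, ← map_cj]
    exact congrArg (Subgroup.map f) he

theorem pronormal_of_cj {c : G} {H : Subgroup G} (h : Cfsg.IsPronormal (cj c H)) :
    Cfsg.IsPronormal H := by
  have := pronormal_map (MulAut.conj c⁻¹).toMonoidHom (MulAut.conj c⁻¹).surjective h
  change Cfsg.IsPronormal (cj c⁻¹ (cj c H)) at this
  rwa [cj_cj, inv_mul_cancel, cj_one] at this

theorem pronormal_subgroupOf {H N : Subgroup G} (hHN : H ≤ N) (h : Cfsg.IsPronormal H) :
    Cfsg.IsPronormal (H.subgroupOf N) := by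
  intro g
  obtain ⟨x, hx, he⟩ := h (g : G)
  have e : ∀ y : N, (cj y (H.subgroupOf N)).map N.subtype = cj (y : G) H := fun y => by
    rw [map_cj, Subgroup.map_subgroupOf_eq_of_le hHN]; rfl
  have hs : (H.subgroupOf N ⊔ cj g (H.subgroupOf N)).map N.subtype = H ⊔ cj (g : G) H := by
    rw [Subgroup.map_sup, e, Subgroup.map_subgroupOf_eq_of_le hHN]
  obtain ⟨y, hy, rfl⟩ : x ∈ (H.subgroupOf N ⊔ cj g (H.subgroupOf N)).map N.subtype := hs ▸ hx
  refine ⟨y, hy, Subgroup.map_injective N.subtype_injective ?_⟩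
  change (cj g _).map _ = (cj y _).map _
  rw [e, e]; exact he

/-- Pronormality inside a subgroup, read in the big group. -/
theorem pronormal_rel {H N : Subgroup G} (hHN : H ≤ N) (h : Cfsg.IsPronormal (H.subgroupOf N))
    {g : G} (hg : g ∈ N) : ∃ x ∈ H ⊔ cj g H, cj g H = cj x H := by
  obtain ⟨x, hx, he⟩ := h ⟨g, hg⟩
  have e : ∀ y : N, (cj y (H.subgroupOf N)).map N.subtype = cj (y : G) H := fun y => by
    rw [map_cj, Subgroup.map_subgroupOf_eq_of_le hHN]; rfl
  refine ⟨x, ?_, ?_⟩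
  · have := Subgroup.mem_map_of_mem N.subtype hx
    rwa [Subgroup.map_sup, show (Subgroup.map (MulAut.conj (⟨g, hg⟩ : N)).toMonoidHom
      (H.subgroupOf N)) = cj ⟨g, hg⟩ (H.subgroupOf N) from rfl, e,
      Subgroup.map_subgroupOf_eq_of_le hHN] at this
  · have := congrArg (Subgroup.map N.subtype) he
    change (cj _ _).map _ = (cj _ _).map _ at this
    rwa [e, e] at this

variable [Finite G] {p : ℕ} [Fact p.Prime]

theorem exists_sylow_le {K : Subgroup G} (h : ¬ p ∣ K.index) :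
    ∃ P : Sylow p G, (P : Subgroup G) ≤ K := by
  obtain ⟨Q⟩ : Nonempty (Sylow p K) := inferInstance
  have hQ : ¬ p ∣ ((Q : Subgroup K).map K.subtype).index := by
    rw [Subgroup.index_map_subtype]
    exact fun hd => ((Fact.out : p.Prime).dvd_mul.1 hd).elim Q.not_dvd_index h
  exact ⟨(Q.isPGroup'.map K.subtype).toSylow hQ, Subgroup.map_subtype_le _⟩

theorem not_dvd_index {K : Subgroup G} {P : Sylow p G} (h : (P : Subgroup G) ≤ K) : ¬ p ∣ K.index :=
  fun hd => P.not_dvd_index (hd.trans (Subgroup.index_dvd_of_le h))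

/-- A Sylow subgroup `T` of the normal subgroup `A` lies in a Sylow subgroup `S` of `G`, which
normalizes it and meets `A` in it. -/
theorem exists_sylow_inf (A : Subgroup G) [A.Normal] (T : Sylow p A) :
    ∃ S : Sylow p G, (S : Subgroup G) ⊓ A = (T : Subgroup A).map A.subtype := by
  obtain ⟨S, hS⟩ := (T.isPGroup'.map A.subtype).exists_le_sylow
  refine ⟨S, le_antisymm ?_ (le_inf hS (Subgroup.map_subtype_le _))⟩
  have h := T.is_maximal' (Q := (S : Subgroup G).subgroupOf A)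
    (S.isPGroup'.comap_of_injective A.subtype A.subtype_injective)
    (fun x hx => hS (Subgroup.mem_map_of_mem _ hx))
  rw [← Subgroup.subgroupOf_map_subtype, h]

theorem sylow_le_normalizer {A T : Subgroup G} [A.Normal] {S : Sylow p G}
    (h : (S : Subgroup G) ⊓ A = T) : (S : Subgroup G) ≤ Subgroup.normalizer (T : Set G) := by
  intro s hs
  rw [← cj_eq_self_iff, ← h]
  refine Subgroup.eq_of_le_of_card_ge (fun x hx => ?_)
    (Subgroup.card_map_of_injective (MulAut.conj s).injective).ge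
  obtain ⟨y, hy, rfl⟩ := hx
  exact ⟨(S : Subgroup G).mul_mem ((S : Subgroup G).mul_mem hs hy.1) ((S : Subgroup G).inv_mem hs),
    (inferInstance : A.Normal).conj_mem y hy.2 s⟩

/-- Inheritance by `N_G(T)/T`. -/
theorem quot_of_all (hG : ∀ K : Subgroup G, (∃ P : Sylow p G, (P : Subgroup G) ≤ K) → Cfsg.IsPronormal K)
    {A T : Subgroup G} [A.Normal] {S : Sylow p G} (hS : (S : Subgroup G) ⊓ A = T)
    [(T.subgroupOf (Subgroup.normalizer (T : Set G))).Normal]
    (K : Subgroup (↥(Subgroup.normalizer (T : Set G)) ⧸ T.subgroupOf (Subgroup.normalizer (T : Set G))))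
    (hK : ∃ P : Sylow p (↥(Subgroup.normalizer (T : Set G)) ⧸ T.subgroupOf (Subgroup.normalizer (T : Set G))),
      (P : Subgroup _) ≤ K) : Cfsg.IsPronormal K := by
  obtain ⟨P, hP⟩ := hK
  set N := Subgroup.normalizer (T : Set G) with hN
  set q := QuotientGroup.mk' (T.subgroupOf N) with hq
  have hsurj : Function.Surjective q := QuotientGroup.mk'_surjective _
  have h1 : ¬ p ∣ ((K.comap q).map N.subtype).index := by
    rw [Subgroup.index_map_subtype, Subgroup.index_comap_of_surjective _ hsurj]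
    exact fun hd => ((Fact.out : p.Prime).dvd_mul.1 hd).elim (not_dvd_index hP)
      (not_dvd_index (sylow_le_normalizer hS))
  have h2 := pronormal_subgroupOf (Subgroup.map_subtype_le _) (hG _ (exists_sylow_le h1))
  have h3 : ((K.comap q).map N.subtype).subgroupOf N = K.comap q :=
    Subgroup.comap_map_eq_self_of_injective N.subtype_injective _
  rw [h3] at h2
  have h4 := pronormal_map q hsurj h2
  rwa [Subgroup.map_comap_eq_self_of_surjective hsurj] at h4

theorem normalizer_map_eq (hG : ∀ K : Subgroup G, (∃ P : Sylow p G, (P : Subgroup G) ≤ K) → Cfsg.IsPronormal K)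
    (A : Subgroup G) [A.Normal] (K : Subgroup G) (hK : ∃ P : Sylow p G, (P : Subgroup G) ≤ K) :
    (Subgroup.normalizer (K : Set G)).map (QuotientGroup.mk' A) =
      Subgroup.normalizer ((K.map (QuotientGroup.mk' A) : Subgroup (G ⧸ A)) : Set (G ⧸ A)) := by
  set f := QuotientGroup.mk' A with hf
  refine le_antisymm ?_ fun y hy => ?_
  · rintro _ ⟨g, hg, rfl⟩
    rw [← cj_eq_self_iff, ← map_cj, cj_eq_self_iff.2 hg]
  · obtain ⟨g, rfl⟩ := QuotientGroup.mk'_surjective A y
    obtain ⟨x, hx, he⟩ := hG K hK g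
    have hx' : f x ∈ K.map f := by
      have h := Subgroup.mem_map_of_mem f hx
      rwa [Subgroup.map_sup, map_cj, cj_eq_self_iff.2 hy, sup_idem] at h
    obtain ⟨k, hk, hkx⟩ := hx'
    refine ⟨k * (x⁻¹ * g), mul_mem (Subgroup.le_normalizer hk) (inv_mul_mem_normalizer he), ?_⟩
    rw [map_mul, hkx, ← map_mul, mul_inv_cancel_left]

/-- The core of the converse: `T ≤ S ≤ K`, and `a ∈ A`. -/
theorem step_in_A (A : Subgroup G) [A.Normal]
    (hA : ∀ K : Subgroup ↥A, (∃ P : Sylow p ↥A, (P : Subgroup ↥A) ≤ K) → Cfsg.IsPronormal K)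
    (T : Subgroup G) (P : Sylow p A) (hP : (P : Subgroup A).map A.subtype = T)
    [(T.subgroupOf (Subgroup.normalizer (T : Set G))).Normal]
    (hN : ∀ K : Subgroup (↥(Subgroup.normalizer (T : Set G)) ⧸ T.subgroupOf (Subgroup.normalizer (T : Set G))),
      (∃ P : Sylow p (↥(Subgroup.normalizer (T : Set G)) ⧸ T.subgroupOf (Subgroup.normalizer (T : Set G))),
        (P : Subgroup _) ≤ K) → Cfsg.IsPronormal K)
    (S : Sylow p G) (hS : (S : Subgroup G) ⊓ A = T) (K : Subgroup G) (hSK : (S : Subgroup G) ≤ K)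
    (a : G) (ha : a ∈ A) : ∃ y ∈ K ⊔ cj a K, cj a K = cj y K := by
  have hTK : T ≤ K := hS ▸ inf_le_left.trans hSK
  have hTA : T ≤ A := hS ▸ inf_le_right
  set U := K ⊓ A with hU
  have hTU : T ≤ U := le_inf hTK hTA
  have hUA : U ≤ A := inf_le_right
  have hUK : U ≤ K := inf_le_left
  have hUn : K ≤ Subgroup.normalizer (U : Set G) := fun k hk => by
    rw [← cj_eq_self_iff]
    refine Subgroup.eq_of_le_of_card_ge (fun x hx => ?_)
      (Subgroup.card_map_of_injective (MulAut.conj k).injective).ge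
    obtain ⟨y, hy, rfl⟩ := hx
    exact ⟨K.mul_mem (K.mul_mem hk hy.1) (K.inv_mem hk), (inferInstance : A.Normal).conj_mem y hy.2 k⟩
  have hPU : (P : Subgroup A) ≤ U.subgroupOf A := fun x hx =>
    hTU (hP ▸ Subgroup.mem_map_of_mem A.subtype hx)
  obtain ⟨y, hy, hye⟩ := pronormal_rel hUA (hA _ ⟨P, hPU⟩) ha
  have hyJ : y ∈ K ⊔ cj a K := (sup_le_sup hUK (cj_mono a hUK)) hy
  have hyA : y ∈ A := (sup_le hUA (cj_le_of_mem ha hUA)) hy
  set a₁ := y⁻¹ * a with ha₁
  have ha₁A : a₁ ∈ A := A.mul_mem (A.inv_mem hyA) ha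
  have ha₁U : cj a₁ U = U := by rw [ha₁, ← cj_cj, hye, cj_cj, inv_mul_cancel, cj_one]
  -- Sylow subgroups of `U`
  have hT1 : cj a₁ T ≤ U := ha₁U ▸ cj_mono a₁ hTU
  have hTp : IsPGroup p T := hP ▸ P.isPGroup'.map A.subtype
  have hidx : ¬ p ∣ T.relIndex U := by
    intro hd
    have h1 : T.relIndex U ∣ T.relIndex A := Dvd.intro _ (Subgroup.relIndex_mul_relIndex T U A hTU hUA)
    have h2 : T.relIndex A = (P : Subgroup A).index := by
      rw [Subgroup.relIndex, Subgroup.subgroupOf, ← hP,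
        Subgroup.comap_map_eq_self_of_injective A.subtype_injective]
    exact P.not_dvd_index (h2 ▸ hd.trans h1)
  have hidx1 : ¬ p ∣ (T.subgroupOf U).index := hidx
  let P₁ : Sylow p U := (hTp.comap_of_injective U.subtype U.subtype_injective).toSylow hidx1
  have hP₁ : (P₁ : Subgroup U) = T.subgroupOf U := rfl
  have hc1 : Nat.card ((cj a₁ T).subgroupOf U) = Nat.card P₁ := by
    rw [hP₁, Nat.card_congr (Subgroup.subgroupOfEquivOfLe hT1).toEquiv,
      Nat.card_congr (Subgroup.subgroupOfEquivOfLe hTU).toEquiv]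
    exact Subgroup.card_map_of_injective (MulAut.conj a₁).injective
  let P₂ : Sylow p U := Sylow.ofCard ((cj a₁ T).subgroupOf U) (by rw [hc1]; exact P₁.card_eq_multiplicity)
  obtain ⟨u, hu⟩ := MulAction.exists_smul_eq U P₁ P₂
  have hu' : cj u.1 T = cj a₁ T := by
    have h := congrArg (fun Q : Sylow p U => (Q : Subgroup U).map U.subtype) hu
    rw [Sylow.coe_subgroup_smul] at h
    change (cj u (T.subgroupOf U)).map U.subtype = ((cj a₁ T).subgroupOf U).map U.subtype at h
    rwa [map_cj, Subgroup.map_subgroupOf_eq_of_le hT1, Subgroup.map_subgroupOf_eq_of_le hTU] at h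
  set a₂ := u.1⁻¹ * a₁ with ha₂
  have ha₂T : a₂ ∈ Subgroup.normalizer (T : Set G) := inv_mul_mem_normalizer hu'.symm
  have ha₂U : cj a₂ U = U := by
    rw [ha₂, ← cj_cj, ha₁U]
    exact cj_eq_self_iff.2 (Subgroup.le_normalizer (U.inv_mem u.2))
  set N := Subgroup.normalizer (T : Set G) with hNdef
  set M := K ⊓ N with hM
  have hSM : (S : Subgroup G) ≤ M := le_inf hSK (sylow_le_normalizer hS)
  have hTM : T ≤ M := le_inf hTK Subgroup.le_normalizer
  have hMN : M ≤ N := inf_le_right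
  -- Frattini
  have hKUM : K = U ⊔ M := by
    refine le_antisymm (fun k hk => ?_) (sup_le hUK inf_le_left)
    have hk1 : cj k T ≤ U := (cj_mono k hTU).trans (cj_eq_self_iff.2 (hUn hk)).le
    have hc2 : Nat.card ((cj k T).subgroupOf U) = Nat.card P₁ := by
      rw [hP₁, Nat.card_congr (Subgroup.subgroupOfEquivOfLe hk1).toEquiv,
        Nat.card_congr (Subgroup.subgroupOfEquivOfLe hTU).toEquiv]
      exact Subgroup.card_map_of_injective (MulAut.conj k).injective
    let P₃ : Sylow p U := Sylow.ofCard ((cj k T).subgroupOf U) (by rw [hc2]; exact P₁.card_eq_multiplicity)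
    obtain ⟨v, hv⟩ := MulAction.exists_smul_eq U P₁ P₃
    have hv' : cj v.1 T = cj k T := by
      have h := congrArg (fun Q : Sylow p U => (Q : Subgroup U).map U.subtype) hv
      rw [Sylow.coe_subgroup_smul] at h
      change (cj v (T.subgroupOf U)).map U.subtype = ((cj k T).subgroupOf U).map U.subtype at h
      rwa [map_cj, Subgroup.map_subgroupOf_eq_of_le hk1, Subgroup.map_subgroupOf_eq_of_le hTU] at h
    rw [show k = v.1 * (v.1⁻¹ * k) by group]
    exact Subgroup.mul_mem_sup v.2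
      ⟨K.mul_mem (K.inv_mem (hUK v.2)) hk, inv_mul_mem_normalizer hv'.symm⟩
  -- pronormality in `N/T`
  set q := QuotientGroup.mk' (T.subgroupOf N) with hq
  have hqs : Function.Surjective q := QuotientGroup.mk'_surjective _
  have hSy : ∃ Q : Sylow p (↥N ⧸ T.subgroupOf N), (Q : Subgroup _) ≤ (M.subgroupOf N).map q := by
    apply exists_sylow_le
    intro hd
    have h1 := hd.trans ((M.subgroupOf N).index_map_dvd hqs)
    exact not_dvd_index hSM (h1.trans (Dvd.intro _ (Subgroup.relIndex_mul_index hMN)))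
  obtain ⟨z', hz', hze'⟩ := hN _ hSy (q ⟨a₂, ha₂T⟩)
  change z' ∈ _ ⊔ cj (q ⟨a₂, ha₂T⟩) _ at hz'
  rw [← map_cj, ← Subgroup.map_sup] at hz'
  obtain ⟨z, hz, rfl⟩ := hz'
  change cj _ _ = cj _ _ at hze'
  rw [← map_cj, ← map_cj] at hze'
  have hker : ∀ w : N, T.subgroupOf N ≤ cj w (M.subgroupOf N) := fun w => by
    intro t ht
    rw [mem_cj]
    exact hTM (by
      have := (Subgroup.mem_normalizer_iff.1 (N.inv_mem w.2) t.1).1 ht
      simpa using this)
  have hze : cj (⟨a₂, ha₂T⟩ : N) (M.subgroupOf N) = cj z (M.subgroupOf N) := by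
    have h := congrArg (Subgroup.comap q) hze'
    rwa [Subgroup.comap_map_eq_self (by rw [QuotientGroup.ker_mk']; exact hker _),
      Subgroup.comap_map_eq_self (by rw [QuotientGroup.ker_mk']; exact hker _)] at h
  have hzM : cj a₂ M = cj z.1 M := by
    have h := congrArg (Subgroup.map N.subtype) hze
    rwa [map_cj, map_cj, Subgroup.map_subgroupOf_eq_of_le hMN] at h
  have hzJ : z.1 ∈ M ⊔ cj a₂ M := by
    have h := Subgroup.mem_map_of_mem N.subtype hz
    rwa [Subgroup.map_sup, map_cj, Subgroup.map_subgroupOf_eq_of_le hMN] at h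
  have hMU : M ≤ Subgroup.normalizer (U : Set G) := inf_le_left.trans hUn
  have hzU : cj z.1 U = U := cj_eq_self_iff.2
    ((sup_le hMU (cj_le_of_mem (cj_eq_self_iff.1 ha₂U) hMU)) hzJ)
  have hK2 : cj a₂ K = cj z.1 K := by
    rw [hKUM, show cj a₂ (U ⊔ M) = cj a₂ U ⊔ cj a₂ M from Subgroup.map_sup _ _ _,
      show cj z.1 (U ⊔ M) = cj z.1 U ⊔ cj z.1 M from Subgroup.map_sup _ _ _, ha₂U, hzU, hzM]
  set J := K ⊔ cj a K with hJ
  have huJ : u.1 ∈ J := Subgroup.mem_sup_left (hUK u.2)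
  have hzJ' : z.1 ∈ J := by
    have hle : M ⊔ cj a₂ M ≤ J := by
      refine sup_le (inf_le_left.trans le_sup_left) ?_
      refine (cj_mono a₂ inf_le_left).trans ?_
      have h : cj a₂ K = cj (u.1⁻¹ * y⁻¹) (cj a K) := by
        rw [cj_cj, ha₂, ha₁, mul_assoc]
      rw [h]
      exact cj_le_of_mem (J.mul_mem (J.inv_mem huJ) (J.inv_mem hyJ)) le_sup_right
    exact hle hzJ
  refine ⟨y * (u.1 * z.1), J.mul_mem hyJ (J.mul_mem huJ hzJ'), ?_⟩
  rw [← cj_cj y, ← cj_cj u.1, ← hK2, cj_cj, cj_cj]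
  congr 1
  rw [ha₂, ha₁]; group

/-- The converse direction. -/
theorem all_of (A : Subgroup G) [A.Normal]
    (hA : ∀ K : Subgroup ↥A, (∃ P : Sylow p ↥A, (P : Subgroup ↥A) ≤ K) → Cfsg.IsPronormal K)
    (hQ : ∀ K : Subgroup (G ⧸ A), (∃ P : Sylow p (G ⧸ A), (P : Subgroup (G ⧸ A)) ≤ K) → Cfsg.IsPronormal K)
    (T : Subgroup G) (hT : ∃ P : Sylow p ↥A, (P : Subgroup ↥A).map A.subtype = T)
    [(T.subgroupOf (Subgroup.normalizer (T : Set G))).Normal]
    (hN : ∀ K : Subgroup (↥(Subgroup.normalizer (T : Set G)) ⧸ T.subgroupOf (Subgroup.normalizer (T : Set G))),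
      (∃ P : Sylow p (↥(Subgroup.normalizer (T : Set G)) ⧸ T.subgroupOf (Subgroup.normalizer (T : Set G))),
        (P : Subgroup _) ≤ K) → Cfsg.IsPronormal K)
    (hM : ∀ K : Subgroup G, (∃ P : Sylow p G, (P : Subgroup G) ≤ K) →
      (Subgroup.normalizer (K : Set G)).map (QuotientGroup.mk' A) =
        Subgroup.normalizer ((K.map (QuotientGroup.mk' A) : Subgroup (G ⧸ A)) : Set (G ⧸ A)))
    (K₀ : Subgroup G) (hK₀ : ∃ P : Sylow p G, (P : Subgroup G) ≤ K₀) : Cfsg.IsPronormal K₀ := by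
  obtain ⟨P, hP⟩ := hT
  obtain ⟨S₀, hS₀⟩ := hK₀
  obtain ⟨S, hS⟩ := exists_sylow_inf A P
  rw [hP] at hS
  obtain ⟨c, hc⟩ := MulAction.exists_smul_eq G S₀ S
  have hc' : cj c (S₀ : Subgroup G) = S := by
    rw [← hc, Sylow.coe_subgroup_smul]; rfl
  apply pronormal_of_cj (c := c)
  have hSK : (S : Subgroup G) ≤ cj c K₀ := hc' ▸ cj_mono c hS₀
  generalize cj c K₀ = K at hSK
  intro g
  set f := QuotientGroup.mk' A with hf
  have hfs : Function.Surjective f := QuotientGroup.mk'_surjective A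
  have hSy : ∃ Q : Sylow p (G ⧸ A), (Q : Subgroup (G ⧸ A)) ≤ K.map f :=
    exists_sylow_le fun hd => not_dvd_index hSK (hd.trans (K.index_map_dvd hfs))
  obtain ⟨x', hx', hxe'⟩ := hQ _ hSy (f g)
  change x' ∈ _ ⊔ cj (f g) _ at hx'
  rw [← map_cj, ← Subgroup.map_sup] at hx'
  obtain ⟨x, hx, rfl⟩ := hx'
  have h1 : f (x⁻¹ * g) ∈ (Subgroup.normalizer (K : Set G)).map f := by
    rw [hM K ⟨S, hSK⟩, map_mul, map_inv]
    exact inv_mul_mem_normalizer hxe'
  obtain ⟨n, hn, hne⟩ := h1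
  have ha : x⁻¹ * g * n⁻¹ ∈ A := by
    rw [← QuotientGroup.ker_mk' A, MonoidHom.mem_ker, map_mul, map_inv f n, ← hne, mul_inv_cancel]
  set a := x⁻¹ * g * n⁻¹ with hadef
  have hgK : cj g K = cj x (cj a K) := by
    conv_rhs => rw [← cj_eq_self_iff.2 hn]
    rw [cj_cj, cj_cj, hadef]; congr 1; group
  obtain ⟨y, hy, hye⟩ := step_in_A A hA T P hP hN S hS K hSK a ha
  change ∃ x ∈ K ⊔ cj g K, cj g K = cj x K
  have hle : K ⊔ cj a K ≤ K ⊔ cj g K := by
    refine sup_le le_sup_left ?_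
    have : cj a K = cj x⁻¹ (cj g K) := by rw [hgK, cj_cj, inv_mul_cancel, cj_one]
    rw [this]
    exact cj_le_of_mem (Subgroup.inv_mem _ hx) le_sup_right
  refine ⟨x * y, Subgroup.mul_mem _ hx (hle hy), ?_⟩
  rw [hgK, hye, cj_cj]

theorem pronormal_of_sylow_self_normalizing
    (h : ∀ P : Sylow p G, Subgroup.normalizer ((P : Subgroup G) : Set G) = P)
    (K : Subgroup G) (hK : ∃ P : Sylow p G, (P : Subgroup G) ≤ K) :
    Cfsg.IsPronormal K ∧ Subgroup.normalizer (K : Set G) = K := by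
  obtain ⟨P, hP⟩ := hK
  have key : ∀ g : G, ∃ x ∈ K ⊔ cj g K, cj g K = cj x K := by
    intro g
    set J := K ⊔ cj g K with hJ
    have h2 : ((g • P : Sylow p G) : Subgroup G) ≤ J := by
      rw [Sylow.coe_subgroup_smul]
      exact (cj_mono g hP).trans le_sup_right
    obtain ⟨x, hx⟩ := MulAction.exists_smul_eq J (P.subtype (hP.trans le_sup_left)) ((g • P).subtype h2)
    rw [Sylow.smul_subtype] at hx
    have he : (x : G) • P = g • P := Sylow.subtype_injective hx
    refine ⟨x, x.2, ?_⟩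
    have hc : cj (x : G) (P : Subgroup G) = cj g P := by
      have := congrArg (fun Q : Sylow p G => (Q : Subgroup G)) he
      simp only [Sylow.coe_subgroup_smul] at this
      exact this
    have hn := inv_mul_mem_normalizer hc.symm
    rw [h P] at hn
    rw [show g = (x : G) * ((x : G)⁻¹ * g) by group, ← cj_cj,
      cj_eq_self_iff.2 (Subgroup.le_normalizer (hP hn))]
  refine ⟨key, le_antisymm (fun g hg => ?_) Subgroup.le_normalizer⟩
  set Q : Sylow p G := g • P with hQdef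
  have hQK : (Q : Subgroup G) ≤ K := by
    rw [hQdef, Sylow.coe_subgroup_smul]
    exact (cj_mono g hP).trans (cj_eq_self_iff.2 hg).le
  obtain ⟨x, hx⟩ := MulAction.exists_smul_eq K (P.subtype hP) (Q.subtype hQK)
  rw [Sylow.smul_subtype] at hx
  have he : (x : G) • P = g • P := Sylow.subtype_injective hx
  have hc : cj (x : G) (P : Subgroup G) = cj g P := by
    have := congrArg (fun Q : Sylow p G => (Q : Subgroup G)) he
    simp only [Sylow.coe_subgroup_smul] at this
    exact this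
  have hn := inv_mul_mem_normalizer hc.symm
  rw [h P] at hn
  rw [show g = (x : G) * ((x : G)⁻¹ * g) by group]
  exact K.mul_mem x.2 (hP hn)

end Cfsg.FgsC.Pronormal
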