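import Cfsg.Agent.Lib.FgsC.DisconnectedClassGraph
import Cfsg.Agent.Lib.FgsC.Pronormal
import Cfsg.Agent.Lib.FgsB.DirectFactor
import Cfsg.Agent.Lib.Coprime.Action2
import Cfsg.Agent.Lib.PGroups.Basic
import Cfsg.Agent.Lib.Transfer.NormalPComplement
import Cfsg.Agent.Lib.Base.Cores
import Cfsg.Agent.Lib.PLocal.Quadratic

/-!
The prime graph on the class sizes of `p`-singular elements.
-/

set_option autoImplicit false
set_option linter.unusedSectionVars false
set_option linter.style.haveILetI false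

namespace Cfsg.FgsC.SingularGraph

open CfsgLib.FgsC.PrimeClasses CfsgLib.FgsC.DiscGraph

variable {G : Type*} [Group G] [Finite G] {p : ℕ} [Fact p.Prime]

theorem cls_conj (g x : G) : cls (g * x * g⁻¹) = cls x := by
  ext z
  constructor
  · rintro ⟨h, rfl⟩; exact ⟨h * g, by group⟩
  · rintro ⟨h, rfl⟩; exact ⟨h * g⁻¹, by group⟩

theorem sz_conj (g x : G) : sz (g * x * g⁻¹) = sz x := by
  rw [← ncard_cls, cls_conj, ncard_cls]

theorem cent_le_of_mem_zpowers {w x : G} (h : w ∈ Subgroup.zpowers x) :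
    Subgroup.centralizer ({x} : Set G) ≤ Subgroup.centralizer ({w} : Set G) := by
  intro c hc
  obtain ⟨i, rfl⟩ := Subgroup.mem_zpowers_iff.1 h
  exact mem_cent.2 ((show Commute c x from mem_cent.1 hc).zpow_right i).eq

theorem stab_normal (x : G) : (stab x).Normal := by
  refine ⟨fun t ht g => mem_stab_of_maps fun z hz => ?_⟩
  obtain ⟨h, rfl⟩ := hz
  have h1 : g⁻¹ * h * x * (g⁻¹ * h)⁻¹ * t ∈ cls x := (ht _).2 ⟨g⁻¹ * h, rfl⟩
  obtain ⟨k, hk⟩ := h1
  refine ⟨g * k, ?_⟩
  calc g * k * x * (g * k)⁻¹ = g * (k * x * k⁻¹) * g⁻¹ := by group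
    _ = h * x * h⁻¹ * (g * t * g⁻¹) := by rw [hk]; group

/-- The larger of two coprime class sizes of elements of order `p`, not mixed, is divisible by `p`. -/
theorem false_of_big {u v : G} (hv : orderOf v = p) (hb1 : sz v ≠ 1) (hba : sz v < sz u)
    (hcop : (sz u).Coprime (sz v)) (hpa : ¬ p ∣ sz u)
    (hpure : sz (u * v) ∣ sz u ∨ sz (u * v) ∣ sz v) : False := by
  have hpp : p.Prime := Fact.out
  haveI := stab_normal u
  set K := stab u with hK
  have hKc : ∀ g : G, g * v * g⁻¹ * v⁻¹ ∈ K := fun g => mem_stab_of_maps fun z hz =>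
    cls_mul_coprime hba hb1 hcop rfl rfl hpure z hz _ ⟨g, rfl⟩
  have hpK : ¬ p ∣ Nat.card K := fun h => hpa (h.trans (card_stab_dvd u))
  set M := K ⊔ Subgroup.zpowers v with hM
  have hvp : v ^ p = 1 := hv ▸ pow_orderOf_eq_one v
  have hv1 : v ≠ 1 := fun h => by rw [h, orderOf_one] at hv; exact hpp.ne_one hv.symm
  have hcardM : Nat.card M ∣ p * Nat.card K := by
    rw [hM, sup_comm, ← hv, ← Nat.card_zpowers, ← CfsgLib.Base.card_sup_mul_card_inf]
    exact dvd_mul_right _ _
  have hS : ∀ w ∈ M, orderOf w = p → ¬ p ∣ ((Subgroup.zpowers w).subgroupOf M).index := by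
    intro w hw ho hd
    have e : Nat.card ((Subgroup.zpowers w).subgroupOf M) = p := by
      rw [Nat.card_congr (Subgroup.subgroupOfEquivOfLe (Subgroup.zpowers_le.2 hw)).toEquiv,
        Nat.card_zpowers, ho]
    have h := ((Subgroup.zpowers w).subgroupOf M).card_mul_index
    rw [e] at h
    rw [← h] at hcardM
    exact hpK (hd.trans (Nat.dvd_of_mul_dvd_mul_left hpp.pos hcardM))
  have hIP : ∀ w : G, orderOf w = p → IsPGroup p ((Subgroup.zpowers w).subgroupOf M) := fun w ho =>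
    (IsPGroup.of_card (p := p) (n := 1) (by rw [Nat.card_zpowers, ho, pow_one])).comap_of_injective
      M.subtype M.subtype_injective
  have hcls : cls v = {z | ∃ a ∈ K, a * v * a⁻¹ = z} := by
    refine Set.Subset.antisymm ?_ fun z ⟨a, _, e⟩ => ⟨a, e⟩
    rintro _ ⟨g, rfl⟩
    set w := g * v * g⁻¹ with hw
    have hwo : orderOf w = p := by
      rw [hw, ← hv]; exact orderOf_injective (MulAut.conj g).toMonoidHom (MulAut.conj g).injective v
    have hvM : v ∈ M := Subgroup.mem_sup_right (Subgroup.mem_zpowers v)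
    have hwM : w ∈ M := by
      rw [show w = g * v * g⁻¹ * v⁻¹ * v by rw [hw]; group]
      exact Subgroup.mul_mem_sup (hKc g) (Subgroup.mem_zpowers v)
    let S₁ : Sylow p M := (hIP v hv).toSylow (hS v hvM hv)
    let S₂ : Sylow p M := (hIP w hwo).toSylow (hS w hwM hwo)
    obtain ⟨m, hm⟩ := MulAction.exists_smul_eq M S₁ S₂
    have hmem : (⟨w, hwM⟩ : M) ∈ (S₂ : Subgroup M) := Subgroup.mem_zpowers w
    rw [← hm, Sylow.coe_subgroup_smul] at hmem
    obtain ⟨t, ht, hte⟩ := hmem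
    obtain ⟨i, hi⟩ := Subgroup.mem_zpowers_iff.1 (show (t : G) ∈ Subgroup.zpowers v from ht)
    obtain ⟨k, hk, n, hn, hkn⟩ := Subgroup.mem_sup_of_normal_left.1 m.2
    have hte' : (m : G) * (t : G) * (m : G)⁻¹ = w := congrArg Subtype.val hte
    have hwk : k * v ^ i * k⁻¹ = w := by
      rw [← hte', ← hi, ← hkn]
      obtain ⟨j, rfl⟩ := Subgroup.mem_zpowers_iff.1 hn
      group
    have hiv : v ^ i = v := by
      have h1 : QuotientGroup.mk' K w = QuotientGroup.mk' K v := by
        rw [show w = g * v * g⁻¹ * v⁻¹ * v by rw [hw]; group, map_mul,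
          show QuotientGroup.mk' K (g * v * g⁻¹ * v⁻¹) = 1 from (QuotientGroup.eq_one_iff _).2 (hKc g),
          one_mul]
      rw [← hwk, map_mul, map_mul, map_inv,
        show QuotientGroup.mk' K k = 1 from (QuotientGroup.eq_one_iff _).2 hk, one_mul, inv_one,
        mul_one] at h1
      have h2 : v * (v ^ i)⁻¹ ∈ K := by
        rw [← QuotientGroup.eq_one_iff, ← QuotientGroup.mk'_apply, map_mul, map_inv, h1, mul_inv_cancel]
      have h3 : orderOf (v * (v ^ i)⁻¹) ∣ p := by
        refine orderOf_dvd_of_pow_eq_one ?_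
        rw [← zpow_neg, ← zpow_one_add, ← zpow_natCast, ← zpow_mul, mul_comm, zpow_mul,
          zpow_natCast, hvp, one_zpow]
      rcases (Nat.dvd_prime hpp).1 h3 with h4 | h4
      · exact (mul_inv_eq_one.1 (orderOf_eq_one_iff.1 h4)).symm
      · exact absurd (h4 ▸ Subgroup.orderOf_dvd_natCard K h2) hpK
    exact ⟨k, hk, hiv ▸ hwk⟩
  have hdvd : sz v ∣ Nat.card K := by
    rw [← ncard_cls, hcls, ncard_conj_by]
    exact Subgroup.index_dvd_card _
  exact hb1 (Nat.eq_one_of_dvd_coprimes hcop.symm dvd_rfl (hdvd.trans (card_stab_dvd u)))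

/-- Two elements of order `p` with coprime class sizes, `P` a Sylow subgroup containing the one and
centralising the other: some `p`-singular class size meets both. -/
theorem false_of_pure {u v : G} (P : Sylow p G) (hu : u ∈ (P : Subgroup G))
    (hPv : (P : Subgroup G) ≤ Subgroup.centralizer ({v} : Set G))
    (huo : orderOf u = p) (hvo : orderOf v = p) (ha1 : sz u ≠ 1) (hb1 : sz v ≠ 1)
    (hcop : (sz u).Coprime (sz v))
    (hpure : ∀ x : G, p ∣ orderOf x → ∀ t s : ℕ, t.Prime → s.Prime → t ∣ sz u → s ∣ sz v →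
      t ∣ sz x → s ∣ sz x → False) : False := by
  have hpp : p.Prime := Fact.out
  set Cu := Subgroup.centralizer ({u} : Set G)
  set Cv := Subgroup.centralizer ({v} : Set G)
  have huv : Commute u v := mem_cent.1 (hPv hu)
  have hup : u ^ p = 1 := huo ▸ pow_orderOf_eq_one u
  have hvp : v ^ p = 1 := hvo ▸ pow_orderOf_eq_one v
  have hpb : ¬ p ∣ sz v := Cfsg.FgsC.Pronormal.not_dvd_index hPv
  have huv1 : u * v ≠ 1 := by
    intro h
    apply ha1
    rw [eq_inv_of_mul_eq_one_left h] at hcop ⊢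
    have e : sz v⁻¹ = sz v := by
      unfold sz
      congr 1
      ext c
      rw [mem_cent, mem_cent]
      exact Commute.inv_right_iff
    rw [e] at hcop ⊢
    exact (Nat.coprime_self _).1 hcop
  have huvo : orderOf (u * v) = p := orderOf_eq_prime (by rw [huv.mul_pow, hup, hvp, one_mul]) huv1
  have hD : sz (u * v) ∣ sz u * sz v := by
    have h1 : Cu ⊓ Cv ≤ Subgroup.centralizer ({u * v} : Set G) := fun c hc =>
      mem_cent.2 ((show Commute c u from mem_cent.1 hc.1).mul_right (mem_cent.1 hc.2)).eq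
    have h2 : (Cu ⊓ Cv).index = sz u * sz v := by
      refine le_antisymm Subgroup.index_inf_le
        (Nat.le_of_dvd (Nat.pos_of_ne_zero Subgroup.index_ne_zero_of_finite) ?_)
      exact hcop.mul_dvd_of_dvd_of_dvd (Subgroup.index_dvd_of_le inf_le_left)
        (Subgroup.index_dvd_of_le inf_le_right)
    exact h2 ▸ Subgroup.index_dvd_of_le h1
  have hpuv : sz (u * v) ∣ sz u ∨ sz (u * v) ∣ sz v := by
    by_cases h : (sz (u * v)).Coprime (sz v)
    · exact Or.inl (h.dvd_of_dvd_mul_right hD)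
    · refine Or.inr (Nat.Coprime.dvd_of_dvd_mul_left ?_ hD)
      obtain ⟨s, hs, hs1, hs2⟩ := Nat.Prime.not_coprime_iff_dvd.1 h
      exact Nat.coprime_of_dvd fun t ht ht1 ht2 =>
        hpure (u * v) huvo.symm.dvd t s ht hs ht2 hs2 ht1 hs1
  by_cases hpa : ¬ p ∣ sz u
  · rcases lt_trichotomy (sz v) (sz u) with h | h | h
    · exact false_of_big hvo hb1 h hcop hpa hpuv
    · exact hb1 (by rw [h] at hcop ⊢; exact (Nat.coprime_self _).1 hcop)
    · exact false_of_big huo ha1 h hcop.symm hpb (by rw [← huv.eq]; exact hpuv.symm)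
  rw [not_not] at hpa
  obtain ⟨sv, hsv, hsvd⟩ := Nat.exists_prime_and_dvd hb1
  set A := Cv ⊓ Subgroup.centralizer ((P : Subgroup G) : Set G) with hA
  -- every element of `C(v)` of order prime to `p` centralises a Sylow subgroup
  have hB : ∀ y ∈ Cv, (orderOf y).Coprime p →
      ∃ Q : Sylow p G, (Q : Subgroup G) ≤ Cv ⊓ Subgroup.centralizer ({y} : Set G) := by
    intro y hy hyc
    have hcom : Commute v y := (mem_cent.1 hy).symm
    have hord : orderOf (v * y) = p * orderOf y := by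
      rw [hcom.orderOf_mul_eq_mul_orderOf_of_coprime (by rw [hvo]; exact hyc.symm), hvo]
    have hle : Subgroup.centralizer ({v * y} : Set G) ≤ Cv ⊓ Subgroup.centralizer ({y} : Set G) := by
      have hv' : v ∈ Subgroup.zpowers (v * y) := by
        have h1 : v ^ orderOf y ∈ Subgroup.zpowers (v * y) := by
          rw [show v ^ orderOf y = (v * y) ^ orderOf y by rw [hcom.mul_pow, pow_orderOf_eq_one, mul_one]]
          exact pow_mem (Subgroup.mem_zpowers _) _
        exact (Subgroup.zpowers_le.2 h1) (CfsgLib.FgsB.mem_zpowers_pow_of_coprime (by rwa [hvo]))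
      refine le_inf (cent_le_of_mem_zpowers hv') (cent_le_of_mem_zpowers ?_)
      have := Subgroup.mul_mem _ (Subgroup.inv_mem _ hv') (Subgroup.mem_zpowers (v * y))
      rwa [inv_mul_cancel_left] at this
    obtain ⟨Q, hQ⟩ := Cfsg.FgsC.Pronormal.exists_sylow_le (p := p)
      (K := Subgroup.centralizer ({v * y} : Set G)) fun hd =>
        hpure (v * y) (hord ▸ dvd_mul_right p _) p sv hpp hsv hpa hsvd hd
          (hsvd.trans (Subgroup.index_dvd_of_le (hle.trans inf_le_left)))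
    exact ⟨Q, hQ.trans hle⟩
  have hA1 : A ≤ Cv := inf_le_left
  have hAPn : (P : Subgroup G) ≤ Subgroup.normalizer (A : Set G) := by
    intro q hq
    refine Subgroup.mem_normalizer_fintype fun a ha => ?_
    rw [Subgroup.mem_centralizer_iff.1 ha.2 q hq, mul_inv_cancel_right]
    exact ha
  have hCvle : Cv ≤ A ⊔ (P : Subgroup G) := by
    have h : (A ⊔ (P : Subgroup G)).subgroupOf Cv = ⊤ := by
      refine CfsgLib.FgsB.eq_top_of_forall_exists_conj_mem fun x => ?_
      obtain ⟨a, haz, b, hbz, hab, ⟨k, hka⟩, hbc⟩ := CfsgLib.Transfer.exists_pPart_mul (p := p) (x : G)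
      have haC : a ∈ Cv := (Subgroup.zpowers_le.2 x.2) haz
      have hbC : b ∈ Cv := (Subgroup.zpowers_le.2 x.2) hbz
      obtain ⟨Q, hQ⟩ := hB b hbC hbc
      set D := Cv ⊓ Subgroup.centralizer ({b} : Set G) with hD'
      have haD : a ∈ D := ⟨haC, mem_cent.2 (by
        obtain ⟨i, rfl⟩ := Subgroup.mem_zpowers_iff.1 haz
        obtain ⟨j, rfl⟩ := Subgroup.mem_zpowers_iff.1 hbz
        exact ((Commute.refl _).zpow_zpow i j).eq)⟩
      have haP : IsPGroup p (Subgroup.zpowers (⟨a, haD⟩ : D)) := by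
        refine IsPGroup.iff_card.2 ?_
        rw [Nat.card_zpowers, Subgroup.orderOf_mk]
        obtain ⟨i, _, hi⟩ := (Nat.dvd_prime_pow hpp).1 hka
        exact ⟨i, hi⟩
      obtain ⟨Q', hQ'⟩ := haP.exists_le_sylow
      obtain ⟨d, hd⟩ := MulAction.exists_smul_eq D (Q.subtype hQ) Q'
      have ha' : a ∈ (((d : G) • Q : Sylow p G) : Subgroup G) := by
        have h1 : (⟨a, haD⟩ : D) ∈ ((d • Q.subtype hQ : Sylow p D) : Subgroup D) :=
          hd ▸ hQ' (Subgroup.mem_zpowers _)
        rw [Sylow.smul_subtype] at h1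
        exact h1
      have hQd : (((d : G) • Q : Sylow p G) : Subgroup G) ≤ D := by
        rw [Sylow.coe_subgroup_smul]
        exact Cfsg.FgsC.Pronormal.cj_le_of_mem d.2 hQ
      obtain ⟨c, hc⟩ := MulAction.exists_smul_eq Cv (P.subtype hPv)
        (((d : G) • Q).subtype (hQd.trans inf_le_left))
      rw [Sylow.smul_subtype] at hc
      have hc' : Cfsg.FgsC.Pronormal.cj (c : G) (P : Subgroup G)
          = (((d : G) • Q : Sylow p G) : Subgroup G) := by
        rw [← Sylow.subtype_injective hc]; rfl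
      refine ⟨c, ?_⟩
      show (c : G)⁻¹ * (x : G) * c ∈ A ⊔ (P : Subgroup G)
      rw [← hab, show (c : G)⁻¹ * (a * b) * c = ((c : G)⁻¹ * a * c) * ((c : G)⁻¹ * b * c) by group]
      refine Subgroup.mul_mem _ (Subgroup.mem_sup_right ?_) (Subgroup.mem_sup_left ⟨?_, ?_⟩)
      · exact Cfsg.FgsC.Pronormal.mem_cj.1 (hc'.symm ▸ ha')
      · exact Cv.mul_mem (Cv.mul_mem (Cv.inv_mem c.2) hbC) c.2
      · refine Subgroup.mem_centralizer_iff.2 fun q hq => ?_
        have hq' : (c : G) * q * (c : G)⁻¹ ∈ D := hQd (hc' ▸ ⟨q, hq, rfl⟩)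
        have h2 := mem_cent.1 hq'.2
        calc q * ((c : G)⁻¹ * b * c) = (c : G)⁻¹ * ((c : G) * q * (c : G)⁻¹ * b) * c := by group
          _ = (c : G)⁻¹ * (b * ((c : G) * q * (c : G)⁻¹)) * c := by rw [h2]
          _ = _ := by group
    exact Subgroup.subgroupOf_eq_top.1 h
  have hfac : ∀ y ∈ (P : Subgroup G), (sz y).Coprime (sz v) → ∀ g : G,
      ∃ q ∈ (P : Subgroup G), ∃ c ∈ Subgroup.centralizer ({y} : Set G), q * c = g := by
    intro y hy hc g
    obtain ⟨c₁, hc₁, w, hw, e⟩ := exists_mul_of_coprime (H := Subgroup.centralizer ({y} : Set G))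
      (K := Cv) hc g⁻¹
    obtain ⟨a, ha, q, hq, rfl⟩ := (CfsgLib.Coprime.mem_sup_iff_of_le_normalizer hAPn).1
      (sup_comm (P : Subgroup G) A ▸ hCvle hw) |> fun ⟨q, hq, a, ha, e⟩ =>
        (⟨q * a * q⁻¹, (Subgroup.mem_normalizer_iff.1 (hAPn hq) a).1 ha, q, hq, by
          rw [inv_mul_cancel_right]; exact e⟩ : ∃ a ∈ A, ∃ q ∈ (P : Subgroup G), a * q = w)
    refine ⟨q⁻¹, (P : Subgroup G).inv_mem hq, (c₁ * a)⁻¹, Subgroup.inv_mem _ (Subgroup.mul_mem _ hc₁
      (mem_cent.2 (Subgroup.mem_centralizer_iff.1 ha.2 y hy).symm)), ?_⟩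
    rw [← inv_inv g, ← e]; group
  have hcore : ∀ y ∈ (P : Subgroup G), (sz y).Coprime (sz v) → y ∈ Cfsg.pCore p G := by
    intro y hy hc
    have hle : Subgroup.normalClosure ({y} : Set G) ≤ (P : Subgroup G) := by
      refine (Subgroup.closure_le _).2 fun z hz => ?_
      obtain ⟨w, hw, hcj⟩ := Group.mem_conjugatesOfSet_iff.1 hz
      rw [Set.mem_singleton_iff] at hw
      subst hw
      obtain ⟨g, rfl⟩ := isConj_iff.1 hcj
      obtain ⟨q, hq, c, hc', rfl⟩ := hfac _ hy hc g
      rw [show q * c * w * (q * c)⁻¹ = q * (c * w) * c⁻¹ * q⁻¹ by group, mem_cent.1 hc',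
        show q * (w * c) * c⁻¹ * q⁻¹ = q * w * q⁻¹ by group]
      exact (P : Subgroup G).mul_mem ((P : Subgroup G).mul_mem hq hy) ((P : Subgroup G).inv_mem hq)
    exact CfsgLib.Base.le_pCore (P.isPGroup'.to_le hle) (Subgroup.subset_normalClosure rfl)
  set R := Cfsg.pCore p G with hR
  have hRP : R ≤ (P : Subgroup G) := CfsgLib.Base.pCore_le_sylow P
  obtain ⟨kP, hkP⟩ : ∃ k, A.relIndex Cv ∣ p ^ k := by
    obtain ⟨k, hk⟩ := IsPGroup.iff_card.1 P.isPGroup'
    refine ⟨k, hk ▸ ?_⟩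
    have e : Cv = A ⊔ (P : Subgroup G) := le_antisymm hCvle (sup_le hA1 hPv)
    rw [e, sup_comm]
    have h1 := CfsgLib.PLocal.card_sup_mul_card_inf (P : Subgroup G) A hAPn
    have h2 : A.relIndex ((P : Subgroup G) ⊔ A) * Nat.card A = Nat.card ↥((P : Subgroup G) ⊔ A) := by
      rw [mul_comm, Subgroup.relIndex, ← Nat.card_congr (Subgroup.subgroupOfEquivOfLe
        (le_sup_right : A ≤ (P : Subgroup G) ⊔ A)).toEquiv]
      exact Subgroup.card_mul_index _
    rw [← h2] at h1
    refine Dvd.intro (Nat.card ↥((P : Subgroup G) ⊓ A)) (Nat.eq_of_mul_eq_mul_right (Nat.card_pos (α := A)) ?_)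
    linarith [h1]
  have hszy : ∀ y ∈ (P : Subgroup G), p ∣ sz y → (sz y).Coprime (sz v) := by
    intro y hy hpy
    refine Nat.coprime_of_dvd fun s hs hs1 hs2 => ?_
    have hy1 : y ≠ 1 := by
      rintro rfl
      rw [(sz_eq_one_iff (1 : G)).2 (one_mem _)] at hpy
      exact hpp.not_dvd_one hpy
    obtain ⟨n, hn⟩ := CfsgLib.FgsB.exists_orderOf_eq_pow_of_mem P.isPGroup' hy
    have hn0 : n ≠ 0 := fun h => hy1 (orderOf_eq_one_iff.1 (by rw [hn, h, pow_zero]))
    exact hpure y (hn ▸ dvd_pow_self p hn0) p s hpp hs hpa hs2 hpy hs1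
  have hsub : ∀ y ∈ (P : Subgroup G), p ∣ sz y → y ∈ R := fun y hy h => hcore y hy (hszy y hy h)
  have huR : u ∈ R := hcore u hu hcop
  have hPR : (P : Subgroup G) = R := by
    by_contra hne
    obtain ⟨y₀, hy₀, hy₀R⟩ := SetLike.not_le_iff_exists.1 fun h => hne (le_antisymm h hRP)
    have hout : ∀ y ∈ (P : Subgroup G), y ∉ R → ∀ r ∈ R, Commute r y := by
      intro y hy hyR r hr
      obtain ⟨Q, hQ⟩ := Cfsg.FgsC.Pronormal.exists_sylow_le (p := p)
        (K := Subgroup.centralizer ({y} : Set G)) fun hd => hyR (hsub y hy hd)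
      exact mem_cent.1 (hQ (CfsgLib.Base.pCore_le_sylow Q hr))
    apply ha1
    have hcom : ∀ q ∈ (P : Subgroup G), Commute u q := by
      intro q hq
      by_cases hqR : q ∈ R
      · have h1 := hout y₀ hy₀ hy₀R u huR
        have h2 := hout (y₀ * q) ((P : Subgroup G).mul_mem hy₀ hq)
          (fun h => hy₀R (by simpa using R.mul_mem h (R.inv_mem hqR))) u huR
        have h3 := h1.inv_right.mul_right h2
        rwa [inv_mul_cancel_left] at h3
      · exact hout q hq hqR u huR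
    rw [sz_eq_one_iff, Subgroup.mem_center_iff]
    intro g
    obtain ⟨q, hq, c, hc, rfl⟩ := hfac u hu hcop g
    exact ((hcom q hq).symm.mul_left (mem_cent.1 hc)).eq
  haveI hPn : (P : Subgroup G).Normal := hPR ▸ inferInstance
  haveI := Sylow.unique_of_normal P hPn
  have hpower : ∀ h : G, (orderOf h).Coprime p →
      h ∈ Subgroup.centralizer ((P : Subgroup G) : Set G) := by
    intro h hh
    have hnorm : Subgroup.zpowers h ≤ Subgroup.normalizer ((P : Subgroup G) : Set G) :=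
      (le_top (a := Subgroup.zpowers h)).trans_eq (Subgroup.normalizer_eq_top (P : Subgroup G)).symm
    refine Subgroup.zpowers_le.1 (CfsgLib.Coprime.le_centralizer_of_trivial_mod_frattini hnorm ?_ ?_)
    · obtain ⟨n, hn⟩ := IsPGroup.iff_card.1 (P.isPGroup'.to_subgroup (frattini (P : Subgroup G)))
      rw [hn, Nat.card_zpowers]; exact hh.pow_right n
    set F := (frattini (P : Subgroup G)).map (P : Subgroup G).subtype with hF
    have hcomm : ∀ a ∈ (P : Subgroup G), ∀ b ∈ (P : Subgroup G), a * b * a⁻¹ * b⁻¹ ∈ F :=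
      fun a ha b hb => ⟨⟨a, ha⟩ * ⟨b, hb⟩ * ⟨a, ha⟩⁻¹ * ⟨b, hb⟩⁻¹,
        CfsgLib.PGroups.commutator_le_frattini P.isPGroup'
          (Subgroup.commutator_mem_commutator (Subgroup.mem_top _) (Subgroup.mem_top _)), rfl⟩
    haveI hFn : F.Normal := CfsgLib.Base.normal_map_subtype _
    -- the `y` with `[h, y] ∈ F`
    have step : ∀ a ∈ (P : Subgroup G), ∀ g : G, (∀ y ∈ (P : Subgroup G), p ∣ sz y →
        g * y * g⁻¹ * y⁻¹ ∈ F) → g * a * g⁻¹ * a⁻¹ ∈ F := by
      intro y hy g hgy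
      by_cases hpy : p ∣ sz y
      · exact hgy y hy hpy
      have hyu : y * u ∈ (P : Subgroup G) := (P : Subgroup G).mul_mem hy hu
      have hpu : p ∣ sz (y * u) := by
        by_contra hd
        obtain ⟨Q, hQ⟩ := Cfsg.FgsC.Pronormal.exists_sylow_le (p := p) (K := Subgroup.centralizer {y}) hpy
        obtain ⟨Q', hQ'⟩ := Cfsg.FgsC.Pronormal.exists_sylow_le (p := p)
          (K := Subgroup.centralizer ({y * u} : Set G)) hd
        rw [Subsingleton.elim Q P] at hQ
        rw [Subsingleton.elim Q' P] at hQ'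
        have hPu : (P : Subgroup G) ≤ Cu := fun q hq => by
          have h1 := (show Commute q y from mem_cent.1 (hQ hq)).inv_right.mul_right (mem_cent.1 (hQ' hq))
          rw [inv_mul_cancel_left] at h1
          exact mem_cent.2 h1.eq
        exact Cfsg.FgsC.Pronormal.not_dvd_index hPu hpa
      have h1 := hgy _ hyu hpu
      have h2 := hgy u hu hpa
      rw [← QuotientGroup.eq_one_iff, ← QuotientGroup.mk'_apply] at h1 h2 ⊢
      simp only [map_mul, map_inv] at h1 h2 ⊢
      set G' := QuotientGroup.mk' F g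
      set Y := QuotientGroup.mk' F y
      set U := QuotientGroup.mk' F u
      have h2' : G' * U * G'⁻¹ = U := mul_inv_eq_one.1 h2
      have h1' : G' * (Y * U) * G'⁻¹ = Y * U := mul_inv_eq_one.1 h1
      rw [mul_inv_eq_one]
      calc G' * Y * G'⁻¹ = (G' * (Y * U) * G'⁻¹) * (G' * U * G'⁻¹)⁻¹ := by group
        _ = Y := by rw [h1', h2', mul_inv_cancel_right]
    intro g hg k hk
    refine step k hk g fun y hy hpy => ?_
    obtain ⟨q, hq, c, hc, rfl⟩ := hfac y hy (hszy y hy hpy) g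
    rw [show q * c * y * (q * c)⁻¹ = q * (c * y) * c⁻¹ * q⁻¹ by group, mem_cent.1 hc,
      show q * (y * c) * c⁻¹ * q⁻¹ = q * y * q⁻¹ by group]
    exact hcomm q hq y hy
  apply hb1
  rw [sz_eq_one_iff]
  have htop : Cv = ⊤ := by
    apply CfsgLib.FgsB.eq_top_of_forall_primePow_mem
    rintro x ⟨r, k, hr, hx⟩
    by_cases hrp : r = p
    · subst hrp
      obtain ⟨Q, hQ⟩ := (IsPGroup.of_card (p := r) (n := k) (G := Subgroup.zpowers x)
        (by rw [Nat.card_zpowers, hx])).exists_le_sylow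
      rw [Subsingleton.elim Q P] at hQ
      exact hPv (hQ (Subgroup.mem_zpowers x))
    · have hvP : v ∈ (P : Subgroup G) := by
        obtain ⟨Q, hQ⟩ := (IsPGroup.of_card (p := p) (n := 1) (G := Subgroup.zpowers v)
          (by rw [Nat.card_zpowers, hvo, pow_one])).exists_le_sylow
        rw [Subsingleton.elim Q P] at hQ
        exact hQ (Subgroup.mem_zpowers v)
      refine mem_cent.2 (Subgroup.mem_centralizer_iff.1 (hpower x ?_) v hvP).symm
      rw [hx]; exact ((Nat.coprime_primes hr hpp).2 hrp).pow_left k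
  exact Subgroup.mem_center_iff.2 fun g => (mem_cent.1 (htop ▸ Subgroup.mem_top g : g ∈ Cv))

/-- Class sizes of two elements of order `p` are linked by a `p`-singular class. -/
theorem linked (hZ : ¬ p ∣ Nat.card (Subgroup.center G)) {w₁ w₂ : G} (h1 : orderOf w₁ = p)
    (h2 : orderOf w₂ = p) : ∃ x : G, p ∣ orderOf x ∧ ∃ t u : ℕ, t.Prime ∧ u.Prime ∧
      t ∣ sz w₁ ∧ u ∣ sz w₂ ∧ t ∣ sz x ∧ u ∣ sz x := by
  have hne : ∀ w : G, orderOf w = p → sz w ≠ 1 := fun w hw h =>
    hZ (hw ▸ Subgroup.orderOf_dvd_natCard _ ((sz_eq_one_iff w).1 h))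
  by_contra hcon
  push Not at hcon
  by_cases hcop : (sz w₁).Coprime (sz w₂)
  · -- arrange `p ∤ sz w₂`
    have main : ∀ a b : G, orderOf a = p → orderOf b = p → (sz a).Coprime (sz b) → ¬ p ∣ sz b →
        (∀ x : G, p ∣ orderOf x → ∀ t s : ℕ, t.Prime → s.Prime → t ∣ sz a → s ∣ sz b →
          t ∣ sz x → s ∣ sz x → False) → False := by
      intro a b ha hb hc hpb hpure
      obtain ⟨Q, hQ⟩ := Cfsg.FgsC.Pronormal.exists_sylow_le (p := p)
        (K := Subgroup.centralizer ({b} : Set G)) hpb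
      obtain ⟨P, hP⟩ := (IsPGroup.of_card (p := p) (n := 1) (G := Subgroup.zpowers a)
        (by rw [Nat.card_zpowers, ha, pow_one])).exists_le_sylow
      obtain ⟨g, hg⟩ := MulAction.exists_smul_eq G Q P
      refine false_of_pure (v := g * b * g⁻¹) P (hP (Subgroup.mem_zpowers a)) ?_ ha
        ((orderOf_injective (MulAut.conj g).toMonoidHom (MulAut.conj g).injective b).trans hb)
        (hne a ha) (by rw [sz_conj]; exact hne b hb) (by rwa [sz_conj]) (by rwa [sz_conj])
      rw [← hg, Sylow.coe_subgroup_smul]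
      rintro _ ⟨q, hq, rfl⟩
      refine mem_cent.2 ?_
      show g * q * g⁻¹ * (g * b * g⁻¹) = g * b * g⁻¹ * (g * q * g⁻¹)
      calc g * q * g⁻¹ * (g * b * g⁻¹) = g * (q * b) * g⁻¹ := by group
        _ = g * (b * q) * g⁻¹ := by rw [mem_cent.1 (hQ hq)]
        _ = _ := by group
    by_cases hp2 : p ∣ sz w₂
    · exact main w₂ w₁ h2 h1 hcop.symm
        (fun h => (Fact.out : p.Prime).ne_one (Nat.eq_one_of_dvd_coprimes hcop h hp2))
        (fun x hx t s ht hs hta hsb htx hsx => hcon x hx s t hs ht hsb hta hsx htx)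
    · exact main w₁ w₂ h1 h2 hcop hp2
        (fun x hx t s ht hs hta hsb htx hsx => hcon x hx t s ht hs hta hsb htx hsx)
  · obtain ⟨t, ht, ht1, ht2⟩ := Nat.Prime.not_coprime_iff_dvd.1 hcop
    exact hcon w₁ (h1.symm.dvd) t t ht ht ht1 ht2 ht1 ht1

theorem exists_order_p {x : G} (hx : p ∣ orderOf x) :
    ∃ w : G, orderOf w = p ∧ sz w ∣ sz x :=
  ⟨x ^ (orderOf x / p), orderOf_pow_orderOf_div (orderOf_pos x).ne' hx,
    Subgroup.index_dvd_of_le (cent_le_of_mem_zpowers (pow_mem (Subgroup.mem_zpowers x) _))⟩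

end Cfsg.FgsC.SingularGraph
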