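import Cfsg.Agent.Lib.FgsC.DisconnectedClassGraph
import Cfsg.Agent.Lib.FgsC.SingularClassGraph

/-!
Two primes at distance more than three force every vertex into the primes of two class sizes.
-/

set_option autoImplicit false
set_option linter.unusedSectionVars false
set_option linter.style.haveILetI false

namespace Cfsg.FgsC.GraphDiameter

open CfsgLib.FgsC.PrimeClasses CfsgLib.FgsC.DiscGraph

variable {G : Type*} [Group G] [Finite G]

/-- `b` has the largest class among those whose size is divisible by `p` or `q`, and `p` divides it;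
no class size meets both a size divisible by `p` and a size divisible by `q`. -/
theorem vertices (p q : ℕ) (hp : p.Prime) (hq : q.Prime) (b y₀ : G) (hb : p ∣ sz b)
    (hy₀ : q ∣ sz y₀) (hmax : ∀ y : G, q ∣ sz y → sz y ≤ sz b)
    (hsep : ∀ x y w : G, p ∣ sz x → q ∣ sz y → ∀ t u : ℕ, t.Prime → u.Prime →
      t ∣ sz x → u ∣ sz y → t ∣ sz w → u ∣ sz w → False) :
    ∀ r : ℕ, r.Prime → ∀ g : G, r ∣ sz g → r ∣ sz b ∨ r ∣ sz y₀ := by
  classical
  set Z := Subgroup.center G with hZdef
  have hcop : ∀ {y : G}, q ∣ sz y → (sz b).Coprime (sz y) := fun {y} hy =>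
    Nat.coprime_of_dvd fun t ht h1 h2 => hsep b y b hb hy t t ht ht h1 h2 h1 h1
  have hne1 : ∀ {y : G}, q ∣ sz y → sz y ≠ 1 := fun {y} hy e => hq.not_dvd_one (e ▸ hy)
  have hlt : ∀ {y : G}, q ∣ sz y → sz y < sz b := fun {y} hy => lt_of_le_of_ne (hmax y hy) fun e =>
    hne1 hy ((Nat.coprime_self _).1 (by have h := hcop hy; rwa [← e] at h))
  set K := stab b with hK
  haveI hKn : K.Normal := Cfsg.FgsC.SingularGraph.stab_normal b
  have hKb : Nat.card K ∣ sz b := card_stab_dvd b
  have hKmem : ∀ {y : G}, q ∣ sz y → ∀ g, g * y * g⁻¹ * y⁻¹ ∈ K := by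
    intro y hy g
    refine mem_stab_of_maps fun z hz => cls_mul_coprime (hlt hy) (hne1 hy) (hcop hy) rfl rfl ?_
      z hz _ ⟨g, rfl⟩
    have hd : sz (b * y) ∣ sz b * sz y := by
      have hidx : (Subgroup.centralizer ({b} : Set G) ⊓ Subgroup.centralizer ({y} : Set G)).index =
          sz b * sz y := le_antisymm Subgroup.index_inf_le
        (Nat.le_of_dvd (Nat.pos_of_ne_zero Subgroup.index_ne_zero_of_finite)
          ((hcop hy).mul_dvd_of_dvd_of_dvd (Subgroup.index_dvd_of_le inf_le_left)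
            (Subgroup.index_dvd_of_le inf_le_right)))
      rw [← hidx]
      refine Subgroup.index_dvd_of_le fun u hu => mem_cent.2 ?_
      rw [← mul_assoc, mem_cent.1 hu.1, mul_assoc, mem_cent.1 hu.2, ← mul_assoc]
    by_cases h : (sz (b * y)).Coprime (sz y)
    · exact Or.inl (h.dvd_of_dvd_mul_right hd)
    · refine Or.inr (Nat.Coprime.dvd_of_dvd_mul_left ?_ hd)
      obtain ⟨s, hs, hs1, hs2⟩ := Nat.Prime.not_coprime_iff_dvd.1 h
      exact Nat.coprime_of_dvd fun t ht ht1 ht2 =>
        hsep b y (b * y) hb hy t s ht hs ht2 hs2 ht1 hs1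
  have hKC : ∀ {y : G}, q ∣ sz y → ∀ k ∈ K, k * y = y * k := by
    intro y hy k hk
    set C := Subgroup.centralizer ({y} : Set G)
    have hdvd : C.relIndex K ∣ Nat.card K := Subgroup.index_dvd_card _
    have hd2 : C.relIndex K ∣ C.index := by
      have h1 := Subgroup.relIndex_sup_right C K
      have h2 : C.relIndex (C ⊔ K) * (C ⊔ K).index = C.index :=
        Subgroup.relIndex_mul_index le_sup_left
      have h3 : C.relIndex (C ⊔ K) = C.relIndex K := by
        have a1 := Subgroup.relIndex_mul_relIndex (C ⊓ K) C (C ⊔ K) inf_le_left le_sup_left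
        have a2 := Subgroup.relIndex_mul_relIndex (C ⊓ K) K (C ⊔ K) inf_le_right le_sup_right
        rw [Subgroup.inf_relIndex_left] at a1
        rw [Subgroup.inf_relIndex_right, h1, ← a1, mul_comm (K.relIndex C)] at a2
        exact (Nat.eq_of_mul_eq_mul_right (Nat.pos_of_ne_zero (relIndex_ne_zero' _ _))
          a2).symm
      rw [← h3]
      exact Dvd.intro _ h2
    exact mem_cent.1 ((Subgroup.relIndex_eq_one.1
      (Nat.eq_one_of_dvd_coprimes ((hcop hy).coprime_dvd_left hKb) hdvd hd2)) hk)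
  set A := (Subgroup.center K).map K.subtype with hAdef
  have hsz : ∀ g y : G, sz (g * y * g⁻¹) = sz y := Cfsg.FgsC.SingularGraph.sz_conj
  have hAmem : ∀ {y : G}, q ∣ sz y → ∀ g, g * y * g⁻¹ * y⁻¹ ∈ A := fun {y} hy g => by
    refine ⟨⟨_, hKmem hy g⟩, Subgroup.mem_center_iff.2 fun k => Subtype.ext ?_, rfl⟩
    show (k : G) * (g * y * g⁻¹ * y⁻¹) = g * y * g⁻¹ * y⁻¹ * k
    have e1 : (k : G) * y⁻¹ = y⁻¹ * k := ((show Commute (k : G) y from hKC hy k k.2).inv_right).eq
    calc (k : G) * (g * y * g⁻¹ * y⁻¹) = ((k : G) * (g * y * g⁻¹)) * y⁻¹ := by group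
      _ = g * y * g⁻¹ * ((k : G) * y⁻¹) := by
        rw [hKC (show q ∣ sz (g * y * g⁻¹) by rwa [hsz]) k k.2]; group
      _ = _ := by rw [e1]; group
  have hAc : ∀ a ∈ A, ∀ b ∈ A, a * b = b * a := by
    rintro _ ⟨a, ha, rfl⟩ _ ⟨b, hb, rfl⟩
    exact congrArg Subtype.val (Subgroup.mem_center_iff.1 hb a)
  haveI hAn : A.Normal := CfsgLib.Base.normal_map_subtype _
  have hAb : Nat.card A ∣ sz b :=
    (Subgroup.card_dvd_of_le (Subgroup.map_subtype_le _)).trans hKb
  have havg : ∀ {y : G}, q ∣ sz y → ∃ z ∈ Z, ∃ a ∈ A, y = a * z := by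
    intro y hy
    letI : CommGroup A :=
      { (inferInstance : Group A) with mul_comm := fun a b => Subtype.ext (hAc a a.2 b b.2) }
    haveI : Fintype (cls y) := Fintype.ofFinite _
    let f : cls y → A := fun w => ⟨(w : G) * y⁻¹, by
      obtain ⟨g, hg⟩ := w.2
      rw [← hg]
      exact hAmem hy g⟩
    set P : A := ∏ w, f w with hP
    let cA : G → A →* A := fun g =>
      { toFun := fun a => ⟨g * a * g⁻¹, hAn.conj_mem a a.2 g⟩
        map_one' := Subtype.ext (by simp)
        map_mul' := fun a b => Subtype.ext (by simp [mul_assoc]) }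
    have hcard : Fintype.card (cls y) = sz y := by
      rw [← Nat.card_eq_fintype_card, Nat.card_coe_set_eq, ncard_cls]
    have hconj : ∀ g : G, cA g P * (⟨_, hAmem hy g⟩ : A) ^ sz y = P := by
      intro g
      let e : cls y ≃ cls y :=
        { toFun := fun w => ⟨g * w * g⁻¹, by
            obtain ⟨h, hh⟩ := w.2; exact ⟨g * h, by rw [← hh]; group⟩⟩
          invFun := fun w => ⟨g⁻¹ * w * g, by
            obtain ⟨h, hh⟩ := w.2; exact ⟨g⁻¹ * h, by rw [← hh]; group⟩⟩
          left_inv := fun w => Subtype.ext (by simp [mul_assoc])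
          right_inv := fun w => Subtype.ext (by simp [mul_assoc]) }
      rw [hP, map_prod, ← hcard, ← Finset.card_univ, ← Finset.prod_const, ← Finset.prod_mul_distrib]
      refine (Finset.prod_congr rfl fun w _ => Subtype.ext ?_).trans (e.prod_comp f)
      show g * ((w : G) * y⁻¹) * g⁻¹ * (g * y * g⁻¹ * y⁻¹) = g * (w : G) * g⁻¹ * y⁻¹
      group
    have hcopA : (sz y).Coprime (Nat.card A) := ((hcop hy).coprime_dvd_left hAb).symm
    set c : A := (powCoprime hcopA.symm).symm P with hcdef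
    have hcn : c ^ sz y = P := (powCoprime hcopA.symm).apply_symm_apply P
    refine ⟨(c : G) * y, ?_, (c : G)⁻¹, A.inv_mem c.2, by group⟩
    rw [hZdef, Subgroup.mem_center_iff]
    intro g
    have hc : cA g c * ⟨_, hAmem hy g⟩ = c := by
      refine (powCoprime hcopA.symm).injective ?_
      show ((cA g c) * ⟨_, hAmem hy g⟩) ^ sz y = c ^ sz y
      rw [mul_pow, ← map_pow, hcn]
      exact hconj g
    have h3 : g * (c : G) * g⁻¹ * (g * y * g⁻¹ * y⁻¹) = (c : G) := congrArg Subtype.val hc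
    calc g * ((c : G) * y) = g * (c : G) * g⁻¹ * (g * y * g⁻¹ * y⁻¹) * y * g := by group
      _ = (c : G) * y * g := by rw [h3]
  set W := A ⊔ Z with hW
  have hmemW : ∀ {y : G}, q ∣ sz y → y ∈ W := fun {y} hy => by
    obtain ⟨z, hz, a, ha, rfl⟩ := havg hy
    exact Subgroup.mul_mem_sup ha hz
  obtain ⟨z₀, hz₀, a, ha, hay⟩ := havg hy₀
  have hsa : sz a = sz y₀ := by
    unfold sz
    congr 1
    ext c
    have hzc : Commute c z₀ := Subgroup.mem_center_iff.1 hz₀ c
    rw [mem_cent, mem_cent, hay]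
    constructor
    · intro h; exact (Commute.mul_right (show Commute c a from h) hzc).eq
    · intro h
      have h' := (show Commute c (a * z₀) from h).mul_right hzc.inv_right
      rw [mul_inv_cancel_right] at h'
      exact h'.eq
  intro r hr g hrg
  by_cases hrb : r ∣ sz b
  · exact Or.inl hrb
  right
  haveI := Fact.mk hr
  have hrA : ¬ r ∣ Nat.card A := fun h => hrb (h.trans hAb)
  have hZW : Z.relIndex W * W.index = Z.index := Subgroup.relIndex_mul_index le_sup_right
  have hrW : r ∣ W.index := by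
    have h1 : r ∣ Z.index := hrg.trans (Subgroup.index_dvd_of_le (Subgroup.center_le_centralizer _))
    rw [← hZW, hW, Subgroup.relIndex_sup_right] at h1
    exact (hr.dvd_mul.1 h1).resolve_left fun h => hrA (h.trans (Subgroup.index_dvd_card _))
  set C := Subgroup.centralizer ({a} : Set G) with hC
  have hWC : W ≤ C := sup_le (fun c hc => mem_cent.2 (hAc c hc a ha)) (Subgroup.center_le_centralizer _)
  rw [← hsa]
  have h2 := hrW
  rw [← Subgroup.relIndex_mul_index hWC] at h2
  refine (hr.dvd_mul.1 h2).resolve_left fun h => ?_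
  -- an `r`-element of `C(a)` outside `A Z`
  obtain ⟨Q⟩ : Nonempty (Sylow r C) := inferInstance
  obtain ⟨⟨u, huC⟩, huQ, huW⟩ := SetLike.not_le_iff_exists.1 fun hle : (Q : Subgroup C) ≤ W.subgroupOf C =>
    Q.not_dvd_index (h.trans (Subgroup.index_dvd_of_le hle))
  apply huW
  show u ∈ W
  obtain ⟨k, hk⟩ := IsPGroup.iff_orderOf.1 Q.isPGroup' ⟨_, huQ⟩
  rw [Subgroup.orderOf_mk, Subgroup.orderOf_mk] at hk
  have hao : (orderOf u).Coprime (orderOf a) := by
    rw [hk]
    refine ((hr.coprime_iff_not_dvd.2 fun h' => ?_)).pow_left k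
    exact hrA (h'.trans (Subgroup.orderOf_dvd_natCard _ ha))
  have hcom : Commute u a := mem_cent.1 huC
  have hau : a ∈ Subgroup.zpowers (u * a) := by
    have h1 : a ^ orderOf u ∈ Subgroup.zpowers (u * a) := by
      rw [show a ^ orderOf u = (u * a) ^ orderOf u by rw [hcom.mul_pow, pow_orderOf_eq_one, one_mul]]
      exact pow_mem (Subgroup.mem_zpowers _) _
    exact (Subgroup.zpowers_le.2 h1) (CfsgLib.FgsB.mem_zpowers_pow_of_coprime hao)
  have hq' : q ∣ sz (u * a) := (hsa.symm ▸ hy₀ : q ∣ sz a).trans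
    (Subgroup.index_dvd_of_le (Cfsg.FgsC.SingularGraph.cent_le_of_mem_zpowers hau))
  have := W.mul_mem (hmemW hq') (W.inv_mem (Subgroup.mem_sup_left ha))
  rwa [mul_inv_cancel_right] at this

end Cfsg.FgsC.GraphDiameter
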