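import Mathlib

/-!
# The commutant of a nilpotent endomorphism, and of a semiregularly permuted basis

For a nilpotent endomorphism `n` with `n ^ s = 0` of an `N`-dimensional space the commutant has
dimension `∑ i, d i ^ 2` for a partition `N = ∑ i, d i` into `s` parts, so at least `N ^ 2 / s`.
This avoids the Jordan normal form.
-/

set_option autoImplicit false

open Module

universe u v

namespace CfsgLib.FgsC.Commutant

variable {K : Type v} [Field K]

section nilpotent

variable {V : Type u} [AddCommGroup V] [Module K V]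

/-- The linear maps commuting with `n`. -/
def commutant (n : End K V) : Submodule K (End K V) where
  carrier := {φ | φ * n = n * φ}
  add_mem' := fun {a b} ha hb => by
    show (a + b) * n = n * (a + b)
    rw [add_mul, mul_add, show a * n = n * a from ha, show b * n = n * b from hb]
  zero_mem' := by
    show (0 : End K V) * n = n * 0
    rw [zero_mul, mul_zero]
  smul_mem' := fun c a ha => by
    show (c • a) * n = n * (c • a)
    rw [smul_mul_assoc, mul_smul_comm, show a * n = n * a from ha]

theorem mem_commutant {n φ : End K V} : φ ∈ commutant n ↔ φ * n = n * φ := Iff.rfl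

theorem apply_mem_commutant {n φ : End K V} (h : φ ∈ commutant n) (v : V) : φ (n v) = n (φ v) :=
  LinearMap.congr_fun (mem_commutant.mp h) v

/-- The endomorphism induced on the image. -/
def onRange (n : End K V) : End K (LinearMap.range n) :=
  n.restrict fun _ _ => LinearMap.mem_range_self n _

@[simp] theorem onRange_coe (n : End K V) (w : LinearMap.range n) :
    ((onRange n w : LinearMap.range n) : V) = n w := rfl

theorem onRange_pow {n : End K V} {s : ℕ} (h : n ^ (s + 1) = 0) : onRange n ^ s = 0 := by
  have key : ∀ (i : ℕ) (w : LinearMap.range n),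
      (((onRange n ^ i) w : LinearMap.range n) : V) = (n ^ i) (w : V) := by
    intro i
    induction i with
    | zero => intro w; rfl
    | succ i ih => intro w; rw [pow_succ, pow_succ, End.mul_apply, End.mul_apply, ih]; rfl
  ext ⟨w, v, rfl⟩
  rw [key]
  show (n ^ s) (n v) = 0
  rw [← End.mul_apply, ← pow_succ, h]
  rfl

variable [FiniteDimensional K V]

/-- The recursion for the dimension of the commutant. -/
theorem finrank_commutant_step (n : End K V) :
    finrank K (commutant n) =
      finrank K (LinearMap.ker n) ^ 2 + finrank K (commutant (onRange n)) := by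
  have hinv : ∀ φ ∈ commutant n, ∀ w ∈ LinearMap.range n, φ w ∈ LinearMap.range n := by
    rintro φ hφ _ ⟨v, rfl⟩
    exact ⟨φ v, (apply_mem_commutant hφ v).symm⟩
  let res : commutant n →ₗ[K] commutant (onRange n) :=
    { toFun := fun φ => ⟨(φ : End K V).restrict (hinv φ φ.2), by
        refine mem_commutant.mpr (LinearMap.ext fun w => Subtype.ext ?_)
        exact apply_mem_commutant φ.2 (w : V)⟩
      map_add' := fun φ ψ => by ext w; rfl
      map_smul' := fun c φ => by ext w; rfl }
  have hsurj : Function.Surjective res := by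
    rintro ⟨φ, hφ⟩
    -- extend `φ` to all of `V`
    obtain ⟨C, hC⟩ := Submodule.exists_isCompl (LinearMap.range n)
    let bC := Module.finBasis K C
    have hpre : ∀ i, ∃ u : V, n u = (φ ⟨n (bC i : V), LinearMap.mem_range_self n _⟩ : V) := by
      intro i
      obtain ⟨u, hu⟩ := (φ ⟨n (bC i : V), LinearMap.mem_range_self n _⟩).2
      exact ⟨u, hu⟩
    choose u hu using hpre
    let g : C →ₗ[K] V := bC.constr K u
    let ψ : End K V := LinearMap.ofIsCompl hC ((LinearMap.range n).subtype.comp φ) g
    have hψW : ∀ w : LinearMap.range n, ψ (w : V) = (φ w : V) := fun w =>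
      LinearMap.ofIsCompl_left_apply hC w
    have hψC : ∀ c : C, n (ψ (c : V)) = ψ (n (c : V)) := by
      have h : n.comp (ψ.comp C.subtype) = ψ.comp (n.comp C.subtype) := by
        refine bC.ext fun i => ?_
        show n (ψ (bC i : V)) = ψ (n (bC i : V))
        rw [show ψ (bC i : V) = g (bC i) from LinearMap.ofIsCompl_right_apply hC (bC i)]
        rw [show g (bC i) = u i from bC.constr_basis K u i, hu]
        exact (hψW ⟨_, LinearMap.mem_range_self n _⟩).symm
      exact fun c => LinearMap.congr_fun h c
    have hψ : ψ ∈ commutant n := by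
      refine mem_commutant.mpr (LinearMap.ext fun v => ?_)
      show ψ (n v) = n (ψ v)
      obtain ⟨a, c, rfl, -⟩ := Submodule.existsUnique_add_of_isCompl hC v
      rw [map_add n, map_add ψ, map_add ψ, map_add n, ← hψC c]
      congr 1
      rw [hψW a]
      have h2 : φ (onRange n a) = onRange n (φ a) :=
        LinearMap.congr_fun (mem_commutant.mp hφ) a
      have h3 := hψW (onRange n a)
      rw [h2] at h3
      exact h3
    exact ⟨⟨ψ, hψ⟩, Subtype.ext (LinearMap.ext fun w => Subtype.ext (hψW w))⟩
  let e : LinearMap.ker res ≃ₗ[K] ((V ⧸ LinearMap.range n) →ₗ[K] LinearMap.ker n) :=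
    { toFun := fun φ => (Submodule.liftQ (LinearMap.range n) ((φ.1 : commutant n) : End K V)
        (fun w hw => by
          have h := congrArg Subtype.val (LinearMap.mem_ker.mp φ.2)
          exact congrArg Subtype.val (LinearMap.congr_fun h ⟨w, hw⟩))).codRestrict _ (fun x => by
          obtain ⟨v, rfl⟩ := Submodule.Quotient.mk_surjective _ x
          show ((φ.1 : commutant n) : End K V) v ∈ LinearMap.ker n
          rw [LinearMap.mem_ker, ← apply_mem_commutant φ.1.2 v]
          have h := congrArg Subtype.val (LinearMap.mem_ker.mp φ.2)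
          exact congrArg Subtype.val (LinearMap.congr_fun h ⟨n v, LinearMap.mem_range_self n v⟩))
      map_add' := fun φ ψ => by ext v; rfl
      map_smul' := fun c φ => by ext v; rfl
      invFun := fun f => ⟨⟨(LinearMap.ker n).subtype.comp (f.comp (Submodule.mkQ _)), by
          refine mem_commutant.mpr (LinearMap.ext fun v => ?_)
          show (f (Submodule.Quotient.mk (n v)) : V) = n (f (Submodule.Quotient.mk v) : V)
          rw [(Submodule.Quotient.mk_eq_zero _).mpr (LinearMap.mem_range_self n v), map_zero,
            LinearMap.mem_ker.mp (f _).2]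
          rfl⟩, by
          refine LinearMap.mem_ker.mpr (Subtype.ext (LinearMap.ext fun w => Subtype.ext ?_))
          show (f (Submodule.Quotient.mk (w : V)) : V) = 0
          rw [(Submodule.Quotient.mk_eq_zero _).mpr w.2, map_zero]
          rfl⟩
      left_inv := fun φ => by ext v; rfl
      right_inv := fun f => by ext v; rfl }
  have h1 := LinearMap.finrank_range_add_finrank_ker (V := ↥(commutant n))
    (V₂ := ↥(commutant (onRange n))) res
  rw [LinearMap.range_eq_top.mpr hsurj, finrank_top, e.finrank_eq, finrank_linearMap] at h1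
  have h2 : finrank K (V ⧸ LinearMap.range n) = finrank K (LinearMap.ker n) := by
    have a := Submodule.finrank_quotient_add_finrank (LinearMap.range n)
    have b := LinearMap.finrank_range_add_finrank_ker n
    omega
  rw [h2] at h1
  rw [sq, ← h1]
  ring

end nilpotent

/-- The commutant of a nilpotent endomorphism via a partition of the dimension. -/
theorem exists_partition (s : ℕ) : ∀ (V : Type u) [AddCommGroup V] [Module K V]
    [FiniteDimensional K V] (n : End K V), n ^ s = 0 →
    ∃ d : Fin s → ℕ, ∑ i, d i = finrank K V ∧ ∑ i, d i ^ 2 = finrank K (commutant n) := by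
  induction s with
  | zero =>
    intro V _ _ _ n hn
    have hsub : Subsingleton V := ⟨fun a b => by
      rw [show a = (n ^ 0) a from rfl, show b = (n ^ 0) b from rfl, hn]; rfl⟩
    refine ⟨Fin.elim0, ?_, ?_⟩
    · rw [Module.finrank_zero_of_subsingleton]; rfl
    · have : Subsingleton (End K V) := ⟨fun f g => LinearMap.ext fun v => Subsingleton.elim _ _⟩
      rw [Module.finrank_zero_of_subsingleton]; rfl
  | succ s ih =>
    intro V _ _ _ n hn
    obtain ⟨d, hd1, hd2⟩ := ih (LinearMap.range n) (onRange n) (onRange_pow hn)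
    refine ⟨Fin.cons (finrank K (LinearMap.ker n)) d, ?_, ?_⟩
    · rw [Fin.sum_univ_succ]
      simp only [Fin.cons_zero, Fin.cons_succ, hd1]
      have := LinearMap.finrank_range_add_finrank_ker n
      omega
    · rw [Fin.sum_univ_succ]
      simp only [Fin.cons_zero, Fin.cons_succ, hd2, finrank_commutant_step n]

/-- `N ^ 2 ≤ s * dim C(n)` for `n ^ s = 0`. -/
theorem sq_finrank_le {V : Type u} [AddCommGroup V] [Module K V] [FiniteDimensional K V]
    {n : End K V} {s : ℕ} (hn : n ^ s = 0) :
    finrank K V ^ 2 ≤ s * finrank K (commutant n) := by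
  obtain ⟨d, h1, h2⟩ := exists_partition s V n hn
  rw [← h1, ← h2]
  simpa using sq_sum_le_card_mul_sum_sq (s := (Finset.univ : Finset (Fin s))) (f := d)

/-- The commutant of an endomorphism of square zero. -/
theorem finrank_commutant_of_sq_eq_zero {V : Type u} [AddCommGroup V] [Module K V]
    [FiniteDimensional K V] {n : End K V} (hn : n ^ 2 = 0) :
    finrank K (commutant n) =
      finrank K (LinearMap.ker n) ^ 2 + finrank K (LinearMap.range n) ^ 2 := by
  rw [finrank_commutant_step n]
  congr 1
  have h0 : onRange n = 0 := by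
    have := onRange_pow (n := n) (s := 1) hn
    rwa [pow_one] at this
  have htop : commutant (onRange n) = ⊤ := by
    refine eq_top_iff.mpr fun φ _ => ?_
    rw [mem_commutant, h0, mul_zero, zero_mul]
  rw [htop, finrank_top, finrank_linearMap, sq]

section rank

variable {V : Type u} [AddCommGroup V] [Module K V] [FiniteDimensional K V]

/-- The rank of `n ^ h` is at most `N - h` while it is nonzero. -/
theorem finrank_range_pow_le {n : End K V} (hn : IsNilpotent n) (h : ℕ) :
    finrank K (LinearMap.range (n ^ h)) ≤ finrank K V - h := by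
  obtain ⟨s, hs⟩ := hn
  induction h with
  | zero =>
    rw [Nat.sub_zero]
    exact Submodule.finrank_le _
  | succ h ih =>
    have hle : LinearMap.range (n ^ (h + 1)) ≤ LinearMap.range (n ^ h) := by
      rw [pow_succ]
      exact LinearMap.range_comp_le_range _ _
    rcases eq_or_lt_of_le hle with heq | hlt
    · -- a stationary image of a nilpotent map is zero
      have hstat : ∀ j, LinearMap.range (n ^ (h + j)) = LinearMap.range (n ^ h) := by
        intro j
        induction j with
        | zero => rfl
        | succ j ihj =>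
          calc LinearMap.range (n ^ (h + (j + 1)))
              = (LinearMap.range (n ^ (h + j))).map n := by
                rw [← add_assoc, pow_succ']
                exact LinearMap.range_comp _ _
            _ = (LinearMap.range (n ^ h)).map n := by rw [ihj]
            _ = LinearMap.range (n ^ (h + 1)) := by
                rw [pow_succ']
                exact (LinearMap.range_comp _ _).symm
            _ = LinearMap.range (n ^ h) := heq
      have h0 : LinearMap.range (n ^ h) = ⊥ := by
        rw [← hstat s, pow_add, hs, mul_zero, LinearMap.range_zero]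
      rw [heq, h0, finrank_bot]
      exact Nat.zero_le _
    · have := Submodule.finrank_lt_finrank_of_lt hlt
      omega

end rank

section orbits

/-- Orbit representatives for a semiregular permutation fixing one point. -/
theorem exists_orbit_reps {X : Type*} [Fintype X] [DecidableEq X] (σ : Equiv.Perm X) (x₀ : X)
    {P : ℕ} (hP : 0 < P) (hσ : σ ^ P = 1) (h₀ : σ x₀ = x₀)
    (hfree : ∀ i, 0 < i → i < P → ∀ x, (σ ^ i) x = x → x = x₀) :
    ∃ O : Finset X, x₀ ∉ O ∧ (∀ x, x ≠ x₀ → ∃ o ∈ O, ∃ i < P, (σ ^ i) o = x) ∧
      ∀ o ∈ O, ∀ o' ∈ O, ∀ i < P, ∀ j < P, (σ ^ i) o = (σ ^ j) o' → o = o' ∧ i = j := by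
  classical
  have hmod : ∀ i, σ ^ (i % P) = σ ^ i := fun i => by
    conv_rhs => rw [← Nat.mod_add_div i P, pow_add, pow_mul, hσ, one_pow, mul_one]
  have hfix0 : ∀ i, (σ ^ i) x₀ = x₀ := by
    intro i
    induction i with
    | zero => rfl
    | succ i ih => rw [pow_succ, Equiv.Perm.mul_apply, h₀, ih]
  have hcomp : ∀ i j x, (σ ^ i) ((σ ^ j) x) = (σ ^ (i + j)) x := fun i j x => by
    rw [pow_add, Equiv.Perm.mul_apply]
  let e := Fintype.equivFin X
  let O : Finset X := Finset.univ.filter fun x => x ≠ x₀ ∧ ∀ i, i < P → e x ≤ e ((σ ^ i) x)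
  have hmin : ∀ o ∈ O, ∀ i, e o ≤ e ((σ ^ i) o) := fun o ho i => by
    rw [← hmod i]
    exact (Finset.mem_filter.mp ho).2.2 _ (Nat.mod_lt _ hP)
  refine ⟨O, fun h => (Finset.mem_filter.mp h).2.1 rfl, fun x hx => ?_, ?_⟩
  · obtain ⟨o, ho, hmin'⟩ := Finset.exists_min_image
      ((Finset.range P).image fun i => (σ ^ i) x) e
      ⟨x, Finset.mem_image.mpr ⟨0, Finset.mem_range.mpr hP, rfl⟩⟩
    obtain ⟨k, hk, rfl⟩ := Finset.mem_image.mp ho
    have hkP := Finset.mem_range.mp hk
    refine ⟨(σ ^ k) x, Finset.mem_filter.mpr ⟨Finset.mem_univ _, fun h => hx ?_, fun i _ => ?_⟩,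
      (P - k) % P, Nat.mod_lt _ hP, ?_⟩
    · refine (σ ^ k).injective (h.trans (hfix0 k).symm)
    · refine hmin' _ (Finset.mem_image.mpr ⟨(i + k) % P,
        Finset.mem_range.mpr (Nat.mod_lt _ hP), ?_⟩)
      rw [hmod, hcomp]
    · rw [hmod, hcomp, Nat.sub_add_cancel hkP.le, hσ]
      rfl
  · intro o ho o' ho' i hi j hj h
    have hk : ∀ a b : ℕ, a < P → b < P → ∀ y z, (σ ^ a) y = (σ ^ b) z →
        (σ ^ (P - b + a)) y = z := by
      intro a b _ hb y z hyz
      rw [← hcomp, hyz, hcomp, Nat.sub_add_cancel hb.le, hσ]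
      rfl
    have h1 := hk i j hi hj o o' h
    have h2 := hk j i hj hi o' o h.symm
    have heq : o = o' := e.injective (le_antisymm (h1 ▸ hmin o ho _) (h2 ▸ hmin o' ho' _))
    refine ⟨heq, ?_⟩
    subst heq
    by_contra hij
    rw [← hmod] at h1
    refine (Finset.mem_filter.mp ho).2.1 (hfree _ ?_ (Nat.mod_lt _ hP) o h1)
    refine Nat.pos_of_ne_zero fun h0 => hij ?_
    obtain ⟨c, hc⟩ := Nat.dvd_of_mod_eq_zero h0
    rcases Nat.lt_trichotomy c 1 with h3 | h3 | h3
    · interval_cases c; omega
    · subst h3; omega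
    · have : P * 2 ≤ P * c := Nat.mul_le_mul_left P h3
      omega

/-- The fixed space of a linear map permuting a basis semiregularly, apart from one fixed basis
vector. -/
theorem card_orbits_fixed {W : Type*} [AddCommGroup W] [Module K W] {X : Type*} [Fintype X]
    (b : X → W) (hli : LinearIndependent K b) (hspan : ⊤ ≤ Submodule.span K (Set.range b))
    (T : End K W) {P : ℕ} (hP : 0 < P) (hT : T ^ P = 1) (σ : Equiv.Perm X) (hσ : σ ^ P = 1)
    (x₀ : X) (h₀ : σ x₀ = x₀) (hT₀ : T (b x₀) = b x₀)
    (hfree : ∀ i, 0 < i → i < P → ∀ x, (σ ^ i) x = x → x = x₀)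
    (hperm : ∀ x, ∃ c : K, c ≠ 0 ∧ T (b x) = c • b (σ x)) :
    ∃ r : ℕ, Fintype.card X = 1 + r * P ∧
      finrank K (LinearMap.ker (T - 1)) = 1 + r := by
  classical
  haveI : NeZero P := ⟨hP.ne'⟩
  obtain ⟨O, hO0, hOcov, hOinj⟩ := exists_orbit_reps σ x₀ hP hσ h₀ hfree
  have hTpow : ∀ i x, ∃ c : K, c ≠ 0 ∧ (T ^ i) (b x) = c • b ((σ ^ i) x) := by
    intro i
    induction i with
    | zero => exact fun x => ⟨1, one_ne_zero, by simp⟩
    | succ i ih =>
      intro x
      obtain ⟨c, hc, h⟩ := ih x
      obtain ⟨d, hd, h'⟩ := hperm ((σ ^ i) x)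
      refine ⟨c * d, mul_ne_zero hc hd, ?_⟩
      rw [pow_succ', End.mul_apply, h, map_smul, h', smul_smul, pow_succ', Equiv.Perm.mul_apply]
  let ι := Option (O × Fin P)
  let f : ι → X := fun a => a.elim x₀ fun a => (σ ^ (a.2 : ℕ)) a.1
  let w : ι → W := fun a => a.elim (b x₀) fun a => (T ^ (a.2 : ℕ)) (b a.1)
  have hne : ∀ (o : O) (i : ℕ), (σ ^ i) (o : X) ≠ x₀ := by
    intro o i h
    have h1 : ∀ i, (σ ^ i) x₀ = x₀ := by
      intro i
      induction i with
      | zero => rfl
      | succ i ih => rw [pow_succ, Equiv.Perm.mul_apply, h₀, ih]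
    have h2 := (σ ^ i).injective (h.trans (h1 i).symm)
    exact hO0 (h2 ▸ o.2)
  have hf : Function.Bijective f := by
    constructor
    · rintro (_ | ⟨o, i⟩) (_ | ⟨o', j⟩) h
      · rfl
      · exact absurd h.symm (hne o' j)
      · exact absurd h (hne o i)
      · obtain ⟨h1, h2⟩ := hOinj o o.2 o' o'.2 i i.2 j j.2 h
        exact congrArg some (Prod.ext (Subtype.ext h1) (Fin.ext h2))
    · intro x
      rcases eq_or_ne x x₀ with rfl | hx
      · exact ⟨none, rfl⟩
      · obtain ⟨o, ho, i, hi, rfl⟩ := hOcov x hx
        exact ⟨some (⟨o, ho⟩, ⟨i, hi⟩), rfl⟩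
  have hscal : ∀ a, ∃ c : Kˣ, w a = c • b (f a) := by
    rintro (_ | ⟨o, i⟩)
    · exact ⟨1, (one_smul Kˣ _).symm⟩
    · obtain ⟨c, hc, h⟩ := hTpow i o
      exact ⟨Units.mk0 c hc, h⟩
  choose c hc using hscal
  have hwli : LinearIndependent K w := by
    rw [show w = c • (b ∘ f) from funext hc]
    exact (hli.comp f hf.1).units_smul c
  have hwspan : ⊤ ≤ Submodule.span K (Set.range w) := by
    refine hspan.trans (Submodule.span_le.mpr ?_)
    rintro _ ⟨x, rfl⟩
    obtain ⟨a, rfl⟩ := hf.2 x
    have : b (f a) = ((c a)⁻¹ : Kˣ) • w a := by rw [hc, inv_smul_smul]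
    rw [SetLike.mem_coe, this]
    exact Submodule.smul_mem _ _ (Submodule.subset_span ⟨a, rfl⟩)
  let B := Basis.mk hwli hwspan
  let g : ι → ι := fun a => a.map fun a => (a.1, a.2 + 1)
  have hTw : ∀ a, T (w a) = w (g a) := by
    rintro (_ | ⟨o, i⟩)
    · exact hT₀
    · show T ((T ^ (i : ℕ)) (b o)) = (T ^ ((i + 1 : Fin P) : ℕ)) (b o)
      rw [← End.mul_apply, ← pow_succ', show ((i + 1 : Fin P) : ℕ) = ((i : ℕ) + 1) % P by
        rw [Fin.val_add, Fin.val_one', Nat.add_mod_mod]]
      conv_lhs => rw [← Nat.mod_add_div ((i : ℕ) + 1) P, pow_add, pow_mul, hT, one_pow, mul_one]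
  have hgbij : Function.Bijective g := by
    refine Finite.injective_iff_bijective.mp ?_
    exact Option.map_injective fun a a' h => Prod.ext (congrArg Prod.fst h :)
      (add_right_cancel (congrArg Prod.snd h :))
  -- coordinates are translated
  have hcoord : ∀ (v : W) (a : ι), B.repr (T v) (g a) = B.repr v a := by
    intro v a
    conv_lhs => rw [← B.sum_repr v, map_sum, map_sum]
    simp only [map_smul, Finsupp.coe_finset_sum, Finset.sum_apply, Finsupp.coe_smul, Pi.smul_apply]
    have : ∀ a', T (B a') = B (g a') := fun a' => by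
      simp only [B, Basis.mk_apply]
      exact hTw a'
    simp only [this, B.repr_self, Finsupp.single_apply, hgbij.1.eq_iff, smul_eq_mul, mul_ite,
      mul_one, mul_zero]
    exact Fintype.sum_ite_eq' a _
  let red : ι → Option O := fun a => a.map Prod.fst
  let sec : Option O → ι := fun o => o.map fun o => (o, 0)
  have hfixed : ∀ v ∈ LinearMap.ker (T - 1), ∀ (o : O) (i : Fin P),
      B.repr v (some (o, i)) = B.repr v (some (o, 0)) := by
    intro v hv o i
    rw [LinearMap.mem_ker, LinearMap.sub_apply, End.one_apply, sub_eq_zero] at hv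
    have key : ∀ j : Fin P, B.repr v (some (o, j + 1)) = B.repr v (some (o, j)) := fun j => by
      conv_lhs => rw [← hv]
      exact hcoord v (some (o, j))
    obtain ⟨m, rfl⟩ : ∃ m : ℕ, P = m + 1 := ⟨P - 1, by omega⟩
    induction i using Fin.induction with
    | zero => rfl
    | succ i ih =>
      rw [← ih, ← Fin.coeSucc_eq_succ]
      exact key i.castSucc
  let Φ : LinearMap.ker (T - 1) ≃ₗ[K] (Option O → K) :=
    { toFun := fun v o => B.repr (v : W) (sec o)
      map_add' := fun v v' => by funext o; simp
      map_smul' := fun k v => by funext o; simp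
      invFun := fun h => ⟨∑ a, h (red a) • B a, by
        rw [LinearMap.mem_ker, LinearMap.sub_apply, End.one_apply, sub_eq_zero, map_sum]
        refine Fintype.sum_bijective g hgbij _ _ fun a => ?_
        rw [map_smul]
        have h1 : red (g a) = red a := by rcases a with _ | ⟨o, i⟩ <;> rfl
        rw [h1]
        congr 1
        simp only [B, Basis.mk_apply]
        exact hTw a⟩
      left_inv := fun v => by
        apply Subtype.ext
        show ∑ a, B.repr (v : W) (sec (red a)) • B a = v
        conv_rhs => rw [← B.sum_repr (v : W)]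
        refine Finset.sum_congr rfl fun a _ => ?_
        congr 1
        rcases a with _ | ⟨o, i⟩
        · rfl
        · exact (hfixed v v.2 o i).symm
      right_inv := fun h => by
        funext o
        show B.repr (∑ a, h (red a) • B a) (sec o) = h o
        rw [B.repr_sum_self]
        rcases o with _ | o <;> rfl }
  refine ⟨O.card, ?_, ?_⟩
  · rw [← Fintype.card_of_bijective hf, Fintype.card_option, Fintype.card_prod, Fintype.card_coe,
      Fintype.card_fin, add_comm]
  · rw [Φ.finrank_eq, Module.finrank_pi, Fintype.card_option, Fintype.card_coe, add_comm]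

/-- A bound for the fixed space of a map of prime order permuting a basis up to scalars. -/
theorem finrank_fixed_le {W : Type*} [AddCommGroup W] [Module K W] {X : Type*} [Fintype X]
    (b : X → W) (hli : LinearIndependent K b) (hspan : ⊤ ≤ Submodule.span K (Set.range b))
    (T : End K W) {P : ℕ} (hP : P.Prime) (σ : Equiv.Perm X) (hσ : σ ^ P = 1)
    (hperm : ∀ x, ∃ c : K, T (b x) = c • b (σ x)) :
    P * finrank K (LinearMap.ker (T - 1)) ≤
      Fintype.card X + (P - 1) * Nat.card {x : X // σ x = x} := by
  classical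
  choose c hc using hperm
  let B := Basis.mk hli hspan
  have hB : ∀ x, B x = b x := fun x => Basis.mk_apply hli hspan x
  have hrec : ∀ v ∈ LinearMap.ker (T - 1), ∀ x, B.repr v (σ x) = c x * B.repr v x := by
    intro v hv x
    rw [LinearMap.mem_ker, LinearMap.sub_apply, End.one_apply, sub_eq_zero] at hv
    conv_lhs => rw [← hv, ← B.sum_repr v, map_sum, map_sum]
    simp only [map_smul, hB, hc, smul_smul]
    simp only [← hB, Finsupp.coe_finset_sum, Finset.sum_apply, map_smul, B.repr_self,
      Finsupp.smul_single, Finsupp.single_apply, σ.injective.eq_iff, smul_eq_mul, mul_one,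
      Finset.sum_ite_eq', Finset.mem_univ, if_true]
    exact mul_comm _ _
  set A := Subgroup.zpowers σ with hA
  haveI : Fintype (Quotient (MulAction.orbitRel A X)) := Fintype.ofFinite _
  let Φ : LinearMap.ker (T - 1) →ₗ[K] (Quotient (MulAction.orbitRel A X) → K) :=
    { toFun := fun v o => B.repr (v : W) o.out
      map_add' := fun v v' => by funext o; simp
      map_smul' := fun k v => by funext o; simp }
  have hΦ : Function.Injective Φ := by
    rw [← LinearMap.ker_eq_bot, LinearMap.ker_eq_bot']
    intro v hv
    refine Subtype.ext (B.repr.injective (Finsupp.ext fun x => ?_))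
    rw [ZeroMemClass.coe_zero, map_zero, Finsupp.zero_apply]
    set o : Quotient (MulAction.orbitRel A X) := Quotient.mk _ x
    have ho : B.repr (v : W) o.out = 0 := congrFun hv o
    obtain ⟨⟨g, hg⟩, hgx⟩ : x ∈ MulAction.orbit A o.out :=
      MulAction.orbitRel_apply.mp (Quotient.exact (Quotient.out_eq o).symm)
    obtain ⟨i, -, hi⟩ := Finset.mem_image.mp (mem_zpowers_iff_mem_range_orderOf.mp hg)
    have hpow : ∀ i : ℕ, B.repr (v : W) ((σ ^ i) o.out) = 0 := by
      intro i
      induction i with
      | zero => exact ho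
      | succ i ih => rw [pow_succ', Equiv.Perm.mul_apply, hrec v v.2, ih, mul_zero]
    have h := hpow i
    rw [hi] at h
    rw [← hgx]
    exact h
  have hle : finrank K (LinearMap.ker (T - 1)) ≤ Fintype.card (Quotient (MulAction.orbitRel A X)) :=
    (LinearMap.finrank_le_finrank_of_injective hΦ).trans_eq (Module.finrank_fintype_fun_eq_card K)
  rcases eq_or_ne σ 1 with h1 | h1
  · have hcard : Nat.card {x : X // σ x = x} = Fintype.card X := by
      rw [Nat.card_eq_fintype_card, Fintype.card_subtype,
        Finset.filter_true_of_mem (fun x _ => by rw [h1]; rfl), Finset.card_univ]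
    have h2 : Fintype.card (Quotient (MulAction.orbitRel A X)) ≤ Fintype.card X :=
      Fintype.card_le_of_surjective _ Quotient.mk_surjective
    rw [hcard]
    calc P * finrank K (LinearMap.ker (T - 1)) ≤ P * Fintype.card X :=
          Nat.mul_le_mul_left _ (hle.trans h2)
      _ = Fintype.card X + (P - 1) * Fintype.card X := by
          obtain ⟨m, rfl⟩ : ∃ m, P = m + 1 := ⟨P - 1, (Nat.sub_add_cancel hP.pos).symm⟩
          rw [Nat.add_sub_cancel]; ring
  haveI := Fact.mk hP
  have hord : orderOf σ = P := orderOf_eq_prime hσ h1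
  haveI : Fintype A := Fintype.ofFinite _
  have hAcard : Fintype.card A = P := by
    rw [← Nat.card_eq_fintype_card, hA, Nat.card_zpowers, hord]
  have hburn := MulAction.sum_card_fixedBy_eq_card_orbits_mul_card_group A X
  rw [hAcard, ← Finset.add_sum_erase _ _ (Finset.mem_univ (1 : A))] at hburn
  have hfix1 : Fintype.card (MulAction.fixedBy X (1 : A)) = Fintype.card X :=
    Fintype.card_congr (Equiv.subtypeUnivEquiv fun x => by simp)
  have hfix : ∀ a ∈ Finset.univ.erase (1 : A),
      Fintype.card (MulAction.fixedBy X a) = Nat.card {x : X // σ x = x} := by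
    intro a ha
    obtain ⟨ha1, -⟩ := Finset.mem_erase.mp ha
    rw [Nat.card_eq_fintype_card]
    refine Fintype.card_congr (Equiv.subtypeEquivRight fun x => ?_)
    show (a : Equiv.Perm X) x = x ↔ σ x = x
    obtain ⟨i, hi⟩ := a.2
    have hi' : σ ^ i = (a : Equiv.Perm X) := hi
    constructor
    · intro hax
      obtain ⟨k, -, hk⟩ := Finset.mem_image.mp (mem_zpowers_iff_mem_range_orderOf.mp a.2)
      have hk1 : ¬ P ∣ k := by
        intro hd
        obtain ⟨m, rfl⟩ := hd
        exact ha1 (Subtype.ext (by rw [← hk, pow_mul, hσ, one_pow]; rfl))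
      obtain ⟨l, hl⟩ := Nat.exists_mul_mod_eq_one_of_coprime
        (hP.coprime_iff_not_dvd.mpr hk1).symm hP.one_lt
      have hpow : ∀ l : ℕ, ((a : Equiv.Perm X) ^ l) x = x := by
        intro l
        induction l with
        | zero => rfl
        | succ l ih => rw [pow_succ', Equiv.Perm.mul_apply, ih, hax]
      have h := hpow l
      rw [← hk, ← pow_mul, pow_eq_pow_mod _ hσ, hl.2, pow_one] at h
      exact h
    · intro hσx
      rw [← hi']
      exact Equiv.Perm.zpow_apply_eq_self_of_apply_eq_self hσx i
  rw [hfix1, Finset.sum_congr rfl hfix, Finset.sum_const,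
    Finset.card_erase_of_mem (Finset.mem_univ _), Finset.card_univ, hAcard, smul_eq_mul] at hburn
  rw [hburn, mul_comm]
  exact Nat.mul_le_mul_right _ hle

end orbits

end CfsgLib.FgsC.Commutant
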