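import Mathlib
import Cfsg.Agent.Lib.Coprime.Action
import Cfsg.Agent.Lib.Coprime.Action2
import Cfsg.Agent.Lib.Base.MinimalNormal
import Cfsg.Agent.Lib.FT.FrobeniusFormula

/-!
For an element `x` of odd prime order `p` acting on a solvable group `H` of order prime to `p`,
the fixed points of `x` in `[H, x]` are generated by the fixed points in the `[h, x]`.
-/

set_option autoImplicit false

namespace CfsgLib.FgsC.FixGen

open Subgroup
open scoped commutatorElement

variable {X : Type*} [Group X]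

/-- the subgroup generated by the `h⁻¹ h^(x^i)` -/
def D (x h : X) : Subgroup X :=
  closure {c : X | ∃ i : ℕ, c = h⁻¹ * (x ^ i * h * (x ^ i)⁻¹)}

/-- the subgroup generated by the fixed points in the `D x h` -/
def E (x : X) (H : Subgroup X) : Subgroup X :=
  ⨆ h ∈ H, D x h ⊓ centralizer (zpowers x : Set X)

lemma mem_C {x c : X} : c ∈ centralizer (zpowers x : Set X) ↔ x * c = c * x := by
  refine ⟨fun h => mem_centralizer_iff.1 h x (mem_zpowers x), fun h => ?_⟩
  rw [mem_centralizer_iff]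
  intro a ha
  obtain ⟨i, rfl⟩ := mem_zpowers_iff.1 ha
  exact ((Commute.zpow_left (show Commute x c from h) i)).eq

lemma zp_le_normalizer {x : X} {S : Subgroup X} (h : x ∈ normalizer (S : Set X)) :
    zpowers x ≤ normalizer (S : Set X) := zpowers_le.2 h

lemma mem_normalizer_of_conj [Finite X] {S : Subgroup X} {x : X}
    (h : ∀ s ∈ S, x * s * x⁻¹ ∈ S) : x ∈ normalizer (S : Set X) := by
  have : S.map (MulAut.conj x).toMonoidHom ≤ S := by
    rintro - ⟨s, hs, rfl⟩
    exact h s hs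
  have he : S.map (MulAut.conj x).toMonoidHom = S := eq_of_le_of_card_ge this
    (by rw [Subgroup.card_map_of_injective (MulAut.conj x).injective])
  rw [Subgroup.mem_normalizer_iff]
  refine fun s => ⟨h s, fun hs => ?_⟩
  rw [← he] at hs
  obtain ⟨t, ht, hts⟩ := hs
  have : t = s := (MulAut.conj x).injective hts
  exact this ▸ ht

lemma conj_mem {S : Subgroup X} {x s : X} (hx : x ∈ normalizer (S : Set X)) (hs : s ∈ S) :
    x * s * x⁻¹ ∈ S := (Subgroup.mem_normalizer_iff.1 hx s).1 hs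

lemma nmem (N : Subgroup X) [hN : N.Normal] (g : X) : g ∈ normalizer (N : Set X) := by
  rw [normalizer_eq_top_iff.2 hN]; trivial

lemma map_D {Y : Type*} [Group Y] (f : X →* Y) (x h : X) : (D x h).map f = D (f x) (f h) := by
  rw [D, MonoidHom.map_closure, D]
  congr 1
  ext c
  constructor
  · rintro ⟨-, ⟨i, rfl⟩, rfl⟩
    exact ⟨i, by simp⟩
  · rintro ⟨i, rfl⟩
    exact ⟨_, ⟨i, rfl⟩, by simp⟩

lemma gen_mem (x h : X) (i : ℕ) : h⁻¹ * (x ^ i * h * (x ^ i)⁻¹) ∈ D x h :=
  subset_closure ⟨i, rfl⟩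

lemma D_le_commutator {x h : X} {S : Subgroup X} (hh : h ∈ S) : D x h ≤ ⁅S, zpowers x⁆ := by
  rw [D, closure_le]
  rintro - ⟨i, rfl⟩
  have : h⁻¹ * (x ^ i * h * (x ^ i)⁻¹) = ⁅h⁻¹, x ^ i⁆ := by
    rw [commutatorElement_def]; group
  rw [this]
  exact commutator_mem_commutator (S.inv_mem hh) (pow_mem (mem_zpowers x) i)

lemma commutator_le_of_D [Finite X] {x : X} {S M : Subgroup X} (h : ∀ s ∈ S, D x s ≤ M) :
    ⁅S, zpowers x⁆ ≤ M := by
  rw [Subgroup.commutator_le]
  intro s hs a ha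
  obtain ⟨i, rfl⟩ := (isOfFinOrder_of_finite x).mem_powers_iff_mem_zpowers.2 ha
  have : ⁅s, x ^ i⁆ = (s⁻¹)⁻¹ * (x ^ i * s⁻¹ * (x ^ i)⁻¹) := by
    rw [commutatorElement_def]; group
  simp only at this ⊢
  rw [this]
  exact h _ (S.inv_mem hs) (gen_mem x s⁻¹ i)

lemma x_mem_normalizer_D [Finite X] (x h : X) : x ∈ normalizer (D x h : Set X) := by
  refine mem_normalizer_of_conj fun s hs => ?_
  have : D x h ≤ (D x h).comap (MulAut.conj x).toMonoidHom := by
    conv_lhs => rw [D]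
    rw [closure_le]
    rintro - ⟨i, rfl⟩
    simp only [SetLike.mem_coe, Subgroup.mem_comap, MulEquiv.coe_toMonoidHom, MulAut.conj_apply]
    have e : x * (h⁻¹ * (x ^ i * h * (x ^ i)⁻¹)) * x⁻¹ =
        (h⁻¹ * (x ^ 1 * h * (x ^ 1)⁻¹))⁻¹ * (h⁻¹ * (x ^ (i + 1) * h * (x ^ (i + 1))⁻¹)) := by
      rw [pow_one, pow_succ']; group
    rw [e]
    exact mul_mem (inv_mem (gen_mem x h 1)) (gen_mem x h (i + 1))
  exact this hs

lemma le_E {x h : X} {H : Subgroup X} (hh : h ∈ H) :
    D x h ⊓ centralizer (zpowers x : Set X) ≤ E x H :=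
  le_iSup₂ (f := fun (h : X) (_ : h ∈ H) => D x h ⊓ centralizer (zpowers x : Set X)) h hh

lemma E_le {x : X} {H M : Subgroup X}
    (h : ∀ g ∈ H, D x g ⊓ centralizer (zpowers x : Set X) ≤ M) : E x H ≤ M := iSup₂_le h

lemma E_mono {x : X} {S H : Subgroup X} (h : S ≤ H) : E x S ≤ E x H :=
  E_le fun _ hg => le_E (h hg)

lemma E_le_C {x : X} {H : Subgroup X} : E x H ≤ centralizer (zpowers x : Set X) :=
  E_le fun _ _ => inf_le_right

lemma D_le {x h : X} {S : Subgroup X} (hxS : x ∈ normalizer (S : Set X)) (hh : h ∈ S) :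
    D x h ≤ S :=
  (D_le_commutator hh).trans (Coprime.commutator_le_of_le_normalizer (zp_le_normalizer hxS))

lemma conj_mem_E {x c e : X} {H : Subgroup X} [H.Normal]
    (hc : c ∈ centralizer (zpowers x : Set X)) (he : e ∈ E x H) : c * e * c⁻¹ ∈ E x H := by
  have : E x H ≤ (E x H).comap (MulAut.conj c).toMonoidHom := by
    refine E_le fun g hg a ha => ?_
    rw [Subgroup.mem_comap]
    refine le_E (h := c * g * c⁻¹) ((inferInstance : H.Normal).conj_mem g hg c) ⟨?_, ?_⟩
    · have hcx : MulAut.conj c x = x := by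
        rw [MulAut.conj_apply, ← (mem_C.1 hc)]; group
      have := mem_map_of_mem (MulAut.conj c).toMonoidHom ha.1
      rw [map_D] at this
      simp only [MulEquiv.coe_toMonoidHom] at this ⊢
      rw [hcx] at this
      simpa [MulAut.conj_apply] using this
    · have h2 : a ∈ centralizer (zpowers x : Set X) := ha.2
      exact (centralizer (zpowers x : Set X)).mul_mem ((centralizer (zpowers x : Set X)).mul_mem hc h2) ((centralizer (zpowers x : Set X)).inv_mem hc)
  exact this he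

/-- the standing configuration -/
structure Cfg (p : ℕ) (x : X) (H : Subgroup X) : Prop where
  prime : p.Prime
  odd : p ≠ 2
  pow_p : x ^ p = 1
  coprime : (Nat.card H).Coprime p
  solvable : Group.IsSolvable H
  normal : H.Normal
  gen : H ⊔ zpowers x = ⊤

variable [Finite X] {p : ℕ} {x : X} {H : Subgroup X}

lemma Cfg.card_P_dvd (c : Cfg p x H) : Nat.card (zpowers x) ∣ p := by
  rw [Nat.card_zpowers]
  exact orderOf_dvd_of_pow_eq_one c.pow_p

lemma Cfg.cop (c : Cfg p x H) {S : Subgroup X} (hS : S ≤ H) :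
    (Nat.card (zpowers x)).Coprime (Nat.card S) :=
  ((c.coprime.coprime_dvd_left (card_dvd_of_le hS)).coprime_dvd_right c.card_P_dvd).symm

lemma Cfg.decomp (c : Cfg p x H) {S : Subgroup X} (hS : S ≤ H)
    (hxS : x ∈ normalizer (S : Set X)) :
    ⁅S, zpowers x⁆ ⊔ (S ⊓ centralizer (zpowers x : Set X)) = S :=
  Coprime.commutator_sup_centralizer (zp_le_normalizer hxS) (c.cop hS)
    (Or.inr (Coprime.isSolvable_of_le hS c.solvable))

lemma Cfg.normal_of (c : Cfg p x H) {N : Subgroup X} (hH : H ≤ normalizer (N : Set X))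
    (hx : x ∈ normalizer (N : Set X)) : N.Normal :=
  normalizer_eq_top_iff.1 (top_le_iff.1 (c.gen ▸ sup_le hH (zp_le_normalizer hx)))

/-- the induction hypothesis, for subgroups -/
def SubOK (x : X) (H : Subgroup X) : Prop :=
  ∀ S : Subgroup X, S ≤ H → x ∈ normalizer (S : Set X) → Nat.card S < Nat.card H →
    ⁅S, zpowers x⁆ ⊓ centralizer (zpowers x : Set X) ≤ E x H

/-- elements of the abelian `L` whose fixed point component lies in `E` -/
def KK (x : X) (H L : Subgroup X) : Subgroup X :=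
  (E x H ⊓ L ⊓ centralizer (zpowers x : Set X)) ⊔ ⁅L, zpowers x⁆

section KK

variable {L : Subgroup X} [L.Normal]

lemma KK_le : KK x H L ≤ L :=
  sup_le (inf_le_left.trans inf_le_right) (commutator_le_left L _)

lemma mem_E_of_mem_KK (c : Cfg p x H) (hL : L ≤ H) (hab : L ≤ centralizer (L : Set X)) {l : X}
    (hl : l ∈ KK x H L) (hlC : l ∈ centralizer (zpowers x : Set X)) : l ∈ E x H := by
  have hn : E x H ⊓ L ⊓ centralizer (zpowers x : Set X) ≤
      normalizer ((⁅L, zpowers x⁆ : Subgroup X) : Set X) :=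
    (inf_le_left.trans inf_le_right).trans (normalizer_commutator_ge_left L _)
  obtain ⟨e, he, t, ht, rfl⟩ := (Coprime.mem_sup_iff_of_le_normalizer hn).1 hl
  haveI : IsMulCommutative L :=
    ⟨⟨fun a b => Subtype.ext (mem_centralizer_iff.1 (hab b.2) a a.2)⟩⟩
  have h0 := Coprime.centralizer_inf_commutator_eq_bot (A := zpowers x) (V := L)
    (zp_le_normalizer (nmem L x)) (c.cop hL)
  have htC : t ∈ centralizer (zpowers x : Set X) := by
    have := (centralizer (zpowers x : Set X)).mul_mem ((centralizer (zpowers x : Set X)).inv_mem he.2) hlC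
    rwa [inv_mul_cancel_left] at this
  have ht1 : t ∈ (L ⊓ centralizer (zpowers x : Set X)) ⊓ ⁅L, zpowers x⁆ :=
    ⟨⟨commutator_le_left L _ ht, htC⟩, ht⟩
  rw [h0, mem_bot] at ht1
  rw [ht1, mul_one]
  exact he.1.1

lemma mem_KK_of_inv (c : Cfg p x H) (hL : L ≤ H) {J : Subgroup X}
    (hxJ : x ∈ normalizer (J : Set X))
    (hJ : J ⊓ centralizer (zpowers x : Set X) ≤ E x H) {l : X} (hlJ : l ∈ J) (hlL : l ∈ L) :
    l ∈ KK x H L := by
  have hx : x ∈ normalizer ((J ⊓ L : Subgroup X) : Set X) :=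
    mem_normalizer_of_conj fun s hs =>
      ⟨conj_mem hxJ hs.1, (inferInstance : L.Normal).conj_mem s hs.2 x⟩
  have h := (c.decomp (inf_le_right.trans hL) hx).ge (show l ∈ J ⊓ L from ⟨hlJ, hlL⟩)
  refine SetLike.le_def.1 (sup_le ?_ ?_) h
  · exact (commutator_mono inf_le_right le_rfl).trans le_sup_right
  · intro a ha
    exact mem_sup_left ⟨⟨hJ ⟨ha.1.1, ha.2⟩, ha.1.2⟩, ha.2⟩

lemma twist_mem_KK {l a : X} (hl : l ∈ L) (ha : a ∈ zpowers x) :
    a * l * a⁻¹ * l⁻¹ ∈ KK x H L := by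
  refine mem_sup_right ?_
  have : a * l * a⁻¹ * l⁻¹ = ⁅l, a⁆⁻¹ := by rw [commutatorElement_def]; group
  rw [this]
  exact inv_mem (commutator_mem_commutator hl ha)

/-- the elements `g` with `[Y, g]` inside `KK` form a subgroup containing small subgroups `N` -/
lemma commutator_mem_KK (c : Cfg p x H) (hs : SubOK x H) (hL : L ≤ H) {Y : Subgroup X} [Y.Normal]
    (hY : Y ≤ H) (hLY : L ≤ Y) (hYL : Y ≤ centralizer (L : Set X))
    (hcomm : ∀ y ∈ Y, ∀ g ∈ H, ⁅y, g⁆ ∈ L) :
    ∃ G₀ : Subgroup X, (∀ g, g ∈ G₀ ↔ g ∈ H ∧ ∀ y ∈ Y, ⁅y, g⁆ ∈ KK x H L) ∧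
      ∀ N : Subgroup X, N ≤ H → x ∈ normalizer (N : Set X) →
        N ⊓ centralizer (zpowers x : Set X) ≤ E x H →
        Nat.card ↥(Y ⊔ N) < Nat.card H → N ≤ G₀ := by
  set K := KK x H L
  let S : Set X := {g | g ∈ H ∧ ∀ y ∈ Y, ⁅y, g⁆ ∈ K}
  have h1 : (1 : X) ∈ S := ⟨one_mem _, fun y _ => by simp⟩
  have hmul : ∀ a b, a ∈ S → b ∈ S → a * b ∈ S := by
    rintro a b ⟨ha, ha'⟩ ⟨hb, hb'⟩
    refine ⟨mul_mem ha hb, fun y hy => ?_⟩
    set u := ⁅y, b⁆
    have hu : u ∈ K := hb' y hy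
    have e : ⁅y, a * b⁆ = ⁅y, a⁆ * (⁅u, a⁆⁻¹ * u) := by
      simp only [u, commutatorElement_def]; group
    rw [e]
    exact mul_mem (ha' y hy) (mul_mem (inv_mem (ha' u (hLY (KK_le hu)))) hu)
  have hpow : ∀ a ∈ S, ∀ n : ℕ, a ^ n ∈ S := by
    intro a ha n
    induction n with
    | zero => simpa using h1
    | succ n ih => rw [pow_succ]; exact hmul _ _ ih ha
  let G₀ : Subgroup X :=
    { carrier := S
      one_mem' := h1
      mul_mem' := fun {a b} => hmul a b
      inv_mem' := fun {a} ha => by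
        obtain ⟨n, hn⟩ := (isOfFinOrder_of_finite a).mem_powers_iff_mem_zpowers.2
          (inv_mem (mem_zpowers a))
        simp only at hn
        exact hn ▸ hpow a ha n }
  refine ⟨G₀, fun g => Iff.rfl, fun N hN hxN hNC hlt => ?_⟩
  rw [← c.decomp hN hxN]
  refine sup_le ?_ ?_
  · -- the commutator part: induction
    intro t ht
    have htN : t ∈ N := Coprime.commutator_le_of_le_normalizer (zp_le_normalizer hxN) ht
    refine ⟨hN htN, fun y hy => ?_⟩
    have hxS : x ∈ normalizer ((Y ⊔ N : Subgroup X) : Set X) :=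
      Coprime.le_normalizer_sup_sup (zp_le_normalizer (nmem Y x)) (zp_le_normalizer hxN) (mem_zpowers x)
    refine mem_KK_of_inv c hL (J := ⁅Y ⊔ N, zpowers x⁆) ?_
      (hs _ (sup_le hY hN) hxS hlt) ?_ (hcomm y hy t (hN htN))
    · exact normalizer_commutator_ge_right _ _ (mem_zpowers x)
    · have ht' : t ∈ ⁅Y ⊔ N, zpowers x⁆ := commutator_mono le_sup_right le_rfl ht
      rw [commutatorElement_def]
      exact mul_mem (conj_mem (normalizer_commutator_ge_left _ _ (mem_sup_left hy)) ht')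
        (inv_mem ht')
  · -- the fixed part lies in `E`
    rintro d ⟨hdN, hdC⟩
    refine ⟨hN hdN, ?_⟩
    have hdE : d ∈ E x H := hNC ⟨hdN, hdC⟩
    have hd : d ∈ H := hN hdN
    haveI := c.normal
    have hadd : ∀ y ∈ Y, ∀ y' ∈ Y, ⁅y * y', d⁆ = ⁅y', d⁆ * ⁅y, d⁆ := by
      intro y hy y' hy'
      have : ⁅y * y', d⁆ = y * ⁅y', d⁆ * y⁻¹ * ⁅y, d⁆ := by
        simp only [commutatorElement_def]; group
      rw [this, ← mem_centralizer_iff.1 (hYL hy) _ (hcomm y' hy' d hd), mul_inv_cancel_right]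
    have hinv : ∀ y ∈ Y, ⁅y⁻¹, d⁆ = ⁅y, d⁆⁻¹ := by
      intro y hy
      have := hadd y hy y⁻¹ (inv_mem hy)
      rw [mul_inv_cancel, commutatorElement_one_left] at this
      exact eq_inv_of_mul_eq_one_left this.symm
    let Y₀ : Subgroup X :=
      { carrier := {y | y ∈ Y ∧ ⁅y, d⁆ ∈ K}
        one_mem' := ⟨one_mem _, by simp⟩
        mul_mem' := fun {a b} ha hb => ⟨mul_mem ha.1 hb.1, by
          rw [hadd a ha.1 b hb.1]; exact mul_mem hb.2 ha.2⟩
        inv_mem' := fun {a} ha => ⟨inv_mem ha.1, by rw [hinv a ha.1]; exact inv_mem ha.2⟩ }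
    intro y hy
    refine (SetLike.le_def.1 ?_ hy : y ∈ Y₀).2
    rw [← c.decomp hY (nmem Y x)]
    refine sup_le ?_ ?_
    · rw [Subgroup.commutator_le]
      intro y hy a ha
      have hm : a * y⁻¹ * a⁻¹ ∈ Y := (inferInstance : Y.Normal).conj_mem _ (inv_mem hy) a
      have e : ⁅y, a⁆ = y * (a * y⁻¹ * a⁻¹) := by rw [commutatorElement_def]; group
      refine ⟨e ▸ mul_mem hy hm, ?_⟩
      rw [e, hadd y hy _ hm]
      have had : a * d * a⁻¹ = d := by
        rw [mem_centralizer_iff.1 hdC a ha]; group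
      have e2 : ⁅a * y⁻¹ * a⁻¹, d⁆ = a * ⁅y⁻¹, d⁆ * a⁻¹ := by
        conv_lhs => rw [← had]
        simp only [commutatorElement_def]; group
      rw [e2, hinv y hy]
      have := twist_mem_KK (H := H) (L := L) (inv_mem (hcomm y hy d hd)) ha
      rwa [inv_inv] at this
    · rintro y ⟨hy, hyC⟩
      refine ⟨hy, mem_sup_left ⟨⟨?_, hcomm y hy d hd⟩, ?_⟩⟩
      · rw [commutatorElement_def]
        exact (E x H).mul_mem (conj_mem_E hyC hdE) ((E x H).inv_mem hdE)
      · rw [commutatorElement_def]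
        exact (centralizer (zpowers x : Set X)).mul_mem ((centralizer (zpowers x : Set X)).mul_mem ((centralizer (zpowers x : Set X)).mul_mem hyC hdC) ((centralizer (zpowers x : Set X)).inv_mem hyC)) ((centralizer (zpowers x : Set X)).inv_mem hdC)

end KK

end CfsgLib.FgsC.FixGen
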