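import Mathlib
import Cfsg.Agent.Lib.FgsC.CommutatorFixGen
import Cfsg.Agent.Lib.PGroups.Basic

/-!
The nilpotent, central and non-central cases for the fixed point generation in `[H, x]`.
-/

set_option autoImplicit false
set_option maxHeartbeats 400000

namespace CfsgLib.FgsC.FixGen

open Subgroup
open scoped commutatorElement Pointwise

variable {X : Type*} [Group X] [Finite X] {p : ℕ} {x : X} {H : Subgroup X}

lemma C_normalizes (N : Subgroup X) [N.Normal] (g : X) : g ∈ normalizer (N : Set X) := nmem N g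

/-- nilpotent case: some nontrivial normal subgroup has its fixed points in `E` -/
lemma qgroup_case (c : Cfg p x H) (hT : ⁅H, zpowers x⁆ = H) (hs : SubOK x H) {q : ℕ}
    [Fact q.Prime] (hq : IsPGroup q H) (hne : H ≠ ⊥) (hnab : ⁅H, H⁆ ≠ ⊥) :
    ∃ N : Subgroup X, N.Normal ∧ N ≤ H ∧ N ≠ ⊥ ∧
      N ⊓ centralizer (zpowers x : Set X) ≤ E x H := by
  classical
  haveI := c.normal
  by_cases hD : ∃ h ∈ H, D x h = H
  · obtain ⟨h, hh, hDh⟩ := hD
    exact ⟨H, inferInstance, le_rfl, hne,
      fun a ha => le_E hh ⟨hDh.symm ▸ ha.1, ha.2⟩⟩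
  push_neg at hD
  have hDlt : ∀ h ∈ H, D x h ⊔ ⁅H, H⁆ ≠ H := by
    intro h hh he
    refine hD h hh ?_
    have hDH : D x h ≤ H := D_le (nmem H x) hh
    have h1 : (D x h).subgroupOf H ⊔ frattini H = ⊤ := by
      rw [eq_top_iff]
      refine le_trans ?_ (sup_le_sup_left (PGroups.commutator_le_frattini hq) _)
      rw [← map_le_map_iff_of_injective H.subtype_injective, Subgroup.map_sup,
        map_subgroupOf_eq_of_le hDH, _root_.commutator_def, Subgroup.map_commutator,
        ← MonoidHom.range_eq_map, range_subtype, he]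
    have h2 := frattini_nongenerating h1
    rw [subgroupOf_eq_top] at h2
    exact le_antisymm hDH h2
  have hnorm : ∀ n, (H.lowerCentralSeries n).Normal := by
    intro n
    induction n with
    | zero => rwa [Subgroup.lowerCentralSeries_zero]
    | succ n ih => rw [Subgroup.lowerCentralSeries_succ]; infer_instance
  haveI : Group.IsNilpotent H := hq.isNilpotent
  have hex : ∃ n, H.lowerCentralSeries n = ⊥ :=
    (isNilpotent_iff_lowerCentralSeries H).1 inferInstance
  obtain ⟨k, hk⟩ : ∃ k, Nat.find hex = k + 2 := by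
    refine ⟨Nat.find hex - 2, ?_⟩
    have h0 : Nat.find hex ≠ 0 := fun h => hne (by simpa [h] using Nat.find_spec hex)
    have h1 : Nat.find hex ≠ 1 := fun h => hnab (by
      have := Nat.find_spec hex
      rwa [h, Subgroup.lowerCentralSeries_succ, Subgroup.lowerCentralSeries_zero] at this)
    omega
  set Y := H.lowerCentralSeries k with hYdef
  set L := H.lowerCentralSeries (k + 1) with hLdef
  haveI : Y.Normal := hnorm k
  haveI : L.Normal := hnorm (k + 1)
  have hLne : L ≠ ⊥ := Nat.find_min hex (by omega)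
  have hcent : L ≤ centralizer (H : Set X) := by
    rw [← commutator_eq_bot_iff_le_centralizer]
    have := Nat.find_spec hex
    rwa [hk, Subgroup.lowerCentralSeries_succ] at this
  have hY : Y ≤ H := by
    have := H.lowerCentralSeries_antitone (Nat.zero_le k)
    rwa [Subgroup.lowerCentralSeries_zero] at this
  have hLY : L ≤ Y := H.lowerCentralSeries_antitone (Nat.le_succ k)
  have hL : L ≤ H := hLY.trans hY
  have hYL : Y ≤ centralizer (L : Set X) := fun y hy => mem_centralizer_iff.2 fun l hl =>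
    (mem_centralizer_iff.1 (hcent hl) y (hY hy)).symm
  have hcomm : ∀ y ∈ Y, ∀ g ∈ H, ⁅y, g⁆ ∈ L := fun y hy g hg => by
    rw [hLdef, Subgroup.lowerCentralSeries_succ]; exact commutator_mem_commutator hy hg
  obtain ⟨G₀, hG₀, hG₀N⟩ := commutator_mem_KK c hs hL hY hLY hYL hcomm
  suffices hLK : L ≤ KK x H L by
    refine ⟨L, inferInstance, hL, hLne, fun a ha => ?_⟩
    exact mem_E_of_mem_KK c hL (hLY.trans hYL) (hLK ha.1) ha.2
  rcases Nat.eq_zero_or_pos k with hk0 | hk0
  · -- class two
    have hYH : Y = H := by rw [hYdef, hk0, Subgroup.lowerCentralSeries_zero]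
    set K := KK x H L
    haveI hKn : K.Normal := by
      refine c.normal_of (fun h hh => mem_normalizer_of_conj fun s hs' => ?_)
        (mem_normalizer_of_conj fun s hs' => ?_)
      · rw [mem_centralizer_iff.1 (hcent (KK_le hs')) h hh, mul_inv_cancel_right]
        exact hs'
      · have := mul_mem (twist_mem_KK (H := H) (KK_le hs') (mem_zpowers x)) hs'
        rwa [inv_mul_cancel_right] at this
    let π := QuotientGroup.mk' K
    have hπ0 : ∀ k ∈ K, π k = 1 := fun k hk => (QuotientGroup.eq_one_iff k).2 hk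
    -- the orbit of one element generates a proper subgroup
    have hsq : ∀ h ∈ H, ⁅h, x * h * x⁻¹⁆ ∈ K := by
      intro h hh
      set S : Subgroup X := closure {c | ∃ i : ℕ, c = x ^ i * h * (x ^ i)⁻¹} with hSdef
      have hSH : S ≤ H := by
        rw [hSdef, closure_le]
        rintro - ⟨i, rfl⟩
        exact c.normal.conj_mem h hh _
      have hxS : x ∈ normalizer (S : Set X) := by
        refine mem_normalizer_of_conj fun s hs' => ?_
        have : S ≤ S.comap (MulAut.conj x).toMonoidHom := by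
          conv_lhs => rw [hSdef]
          rw [closure_le]
          rintro - ⟨i, rfl⟩
          refine subset_closure ⟨i + 1, ?_⟩
          simp only [MulEquiv.coe_toMonoidHom, MulAut.conj_apply, pow_succ']
          group
        exact this hs'
      have hhS : h ∈ S := subset_closure ⟨0, by simp⟩
      have hlt : Nat.card S < Nat.card H := by
        refine (Subgroup.card_le_of_le hSH).lt_of_ne fun he => ?_
        have hSeq : S = H := eq_of_le_of_card_ge hSH he.ge
        apply hDlt h hh
        set M := D x h ⊔ ⁅H, H⁆ with hMdef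
        have hMH : M ≤ H := sup_le (D_le (nmem H x) hh) (commutator_le_self H)
        haveI : M.Normal := by
          refine c.normal_of (fun g hg => mem_normalizer_of_conj fun s hs' => ?_)
            (Coprime.le_normalizer_sup_sup (zp_le_normalizer (x_mem_normalizer_D x h))
              (zp_le_normalizer (nmem _ x)) (mem_zpowers x))
          have e : g * s * g⁻¹ = ⁅g, s⁆ * s := by rw [commutatorElement_def]; group
          rw [e]
          exact mul_mem (mem_sup_right (commutator_mem_commutator hg (hMH hs'))) hs'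
        let f := QuotientGroup.mk' M
        have hfx : ∀ i : ℕ, f (x ^ i * h * (x ^ i)⁻¹) = f h := by
          intro i
          have : f (h⁻¹ * (x ^ i * h * (x ^ i)⁻¹)) = 1 :=
            (QuotientGroup.eq_one_iff _).2 (mem_sup_left (gen_mem x h i))
          rwa [map_mul, map_inv, inv_mul_eq_one, eq_comm] at this
        have hfix : H ≤ (centralizer {f x}).comap f := by
          rw [← hSeq]
          conv_lhs => rw [hSdef]
          rw [closure_le]
          rintro - ⟨i, rfl⟩
          rw [SetLike.mem_coe, mem_comap, hfx, mem_centralizer_singleton_iff]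
          have h1 := hfx 1
          rw [pow_one, map_mul, map_mul, map_inv, mul_inv_eq_iff_eq_mul] at h1
          exact h1.symm
        refine le_antisymm hMH ?_
        conv_lhs => rw [← hT]
        refine commutator_le.2 fun s hs' a ha => ?_
        rw [← QuotientGroup.eq_one_iff (N := M)]
        show f ⁅s, a⁆ = 1
        rw [map_commutatorElement, commutatorElement_eq_one_iff_commute]
        obtain ⟨i, rfl⟩ := mem_zpowers_iff.1 ha
        rw [map_zpow]
        exact Commute.zpow_right (mem_centralizer_singleton_iff.1 (hfix hs')) i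
      refine mem_KK_of_inv c hL (J := ⁅S, zpowers x⁆)
        (normalizer_commutator_ge_right _ _ (mem_zpowers x)) (hs S hSH hxS hlt) ?_
        (hcomm h (hYH.symm ▸ hh) _ (c.normal.conj_mem h hh x))
      have he : h⁻¹ * (x ^ 1 * h * (x ^ 1)⁻¹) ∈ ⁅S, zpowers x⁆ :=
        D_le_commutator hhS (gen_mem x h 1)
      rw [pow_one] at he
      have hNS := normalizer_commutator_ge_left S (zpowers x) hhS
      have e : ⁅h, x * h * x⁻¹⁆ = h * ((h * (h⁻¹ * (x * h * x⁻¹)) * h⁻¹) *
          (h⁻¹ * (x * h * x⁻¹))⁻¹) * h⁻¹ := by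
        rw [commutatorElement_def]; group
      rw [e]
      exact conj_mem hNS (mul_mem (conj_mem hNS he) (inv_mem he))
    -- computations modulo `K`
    let σ : X → X := fun a => x * a * x⁻¹
    have hσH : ∀ a ∈ H, σ a ∈ H := fun a ha => c.normal.conj_mem a ha x
    let β : X → X → X ⧸ K := fun a b => π ⁅a, b⁆
    have hcm : ∀ a ∈ H, ∀ b ∈ H, ∀ g ∈ H, g * ⁅a, b⁆ * g⁻¹ = ⁅a, b⁆ := fun a ha b hb g hg => by
      rw [mem_centralizer_iff.1 (hcent (hcomm a (hYH.symm ▸ ha) b hb)) g hg, mul_inv_cancel_right]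
    have hσβ : ∀ a ∈ H, ∀ b ∈ H, β (σ a) (σ b) = β a b := by
      intro a ha b hb
      have h1 := hπ0 _ (twist_mem_KK (H := H) (hcomm a (hYH.symm ▸ ha) b hb) (mem_zpowers x))
      rw [map_mul, map_inv, mul_inv_eq_one] at h1
      simp only [β, σ]
      rw [← h1]
      congr 1
      simp only [commutatorElement_def]; group
    have hleft : ∀ a ∈ H, ∀ b ∈ H, ∀ d ∈ H, β (a * b) d = β a d * β b d := by
      intro a ha b hb d hd
      have e : ⁅a * b, d⁆ = a * ⁅b, d⁆ * a⁻¹ * ⁅a, d⁆ := by
        simp only [commutatorElement_def]; group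
      have hco : ⁅b, d⁆ * ⁅a, d⁆ = ⁅a, d⁆ * ⁅b, d⁆ :=
        mem_centralizer_iff.1 (hcent (hcomm a (hYH.symm ▸ ha) d hd)) _
          (hL (hcomm b (hYH.symm ▸ hb) d hd))
      simp only [β]
      rw [e, hcm b hb d hd a ha, hco, map_mul]
    have hright : ∀ a ∈ H, ∀ b ∈ H, ∀ d ∈ H, β a (b * d) = β a b * β a d := by
      intro a ha b hb d hd
      have e : ⁅a, b * d⁆ = ⁅a, b⁆ * (b * ⁅a, d⁆ * b⁻¹) := by
        simp only [commutatorElement_def]; group
      simp only [β]
      rw [e, hcm a ha d hd b hb, map_mul]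
    have hdiag : ∀ a ∈ H, β a (σ a) = 1 := fun a ha => hπ0 _ (hsq a ha)
    have hswap : ∀ a b : X, β a b = (β b a)⁻¹ := fun a b => by
      simp only [β]; rw [← map_inv, commutatorElement_inv]
    have hflip : ∀ a ∈ H, ∀ b ∈ H, β a (σ b) = β (σ a) b := by
      intro a ha b hb
      have h1 := hdiag (a * b) (mul_mem ha hb)
      rw [show σ (a * b) = σ a * σ b by simp only [σ]; group,
        hright _ (mul_mem ha hb) _ (hσH a ha) _ (hσH b hb), hleft _ ha _ hb _ (hσH a ha),
        hleft _ ha _ hb _ (hσH b hb), hdiag a ha, hdiag b hb, one_mul, mul_one,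
        hswap b (σ a)] at h1
      exact (inv_mul_eq_one.1 h1).symm
    have htwo : ∀ a ∈ H, ∀ b ∈ H, β a (σ (σ b)) = β a b := fun a ha b hb => by
      rw [hflip a ha _ (hσH b hb), hσβ a ha b hb]
    have hiter : ∀ (i : ℕ), ∀ a ∈ H, ∀ b ∈ H,
        β a (x ^ (2 * i) * b * (x ^ (2 * i))⁻¹) = β a b := by
      intro i
      induction i with
      | zero => intro a ha b hb; simp
      | succ i ih =>
        intro a ha b hb
        have e : x ^ (2 * (i + 1)) * b * (x ^ (2 * (i + 1)))⁻¹ =
            σ (σ (x ^ (2 * i) * b * (x ^ (2 * i))⁻¹)) := by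
          simp only [σ]; rw [Nat.mul_succ, pow_add]; group
        rw [e, htwo a ha _ (c.normal.conj_mem b hb _), ih a ha b hb]
    have hev : ∀ i : ℕ, ∃ j, x ^ i = x ^ (2 * j) := by
      intro i
      obtain ⟨m, hm⟩ := (c.prime.odd_of_ne_two c.odd : Odd p)
      refine ⟨i * (m + 1), ?_⟩
      have : 2 * (i * (m + 1)) = i + p * i := by subst hm; ring
      rw [this, pow_add, pow_mul, c.pow_p, one_pow, mul_one]
    rw [hLdef, Subgroup.lowerCentralSeries_succ, ← hYdef, hYH, commutator_le]
    intro a ha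
    suffices hker : ∀ g ∈ H, β a g = 1 by
      exact fun b hb => (QuotientGroup.eq_one_iff _).1 (hker b hb)
    let Ka : Subgroup X :=
      { carrier := {g | g ∈ H ∧ β a g = 1}
        one_mem' := ⟨one_mem _, by simp [β]⟩
        mul_mem' := fun {u v} hu hv => ⟨mul_mem hu.1 hv.1, by
          rw [hright a ha u hu.1 v hv.1, hu.2, hv.2, one_mul]⟩
        inv_mem' := fun {u} hu => ⟨inv_mem hu.1, by
          have := hright a ha u hu.1 u⁻¹ (inv_mem hu.1)
          rw [mul_inv_cancel, hu.2, one_mul] at this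
          rw [← this]; simp [β]⟩ }
    intro g hg
    refine (SetLike.le_def.1 ?_ hg : g ∈ Ka).2
    conv_lhs => rw [← hT]
    refine commutator_le_of_D fun s hs' => ?_
    rw [D, closure_le]
    rintro - ⟨i, rfl⟩
    refine ⟨mul_mem (inv_mem hs') (c.normal.conj_mem s hs' _), ?_⟩
    obtain ⟨j, hj⟩ := hev i
    rw [hj, hright a ha _ (inv_mem hs') _ (c.normal.conj_mem s hs' _), hiter j a ha s hs',
      ← hright a ha _ (inv_mem hs') s hs', inv_mul_cancel]
    simp [β]
  · -- higher class
    have hle : H ≤ G₀ := by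
      conv_lhs => rw [← hT]
      refine commutator_le_of_D fun h hh => ?_
      refine hG₀N (D x h) (D_le (nmem H x) hh) (x_mem_normalizer_D x h) (le_E hh) ?_
      refine (Subgroup.card_le_of_le (sup_le hY (D_le (nmem H x) hh))).lt_of_ne fun he => ?_
      apply hDlt h hh
      refine le_antisymm (sup_le (D_le (nmem H x) hh) (commutator_le_self H)) ?_
      have hYH' : Y ≤ ⁅H, H⁆ := by
        have := H.lowerCentralSeries_antitone hk0
        rwa [Subgroup.lowerCentralSeries_succ, Subgroup.lowerCentralSeries_zero] at this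
      have hsupEq : Y ⊔ D x h = H := eq_of_le_of_card_ge (sup_le hY (D_le (nmem H x) hh)) he.ge
      exact hsupEq.ge.trans (sup_le (hYH'.trans le_sup_right) le_sup_left)
    rw [hLdef, Subgroup.lowerCentralSeries_succ, ← hYdef, commutator_le]
    exact fun y hy g hg => ((hG₀ g).1 (hle hg)).2 y hy

/-- central case -/
lemma central_case (c : Cfg p x H) (hT : ⁅H, zpowers x⁆ = H) (hs : SubOK x H) {q : ℕ}
    [Fact q.Prime] (hnq : ¬ IsPGroup q H) {V : Subgroup X} (hVH : V ≤ H)
    (hVq : ∀ v ∈ V, v ^ q = 1) (hVc : V ≤ centralizer (H : Set X))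
    (hlift : ∀ g ∈ H ⊓ centralizer (zpowers x : Set X), ∃ e ∈ E x H,
      ∃ n ∈ V ⊓ centralizer (zpowers x : Set X), g = e * n) :
    V ⊓ centralizer (zpowers x : Set X) ≤ E x H := by
  rintro w ⟨hwV, hwC⟩
  haveI := c.normal
  have hEH : E x H ≤ H := E_le fun g hg => inf_le_left.trans (D_le (nmem H x) hg)
  -- the derived group of the fixed points lies in `E`
  have hCC : ∀ a ∈ H ⊓ centralizer (zpowers x : Set X),
      ∀ b ∈ H ⊓ centralizer (zpowers x : Set X), ⁅a, b⁆ ∈ E x H := by
    intro a ha b hb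
    obtain ⟨e, he, n, hn, rfl⟩ := hlift a ha
    obtain ⟨e', he', n', hn', rfl⟩ := hlift b hb
    have hc : ∀ z ∈ V, ∀ g ∈ H, g * z = z * g := fun z hz g hg =>
      mem_centralizer_iff.1 (hVc hz) g hg
    have h1 : e' * n' * n = n * (e' * n') := hc n hn.1 _ (mul_mem (hEH he') (hVH hn'.1))
    have h2 : e * n' = n' * e := hc n' hn'.1 e (hEH he)
    have e1 : ⁅e * n, e' * n'⁆ = ⁅e, e'⁆ := by
      calc ⁅e * n, e' * n'⁆ = e * (n * (e' * n')) * n⁻¹ * e⁻¹ * (e' * n')⁻¹ := by
            rw [commutatorElement_def]; group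
        _ = e * (e' * n') * e⁻¹ * (e' * n')⁻¹ := by rw [← h1]; group
        _ = e * e' * (n' * e⁻¹) * n'⁻¹ * e'⁻¹ := by group
        _ = ⁅e, e'⁆ := by
            rw [← hc n' hn'.1 e⁻¹ (inv_mem (hEH he)), commutatorElement_def]; group
    rw [e1, commutatorElement_def]
    exact mul_mem (mul_mem (mul_mem he he') (inv_mem he)) (inv_mem he')
  -- an invariant Sylow subgroup
  obtain ⟨Q₀, hQ₀⟩ := Coprime.exists_invariant_sylow (p := q) (zp_le_normalizer (nmem H x))
    (c.cop le_rfl) (Or.inr c.solvable)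
  set Q := (Q₀ : Subgroup H).map H.subtype with hQdef
  have hQH : Q ≤ H := map_subtype_le _
  have hxQ : x ∈ normalizer (Q : Set X) := hQ₀ (mem_zpowers x)
  have hcardQ : Nat.card Q = Nat.card Q₀ := card_map_of_injective H.subtype_injective
  have hQlt : Nat.card Q < Nat.card H := by
    refine (Subgroup.card_le_of_le hQH).lt_of_ne fun he => hnq ?_
    have := eq_of_le_of_card_ge hQH he.ge
    exact (Q₀.2.map H.subtype).of_equiv (MulEquiv.subgroupCongr this)
  set P := zpowers x with hPdef
  set C := centralizer (P : Set X) with hCdef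
  set QP := P ⊔ Q with hQPdef
  have hPQ : P ≤ normalizer (Q : Set X) := zp_le_normalizer hxQ
  have hdis : ∀ S ≤ H, P ⊓ S = ⊥ := fun S hS => Coprime.inf_eq_bot_of_coprime (c.cop hS)
  -- `w` is central, so transfer puts a power of it into `⁅QP, QP⁆`
  have hwc : ∀ g : X, g * w = w * g := by
    intro g
    have hg : g ∈ H ⊔ P := c.gen ▸ mem_top g
    refine (mem_centralizer_singleton_iff.1 (SetLike.le_def.1 (sup_le ?_ ?_) hg :
      g ∈ centralizer {w}))
    · exact fun a ha => mem_centralizer_singleton_iff.2 (mem_centralizer_iff.1 (hVc hwV) a ha)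
    · exact fun a ha => mem_centralizer_singleton_iff.2 (mem_centralizer_iff.1 hwC a ha)
  have hkey : ∀ (k : ℕ) (g₀ : X), g₀⁻¹ * w ^ k * g₀ ∈ QP → g₀⁻¹ * w ^ k * g₀ = w ^ k := by
    intro k g₀ _
    rw [mul_assoc, ← ((show Commute g₀ w from hwc g₀).pow_right k).eq, inv_mul_cancel_left]
  let ϕ : ↥QP →* Abelianization ↥QP := Abelianization.of
  have htr := MonoidHom.transfer_eq_pow ϕ w hkey
  have hker : MonoidHom.transfer ϕ w = 1 := by
    refine Abelianization.commutator_subset_ker _ ?_
    have hwH : w ∈ ⁅H, P⁆ := hT.symm ▸ hVH hwV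
    exact (commutator_mono le_top le_top : ⁅H, P⁆ ≤ ⁅(⊤ : Subgroup X), ⊤⁆) hwH
  rw [hker] at htr
  have hidx : ¬ q ∣ QP.index := by
    have h1 : Nat.card X = Nat.card P * Nat.card H := by
      rw [← Coprime.card_sup_of_inf_eq_bot (zp_le_normalizer (nmem H x)) (hdis H le_rfl),
        sup_comm, c.gen, Subgroup.card_top]
    have h2 : Nat.card QP = Nat.card P * Nat.card Q :=
      Coprime.card_sup_of_inf_eq_bot hPQ (hdis Q hQH)
    have h3 := QP.card_mul_index
    rw [h1, h2, ← (Q₀ : Subgroup H).card_mul_index, hcardQ, ← mul_assoc] at h3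
    rw [Nat.eq_of_mul_eq_mul_left (Nat.mul_pos Nat.card_pos Nat.card_pos) h3]
    exact Q₀.not_dvd_index
  have hwcomm : w ∈ ⁅QP, QP⁆ := by
    have hmem : (⟨w ^ QP.index, MonoidHom.transfer_eq_pow_aux w hkey⟩ : QP) ∈ commutator QP := by
      rw [← Abelianization.ker_of]; exact htr.symm
    have h1 : w ^ QP.index ∈ ⁅QP, QP⁆ := by
      have h2 := mem_map_of_mem QP.subtype hmem
      rwa [_root_.commutator_def, Subgroup.map_commutator, ← MonoidHom.range_eq_map, range_subtype]
        at h2
    obtain ⟨j, hj⟩ := Nat.exists_mul_mod_eq_one_of_coprime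
      ((Fact.out : q.Prime).coprime_iff_not_dvd.2 hidx).symm (Fact.out : q.Prime).one_lt
    have h3 := pow_mem h1 j
    rw [← pow_mul, ← Nat.mod_add_div (QP.index * j) q, hj.2, pow_add, pow_mul,
      hVq w hwV, one_pow, mul_one, pow_one] at h3
    exact h3
  -- `⁅QP, QP⁆ ≤ ⁅Q, P⁆ ⊔ ⁅C_Q, C_Q⁆`
  set CQ := Q ⊓ C with hCQdef
  set R := ⁅Q, P⁆ ⊔ ⁅CQ, CQ⁆ with hRdef
  have hCP : CQ ≤ centralizer (P : Set X) := inf_le_right
  have hPCQ : P ≤ centralizer (CQ : Set X) := le_centralizer_iff.1 hCP
  have hPn : P ≤ normalizer (⁅CQ, CQ⁆ : Subgroup X) := by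
    refine (fun a ha => mem_normalizer_of_conj fun s hs' => ?_)
    have hsC : s ∈ CQ := commutator_le_self CQ hs'
    rwa [← mem_centralizer_iff.1 (hPCQ ha) s hsC, mul_inv_cancel_right]
  have hPR : P ≤ normalizer (R : Set X) :=
    Coprime.le_normalizer_sup_sup (normalizer_commutator_ge_right Q P) hPn
  have hCR : CQ ≤ normalizer (R : Set X) :=
    Coprime.le_normalizer_sup_sup (inf_le_left.trans (normalizer_commutator_ge_left Q P))
      (normalizer_commutator_ge_left CQ CQ)
  have hTR : ⁅Q, P⁆ ≤ normalizer (R : Set X) := le_sup_left.trans le_normalizer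
  -- a commutator calculus modulo `R`
  have hsup : ∀ A B Z : Subgroup X, A ≤ normalizer (R : Set X) → B ≤ normalizer (R : Set X) →
      ⁅A, Z⁆ ≤ R → ⁅B, Z⁆ ≤ R → ⁅A ⊔ B, Z⁆ ≤ R := by
    intro A B Z hA hB h1 h2
    let M : Subgroup X :=
      { carrier := {a | a ∈ normalizer (R : Set X) ∧ ∀ z ∈ Z, ⁅a, z⁆ ∈ R}
        one_mem' := ⟨one_mem _, fun z _ => by simp⟩
        mul_mem' := fun {a b} ha hb => ⟨mul_mem ha.1 hb.1, fun z hz => by
          have : ⁅a * b, z⁆ = a * ⁅b, z⁆ * a⁻¹ * ⁅a, z⁆ := by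
            simp only [commutatorElement_def]; group
          rw [this]
          exact mul_mem (conj_mem ha.1 (hb.2 z hz)) (ha.2 z hz)⟩
        inv_mem' := fun {a} ha => ⟨inv_mem ha.1, fun z hz => by
          have : ⁅a⁻¹, z⁆ = a⁻¹ * ⁅a, z⁆⁻¹ * a⁻¹⁻¹ := by
            simp only [commutatorElement_def]; group
          rw [this]
          exact conj_mem (inv_mem ha.1) (inv_mem (ha.2 z hz))⟩ }
    have hle : A ⊔ B ≤ M := sup_le
      (fun a ha => ⟨hA ha, fun z hz => h1 (commutator_mem_commutator ha hz)⟩)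
      (fun a ha => ⟨hB ha, fun z hz => h2 (commutator_mem_commutator ha hz)⟩)
    exact commutator_le.2 fun a ha z hz => (hle ha).2 z hz
  have hQdec : ⁅Q, P⁆ ⊔ CQ = Q := c.decomp hQH hxQ
  have hQPeq : QP = ⁅Q, P⁆ ⊔ (CQ ⊔ P) := by rw [← sup_assoc, hQdec, hQPdef, sup_comm]
  have hTZ : ∀ Z : Subgroup X, Z ≤ normalizer (R : Set X) → ⁅⁅Q, P⁆, Z⁆ ≤ R := by
    intro Z hZ
    rw [commutator_le]
    intro t ht z hz
    have : ⁅t, z⁆ = t * (z * t⁻¹ * z⁻¹) := by rw [commutatorElement_def]; group
    rw [this]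
    exact mul_mem (mem_sup_left ht) (conj_mem (hZ hz) (inv_mem (mem_sup_left ht)))
  have hgens : ⁅CQ ⊔ P, CQ ⊔ P⁆ ≤ R := by
    have hCPb : ⁅CQ, P⁆ ≤ R :=
      (commutator_eq_bot_iff_le_centralizer.2 hCP).le.trans bot_le
    refine hsup CQ P _ hCR hPR ?_ ?_
    · rw [commutator_comm]
      refine hsup CQ P _ hCR hPR le_sup_right ?_
      rw [commutator_comm]; exact hCPb
    · rw [commutator_comm]
      refine hsup CQ P _ hCR hPR hCPb ?_
      refine (commutator_eq_bot_iff_le_centralizer.2 ?_).le.trans bot_le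
      exact fun a ha => mem_centralizer_iff.2 fun b hb => by
        obtain ⟨i, rfl⟩ := mem_zpowers_iff.1 ha
        obtain ⟨j, rfl⟩ := mem_zpowers_iff.1 hb
        exact (Commute.refl x).zpow_zpow j i
  have hQPR : ⁅QP, QP⁆ ≤ R := by
    have hn : CQ ⊔ P ≤ normalizer (R : Set X) := sup_le hCR hPR
    have hn' : QP ≤ normalizer (R : Set X) := hQPeq ▸ sup_le hTR hn
    rw [hQPeq] at hn' ⊢
    refine hsup _ _ _ hTR hn (hTZ _ hn') ?_
    rw [commutator_comm]
    exact hsup _ _ _ hTR hn (hTZ _ hn) hgens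
  have hnorm2 : ⁅CQ, CQ⁆ ≤ normalizer (⁅Q, P⁆ : Subgroup X) :=
    ((commutator_le_self CQ).trans inf_le_left).trans (normalizer_commutator_ge_left Q P)
  have hwR : w ∈ ⁅CQ, CQ⁆ ⊔ ⁅Q, P⁆ := sup_comm ⁅Q, P⁆ _ ▸ hQPR hwcomm
  obtain ⟨d, hd, t, ht, rfl⟩ := (Coprime.mem_sup_iff_of_le_normalizer hnorm2).1 hwR
  have hdE : d ∈ E x H := by
    refine SetLike.le_def.1 (commutator_le.2 fun a ha b hb => ?_) hd
    exact hCC a ⟨hQH ha.1, ha.2⟩ b ⟨hQH hb.1, hb.2⟩
  have htC : t ∈ C := by
    have h1 : d⁻¹ * (d * t) ∈ C := mul_mem (inv_mem (E_le_C hdE)) hwC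
    rwa [inv_mul_cancel_left] at h1
  exact mul_mem hdE (hs Q hQH hxQ hQlt ⟨ht, htC⟩)

/-- non-central case -/
lemma noncentral_case (c : Cfg p x H) (hT : ⁅H, zpowers x⁆ = H) (hs : SubOK x H)
    (hnn : ∀ q : ℕ, q.Prime → ¬ IsPGroup q H)
    {V : Subgroup X} (hV : Base.IsMinimalNormal V) (hVH : V ≤ H) {q : ℕ} [Fact q.Prime]
    (hVab : V ≤ centralizer (V : Set X)) (hVp : IsPGroup q V)
    (hnc : ¬ V ≤ centralizer (H : Set X)) :
    ∃ N : Subgroup X, N.Normal ∧ N ≤ H ∧ N ≠ ⊥ ∧
      N ⊓ centralizer (zpowers x : Set X) ≤ E x H := by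
  classical
  haveI := hV.normal
  haveI := c.normal
  by_cases hVE : V ⊓ centralizer (zpowers x : Set X) ≤ E x H
  · exact ⟨V, inferInstance, hVH, hV.ne_bot, hVE⟩
  have hWne : V ⊓ centralizer (zpowers x : Set X) ≠ ⊥ := fun h => hVE (h ▸ bot_le)
  have hVN : ∀ {N : Subgroup X}, N.Normal → N ≤ V → N ≠ ⊥ → N = V := fun hN hle hne =>
    (hV.eq_bot_or_eq hN hle).resolve_left hne
  have hcomm : ∀ y ∈ V, ∀ g ∈ H, ⁅y, g⁆ ∈ V := fun y hy g _ => by
    rw [show ⁅y, g⁆ = y * (g * y⁻¹ * g⁻¹) by rw [commutatorElement_def]; group]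
    exact mul_mem hy (hV.normal.conj_mem _ (inv_mem hy) g)
  obtain ⟨G₀, hG₀, hG₀N⟩ := commutator_mem_KK c hs hVH hVH le_rfl hVab hcomm
  -- no subgroup of `G₀` generates `[V, ·] = V`
  have hK : ∀ N : Subgroup X, N ≤ G₀ → ⁅V, N⁆.Normal → ⁅V, N⁆ = ⊥ := by
    intro N hN hn
    by_contra hne
    have hle : ⁅V, N⁆ ≤ KK x H V :=
      commutator_le.2 fun y hy g hg => ((hG₀ g).1 (hN hg)).2 y hy
    refine hVE fun a ha => mem_E_of_mem_KK c hVH hVab ?_ ha.2
    exact hle ((hVN hn (commutator_le_left V N) hne).symm ▸ ha.1)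
  obtain ⟨h, hh, hHV⟩ : ∃ h ∈ H, V ⊔ D x h = H := by
    by_contra hno
    push_neg at hno
    have hle : H ≤ G₀ := by
      conv_lhs => rw [← hT]
      refine commutator_le_of_D fun h hh => ?_
      refine hG₀N _ (D_le (nmem H x) hh) (x_mem_normalizer_D x h) (le_E hh) ?_
      refine (Subgroup.card_le_of_le (sup_le hVH (D_le (nmem H x) hh))).lt_of_ne fun he => ?_
      exact hno h hh (eq_of_le_of_card_ge (sup_le hVH (D_le (nmem H x) hh)) he.ge)
    exact hnc (commutator_eq_bot_iff_le_centralizer.1 (hK H hle inferInstance))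
  -- every such `D x h` complements `V`
  have hcompl : ∀ h ∈ H, V ⊔ D x h = H → V ⊓ D x h = ⊥ := by
    intro h hh he
    by_contra hne
    haveI : (V ⊓ D x h).Normal := by
      refine c.normal_of (he ▸ sup_le ?_ ?_)
        (Coprime.le_normalizer_inf_inf (zp_le_normalizer (nmem V x))
          (zp_le_normalizer (x_mem_normalizer_D x h)) (mem_zpowers x))
      · exact fun v hv => mem_normalizer_of_conj fun s hs' => by
          rwa [mem_centralizer_iff.1 (hVab hs'.1) v hv, mul_inv_cancel_right]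
      · exact Coprime.le_normalizer_inf_inf (fun g _ => nmem V g) le_normalizer
    refine hVE fun a ha => le_E hh ⟨?_, ha.2⟩
    exact ((hVN inferInstance inf_le_left hne).symm ▸ ha.1 : a ∈ V ⊓ D x h).2
  set U := D x h with hUdef
  have hUH : U ≤ H := D_le (nmem H x) hh
  have hxU : x ∈ normalizer (U : Set X) := x_mem_normalizer_D x h
  have hdisj := hcompl h hh hHV
  have hdisj' : U ⊓ V = ⊥ := by rwa [inf_comm]
  have hUn : ∀ g : Subgroup X, U ≤ normalizer (g : Set X) → V ≤ normalizer (g : Set X) → g ≤ H →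
      x ∈ normalizer (g : Set X) → (g : Subgroup X).Normal :=
    fun g h1 h2 _ h3 => c.normal_of (hHV ▸ sup_le h2 h1) h3
  have hcard : ∀ N : Subgroup X, N ≤ U → Nat.card ↥(V ⊔ N) = Nat.card V * Nat.card N := by
    intro N hN
    rw [sup_comm, Coprime.card_sup_of_inf_eq_bot (fun g _ => nmem V g)
      (le_bot_iff.1 ((inf_le_inf_right V hN).trans hdisj'.le)), mul_comm]
  -- proper normal invariant subgroups of `U` centralise `V`
  have hprop : ∀ N : Subgroup X, N ≤ U → N ≠ U → U ≤ normalizer (N : Set X) →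
      x ∈ normalizer (N : Set X) → N ≤ centralizer (V : Set X) := by
    intro N hN hne hUN hxN
    rw [← commutator_eq_bot_iff_le_centralizer, commutator_comm]
    refine hK N (hG₀N N (hN.trans hUH) hxN ((inf_le_inf_right _ hN).trans (le_E hh)) ?_) ?_
    · have h1 : Nat.card H = Nat.card V * Nat.card U := by rw [← hHV]; exact hcard U le_rfl
      rw [hcard N hN, h1]
      refine Nat.mul_lt_mul_of_pos_left ?_ Nat.card_pos
      exact (Subgroup.card_le_of_le hN).lt_of_ne fun he => hne (eq_of_le_of_card_ge hN he.ge)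
    · refine hUn _ ?_ ?_ ((commutator_le_left V N).trans hVH) ?_
      · refine fun g hg => mem_normalizer_of_conj fun s hs' => ?_
        have : ⁅V, N⁆ ≤ ⁅V, N⁆.comap (MulAut.conj g).toMonoidHom := by
          refine commutator_le.2 fun a ha b hb => ?_
          rw [mem_comap, map_commutatorElement]
          exact commutator_mem_commutator (conj_mem (nmem V g) ha) (conj_mem (hUN hg) hb)
        exact this hs'
      · exact normalizer_commutator_ge_left V N
      · refine mem_normalizer_of_conj fun s hs' => ?_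
        have : ⁅V, N⁆ ≤ ⁅V, N⁆.comap (MulAut.conj x).toMonoidHom := by
          refine commutator_le.2 fun a ha b hb => ?_
          rw [mem_comap, map_commutatorElement]
          exact commutator_mem_commutator (conj_mem (nmem V x) ha) (conj_mem hxN hb)
        exact this hs'
  set C₀ := U ⊓ centralizer (V : Set X) with hC₀
  haveI hC₀n : C₀.Normal := by
    refine hUn _ ?_ ?_ (inf_le_left.trans hUH) ?_
    · exact Coprime.le_normalizer_inf_inf le_normalizer
        (Coprime.le_normalizer_centralizer fun g _ => nmem V g)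
    · exact fun v hv => mem_normalizer_of_conj fun s hs' => by
        rwa [mem_centralizer_iff.1 hs'.2 v hv, mul_inv_cancel_right]
    · exact Coprime.le_normalizer_inf_inf (zp_le_normalizer hxU)
        (Coprime.le_normalizer_centralizer (zp_le_normalizer (nmem V x))) (mem_zpowers x)
  by_cases hC₀1 : C₀ = ⊥
  swap
  · exact ⟨C₀, inferInstance, inf_le_left.trans hUH, hC₀1,
      (inf_le_inf_right _ inf_le_left).trans (le_E hh)⟩
  have hprop' : ∀ N : Subgroup X, N ≤ U → U ≤ normalizer (N : Set X) →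
      x ∈ normalizer (N : Set X) → N = ⊥ ∨ N = U := fun N hN h1 h2 => by
    by_cases he : N = U
    · exact Or.inr he
    · exact Or.inl (le_bot_iff.1 ((le_inf hN (hprop N hN he h1 h2)).trans hC₀1.le))
  have hUne : U ≠ ⊥ := by
    intro h0
    rw [h0, sup_bot_eq] at hHV
    exact hnc (hHV ▸ hVab)
  have hUab : ⁅U, U⁆ = ⊥ := by
    have hlt := Base.commutator_self_lt_of_isSolvable hUne
      (Coprime.isSolvable_of_le hUH c.solvable)
    refine (hprop' _ (commutator_le_self U) (normalizer_commutator_ge_left U U) ?_).resolve_right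
      hlt.ne
    refine mem_normalizer_of_conj fun s hs' => ?_
    have : ⁅U, U⁆ ≤ ⁅U, U⁆.comap (MulAut.conj x).toMonoidHom := by
      refine commutator_le.2 fun a ha b hb => ?_
      rw [mem_comap, map_commutatorElement]
      exact commutator_mem_commutator (conj_mem hxU ha) (conj_mem hxU hb)
    exact this hs'
  rw [commutator_eq_bot_iff_le_centralizer] at hUab
  have hUUn : ∀ N : Subgroup X, N ≤ U → U ≤ normalizer (N : Set X) := fun N hN u hu =>
    mem_normalizer_of_conj fun s hs' => by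
      rwa [mem_centralizer_iff.1 (hUab (hN hs')) u hu, mul_inv_cancel_right]
  have hUC : U ⊓ centralizer (zpowers x : Set X) = ⊥ := by
    refine (hprop' _ inf_le_left (hUUn _ inf_le_left) (Coprime.le_normalizer_inf_inf
      (zp_le_normalizer hxU) (le_normalizer.trans' (fun a ha => mem_centralizer_iff.2 fun b hb => by
        obtain ⟨i, rfl⟩ := mem_zpowers_iff.1 ha
        obtain ⟨j, rfl⟩ := mem_zpowers_iff.1 hb
        exact (Commute.refl x).zpow_zpow j i)) (mem_zpowers x))).resolve_right fun he => ?_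
    -- then `x` is trivial modulo `V`
    refine hUne (le_bot_iff.1 ?_)
    rw [← hdisj']
    refine le_inf le_rfl (hUH.trans ?_)
    conv_lhs => rw [← hT]
    refine commutator_le.2 fun s hs' a ha => ?_
    rw [← hHV, sup_comm] at hs'
    obtain ⟨u, hu, v, hv, rfl⟩ := (Coprime.mem_sup_iff_of_le_normalizer
      (fun g _ => nmem V g)).1 hs'
    have hua : u * a = a * u :=
      (mem_centralizer_iff.1 (he.ge hu).2 a ha).symm
    have e : ⁅u * v, a⁆ = u * (v * (a * v⁻¹ * a⁻¹)) * u⁻¹ * ⁅u, a⁆ := by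
      simp only [commutatorElement_def]; group
    rw [e, commutatorElement_eq_one_iff_mul_comm.2 hua, mul_one]
    exact hV.normal.conj_mem _ (mul_mem hv (hV.normal.conj_mem _ (inv_mem hv) a)) u
  have hcopVU : (Nat.card V).Coprime (Nat.card U) := by
    obtain ⟨n, hn⟩ := hVp.exists_card_eq
    rw [hn]
    refine Nat.Coprime.pow_left _ ((Fact.out : q.Prime).coprime_iff_not_dvd.2 fun hd => ?_)
    let Uq : Subgroup X :=
      { carrier := {u | u ∈ U ∧ ∃ k : ℕ, u ^ q ^ k = 1}
        one_mem' := ⟨one_mem _, 0, by simp⟩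
        mul_mem' := fun {a b} ha hb => by
          obtain ⟨ha, i, hi⟩ := ha
          obtain ⟨hb, j, hj⟩ := hb
          refine ⟨mul_mem ha hb, i + j, ?_⟩
          rw [(show Commute a b from mem_centralizer_iff.1 (hUab hb) a ha).mul_pow, pow_add,
            pow_mul, hi, one_pow, one_mul, mul_comm, pow_mul, hj, one_pow]
        inv_mem' := fun {a} ha => ⟨inv_mem ha.1, ha.2.imp fun k hk => by
          rw [inv_pow, hk, inv_one]⟩ }
    have hxq : x ∈ normalizer (Uq : Set X) := mem_normalizer_of_conj fun s hs' =>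
      ⟨conj_mem hxU hs'.1, hs'.2.imp fun k hk => by rw [conj_pow, hk]; group⟩
    rcases hprop' Uq (fun u hu => hu.1) (hUUn _ fun u hu => hu.1) hxq with h0 | h0
    · obtain ⟨y, hy⟩ := exists_prime_orderOf_dvd_card' q hd
      have : (y : X) ∈ Uq := ⟨y.2, 1, by
        rw [pow_one, ← hy, ← Subgroup.orderOf_coe, pow_orderOf_eq_one]⟩
      rw [h0, mem_bot] at this
      rw [show y = 1 from Subtype.ext this, orderOf_one] at hy
      exact (Fact.out : q.Prime).one_lt.ne hy
    · have hUq : IsPGroup q U := fun u => by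
        obtain ⟨k, hk⟩ := (h0.ge u.2).2
        exact ⟨k, Subtype.ext (by simpa using hk)⟩
      refine hnn q Fact.out ?_
      have := hVp.to_sup_of_normal_left hUq
      rwa [hHV] at this
  -- the counting
  set W := V ⊓ centralizer (zpowers x : Set X) with hWdef
  have hsurj : ∀ v ∈ V, ∃ a ∈ W, ∃ b ∈ W, h⁻¹ * a * h * b⁻¹ = v := by
    intro v hv
    have hg : h * v ∈ H := mul_mem hh (hVH hv)
    let π := QuotientGroup.mk' V
    have hπv : ∀ a ∈ V, π a = 1 := fun a ha => (QuotientGroup.eq_one_iff a).2 ha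
    have hmap : ∀ g, π g = π h → (D x g).map π = U.map π := fun g he => by
      rw [map_D, hUdef, map_D, he]
    have hsupv : V ⊔ D x (h * v) = H := by
      have hm := hmap (h * v) (by rw [map_mul, hπv v hv, mul_one])
      have := congrArg (Subgroup.comap π) hm
      rw [comap_map_eq, comap_map_eq, QuotientGroup.ker_mk', sup_comm, sup_comm U, hHV] at this
      exact this
    set U' := D x (h * v) with hU'def
    have hd' : U' ⊓ V = ⊥ := by rw [inf_comm]; exact hcompl _ hg hsupv
    have hU'H : U' ≤ H := D_le (nmem H x) hg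
    have hcU' : Nat.card U' = Nat.card U := by
      have h1 := Coprime.card_sup_of_inf_eq_bot (H := U') (fun g _ => nmem V g) hd'
      have h2 := Coprime.card_sup_of_inf_eq_bot (H := U) (fun g _ => nmem V g) hdisj'
      rw [sup_comm, hsupv] at h1
      rw [sup_comm, hHV, h1] at h2
      exact Nat.eq_of_mul_eq_mul_right Nat.card_pos h2
    obtain ⟨a, ha, hconj⟩ := Coprime.sz_conj_rel (N := V) (H := U) (fun g _ => nmem V g)
      (K := U') (fun g _ => nmem V g) hcopVU hcU' (hHV.symm ▸ hU'H)
      (Or.inl (Coprime.isSolvable_of_le hVH c.solvable))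
    obtain ⟨w, hw, hwconj⟩ := Coprime.exists_centralizing_conj_eq
      (zp_le_normalizer (nmem V x)) (c.cop hVH)
      (Or.inr (Coprime.isSolvable_of_le hVH c.solvable))
      (zp_le_normalizer hxU) (zp_le_normalizer (x_mem_normalizer_D x (h * v))) ⟨a, ha, hconj⟩
    have hwx : w⁻¹ * x * w = x := by
      rw [mul_assoc, mem_centralizer_iff.1 hw.2 x (mem_zpowers x)]; group
    -- conjugating back
    set g := w⁻¹ * (h * v) * w with hgdef
    have hDg : D x g = U := by
      have h1 : (D x (h * v)).map (MulAut.conj w⁻¹).toMonoidHom = U := by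
        rw [← hwconj, ← Coprime.conj_smul_eq_map, ← mul_smul, ← map_mul,
          inv_mul_cancel, map_one, one_smul]
      rw [map_D] at h1
      simp only [MulEquiv.coe_toMonoidHom, MulAut.conj_apply, inv_inv] at h1
      rwa [hwx] at h1
    have hπg : π g = π h := by
      simp [hgdef, hπv w hw.1, hπv v hv]
    have hge : g⁻¹ * (x * g * x⁻¹) = h⁻¹ * (x * h * x⁻¹) := by
      have h1 : g⁻¹ * (x * g * x⁻¹) ∈ U := by
        rw [← hDg]; simpa using gen_mem x g 1
      have h2 : h⁻¹ * (x * h * x⁻¹) ∈ U := by simpa [hUdef] using gen_mem x h 1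
      have h3 : (h⁻¹ * (x * h * x⁻¹))⁻¹ * (g⁻¹ * (x * g * x⁻¹)) ∈ U ⊓ V := by
        refine ⟨U.mul_mem (U.inv_mem h2) h1, ?_⟩
        refine (QuotientGroup.eq_one_iff (N := V) _).1 ?_
        show π _ = 1
        simp only [map_mul, map_inv, hπg]
        group
      rw [hdisj', mem_bot, inv_mul_eq_one] at h3
      exact h3.symm
    have hb : g * h⁻¹ ∈ W := by
      refine ⟨?_, mem_C.2 ?_⟩
      · refine (QuotientGroup.eq_one_iff (N := V) _).1 ?_
        show π _ = 1
        rw [map_mul, map_inv, hπg, mul_inv_cancel]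
      · calc x * (g * h⁻¹) = g * (g⁻¹ * (x * g * x⁻¹)) * x * h⁻¹ := by group
          _ = g * (h⁻¹ * (x * h * x⁻¹)) * x * h⁻¹ := by rw [hge]
          _ = g * h⁻¹ * x := by group
    refine ⟨w * (g * h⁻¹), mul_mem (s := W) hw hb, w, hw, ?_⟩
    rw [hgdef]; group
  have hsq : Nat.card V ≤ Nat.card W * Nat.card W := by
    rw [← Nat.card_prod]
    let f : W × W → V := fun ab => ⟨h⁻¹ * ab.1 * h * (ab.2 : X)⁻¹, mul_mem (by
      have := hV.normal.conj_mem _ ab.1.2.1 h⁻¹
      simpa using this) (inv_mem ab.2.2.1)⟩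
    refine Nat.card_le_card_of_surjective f fun v => ?_
    obtain ⟨a, ha, b, hb, he⟩ := hsurj v v.2
    exact ⟨(⟨a, ha⟩, ⟨b, hb⟩), Subtype.ext he⟩
  -- Wielandt's order formula for the Frobenius group
  have hPne : zpowers x ≠ ⊥ := by
    intro h0
    rw [h0, commutator_bot_right] at hT
    exact hnc (hT ▸ fun v hv => mem_centralizer_iff.2 fun a ha => by
      rw [mem_bot.1 ha, one_mul, mul_one])
  have hPp : Nat.card (zpowers x) = p :=
    ((Nat.dvd_prime c.prime).1 c.card_P_dvd).resolve_left fun h0 => hPne (card_eq_one.1 h0)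
  haveI : Fact p.Prime := ⟨c.prime⟩
  have hfpf : ∀ e ∈ zpowers x, e ≠ 1 → ∀ u ∈ U, e * u = u * e → u = 1 := by
    intro e he he1 u hu hcm
    have hu' : u ∈ centralizer (zpowers x : Set X) := by
      have hze : zpowers x ≤ centralizer {u} := by
        have h1 : zpowers e = zpowers x := eq_of_le_of_card_ge (zpowers_le.2 he) (by
          have h2 := card_dvd_of_le (zpowers_le.2 he)
          rw [hPp] at h2 ⊢
          exact (((Nat.dvd_prime c.prime).1 h2).resolve_left fun h3 => he1 (zpowers_eq_bot.1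
            (card_eq_one.1 h3))).ge)
        rw [← h1, zpowers_le]
        exact mem_centralizer_singleton_iff.2 hcm
      exact mem_centralizer_iff.2 fun a ha => mem_centralizer_singleton_iff.1 (hze ha)
    have := (show u ∈ U ⊓ centralizer (zpowers x : Set X) from ⟨hu, hu'⟩)
    rwa [hUC, mem_bot] at this
  have hcopV : (Nat.card V).Coprime (Nat.card ↥(U ⊔ zpowers x)) := by
    rw [sup_comm, Coprime.card_sup_of_inf_eq_bot (zp_le_normalizer hxU)
      (Coprime.inf_eq_bot_of_coprime (c.cop hUH))]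
    exact Nat.Coprime.mul_right (c.cop hVH).symm hcopVU
  have hform := FT.card_centralizer_formula (U := U) (E := zpowers x) hPne
    (fun e he u hu => conj_mem (zp_le_normalizer hxU he) hu) hfpf V
    (fun g _ => nmem V g) (Coprime.isSolvable_of_le hVH c.solvable) hcopV
  have hVU : V ⊓ centralizer (U : Set X) = ⊥ := by
    by_contra hne
    haveI : (V ⊓ centralizer (U : Set X)).Normal := by
      refine hUn _ ?_ ?_ (inf_le_left.trans hVH) ?_
      · exact Coprime.le_normalizer_inf_inf (fun g _ => nmem V g)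
          (Coprime.le_normalizer_centralizer le_normalizer)
      · exact fun v hv => mem_normalizer_of_conj fun s hs' => by
          rwa [mem_centralizer_iff.1 (hVab hs'.1) v hv, mul_inv_cancel_right]
      · exact Coprime.le_normalizer_inf_inf (zp_le_normalizer (nmem V x))
          (Coprime.le_normalizer_centralizer (zp_le_normalizer hxU)) (mem_zpowers x)
    have h1 : V ≤ centralizer (U : Set X) :=
      (hVN inferInstance inf_le_left hne).ge.trans inf_le_right
    exact hUne (le_bot_iff.1 ((le_inf le_rfl (le_centralizer_iff.1 h1)).trans hC₀1.le))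
  have hVUP : V ⊓ centralizer ((U ⊔ zpowers x : Subgroup X) : Set X) = ⊥ :=
    le_bot_iff.1 ((inf_le_inf_left V (centralizer_le (SetLike.coe_subset_coe.2 le_sup_left))).trans
      hVU.le)
  rw [hVU, hVUP, Subgroup.card_bot, one_pow, one_mul, mul_one, hPp] at hform
  exfalso
  have h2 : 2 ≤ Nat.card W := (Subgroup.one_lt_card_iff_ne_bot W).2 hWne
  have h3 : 3 ≤ p := by
    have := c.prime.two_le; have := c.odd; omega
  have h4 : Nat.card W ^ 3 ≤ Nat.card W * Nat.card W :=
    (Nat.pow_le_pow_right (by omega) h3).trans (hform ▸ hsq)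
  nlinarith [h4, h2, Nat.mul_le_mul_left (Nat.card W * Nat.card W) h2]

end CfsgLib.FgsC.FixGen
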