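import Mathlib
import Cfsg.Agent.Lib.FgsC.CommutatorFixGenCases

/-!
The induction for the fixed point generation in `[H, x]`.
-/

set_option autoImplicit false

namespace CfsgLib.FgsC.FixGen

open Subgroup
open scoped commutatorElement

universe u

/-- the statement for all groups with a smaller `H` -/
def SmallOK (n : ℕ) : Prop :=
  ∀ {X : Type u} [Group X] [Finite X] {p : ℕ} {x : X} {H : Subgroup X},
    Cfg p x H → Nat.card H < n →
      ⁅H, zpowers x⁆ ⊓ centralizer (zpowers x : Set X) ≤ E x H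

variable {X : Type u} [Group X] [Finite X] {p : ℕ} {x : X} {H : Subgroup X}

lemma subOK (c : Cfg p x H) (ih : SmallOK.{u} (Nat.card H)) : SubOK x H := by
  intro S hSH hxS hlt
  set T := S ⊔ zpowers x with hT
  set S' := S.subgroupOf T with hS'
  set x' : T := ⟨x, mem_sup_right (mem_zpowers x)⟩ with hx'
  have hmapS : S'.map T.subtype = S := map_subgroupOf_eq_of_le le_sup_left
  have hcard : Nat.card S' = Nat.card S :=
    Nat.card_congr (subgroupOfEquivOfLe le_sup_left).toEquiv
  have hmapx : (zpowers x').map T.subtype = zpowers x := MonoidHom.map_zpowers _ _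
  have c' : Cfg p x' S' := by
    refine ⟨c.prime, c.odd, Subtype.ext (by simp [hx', c.pow_p]), ?_, ?_, ?_, ?_⟩
    · rw [hcard]; exact c.coprime.coprime_dvd_left (card_dvd_of_le hSH)
    · exact Coprime.isSolvable_subgroupOf T (Coprime.isSolvable_of_le hSH c.solvable)
    · exact normal_subgroupOf_of_le_normalizer (sup_le le_normalizer (zp_le_normalizer hxS))
    · apply map_injective T.subtype_injective
      rw [Subgroup.map_sup, hmapS, hmapx, ← MonoidHom.range_eq_map, range_subtype]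
  intro t ht
  have hmapT : (⁅S', zpowers x'⁆).map T.subtype = ⁅S, zpowers x⁆ := by
    rw [Subgroup.map_commutator, hmapS, hmapx]
  obtain ⟨t', ht', rfl⟩ := hmapT.ge ht.1
  have hC : ∀ a : T, a ∈ centralizer (zpowers x' : Set T) ↔
      (a : X) ∈ centralizer (zpowers x : Set X) := fun a => by
    rw [mem_C, mem_C]; exact Subtype.ext_iff
  have h := ih c' (hcard ▸ hlt) ⟨ht', (hC t').2 ht.2⟩
  refine (show E x' S' ≤ (E x H).comap T.subtype from E_le fun g hg a ha => ?_) h
  rw [mem_comap]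
  refine le_E (h := (g : X)) (hSH hg) ⟨?_, (hC a).1 ha.2⟩
  have := mem_map_of_mem T.subtype ha.1
  rwa [map_D] at this

lemma lift (c : Cfg p x H) (hT : ⁅H, zpowers x⁆ = H) (ih : SmallOK.{u} (Nat.card H))
    (N : Subgroup X) [N.Normal] (hN : N ≤ H) (hne : N ≠ ⊥) :
    ∀ g ∈ H ⊓ centralizer (zpowers x : Set X), ∃ e ∈ E x H,
      ∃ n ∈ N ⊓ centralizer (zpowers x : Set X), g = e * n := by
  haveI := c.normal
  let f := QuotientGroup.mk' N
  have hlt : Nat.card (H.map f) < Nat.card H := by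
    have h1 : Nat.card (H.map f) = N.relIndex H := by
      rw [Coprime.card_map_mk']
    have h2 : Nat.card N * N.relIndex H = Nat.card H := by
      rw [← relIndex_bot_left, ← relIndex_bot_left, relIndex_mul_relIndex _ _ _ bot_le hN]
    rw [h1, ← h2]
    refine lt_mul_of_one_lt_left ?_ ((Subgroup.one_lt_card_iff_ne_bot N).2 hne)
    exact Nat.pos_of_ne_zero fun h0 => by
      rw [h0, mul_zero] at h2
      exact (Nat.card_pos (α := H)).ne' h2.symm
  have c' : Cfg p (f x) (H.map f) := by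
    refine ⟨c.prime, c.odd, by rw [← map_pow, c.pow_p, map_one], ?_,
      Coprime.isSolvable_map f c.solvable, c.normal.map f (QuotientGroup.mk'_surjective N), ?_⟩
    · exact c.coprime.coprime_dvd_left (Subgroup.card_map_dvd _ _)
    · rw [← MonoidHom.map_zpowers, ← Subgroup.map_sup, c.gen,
        map_top_of_surjective _ (QuotientGroup.mk'_surjective N)]
  intro g hg
  have hfg : f g ∈ ⁅H.map f, zpowers (f x)⁆ ⊓ centralizer (zpowers (f x) : Set (X ⧸ N)) := by
    refine ⟨?_, mem_C.2 (by rw [← map_mul, mem_C.1 hg.2, map_mul])⟩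
    rw [← MonoidHom.map_zpowers, ← Subgroup.map_commutator, hT]
    exact mem_map_of_mem f hg.1
  have hE : E (f x) (H.map f) ≤ (E x H).map f := by
    refine E_le fun y hy a ha => ?_
    obtain ⟨h, hh, rfl⟩ := hy
    rw [← map_D] at ha
    obtain ⟨⟨b, hb, rfl⟩, hbC⟩ := ha
    have hxD := x_mem_normalizer_D x h
    obtain ⟨e, he, hbe⟩ := Coprime.exists_centralizing_in_coset (A := zpowers x) (N := N ⊓ D x h)
      (Coprime.le_normalizer_inf_inf (zp_le_normalizer (nmem N x)) (zp_le_normalizer hxD))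
      (c.cop (inf_le_left.trans hN))
      (Or.inr (Coprime.isSolvable_of_le (inf_le_left.trans hN) c.solvable)) (k := b)
      (fun a ha => ⟨by
        refine (QuotientGroup.eq_one_iff (N := N) _).1 ?_
        show f _ = 1
        have hc : f a * f b = f b * f a := mem_centralizer_iff.1 hbC (f a) (by
          rw [← MonoidHom.map_zpowers]; exact mem_map_of_mem f ha)
        rw [map_mul, map_mul, map_mul, map_inv, map_inv, hc]
        group, (D x h).mul_mem ((D x h).inv_mem hb) (conj_mem (zp_le_normalizer hxD ha) hb)⟩)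
    have heD : e ∈ D x h := by
      have h1 := mul_mem hb hbe.2
      rwa [mul_inv_cancel_left] at h1
    refine ⟨e, le_E hh ⟨heD, he⟩, ?_⟩
    have h1 : f (b⁻¹ * e) = 1 := (QuotientGroup.eq_one_iff _).2 hbe.1
    rw [map_mul, map_inv, inv_mul_eq_one] at h1
    exact h1.symm
  obtain ⟨e, he, hfe⟩ := hE (ih c' hlt hfg)
  refine ⟨e, he, e⁻¹ * g, ⟨?_, ?_⟩, (mul_inv_cancel_left e g).symm⟩
  · refine (QuotientGroup.eq_one_iff (N := N) _).1 ?_
    show f _ = 1
    rw [map_mul, map_inv, hfe, inv_mul_cancel]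
  · exact (centralizer (zpowers x : Set X)).mul_mem
      ((centralizer (zpowers x : Set X)).inv_mem (E_le_C he)) hg.2

theorem main_step (c : Cfg p x H) (ih : SmallOK.{u} (Nat.card H)) :
    ⁅H, zpowers x⁆ ⊓ centralizer (zpowers x : Set X) ≤ E x H := by
  classical
  haveI := c.normal
  have hs := subOK c ih
  have hTH : ⁅H, zpowers x⁆ ≤ H :=
    Coprime.commutator_le_of_le_normalizer (zp_le_normalizer (nmem H x))
  by_cases hT : ⁅H, zpowers x⁆ = H
  swap
  · have h := hs _ hTH (normalizer_commutator_ge_right H _ (mem_zpowers x))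
      ((Subgroup.card_le_of_le hTH).lt_of_ne fun he => hT (eq_of_le_of_card_ge hTH he.ge))
    rwa [Coprime.commutator_commutator_eq (zp_le_normalizer (nmem H x)) (c.cop le_rfl)
      (Or.inr c.solvable)] at h
  rw [hT]
  by_cases hab : ⁅H, H⁆ = ⊥
  · haveI : IsMulCommutative H := ⟨⟨fun a b => Subtype.ext (mem_centralizer_iff.1
      (commutator_eq_bot_iff_le_centralizer.1 hab b.2) a a.2)⟩⟩
    have h := Coprime.centralizer_inf_commutator_eq_bot (A := zpowers x) (V := H)
      (zp_le_normalizer (nmem H x)) (c.cop le_rfl)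
    rw [hT] at h
    intro g hg
    have h1 : g ∈ (H ⊓ centralizer (zpowers x : Set X)) ⊓ H := ⟨hg, hg.1⟩
    rw [h, mem_bot] at h1
    exact h1 ▸ one_mem _
  have hne : H ≠ ⊥ := fun h0 => hab (by rw [h0, commutator_bot_left])
  obtain ⟨N, hNn, hNH, hNne, hNE⟩ : ∃ N : Subgroup X, N.Normal ∧ N ≤ H ∧ N ≠ ⊥ ∧
      N ⊓ centralizer (zpowers x : Set X) ≤ E x H := by
    by_cases hq : ∃ q : ℕ, q.Prime ∧ IsPGroup q H
    · obtain ⟨q, hq, hqH⟩ := hq
      haveI := Fact.mk hq
      exact qgroup_case c hT hs hqH hne hab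
    push_neg at hq
    obtain ⟨V, hVH, hV⟩ := Base.exists_isMinimalNormal_le hne
    haveI := hV.normal
    obtain ⟨q, hqp, hVab, hVq, hVp⟩ := hV.exists_prime (Coprime.isSolvable_of_le hVH c.solvable)
    haveI := Fact.mk hqp
    by_cases hVc : V ≤ centralizer (H : Set X)
    · exact ⟨V, inferInstance, hVH, hV.ne_bot,
        central_case c hT hs (hq q hqp) hVH hVq hVc (lift c hT ih V hVH hV.ne_bot)⟩
    · refine noncentral_case c hT hs hq hV hVH ?_ hVp hVc
      exact fun a ha => mem_centralizer_iff.2 fun b hb =>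
        congrArg Subtype.val (hVab.is_comm.comm ⟨b, hb⟩ ⟨a, ha⟩)
  haveI := hNn
  intro g hg
  obtain ⟨e, he, n, hn, rfl⟩ := lift c hT ih N hNH hNne g hg
  exact mul_mem he (hNE hn)

theorem main (c : Cfg p x H) :
    ⁅H, zpowers x⁆ ⊓ centralizer (zpowers x : Set X) ≤ E x H := by
  suffices h : ∀ n, SmallOK.{u} n from h (Nat.card H + 1) c (Nat.lt_succ_self _)
  intro n
  induction n with
  | zero => intro X _ _ p x H _ h; exact absurd h (Nat.not_lt_zero _)
  | succ n ih =>
    intro X _ _ p x H c hlt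
    refine main_step c ?_
    intro Y _ _ q y K d hK
    exact ih d (by omega)

open SemidirectProduct in
/-- the automorphism form -/
theorem main_aut {H : Type u} [Group H] [Finite H] [Group.IsSolvable H] {p : ℕ}
    (hp : p.Prime) (hp2 : p ≠ 2) (hcop : (Nat.card H).Coprime p) (x : MulAut H)
    (hx : x ^ p = 1) (c : H)
    (hc : c ∈ Subgroup.closure {c : H | ∃ h : H, ∃ i : ℕ, c = h⁻¹ * (x ^ i) h}) (hfix : x c = c) :
    c ∈ ⨆ h : H, Subgroup.closure {c : H | ∃ i : ℕ, c = h⁻¹ * (x ^ i) h} ⊓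
      (x : H →* H).eqLocus (MonoidHom.id H) := by
  let φ : ↥(zpowers x) →* MulAut H := (zpowers x).subtype
  let G := SemidirectProduct H ↥(zpowers x) φ
  haveI : Finite G := Finite.of_equiv _ SemidirectProduct.equivProd.symm
  let gx : ↥(zpowers x) := ⟨x, mem_zpowers x⟩
  let y : G := inr gx
  let N : Subgroup G := (inl : H →* G).range
  have hconj : ∀ (i : ℕ) (h : H), y ^ i * inl h * (y ^ i)⁻¹ = (inl ((x ^ i) h) : G) := by
    intro i h
    rw [← map_pow, ← map_inv, ← inl_aut]
    rfl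
  have hN : N.Normal := by
    rw [show N = (inl : H →* G).range from rfl, range_inl_eq_ker_rightHom]
    infer_instance
  have hcardN : Nat.card N = Nat.card H :=
    (Nat.card_congr (MonoidHom.ofInjective inl_injective).toEquiv).symm
  have cfg : Cfg p y N := by
    refine ⟨hp, hp2, ?_, hcardN ▸ hcop, ?_, hN, ?_⟩
    · rw [← map_pow, show gx ^ p = 1 from Subtype.ext (by simp [gx, hx]), map_one]
    · exact Group.isSolvable_of_surjective (f := (inl : H →* G).rangeRestrict)
        (MonoidHom.rangeRestrict_surjective _)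
    · rw [eq_top_iff]
      intro g _
      rw [← inl_left_mul_inr_right g]
      refine mul_mem (mem_sup_left ⟨_, rfl⟩) (mem_sup_right ?_)
      obtain ⟨k, hk⟩ := mem_zpowers_iff.1 g.right.2
      refine ⟨k, ?_⟩
      show y ^ k = _
      rw [← map_zpow]
      exact congrArg _ (Subtype.ext (by simpa [gx] using hk))
  have hD : ∀ h : H, D y (inl h) =
      (Subgroup.closure {c : H | ∃ i : ℕ, c = h⁻¹ * (x ^ i) h}).map inl := by
    intro h
    rw [D, MonoidHom.map_closure]
    congr 1
    ext g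
    constructor
    · rintro ⟨i, rfl⟩
      exact ⟨_, ⟨i, rfl⟩, by rw [hconj, map_mul, map_inv]⟩
    · rintro ⟨-, ⟨i, rfl⟩, rfl⟩
      exact ⟨i, by rw [hconj, map_mul, map_inv]⟩
  have hC : ∀ h : H, (inl h : G) ∈ centralizer (zpowers y : Set G) ↔ x h = h := by
    intro h
    rw [mem_C]
    have h1 := hconj 1 h
    rw [pow_one, pow_one, mul_inv_eq_iff_eq_mul] at h1
    rw [h1, mul_left_inj, inl_inj]
  have hT : (inl c : G) ∈ ⁅N, zpowers y⁆ := by
    have : Subgroup.closure {c : H | ∃ h : H, ∃ i : ℕ, c = h⁻¹ * (x ^ i) h} ≤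
        (⁅N, zpowers y⁆).comap inl := by
      rw [closure_le]
      rintro - ⟨h, i, rfl⟩
      refine D_le_commutator (h := inl h) (S := N) ⟨h, rfl⟩ ?_
      rw [hD]
      exact mem_map_of_mem _ (subset_closure ⟨i, rfl⟩)
    exact this hc
  have hE : E y N ≤ (⨆ h : H, Subgroup.closure {c : H | ∃ i : ℕ, c = h⁻¹ * (x ^ i) h} ⊓
      (x : H →* H).eqLocus (MonoidHom.id H)).map inl := by
    refine E_le ?_
    rintro - ⟨h, rfl⟩ g ⟨hg, hgC⟩
    rw [hD] at hg
    obtain ⟨a, ha, rfl⟩ := hg
    refine mem_map_of_mem _ (mem_iSup_of_mem h ⟨ha, ?_⟩)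
    exact (hC a).1 hgC
  obtain ⟨d, hd, he⟩ := hE (main cfg ⟨hT, (hC c).2 hfix⟩)
  exact inl_injective he ▸ hd

end CfsgLib.FgsC.FixGen
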