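import Cfsg.Agent.Lib.FgsC.HallHigmanB

/-!
# Coprime operators: weights and orbits

Facts about an operator `z` of prime order `p` whose norm `∑ i, ρ (z ^ i)` vanishes, or is fixed by
some further operator, in coprime characteristic.
-/

set_option autoImplicit false
set_option linter.style.haveILetI false

open Module
open scoped commutatorElement

namespace CfsgLib.FgsC.CoprimeWeights

open CfsgLib.FgsC.HallHigman CfsgLib.FgsC.HallHigmanB

variable {G : Type*} [Group G] {K : Type*} [Field K] {V : Type*} [AddCommGroup V] [Module K V]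
  {ρ : Representation K G V}

variable (ρ) in
/-- The norm of `z`. -/
def normEnd (z : G) (p : ℕ) : End K V := ∑ i ∈ Finset.range p, ρ (z ^ i)

/-- `g` fixes the weight `χ` of `A`. -/
def Fixes (A : Subgroup G) (χ : G → K) (g : G) : Prop := ∀ a ∈ A, χ (g⁻¹ * a * g) = χ a

/-- The stabiliser of a weight, in the normalizer. -/
def stab (A : Subgroup G) (χ : G → K) : Subgroup G where
  carrier := {g | g ∈ Subgroup.normalizer (A : Set G) ∧ Fixes A χ g}
  mul_mem' := by
    rintro g h ⟨hg, hg'⟩ ⟨hh, hh'⟩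
    refine ⟨mul_mem hg hh, fun a ha => ?_⟩
    rw [show (g * h)⁻¹ * a * (g * h) = h⁻¹ * (g⁻¹ * a * g) * h by group,
      hh' _ ((Subgroup.mem_normalizer_iff''.mp hg a).mp ha), hg' a ha]
  one_mem' := ⟨one_mem _, fun a _ => by simp⟩
  inv_mem' := by
    rintro g ⟨hg, hg'⟩
    refine ⟨inv_mem hg, fun a ha => ?_⟩
    have h := hg' (g⁻¹⁻¹ * a * g⁻¹)
      ((Subgroup.mem_normalizer_iff''.mp (inv_mem hg) a).mp ha)
    rw [show g⁻¹ * (g⁻¹⁻¹ * a * g⁻¹) * g = a by group] at h
    exact h.symm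

theorem mem_stab {A : Subgroup G} {χ : G → K} {g : G} :
    g ∈ stab A χ ↔ g ∈ Subgroup.normalizer (A : Set G) ∧ Fixes A χ g := Iff.rfl

theorem conj_mem {A : Subgroup G} {g a : G} (hg : g ∈ Subgroup.normalizer (A : Set G))
    (ha : a ∈ A) : g⁻¹ * a * g ∈ A :=
  (Subgroup.mem_normalizer_iff''.mp hg a).mp ha

theorem rho_mem_wspace' {A : Subgroup G} {χ : G → K} {v : V} (hv : v ∈ wspace ρ A χ) {g : G}
    (hg : g ∈ Subgroup.normalizer (A : Set G)) :
    ρ g v ∈ wspace ρ A fun a => χ (g⁻¹ * a * g) := by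
  intro a ha
  rw [rho_mul_apply, show a * g = g * (g⁻¹ * a * g) by group, ← rho_mul_apply,
    hv _ (conj_mem hg ha), map_smul]

theorem weight_one {A : Subgroup G} {χ : G → K} {v : V} (hv : v ∈ wspace ρ A χ) (hv0 : v ≠ 0) :
    χ 1 = 1 := by
  have h := hv 1 A.one_mem
  rw [map_one, End.one_apply] at h
  exact (smul_left_injective K hv0 (h.symm.trans (one_smul K v).symm))

theorem weight_mul {A : Subgroup G} {χ : G → K} {v : V} (hv : v ∈ wspace ρ A χ) (hv0 : v ≠ 0)
    {a b : G} (ha : a ∈ A) (hb : b ∈ A) : χ (a * b) = χ a * χ b := by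
  have h := hv _ (A.mul_mem ha hb)
  rw [map_mul, End.mul_apply, hv b hb, map_smul, hv a ha, smul_smul, mul_comm] at h
  exact smul_left_injective K hv0 h.symm

theorem weight_ne_zero {A : Subgroup G} {χ : G → K} {v : V} (hv : v ∈ wspace ρ A χ) (hv0 : v ≠ 0)
    {a : G} (ha : a ∈ A) : χ a ≠ 0 := fun h =>
  rho_ne_zero hv0 (by rw [hv a ha, h, zero_smul])

theorem weight_pow {A : Subgroup G} {χ : G → K} {v : V} (hv : v ∈ wspace ρ A χ) (hv0 : v ≠ 0)
    {a : G} (ha : a ∈ A) (n : ℕ) : χ (a ^ n) = χ a ^ n := by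
  induction n with
  | zero => rw [pow_zero, pow_zero, weight_one hv hv0]
  | succ n ih => rw [pow_succ, weight_mul hv hv0 (A.pow_mem ha n) ha, ih, pow_succ]

/-- Distinct powers of `z` give distinct weights unless `z` fixes the weight. -/
theorem eq_of_fixes_pow {p : ℕ} (hp : p.Prime) {A : Subgroup G} {χ : G → K} {z : G}
    (hz : z ∈ Subgroup.normalizer (A : Set G)) (hzp : z ^ p = 1) (hmove : ¬ Fixes A χ z)
    {i j : ℕ} (hi : i < p) (hj : j < p)
    (h : ∀ a ∈ A, χ ((z ^ i)⁻¹ * a * z ^ i) = χ ((z ^ j)⁻¹ * a * z ^ j)) : i = j := by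
  by_contra hne
  wlog hlt : i < j generalizing i j
  · exact this hj hi (fun a ha => (h a ha).symm) (Ne.symm hne) (by omega)
  refine hmove ?_
  have hd : z ^ (j - i) ∈ stab A χ := by
    refine ⟨pow_mem hz _, fun a ha => ?_⟩
    have h1 := h (z ^ i * a * (z ^ i)⁻¹)
      ((Subgroup.mem_normalizer_iff.mp (pow_mem hz i) a).mp ha)
    rw [show z ^ j = z ^ i * z ^ (j - i) by rw [← pow_add]; congr 1; omega,
      show (z ^ i)⁻¹ * (z ^ i * a * (z ^ i)⁻¹) * z ^ i = a by group,
      show (z ^ i * z ^ (j - i))⁻¹ * (z ^ i * a * (z ^ i)⁻¹) * (z ^ i * z ^ (j - i))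
        = (z ^ (j - i))⁻¹ * a * z ^ (j - i) by group] at h1
    exact h1.symm
  obtain ⟨k, hk⟩ := Nat.exists_mul_mod_eq_one_of_coprime
    (hp.coprime_iff_not_dvd.mpr (Nat.not_dvd_of_pos_of_lt (by omega) (by omega : j - i < p))).symm
    hp.one_lt
  have h2 := pow_mem hd k
  rw [← pow_mul, pow_eq_pow_mod _ hzp, hk.2, pow_one] at h2
  exact h2.2

/-- The translates of a moved weight vector are independent. -/
theorem translates_li {p : ℕ} (hp : p.Prime) {A : Subgroup G} {χ : G → K} {z : G}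
    (hz : z ∈ Subgroup.normalizer (A : Set G)) (hzp : z ^ p = 1) (hmove : ¬ Fixes A χ z) {v : V}
    (hv : v ∈ wspace ρ A χ) (hv0 : v ≠ 0) :
    LinearIndependent K fun i : Fin p => ρ (z ^ (i : ℕ)) v := by
  refine linearIndependent_of_weights (fun a : A => ρ (a : G))
    (fun (i : Fin p) (a : A) => χ ((z ^ (i : ℕ))⁻¹ * a * z ^ (i : ℕ))) ?_ _
    (fun i => rho_ne_zero hv0) (fun i a => rho_mem_wspace' hv (pow_mem hz _) a a.2)
  intro i j hij
  exact Fin.ext (eq_of_fixes_pow hp hz hzp hmove i.isLt j.isLt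
    fun a ha => congrFun hij ⟨a, ha⟩)

theorem normEnd_apply (z : G) (p : ℕ) (v : V) :
    normEnd ρ z p v = ∑ i : Fin p, ρ (z ^ (i : ℕ)) v := by
  rw [normEnd, LinearMap.sum_apply, Fin.sum_univ_eq_sum_range (fun i => ρ (z ^ i) v)]

/-- An element of `A` fixed by `z` and fixing the norms is trivial on a moved weight. -/
theorem weight_eq_one_of_moved {p : ℕ} (hp : p.Prime) {A : Subgroup G} {χ : G → K} {z : G}
    (hz : z ∈ Subgroup.normalizer (A : Set G)) (hzp : z ^ p = 1) (hmove : ¬ Fixes A χ z) {v : V}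
    (hv : v ∈ wspace ρ A χ) (hv0 : v ≠ 0) {x : G} (hx : x ∈ A) (hxz : Commute x z)
    (hfix : ρ x * normEnd ρ z p = normEnd ρ z p) : χ x = 1 := by
  have hli := translates_li hp hz hzp hmove hv hv0
  rw [Fintype.linearIndependent_iff] at hli
  have h := LinearMap.congr_fun hfix v
  rw [End.mul_apply, normEnd_apply, map_sum] at h
  have hsum : ∑ i : Fin p, (χ x - 1) • ρ (z ^ (i : ℕ)) v = 0 := by
    simp only [sub_smul, one_smul, Finset.sum_sub_distrib]
    rw [sub_eq_zero]
    refine Eq.trans ?_ h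
    refine Finset.sum_congr rfl fun i _ => ?_
    rw [rho_mul_apply, (hxz.pow_right (i : ℕ)).eq, ← rho_mul_apply, hv x hx, map_smul]
  exact sub_eq_zero.mp (hli _ hsum ⟨0, hp.pos⟩)

variable [Finite G]

/-- A good subspace inside an invariant subspace moved by `Q`. -/
theorem exists_good [FiniteDimensional K V] {Q : Subgroup G} (hQK : (Nat.card Q : K) ≠ 0)
    (hne : ∃ k ∈ Q, ρ k ≠ 1) : ∃ W, IsGood ρ Q W := by
  classical
  haveI : Fintype Q := Fintype.ofFinite _
  let π : End K V := ∑ k : Q, ρ (k : G)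
  have hπr : ∀ k : Q, π * ρ (k : G) = π := fun k => by
    rw [Finset.sum_mul]
    exact Fintype.sum_equiv (Equiv.mulRight k) _ _ fun l => by rw [← map_mul]; rfl
  obtain ⟨k, hk, hk1⟩ := hne
  obtain ⟨v, hv⟩ : ∃ v, ρ k v ≠ v := by
    by_contra hall
    push Not at hall
    exact hk1 (LinearMap.ext fun v => hall v)
  obtain ⟨W, ⟨hW, hWi, hWk⟩, hmin⟩ := wellFounded_lt.has_min
    {W : Submodule K V | W ≠ ⊥ ∧ IsInv ρ Q W ∧ W ≤ LinearMap.ker π}
    ⟨LinearMap.ker π, fun h => hv (sub_eq_zero.mp (by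
        have : ρ k v - v ∈ LinearMap.ker π := by
          rw [LinearMap.mem_ker, map_sub, ← End.mul_apply, hπr ⟨k, hk⟩, sub_self]
        rwa [h, Submodule.mem_bot] at this)),
      fun g hg w hw => by
        rw [LinearMap.mem_ker] at hw ⊢
        rw [← End.mul_apply, hπr ⟨g, hg⟩, hw], le_rfl⟩
  refine ⟨W, hW, hWi, fun U hU hUi => ?_, ?_⟩
  · by_cases h : U = ⊥
    · exact Or.inl h
    · exact Or.inr ((eq_or_lt_of_le hU).resolve_right (hmin U ⟨h, hUi, hU.trans hWk⟩))
  · by_contra hall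
    push Not at hall
    refine hW ((Submodule.eq_bot_iff W).mpr fun w hw => ?_)
    have h0 : π w = 0 := hWk hw
    rw [LinearMap.sum_apply, Finset.sum_congr rfl (fun (l : Q) _ => hall l l.2 w hw),
      Finset.sum_const, Finset.card_univ, ← Nat.card_eq_fintype_card, ← Nat.cast_smul_eq_nsmul K,
      smul_eq_zero] at h0
    exact h0.resolve_left hQK
/-- A nontrivial element commuting with an abelian group moves a weight vector. -/
theorem exists_weight_moved [IsAlgClosed K] [FiniteDimensional K V] {A : Subgroup G}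
    (hab : ∀ a ∈ A, ∀ b ∈ A, ρ a * ρ b = ρ b * ρ a) {k : G}
    (hk : ∀ a ∈ A, ρ k * ρ a = ρ a * ρ k) (hk1 : ρ k ≠ 1) (hkK : (orderOf k : K) ≠ 0) :
    ∃ (χ : G → K) (v : V), v ∈ wspace ρ A χ ∧ v ≠ 0 ∧ ρ k v ≠ v := by
  classical
  set U := LinearMap.range (ρ k - 1) with hU
  have hUA : ∀ a ∈ A, ∀ u ∈ U, ρ a u ∈ U := by
    rintro a ha _ ⟨w, rfl⟩
    refine ⟨ρ a w, ?_⟩
    rw [← End.mul_apply, ← End.mul_apply, sub_mul, mul_sub, mul_one, one_mul, hk a ha]
  let σ : Representation K A U :=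
    { toFun := fun a => (ρ (a : G)).restrict (hUA a a.2)
      map_one' := LinearMap.ext fun w => Subtype.ext (by simp)
      map_mul' := fun g h => LinearMap.ext fun w => Subtype.ext (by simp) }
  haveI : Nontrivial U := Submodule.nontrivial_iff_ne_bot.mpr fun h =>
    hk1 (sub_eq_zero.mp (LinearMap.range_eq_bot.mp h))
  obtain ⟨χ, hχ⟩ := exists_weight (ρ := σ) (⊤ : Subgroup A) fun a _ b _ =>
    LinearMap.ext fun w => Subtype.ext (LinearMap.congr_fun (hab a a.2 b b.2) (w : V))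
  obtain ⟨u, hu, hu0⟩ := Submodule.exists_mem_ne_zero_of_ne_bot hχ
  refine ⟨fun g => if hg : g ∈ A then χ ⟨g, hg⟩ else 0, u, fun a ha => ?_,
    fun h => hu0 (Subtype.ext h), fun hfix => ?_⟩
  · show ρ a (u : V) = (if hg : a ∈ A then χ ⟨a, hg⟩ else 0) • (u : V)
    rw [dif_pos ha]
    exact congrArg Subtype.val (hu ⟨a, ha⟩ (Subgroup.mem_top _))
  · -- `u` is fixed by `k` and lies in the image of `ρ k - 1`
    obtain ⟨w, hw⟩ := u.2
    rw [LinearMap.sub_apply, End.one_apply] at hw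
    have hpow : ∀ i : ℕ, ρ (k ^ i) w = w + (i : K) • (u : V) := by
      intro i
      induction i with
      | zero => simp
      | succ i ih =>
        rw [pow_succ', ← rho_mul_apply, ih, map_add, map_smul, hfix, Nat.cast_succ, add_smul,
          one_smul, ← hw]
        abel
    have h := hpow (orderOf k)
    rw [pow_orderOf_eq_one, map_one, End.one_apply, left_eq_add, smul_eq_zero] at h
    exact hu0 (Subtype.ext (h.resolve_left hkK))

/-- A nontrivial element of an abelian group has a nontrivial weight. -/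
theorem exists_weight_ne [IsAlgClosed K] [FiniteDimensional K V] {A : Subgroup G}
    (hab : ∀ a ∈ A, ∀ b ∈ A, ρ a * ρ b = ρ b * ρ a) {k : G} (hk : k ∈ A) (hk1 : ρ k ≠ 1)
    (hAK : (Nat.card A : K) ≠ 0) :
    ∃ (χ : G → K) (v : V), v ∈ wspace ρ A χ ∧ v ≠ 0 ∧ χ k ≠ 1 := by
  obtain ⟨χ, v, hv, hv0, hne⟩ := exists_weight_moved hab (fun a ha => hab k hk a ha) hk1 (fun h => by
    obtain ⟨c, hc⟩ := Subgroup.orderOf_dvd_natCard A hk
    rw [hc, Nat.cast_mul, h, zero_mul] at hAK
    exact hAK rfl)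
  exact ⟨χ, v, hv, hv0, fun h => hne (by rw [hv k hk, h, one_smul])⟩

/-- An element without fixed points on `A` moves every nontrivial weight. -/
theorem not_fixes_of_free {A : Subgroup G} {χ : G → K} {v : V} (hv : v ∈ wspace ρ A χ)
    (hv0 : v ≠ 0) {z : G} (hz : z ∈ Subgroup.normalizer (A : Set G))
    (hfree : ∀ a ∈ A, z * a * z⁻¹ = a → a = 1) {k : G} (hk : k ∈ A) (hχ : χ k ≠ 1) :
    ¬ Fixes A χ z := by
  intro hfix'
  refine hχ ?_
  let f : A → A := fun b => ⟨(b : G)⁻¹ * (z⁻¹ * b * z),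
    A.mul_mem (A.inv_mem b.2) (conj_mem hz b.2)⟩
  have hf : Function.Surjective f := by
    refine Finite.injective_iff_surjective.1 fun b c hbc => Subtype.ext ?_
    have h1 : (b : G)⁻¹ * (z⁻¹ * b * z) = (c : G)⁻¹ * (z⁻¹ * c * z) := congrArg Subtype.val hbc
    have h2 : z * ((b : G) * (c : G)⁻¹) * z⁻¹ = (b : G) * (c : G)⁻¹ := by
      have h3 : z⁻¹ * ((b : G) * (c : G)⁻¹) * z = (b : G) * (c : G)⁻¹ := by
        rw [show z⁻¹ * ((b : G) * (c : G)⁻¹) * z = (z⁻¹ * b * z) * (z⁻¹ * c * z)⁻¹ by group,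
          show z⁻¹ * (b : G) * z = b * ((c : G)⁻¹ * (z⁻¹ * c * z)) by
            rw [← h1, mul_inv_cancel_left]]
        group
      conv_lhs => rw [← h3]
      group
    exact mul_inv_eq_one.mp (hfree _ (A.mul_mem b.2 (A.inv_mem c.2)) h2)
  obtain ⟨b, hb⟩ := hf ⟨_, hk⟩
  have hb' : (b : G)⁻¹ * (z⁻¹ * b * z) = k := congrArg Subtype.val hb
  rw [← hb', weight_mul hv hv0 (A.inv_mem b.2) (conj_mem hz b.2), hfix' b b.2,
    ← weight_mul hv hv0 (A.inv_mem b.2) b.2, inv_mul_cancel, weight_one hv hv0]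

/-- An element commuting with `A` and fixing the norms is trivial, if `z` has no fixed points on
`A` and `A` has none on the space. -/
theorem eq_one_of_commute [IsAlgClosed K] [FiniteDimensional K V] {p : ℕ} (hp : p.Prime)
    {A : Subgroup G} [Fintype A] (hab : ∀ a ∈ A, ∀ b ∈ A, a * b = b * a)
    (hAK : (Nat.card A : K) ≠ 0) (hsum : ∑ a : A, ρ (a : G) = 0)
    {z : G} (hz : z ∈ Subgroup.normalizer (A : Set G)) (hzp : z ^ p = 1)
    (hfree : ∀ a ∈ A, z * a * z⁻¹ = a → a = 1)
    {g : G} (hg : ∀ a ∈ A, g * a = a * g) (hgK : (orderOf g : K) ≠ 0)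
    (hfix : ρ g * normEnd ρ z p = normEnd ρ z p) : ρ g = 1 := by
  classical
  by_contra hne
  have habρ : ∀ a ∈ A, ∀ b ∈ A, ρ a * ρ b = ρ b * ρ a := fun a ha b hb => by
    rw [← map_mul, ← map_mul, hab a ha b hb]
  obtain ⟨χ, v, hv, hv0, hgv⟩ := exists_weight_moved habρ
    (fun a ha => by rw [← map_mul, ← map_mul, hg a ha]) hne hgK
  obtain ⟨k, hk, hχk⟩ : ∃ k ∈ A, χ k ≠ 1 := by
    by_contra h
    push Not at h
    have h1 := LinearMap.congr_fun hsum v
    rw [LinearMap.sum_apply, LinearMap.zero_apply, Finset.sum_congr rfl (fun (a : A) _ =>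
      show ρ (a : G) v = v by rw [hv a a.2, h a a.2, one_smul]), Finset.sum_const,
      Finset.card_univ, ← Nat.card_eq_fintype_card, ← Nat.cast_smul_eq_nsmul K, smul_eq_zero] at h1
    exact hv0 (h1.resolve_left hAK)
  have hmove := not_fixes_of_free hv hv0 hz hfree hk hχk
  -- compare components of weight `χ`
  have h := LinearMap.congr_fun hfix v
  rw [End.mul_apply, normEnd_apply, map_sum, ← sub_eq_zero, ← Finset.sum_sub_distrib] at h
  let u : Fin p → V := fun i => ρ g (ρ (z ^ (i : ℕ)) v) - ρ (z ^ (i : ℕ)) v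
  have hu : ∀ (i : Fin p) (a : A),
      ρ (a : G) (u i) = χ ((z ^ (i : ℕ))⁻¹ * a * z ^ (i : ℕ)) • u i := by
    intro i a
    have hw := rho_mem_wspace' hv (pow_mem hz (i : ℕ)) a a.2
    simp only [u]
    rw [map_sub, rho_mul_apply (a : G) g, ← hg a a.2, ← rho_mul_apply, hw, map_smul, smul_sub]
  by_cases hu0 : u ⟨0, hp.pos⟩ = 0
  · simp only [u, pow_zero, map_one, End.one_apply, sub_eq_zero] at hu0
    exact hgv hu0
  have hli := linearIndependent_of_weights (fun a : A => ρ (a : G))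
    (fun (i : {i : Fin p // u i ≠ 0}) (a : A) =>
      χ ((z ^ ((i : Fin p) : ℕ))⁻¹ * a * z ^ ((i : Fin p) : ℕ)))
    (fun i j hij => Subtype.ext (Fin.ext (eq_of_fixes_pow hp hz hzp hmove i.1.isLt j.1.isLt
      fun a ha => congrFun hij ⟨a, ha⟩)))
    (fun i => u i) (fun i => i.2) (fun i a => hu i a)
  rw [Fintype.linearIndependent_iff] at hli
  have hz0 : ∑ i : {i : Fin p // u i ≠ 0}, (1 : K) • u i = 0 := by
    simp only [one_smul]
    rw [← Finset.sum_subtype (Finset.univ.filter fun i => u i ≠ 0) (fun i => by simp) u,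
      Finset.sum_filter_ne_zero]
    exact h
  exact one_ne_zero (hli _ hz0 ⟨⟨0, hp.pos⟩, hu0⟩)

/-- Case A: an `s`-element commuting with `z` and fixing the norms centralises the abelian `A` on
which `z` has no fixed points. -/
theorem commute_of_fixes_norm [IsAlgClosed K] [FiniteDimensional K V] {p s : ℕ} (hp : p.Prime)
    (hs : s.Prime) (hps : p ≠ s) {A : Subgroup G}
    (hab : ∀ a ∈ A, ∀ b ∈ A, a * b = b * a) (hAK : (Nat.card A : K) ≠ 0)
    {z : G} (hz : z ∈ Subgroup.normalizer (A : Set G)) (hzp : z ^ p = 1)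
    (hfree : ∀ a ∈ A, z * a * z⁻¹ = a → a = 1)
    {t : G} (ht : t ∈ Subgroup.normalizer (A : Set G)) (hts : ∃ e, t ^ s ^ e = 1)
    (htz : Commute t z) (hfix : ρ t * normEnd ρ z p = normEnd ρ z p) :
    ∀ a ∈ A, ρ (⁅a, t⁆) = 1 := by
  classical
  intro a ha
  by_contra hne
  have hk : ⁅a, t⁆ ∈ A := by
    rw [commutatorElement_def, mul_assoc, mul_assoc]
    exact A.mul_mem ha (by
      rw [← mul_assoc]; exact (Subgroup.mem_normalizer_iff.mp ht _).mp (A.inv_mem ha))
  have habρ : ∀ a ∈ A, ∀ b ∈ A, ρ a * ρ b = ρ b * ρ a := fun a ha b hb => by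
    rw [← map_mul, ← map_mul, hab a ha b hb]
  obtain ⟨χ, v, hv, hv0, hχ⟩ := exists_weight_ne habρ hk hne hAK
  -- `z` moves the weight
  have hmove : ¬ Fixes A χ z := not_fixes_of_free hv hv0 hz hfree hk hχ
  -- `t` permutes the translates
  have horbit : ∃ j, z ^ j * t ∈ stab A χ := by
    by_contra hno
    push Not at hno
    let w : Fin p ⊕ Fin p → G := Sum.elim (fun i => z ^ (i : ℕ)) fun i => t * z ^ (i : ℕ)
    have hw : ∀ i, w i ∈ Subgroup.normalizer (A : Set G) := by
      rintro (i | i)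
      · exact pow_mem hz _
      · exact mul_mem ht (pow_mem hz _)
    have hmix : ∀ i j : Fin p, ¬ ∀ b ∈ A, χ ((z ^ (i : ℕ))⁻¹ * b * z ^ (i : ℕ)) =
        χ ((t * z ^ (j : ℕ))⁻¹ * b * (t * z ^ (j : ℕ))) := by
      intro i j h
      refine hno (p - i + j) ?_
      refine ⟨mul_mem (pow_mem hz _) ht, fun b hb => ?_⟩
      have hzi : z ^ (p - (i : ℕ)) = (z ^ (i : ℕ))⁻¹ := eq_inv_of_mul_eq_one_left (by
        rw [← pow_add, Nat.sub_add_cancel i.isLt.le, hzp])
      have h1 := h (z ^ (i : ℕ) * b * (z ^ (i : ℕ))⁻¹)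
        ((Subgroup.mem_normalizer_iff.mp (pow_mem hz _) b).mp hb)
      rw [show (z ^ (i : ℕ))⁻¹ * (z ^ (i : ℕ) * b * (z ^ (i : ℕ))⁻¹) * z ^ (i : ℕ) = b by group] at h1
      rw [h1, pow_add, hzi, mul_assoc ((z ^ (i : ℕ))⁻¹), ← (htz.pow_right (j : ℕ)).eq]
      congr 1
      group
    have hli := linearIndependent_of_weights (fun b : A => ρ (b : G))
      (fun (i : Fin p ⊕ Fin p) (b : A) => χ ((w i)⁻¹ * b * w i)) (fun i j hij => by
        rcases i with i | i <;> rcases j with j | j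
        · exact congrArg Sum.inl (Fin.ext (eq_of_fixes_pow hp hz hzp hmove i.isLt j.isLt
            fun b hb => congrFun hij ⟨b, hb⟩))
        · exact absurd (fun b hb => congrFun hij ⟨b, hb⟩) (hmix i j)
        · exact absurd (fun b hb => (congrFun hij ⟨b, hb⟩).symm) (hmix j i)
        · refine congrArg Sum.inr (Fin.ext (eq_of_fixes_pow hp hz hzp hmove i.isLt j.isLt
            fun b hb => ?_))
          have h1 := congrFun hij ⟨t * b * t⁻¹, (Subgroup.mem_normalizer_iff.mp ht b).mp hb⟩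
          simp only [w, Sum.elim_inr] at h1
          rwa [show (t * z ^ (i : ℕ))⁻¹ * (t * b * t⁻¹) * (t * z ^ (i : ℕ))
              = (z ^ (i : ℕ))⁻¹ * b * z ^ (i : ℕ) by group,
            show (t * z ^ (j : ℕ))⁻¹ * (t * b * t⁻¹) * (t * z ^ (j : ℕ))
              = (z ^ (j : ℕ))⁻¹ * b * z ^ (j : ℕ) by group] at h1)
      (fun i => ρ (w i) v) (fun i => rho_ne_zero hv0) (fun i b => rho_mem_wspace' hv (hw i) b b.2)
    rw [Fintype.linearIndependent_iff] at hli
    have hz0 : ∑ i : Fin p ⊕ Fin p, (Sum.elim (fun _ => (-1 : K)) fun _ => 1) i • ρ (w i) v = 0 := by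
      rw [Fintype.sum_sum_type]
      simp only [Sum.elim_inl, Sum.elim_inr, one_smul, neg_smul, Finset.sum_neg_distrib, w]
      rw [neg_add_eq_sub, sub_eq_zero, ← normEnd_apply z p v]
      conv_rhs => rw [← hfix, End.mul_apply, normEnd_apply, map_sum]
      exact Finset.sum_congr rfl fun i _ => (rho_mul_apply _ _ _).symm
    simpa using hli _ hz0 (Sum.inr ⟨0, hp.pos⟩)
  obtain ⟨j, hj⟩ := horbit
  obtain ⟨e, he⟩ := hts
  have ht' : t ∈ stab A χ := by
    have h1 := pow_mem hj (s ^ e)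
    rw [(htz.symm.pow_left j).mul_pow, he, mul_one, ← pow_mul] at h1
    have hpj : z ^ j = 1 := by
      by_contra hj1
      refine hmove ?_
      have hcop : (j * s ^ e).Coprime p := Nat.Coprime.symm (Nat.Coprime.mul_right
        (hp.coprime_iff_not_dvd.mpr fun ⟨c, hc⟩ => hj1 (by rw [hc, pow_mul, hzp, one_pow]))
        (Nat.Coprime.pow_right e ((Nat.coprime_primes hp hs).mpr hps)))
      obtain ⟨c, hc⟩ := Nat.exists_mul_mod_eq_one_of_coprime hcop hp.one_lt
      have h2 := pow_mem h1 c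
      rw [← pow_mul, pow_eq_pow_mod _ hzp, hc.2, pow_one] at h2
      exact h2.2
    rwa [hpj, one_mul] at hj
  refine hχ ?_
  rw [commutatorElement_def, show a * t * a⁻¹ * t⁻¹ = a * (t * a⁻¹ * t⁻¹) by group,
    weight_mul hv hv0 ha ((Subgroup.mem_normalizer_iff.mp ht _).mp (A.inv_mem ha))]
  have h := (inv_mem ht').2 a⁻¹ (A.inv_mem ha)
  rw [inv_inv] at h
  rw [h, ← weight_mul hv hv0 ha (A.inv_mem ha), mul_inv_cancel, weight_one hv hv0]

/-- Case B: the fixed points of `z` on the abelian `A = [A, T]` act trivially. -/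
theorem fixed_eq_one [IsAlgClosed K] [FiniteDimensional K V] {p u : ℕ} [hp : Fact p.Prime]
    [hu : Fact u.Prime] {A T : Subgroup G} (hA : IsPGroup u A)
    (hab : ∀ a ∈ A, ∀ b ∈ A, a * b = b * a) (hAK : (Nat.card A : K) ≠ 0)
    (hTA : T ≤ Subgroup.normalizer (A : Set G)) (hTu : (Nat.card T).Coprime u)
    (hTp : (Nat.card T).Coprime p)
    (hT' : ∀ t ∈ T, ∀ t' ∈ T, ∀ a ∈ A, Commute a ⁅t, t'⁆)
    (hAT : ∀ a ∈ A, (∀ t ∈ T, t * a * t⁻¹ = a) → a = 1)
    {z : G} (hz : z ∈ Subgroup.normalizer (A : Set G)) (hzT : z ∈ Subgroup.normalizer (T : Set G))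
    (hzp : z ^ p = 1) (hTz : ∀ t ∈ T, Commute t z → ∀ a ∈ A, Commute a t)
    {x : G} (hx : x ∈ A) (hxz : Commute x z)
    (hfix : ∀ y ∈ A, Commute y z → ρ y * normEnd ρ z p = normEnd ρ z p) : ρ x = 1 := by
  classical
  by_contra hne
  have habρ : ∀ a ∈ A, ∀ b ∈ A, ρ a * ρ b = ρ b * ρ a := fun a ha b hb => by
    rw [← map_mul, ← map_mul, hab a ha b hb]
  obtain ⟨χ, v, hv, hv0, hχ⟩ := exists_weight_ne habρ hx hne hAK
  have hzfix : Fixes A χ z := by
    by_contra hmove
    exact hχ (weight_eq_one_of_moved hp.out hz hzp hmove hv hv0 hx hxz (hfix x hx hxz))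
  set S := T ⊓ stab A χ with hS
  have hST : S ≤ T := inf_le_left
  have hzst : z ∈ stab A χ := ⟨hz, hzfix⟩
  have hzS : z ∈ Subgroup.normalizer (S : Set G) :=
    Coprime.le_normalizer_inf_inf (A := Subgroup.zpowers z) (Subgroup.zpowers_le.mpr hzT)
      (Subgroup.zpowers_le.mpr (Subgroup.le_normalizer hzst)) (Subgroup.mem_zpowers z)
  -- off the stabiliser the translates of the weight are moved, hence trivial at `x`
  have hout : ∀ t ∈ T, t ∉ S → χ (t⁻¹ * x * t) = 1 := by
    intro t ht htS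
    by_contra hxt
    refine htS ?_
    have hv' := rho_mem_wspace' hv (hTA ht)
    have hfix' : Fixes A (fun a => χ (t⁻¹ * a * t)) z := by
      by_contra hmove
      exact hxt (weight_eq_one_of_moved hp.out hz hzp hmove hv' (rho_ne_zero hv0) hx hxz
        (hfix x hx hxz))
    have hmem : t⁻¹ * (z * t * z⁻¹) ∈ S := by
      refine ⟨T.mul_mem (T.inv_mem ht) ((Subgroup.mem_normalizer_iff.mp hzT t).mp ht), ?_⟩
      have h1 : t⁻¹ * z * t ∈ stab A χ := by
        refine ⟨mul_mem (mul_mem (inv_mem (hTA ht)) hz) (hTA ht), fun a ha => ?_⟩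
        have h2 := hfix' (t * a * t⁻¹) ((Subgroup.mem_normalizer_iff.mp (hTA ht) a).mp ha)
        simp only at h2
        rw [show t⁻¹ * (t * a * t⁻¹) * t = a by group] at h2
        rw [← h2]
        congr 1
        group
      rw [show t⁻¹ * (z * t * z⁻¹) = (t⁻¹ * z * t) * z⁻¹ by group]
      exact (stab A χ).mul_mem h1 ((stab A χ).inv_mem hzst)
    obtain ⟨i, -, hi⟩ := (Nat.dvd_prime_pow hp.out).mp
      (orderOf_dvd_of_pow_eq_one (show z ^ p ^ 1 = 1 by rwa [pow_one]))
    have hcop : (Nat.card (Subgroup.zpowers z)).Coprime (Nat.card S) := by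
      rw [Nat.card_zpowers, hi]
      exact Nat.Coprime.pow_left i (hTp.coprime_dvd_left (Subgroup.card_dvd_of_le hST)).symm
    have hsol : Group.IsSolvable (Subgroup.zpowers z) := Group.isSolvable_of_comm fun a b => by
      obtain ⟨a, i, rfl⟩ := a
      obtain ⟨b, j, rfl⟩ := b
      exact Subtype.ext ((Commute.refl z).zpow_zpow i j)
    let F : Subgroup G :=
      { carrier := {g | g ∈ Subgroup.normalizer (S : Set G) ∧ t⁻¹ * (g * t * g⁻¹) ∈ S}
        mul_mem' := by
          rintro g h ⟨hg, hg'⟩ ⟨hh, hh'⟩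
          refine ⟨mul_mem hg hh, ?_⟩
          have h1 := S.mul_mem hg' ((Subgroup.mem_normalizer_iff.mp hg _).mp hh')
          rw [show t⁻¹ * (g * h * t * (g * h)⁻¹)
            = t⁻¹ * (g * t * g⁻¹) * (g * (t⁻¹ * (h * t * h⁻¹)) * g⁻¹) by group]
          exact h1
        one_mem' := ⟨one_mem _, by simp⟩
        inv_mem' := by
          rintro g ⟨hg, hg'⟩
          refine ⟨inv_mem hg, ?_⟩
          have h1 := (Subgroup.mem_normalizer_iff.mp (inv_mem hg) _).mp (S.inv_mem hg')
          rw [show t⁻¹ * (g⁻¹ * t * g⁻¹⁻¹) = g⁻¹ * (t⁻¹ * (g * t * g⁻¹))⁻¹ * g⁻¹⁻¹ by group]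
          exact h1 }
    obtain ⟨c, hc, htc⟩ := Coprime.exists_centralizing_in_coset (Subgroup.zpowers_le.mpr hzS) hcop
      (Or.inl hsol) (k := t)
      (fun g hg => ((Subgroup.zpowers_le.mpr (show z ∈ F from ⟨hzS, hmem⟩)) hg).2)
    have hcT : c ∈ T := by
      have := T.mul_mem ht (hST htc)
      rwa [mul_inv_cancel_left] at this
    have hcS : c ∈ S := ⟨hcT, hTA hcT, fun a ha => by
      have := hTz c hcT ((Subgroup.mem_centralizer_iff.mp hc z (Subgroup.mem_zpowers z)).symm) a ha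
      rw [mul_assoc, this.eq, inv_mul_cancel_left]⟩
    have := S.mul_mem hcS (S.inv_mem htc)
    rwa [mul_inv_rev, inv_inv, mul_inv_cancel_left] at this
  -- the product of the conjugates of `x` is trivial
  haveI : Fintype T := Fintype.ofFinite _
  letI : CommGroup A := { (inferInstance : Group A) with
    mul_comm := fun a b => Subtype.ext (hab a a.2 b b.2) }
  let g : T → A := fun t => ⟨(t : G)⁻¹ * x * t, conj_mem (hTA t.2) hx⟩
  have hprod : (∏ t : T, g t) = 1 := by
    refine Subtype.ext (hAT _ (∏ t : T, g t).2 fun r hr => ?_)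
    let f : A →* A :=
      { toFun := fun a => ⟨r * a * r⁻¹, (Subgroup.mem_normalizer_iff.mp (hTA hr) a).mp a.2⟩
        map_one' := Subtype.ext (by simp)
        map_mul' := fun a b => Subtype.ext (by simp [mul_assoc]) }
    have h1 : f (∏ t : T, g t) = ∏ t : T, g t := by
      rw [map_prod]
      exact Fintype.prod_equiv (Equiv.mulRight (⟨r, hr⟩⁻¹ : T)) _ _ fun t => Subtype.ext (by
        show r * ((t : G)⁻¹ * x * t) * r⁻¹ = ((t : G) * r⁻¹)⁻¹ * x * ((t : G) * r⁻¹)
        group)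
    exact congrArg Subtype.val h1
  let φ : A →* K :=
    { toFun := fun a => χ a
      map_one' := weight_one hv hv0
      map_mul' := fun a b => weight_mul hv hv0 a.2 b.2 }
  have h2 := congrArg φ hprod
  rw [map_prod, map_one] at h2
  rw [← Finset.prod_filter_mul_prod_filter_not Finset.univ (fun t : T => (t : G) ∈ S),
    Finset.prod_congr rfl (fun t ht => (show φ (g t) = χ x from
      (Finset.mem_filter.mp ht).2.2.2 x hx)),
    Finset.prod_eq_one (s := Finset.filter (fun t : T => ¬ (t : G) ∈ S) Finset.univ)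
      (fun t ht => (show φ (g t) = 1 from hout t t.2 (Finset.mem_filter.mp ht).2)),
    mul_one, Finset.prod_const] at h2
  have hcard : (Finset.filter (fun t : T => (t : G) ∈ S) Finset.univ).card = Nat.card S := by
    rw [← Nat.card_congr ((Subgroup.subgroupOfEquivOfLe hST).toEquiv), ← Fintype.card_subtype,
      ← Nat.card_eq_fintype_card]
    exact Nat.card_congr (Equiv.subtypeEquivRight fun t => Subgroup.mem_subgroupOf.symm)
  rw [hcard] at h2
  obtain ⟨e, he⟩ := IsPGroup.iff_card.mp hA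
  have hxe : χ x ^ u ^ e = 1 := by
    rw [← he, ← weight_pow hv hv0 hx, show x ^ Nat.card A = 1 from
      congrArg Subtype.val (pow_card_eq_one' (x := (⟨x, hx⟩ : A))), weight_one hv hv0]
  refine hχ (orderOf_eq_one_iff.mp (Nat.eq_one_of_dvd_coprimes ?_ (orderOf_dvd_of_pow_eq_one h2)
    (orderOf_dvd_of_pow_eq_one hxe)))
  exact Nat.Coprime.pow_right e (hTu.coprime_dvd_left (Subgroup.card_dvd_of_le hST))

omit [Finite G] in
/-- The commutant of an endomorphism annihilated by `∑ i < p, f ^ i`. -/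
theorem sq_finrank_le_of_norm [IsAlgClosed K] [FiniteDimensional K V] {p : ℕ} (hp : 0 < p)
    (hpK : (p : K) ≠ 0) {f : End K V} (hfp : f ^ p = 1) (hf : ∑ i ∈ Finset.range p, f ^ i = 0) :
    finrank K V ^ 2 ≤ (p - 1) * finrank K (Commutant.commutant (f - 1)) := by
  classical
  haveI : NeZero (p : K) := ⟨hpK⟩
  obtain ⟨ζ, hζ⟩ := IsAlgClosed.exists_root (Polynomial.cyclotomic p K)
    (Polynomial.degree_cyclotomic_pos p K hp).ne'
  have hprim : IsPrimitiveRoot ζ p := Polynomial.isRoot_cyclotomic_iff.mp hζ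
  have hsumζ : ∀ i < p, ∑ j ∈ Finset.range p, (ζ ^ j) ^ i = if i = 0 then (p : K) else 0 := by
    intro i hi
    split_ifs with h
    · subst h; simp
    · rw [Finset.sum_congr rfl fun j _ => (by rw [← pow_mul, mul_comm, pow_mul] : (ζ ^ j) ^ i = (ζ ^ i) ^ j)]
      have hne : ζ ^ i ≠ 1 := hprim.pow_ne_one_of_pos_of_lt h hi
      rw [geom_sum_eq hne, ← pow_mul, mul_comm, pow_mul, hprim.pow_eq_one, one_pow, sub_self,
        zero_div]
  -- the spectral projections
  let P : ℕ → End K V := fun j => (p : K)⁻¹ • ∑ i ∈ Finset.range p, (ζ ^ j) ^ i • f ^ i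
  have hP0 : P 0 = 0 := by simp [P, hf]
  have hfP : ∀ j, f * ((ζ ^ j) • P j) = P j := by
    intro j
    simp only [P, Finset.smul_sum, Finset.mul_sum, mul_smul_comm]
    have h1 := Finset.sum_range_succ' (fun i => (p : K)⁻¹ • (ζ ^ j) ^ i • f ^ i) p
    rw [Finset.sum_range_succ, hfp, ← pow_mul, mul_comm j, pow_mul, hprim.pow_eq_one, one_pow] at h1
    simp only [pow_zero] at h1
    refine Eq.trans (Finset.sum_congr rfl fun i _ => ?_) (add_right_cancel h1).symm
    rw [← pow_succ', smul_comm (ζ ^ j), pow_succ' (ζ ^ j) i, mul_smul]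
  have hPsum : ∑ j ∈ Finset.range p, P j = 1 := by
    simp only [P, ← Finset.smul_sum]
    rw [Finset.sum_comm]
    simp only [← Finset.sum_smul]
    rw [Finset.sum_congr rfl (fun i hi => by rw [hsumζ i (Finset.mem_range.mp hi)])]
    simp only [ite_smul, zero_smul]
    rw [Finset.sum_ite_eq', if_pos (Finset.mem_range.mpr hp), pow_zero, smul_smul,
      inv_mul_cancel₀ hpK, one_smul]
  -- eigenspaces
  let E : Fin p → Submodule K V := fun j => LinearMap.range (P j)
  have heig : ∀ (j : Fin p) (w : V), w ∈ E j → (ζ ^ (j : ℕ)) • f w = w := by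
    rintro j _ ⟨w, rfl⟩
    have h := LinearMap.congr_fun (hfP j) w
    rwa [End.mul_apply, LinearMap.smul_apply, map_smul] at h
  have hPw : ∀ (j k : Fin p) (w : V), w ∈ E j → P k w = if j = k then w else 0 := by
    intro j k w hw
    have hfw : f w = (ζ ^ (j : ℕ))⁻¹ • w := by
      conv_rhs => rw [← heig j w hw, smul_smul, inv_mul_cancel₀ (pow_ne_zero _ (hprim.ne_zero hp.ne')),
        one_smul]
    have hpow : ∀ i, (f ^ i) w = ((ζ ^ (j : ℕ))⁻¹) ^ i • w := by
      intro i
      induction i with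
      | zero => simp
      | succ i ih => rw [pow_succ', End.mul_apply, ih, map_smul, hfw, smul_smul, pow_succ]
    simp only [P, LinearMap.smul_apply, LinearMap.sum_apply, hpow, smul_smul, ← mul_pow]
    rw [← Finset.sum_smul, smul_smul]
    split_ifs with h
    · subst h
      rw [mul_inv_cancel₀ (pow_ne_zero _ (hprim.ne_zero hp.ne'))]
      simp [inv_mul_cancel₀ hpK]
    · have hne : ζ ^ (k : ℕ) * (ζ ^ (j : ℕ))⁻¹ ≠ 1 := fun h1 => h (Fin.ext
        (hprim.pow_inj j.isLt k.isLt (mul_inv_eq_one₀ (pow_ne_zero _ (hprim.ne_zero hp.ne')) |>.mp h1).symm))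
      rw [geom_sum_eq hne, mul_pow, inv_pow, ← pow_mul, ← pow_mul, mul_comm (k : ℕ), mul_comm (j : ℕ),
        pow_mul, pow_mul, hprim.pow_eq_one, one_pow, one_pow, inv_one, mul_one, sub_self, zero_div,
        mul_zero, zero_smul]
  have hN : finrank K V ≤ ∑ j : Fin p, finrank K (E j) := by
    let Φ : V →ₗ[K] (∀ j : Fin p, E j) := LinearMap.pi fun j => (P j).rangeRestrict
    have hΦ : Function.Injective Φ := by
      intro a b hab
      have h1 : ∀ j : Fin p, P j a = P j b := fun j => congrArg Subtype.val (congrFun hab j)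
      rw [← End.one_apply (R := K) a, ← End.one_apply (R := K) b, ← hPsum, LinearMap.sum_apply,
        LinearMap.sum_apply, ← Fin.sum_univ_eq_sum_range (fun j => P j a),
        ← Fin.sum_univ_eq_sum_range (fun j => P j b)]
      exact Finset.sum_congr rfl fun j _ => h1 j
    exact (LinearMap.finrank_le_finrank_of_injective hΦ).trans_eq (Module.finrank_pi_fintype K)
  have hE0 : finrank K (E ⟨0, hp⟩) = 0 := by
    show finrank K (LinearMap.range (P 0)) = 0
    rw [hP0, LinearMap.range_zero, finrank_bot]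
  have hcomm : ∑ j : Fin p, finrank K (E j) ^ 2 ≤ finrank K (Commutant.commutant (f - 1)) := by
    let toC : (∀ j : Fin p, End K (E j)) →ₗ[K] End K V :=
      { toFun := fun g => ∑ j, (E j).subtype ∘ₗ g j ∘ₗ (P j).rangeRestrict
        map_add' := fun g g' => by
          simp only [Pi.add_apply, LinearMap.add_comp, LinearMap.comp_add, Finset.sum_add_distrib]
        map_smul' := fun c g => by
          simp only [Pi.smul_apply, LinearMap.smul_comp, LinearMap.comp_smul, Finset.smul_sum,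
            RingHom.id_apply] }
    have hPf : ∀ j : ℕ, P j * f = f * P j := fun j => by
      simp only [P, smul_mul_assoc, mul_smul_comm, Finset.sum_mul, Finset.mul_sum, ← pow_succ,
        ← pow_succ']
    have hmem : ∀ g, toC g ∈ Commutant.commutant (f - 1) := by
      intro g
      rw [Commutant.mem_commutant, mul_sub, sub_mul, mul_one, one_mul, sub_left_inj]
      refine LinearMap.ext fun w => ?_
      simp only [toC, LinearMap.coe_mk, AddHom.coe_mk, End.mul_apply, LinearMap.sum_apply,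
        map_sum, LinearMap.comp_apply]
      refine Finset.sum_congr rfl fun j _ => ?_
      set a := (P j).rangeRestrict w
      have ha : (P j).rangeRestrict (f w) = (ζ ^ (j : ℕ))⁻¹ • a := by
        apply Subtype.ext
        show P j (f w) = (ζ ^ (j : ℕ))⁻¹ • P j w
        rw [← End.mul_apply, hPf, End.mul_apply]
        conv_rhs => rw [← heig j (P j w) ⟨w, rfl⟩, smul_smul,
          inv_mul_cancel₀ (pow_ne_zero _ (hprim.ne_zero hp.ne')), one_smul]
      rw [ha, map_smul, map_smul]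
      show (ζ ^ (j : ℕ))⁻¹ • ((g j a : E j) : V) = f ((g j a : E j) : V)
      conv_lhs => rw [← heig j _ (g j a).2, smul_smul,
        inv_mul_cancel₀ (pow_ne_zero _ (hprim.ne_zero hp.ne')), one_smul]
    have hinj : Function.Injective toC := by
      intro g g' hgg
      funext k
      refine LinearMap.ext fun w => Subtype.ext ?_
      have h1 := LinearMap.congr_fun hgg (w : V)
      simp only [toC, LinearMap.coe_mk, AddHom.coe_mk, LinearMap.sum_apply,
        LinearMap.comp_apply] at h1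
      have key : ∀ h : ∀ j : Fin p, End K (E j),
          ∑ j, (E j).subtype (h j ((P j).rangeRestrict (w : V))) = (h k w : V) := by
        intro h
        rw [Finset.sum_eq_single k]
        · rw [show (P k).rangeRestrict (w : V) = w from Subtype.ext ((hPw k k w w.2).trans (if_pos rfl))]
          rfl
        · intro j _ hj
          rw [show (P j).rangeRestrict (w : V) = 0 from
            Subtype.ext ((hPw k j w w.2).trans (if_neg (Ne.symm hj))), map_zero, map_zero]
        · simp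
      rwa [key, key] at h1
    have h2 := LinearMap.finrank_le_finrank_of_injective
      (f := toC.codRestrict _ hmem) fun a b h => hinj (congrArg Subtype.val h)
    rw [Module.finrank_pi_fintype] at h2
    simp only [finrank_linearMap] at h2
    simpa [sq] using h2
  have hcs := sq_sum_le_card_mul_sum_sq (s := Finset.univ.erase (⟨0, hp⟩ : Fin p))
    (f := fun j => finrank K (E j))
  rw [Finset.card_erase_of_mem (Finset.mem_univ _), Finset.card_univ, Fintype.card_fin] at hcs
  have hs1 := Finset.add_sum_erase Finset.univ (fun j => finrank K (E j))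
    (Finset.mem_univ (⟨0, hp⟩ : Fin p))
  have hs2 := Finset.add_sum_erase Finset.univ (fun j => finrank K (E j) ^ 2)
    (Finset.mem_univ (⟨0, hp⟩ : Fin p))
  simp only [hE0] at hs1 hs2
  rw [zero_add] at hs1
  rw [zero_pow two_ne_zero, zero_add] at hs2
  rw [hs1, hs2] at hcs
  exact (Nat.pow_le_pow_left hN 2).trans (hcs.trans (Nat.mul_le_mul_left _ hcomm))

/-- A good subspace invariant under an element of prime order with vanishing norm. -/
theorem exists_invariant_good [IsAlgClosed K] [FiniteDimensional K V] {p : ℕ} [hp : Fact p.Prime]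
    {Q : Subgroup G} (hQK : (Nat.card Q : K) ≠ 0) (hne : ∃ k ∈ Q, ρ k ≠ 1) {x : G}
    (hxQ : x ∈ Subgroup.normalizer (Q : Set G)) (hxp : x ^ p = 1) (hN : normEnd ρ x p = 0) :
    ∃ W, IsGood ρ Q W ∧ ∀ w ∈ W, ρ x w ∈ W := by
  classical
  have hconj : ∀ {g k : G}, g ∈ Subgroup.normalizer (Q : Set G) → k ∈ Q → g * k * g⁻¹ ∈ Q :=
    fun hg hk => (Subgroup.mem_normalizer_iff.mp hg _).mp hk
  have hsub : ∀ {W : Submodule K V} (hW : IsGood ρ Q W), ∀ U : Submodule K W,
      (∀ (k : G) (hk : k ∈ Q), ∀ u ∈ U, (⟨ρ k u, hW.inv k hk u u.2⟩ : W) ∈ U) →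
      U = ⊥ ∨ U = ⊤ := by
    intro W hW U hU
    rcases hW.minimal (U.map W.subtype) (Submodule.map_subtype_le _ _) (by
      rintro k hk _ ⟨u, hu, rfl⟩
      exact ⟨_, hU k hk u hu, rfl⟩) with h | h
    · left
      refine Submodule.map_injective_of_injective W.injective_subtype ?_
      rw [h, Submodule.map_bot]
    · right
      refine Submodule.map_injective_of_injective W.injective_subtype ?_
      rw [h, Submodule.map_top, Submodule.range_subtype]
  obtain ⟨W₀, hW₀⟩ := exists_good hQK hne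
  haveI : Nontrivial W₀ := Submodule.nontrivial_iff_ne_bot.mpr hW₀.ne_bot
  -- `x` stabilises `W₀`
  have hstab : IsStable ρ Q W₀ x := by
    obtain ⟨w₀, hw₀, hw₀0⟩ := Submodule.exists_mem_ne_zero_of_ne_bot hW₀.ne_bot
    let F : ℕ → Submodule K V := fun i => W₀.map (ρ (x ^ (i + 1)))
    set t := (Finset.range (p - 1)).sup F with ht
    have hwt : w₀ ∈ t := by
      have h1 := LinearMap.congr_fun hN w₀
      rw [normEnd, LinearMap.sum_apply, LinearMap.zero_apply] at h1
      rw [show p = p - 1 + 1 from (Nat.sub_add_cancel hp.out.pos).symm, Finset.sum_range_succ',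
        pow_zero, map_one, End.one_apply] at h1
      rw [eq_neg_of_add_eq_zero_right h1]
      refine neg_mem (sum_mem fun i hi => ?_)
      exact (Finset.le_sup (f := F) hi) (Submodule.mem_map_of_mem hw₀)
    have hFinv : ∀ i, IsInv ρ Q (F i) := by
      rintro i k hk _ ⟨v, hv, rfl⟩
      refine ⟨ρ ((x ^ (i + 1))⁻¹ * k * x ^ (i + 1)) v, hW₀.inv _ ?_ v hv, ?_⟩
      · simpa using hconj (inv_mem (pow_mem hxQ (i + 1))) hk
      · rw [rho_mul_apply, rho_mul_apply]
        congr 2
        group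
    have hFmin : ∀ i, ∀ U ≤ F i, IsInv ρ Q U → U = ⊥ ∨ U = F i := by
      intro i U hU hUi
      have hU' : U.comap (ρ (x ^ (i + 1))) ≤ W₀ := fun v hv => by
        obtain ⟨v', hv', he⟩ := hU hv
        rwa [← rho_apply_inv (ρ := ρ) (x ^ (i + 1)) v, ← he, rho_apply_inv]
      rcases hW₀.minimal _ hU' (fun k hk v hv => by
        rw [Submodule.mem_comap] at hv ⊢
        rw [rho_mul_apply, show x ^ (i + 1) * k
          = x ^ (i + 1) * k * (x ^ (i + 1))⁻¹ * x ^ (i + 1) by group, ← rho_mul_apply]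
        exact hUi _ (hconj (pow_mem hxQ (i + 1)) hk) _ hv) with h | h
      · left
        rw [← Submodule.map_comap_eq_self (hU.trans LinearMap.map_le_range), h, Submodule.map_bot]
      · right
        rw [← Submodule.map_comap_eq_self (hU.trans LinearMap.map_le_range), h]
    have hWt : W₀ ≤ t := by
      rcases hW₀.minimal (W₀ ⊓ t) inf_le_left (fun k hk v hv => ⟨hW₀.inv k hk v hv.1, by
        have : t ≤ t.comap (ρ k) := Finset.sup_le fun i hi z hz =>
          (Finset.le_sup (f := F) hi) (hFinv i k hk z hz)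
        exact this hv.2⟩) with h | h
      · have hm : w₀ ∈ W₀ ⊓ t := ⟨hw₀, hwt⟩
        rw [h, Submodule.mem_bot] at hm
        exact absurd hm hw₀0
      · exact h ▸ inf_le_right
    obtain ⟨i, hi, f, hf0, hfW, hfk⟩ :=
      exists_map_of_le_sup hW₀.inv hW₀.ne_bot F hFinv hFmin _ hWt
    rw [Finset.mem_range] at hi
    obtain ⟨C, hC⟩ := Submodule.exists_isCompl W₀
    let pr : V →ₗ[K] W₀ := W₀.projectionOnto C hC
    -- a power of `x` maps `f W₀` back into `W₀`
    set j := p - (i + 1) with hj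
    have hgy : ∀ w, w ∈ F i → ρ (x ^ j) w ∈ W₀ := by
      rintro _ ⟨v, hv, rfl⟩
      rw [rho_mul_apply, ← pow_add, show j + (i + 1) = p by omega, hxp, map_one]
      exact hv
    have hstj : IsStable ρ Q W₀ (x ^ j) := by
      refine ⟨(ρ (x ^ j)) ∘ₗ f ∘ₗ pr, fun v _ => hgy _ (hfW _), ?_, fun k hk v hv => ?_⟩
      · by_contra hall
        push Not at hall
        refine hf0 (LinearMap.ext fun v => ?_)
        have h := hall v v.2
        simp only [LinearMap.comp_apply] at h
        rw [show pr (v : V) = v from Submodule.projectionOnto_apply_left hC v] at h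
        by_contra hne
        exact rho_ne_zero hne h
      · simp only [LinearMap.comp_apply]
        rw [show pr v = (⟨v, hv⟩ : W₀) from Submodule.projectionOnto_apply_left hC ⟨v, hv⟩,
          show pr (ρ k v) = (⟨ρ k v, hW₀.inv k hk v hv⟩ : W₀) from
            Submodule.projectionOnto_apply_left hC ⟨ρ k v, hW₀.inv k hk v hv⟩,
          hfk k hk ⟨v, hv⟩, rho_mul_apply, rho_mul_apply]
        congr 2
        group
    have hmul : ∀ g h, h ∈ Subgroup.normalizer (Q : Set G) →
        IsStable ρ Q W₀ g → IsStable ρ Q W₀ h → IsStable ρ Q W₀ (g * h) := by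
      rintro g h hh ⟨S, hSW, ⟨a, ha, ha0⟩, hSk⟩ ⟨S', hS'W, ⟨a', ha', ha'0⟩, hS'k⟩
      refine ⟨S * S', fun w hw => hSW _ (hS'W w hw), ?_, fun k hk w hw => ?_⟩
      · refine ⟨a', ha', fun h0 => ha'0 ?_⟩
        let E : Submodule K V := W₀ ⊓ LinearMap.ker S
        rcases hW₀.minimal E inf_le_left (fun k hk w hw => ⟨hW₀.inv k hk w hw.1,
          LinearMap.mem_ker.mpr (by rw [hSk k hk w hw.1, LinearMap.mem_ker.mp hw.2, map_zero])⟩)
          with hE | hE
        · have : S' a' ∈ E := ⟨hS'W a' ha', h0⟩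
          rwa [hE, Submodule.mem_bot] at this
        · exact absurd ((hE.symm ▸ ha : a ∈ E).2) ha0
      · rw [End.mul_apply, hS'k k hk w hw, hSk _ (hconj hh hk) _ (hS'W w hw), End.mul_apply]
        congr 2
        group
    have hpows : ∀ m, IsStable ρ Q W₀ ((x ^ j) ^ (m + 1)) := by
      intro m
      induction m with
      | zero => rwa [zero_add, pow_one]
      | succ m ih =>
        rw [pow_succ]
        exact hmul _ _ (pow_mem hxQ _) ih hstj
    obtain ⟨c, hc⟩ := Nat.exists_mul_mod_eq_one_of_coprime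
      (hp.out.coprime_iff_not_dvd.mpr
        (Nat.not_dvd_of_pos_of_lt (by omega) (by omega : j < p))).symm hp.out.one_lt
    have hc0 : c ≠ 0 := fun h0 => by
      have := hc.2; rw [h0, mul_zero, Nat.zero_mod] at this; exact zero_ne_one this
    have h := hpows (c - 1)
    rwa [Nat.sub_add_cancel (Nat.pos_of_ne_zero hc0), ← pow_mul, pow_eq_pow_mod _ hxp, hc.2,
      pow_one] at h
  obtain ⟨T₀, hT₀W, hT₀ne, hT₀k⟩ := hstab
  let T : End K W₀ := T₀.restrict hT₀W
  have hTk : ∀ (k : G) (hk : k ∈ Q) (w : W₀), T ⟨ρ k w, hW₀.inv k hk w w.2⟩ =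
      ⟨ρ (x * k * x⁻¹) (T w), hW₀.inv _ (hconj hxQ hk) _ (T w).2⟩ := fun k hk w =>
    Subtype.ext (hT₀k k hk w w.2)
  have hTinj : LinearMap.ker T = ⊥ := by
    refine (hsub hW₀ _ fun k hk a ha => ?_).resolve_right fun h => ?_
    · rw [LinearMap.mem_ker] at ha ⊢
      rw [hTk k hk a, ha]
      exact Subtype.ext (map_zero _)
    · obtain ⟨w, hw, hw0⟩ := hT₀ne
      have hm : T ⟨w, hw⟩ = 0 := by
        rw [LinearMap.ker_eq_top.mp h]
        rfl
      exact hw0 (congrArg Subtype.val hm)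
  let Te : W₀ ≃ₗ[K] W₀ := LinearEquiv.ofBijective T
    ⟨LinearMap.ker_eq_bot.mp hTinj, LinearMap.injective_iff_surjective.mp (LinearMap.ker_eq_bot.mp hTinj)⟩
  have hTe : ∀ (k : G) (hk : k ∈ Q) (w : W₀), (Te.symm ⟨ρ k w, hW₀.inv k hk w w.2⟩ : W₀) =
      ⟨ρ (x⁻¹ * k * x) (Te.symm w : V),
        hW₀.inv _ (conj_mem hxQ hk) _ (Te.symm w).2⟩ := by
    intro k hk w
    apply Te.injective
    rw [Te.apply_symm_apply]
    show _ = T _
    rw [hTk _ (conj_mem hxQ hk) (Te.symm w)]
    apply Subtype.ext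
    show ρ k (w : V) = ρ (x * (x⁻¹ * k * x) * x⁻¹) ((T (Te.symm w) : W₀) : V)
    rw [show T (Te.symm w) = w from Te.apply_symm_apply w]
    congr 2
    group
  -- an eigen-intertwiner
  let M : Submodule K (W₀ →ₗ[K] V) :=
    { carrier := {φ | ∀ (k : G) (hk : k ∈ Q) (w : W₀),
        φ ⟨ρ k w, hW₀.inv k hk w w.2⟩ = ρ k (φ w)}
      add_mem' := fun {a b} ha hb k hk w => by
        rw [LinearMap.add_apply, LinearMap.add_apply, ha k hk w, hb k hk w, map_add]
      zero_mem' := fun k hk w => by simp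
      smul_mem' := fun c a ha k hk w => by
        rw [LinearMap.smul_apply, LinearMap.smul_apply, ha k hk w, map_smul] }
  let L : End K (W₀ →ₗ[K] V) :=
    (LinearMap.lcomp K V (Te.symm : W₀ →ₗ[K] W₀)).comp (LinearMap.compRight K (ρ x))
  have hLapply : ∀ φ w, L φ w = ρ x (φ (Te.symm w)) := fun φ w => rfl
  have hLM : ∀ φ ∈ M, L φ ∈ M := by
    intro φ hφ k hk w
    rw [hLapply, hLapply, hTe k hk w, hφ _ (conj_mem hxQ hk) _, rho_mul_apply, rho_mul_apply]
    congr 2
    group
  haveI : Nontrivial M := by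
    refine ⟨⟨⟨W₀.subtype, fun k hk w => rfl⟩, 0, fun h => ?_⟩⟩
    obtain ⟨w, hw⟩ := exists_ne (0 : W₀)
    exact hw (Subtype.ext (LinearMap.congr_fun (congrArg Subtype.val h) w))
  obtain ⟨c, hc⟩ := End.exists_eigenvalue (L.restrict hLM)
  obtain ⟨⟨φ, hφk⟩, hφ, hφ0'⟩ := Submodule.exists_mem_ne_zero_of_ne_bot hc
  have hφfix : L φ = c • φ := congrArg Subtype.val (End.mem_eigenspace_iff.mp hφ)
  have hφ0 : φ ≠ 0 := fun h => hφ0' (Subtype.ext h)
  have hφinj : LinearMap.ker φ = ⊥ := by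
    refine (hsub hW₀ _ fun k hk a ha => ?_).resolve_right fun h => hφ0 ?_
    · rw [LinearMap.mem_ker] at ha ⊢
      rw [hφk k hk a, ha, map_zero]
    · exact LinearMap.ker_eq_top.mp h
  set W := LinearMap.range φ with hWdef
  have hW : IsGood ρ Q W := by
    refine ⟨fun h => hφ0 (LinearMap.range_eq_bot.mp h), ?_, fun U hU hUi => ?_, ?_⟩
    · rintro k hk _ ⟨w, rfl⟩
      exact ⟨_, hφk k hk w⟩
    · rcases hsub hW₀ (U.comap φ) (fun k hk u hu => by
        rw [Submodule.mem_comap] at hu ⊢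
        rw [hφk k hk u]
        exact hUi k hk _ hu) with h | h
      · left
        rw [← Submodule.map_comap_eq_self hU, h, Submodule.map_bot]
      · right
        rw [← Submodule.map_comap_eq_self hU, h, Submodule.map_top]
    · obtain ⟨k, hk, w, hw, hne⟩ := hW₀.nontriv
      refine ⟨k, hk, φ ⟨w, hw⟩, ⟨_, rfl⟩, fun h => hne ?_⟩
      rw [← hφk k hk ⟨w, hw⟩] at h
      exact congrArg Subtype.val (LinearMap.ker_eq_bot.mp hφinj h)
  have hyW : ∀ w ∈ W, ρ x w ∈ W := by
    rintro _ ⟨w, rfl⟩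
    refine ⟨c • T w, ?_⟩
    have h := LinearMap.congr_fun hφfix (T w)
    rw [hLapply, show Te.symm (T w) = w from Te.symm_apply_apply w, LinearMap.smul_apply] at h
    rw [map_smul, h]
  exact ⟨W, hW, hyW⟩

/-- The coprime critical case: a vanishing norm forces `p = u ^ b + 1`. -/
theorem exists_pow_eq [IsAlgClosed K] [FiniteDimensional K V] {p u : ℕ} [hp : Fact p.Prime]
    [hu : Fact u.Prime] (hpu : p ≠ u) (hpK : (p : K) ≠ 0) {Q : Subgroup G} (hQ : IsPGroup u Q)
    (hQK : (Nat.card Q : K) ≠ 0) (hne : ∃ k ∈ Q, ρ k ≠ 1) {x : G}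
    (hxQ : x ∈ Subgroup.normalizer (Q : Set G)) (hxp : x ^ p = 1)
    (hN : normEnd ρ x p = 0) (hgen : Q ≤ ⁅Q, Subgroup.zpowers x⁆)
    (hclass : ∀ a ∈ Q, ∀ b ∈ Q, ∀ c ∈ Q, Commute c ⁅a, b⁆)
    (hcent : ∀ k ∈ Q, Commute k x → ∀ g ∈ Q, Commute k g) :
    ∃ b, 1 ≤ b ∧ p = u ^ b + 1 := by
  classical
  have hconj : ∀ {g k : G}, g ∈ Subgroup.normalizer (Q : Set G) → k ∈ Q → g * k * g⁻¹ ∈ Q :=
    fun hg hk => (Subgroup.mem_normalizer_iff.mp hg _).mp hk
  have hsub : ∀ {W : Submodule K V} (hW : IsGood ρ Q W), ∀ U : Submodule K W,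
      (∀ (k : G) (hk : k ∈ Q), ∀ u ∈ U, (⟨ρ k u, hW.inv k hk u u.2⟩ : W) ∈ U) →
      U = ⊥ ∨ U = ⊤ := by
    intro W hW U hU
    rcases hW.minimal (U.map W.subtype) (Submodule.map_subtype_le _ _) (by
      rintro k hk _ ⟨u, hu, rfl⟩
      exact ⟨_, hU k hk u hu, rfl⟩) with h | h
    · left
      refine Submodule.map_injective_of_injective W.injective_subtype ?_
      rw [h, Submodule.map_bot]
    · right
      refine Submodule.map_injective_of_injective W.injective_subtype ?_
      rw [h, Submodule.map_top, Submodule.range_subtype]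
  obtain ⟨W, hW, hyW⟩ := exists_invariant_good hQK hne hxQ hxp hN
  set y := x with hy
  set G₁ := Q ⊔ Subgroup.zpowers y with hG₁
  have hG₁W : ∀ g ∈ G₁, ∀ w ∈ W, ρ g w ∈ W := by
    let S : Subgroup G :=
      { carrier := {g | W.map (ρ g) = W}
        mul_mem' := fun {g h} hg hh => by
          show W.map (ρ (g * h)) = W
          rw [map_mul, End.mul_eq_comp, Submodule.map_comp, show W.map (ρ h) = W from hh]
          exact hg
        one_mem' := by show W.map (ρ 1) = W; rw [map_one]; exact Submodule.map_id W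
        inv_mem' := fun {g} hg => by
          show W.map (ρ g⁻¹) = W
          conv_lhs => rw [← show W.map (ρ g) = W from hg]
          rw [← Submodule.map_comp, ← End.mul_eq_comp, ← map_mul, inv_mul_cancel, map_one]
          exact Submodule.map_id W }
    have hin : ∀ g, (∀ w ∈ W, ρ g w ∈ W) → g ∈ S := fun g hg => by
      refine Submodule.eq_of_le_of_finrank_eq (Submodule.map_le_iff_le_comap.mpr hg) ?_
      exact (Submodule.equivMapOfInjective _
        (fun u v h => by rw [← rho_apply_inv (ρ := ρ) g u, h, rho_apply_inv]) W).finrank_eq.symm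
    have hle : G₁ ≤ S := sup_le (fun g hg => hin g (hW.inv g hg))
      (Subgroup.zpowers_le.mpr (hin y hyW))
    exact fun g hg w hw => (hle hg : W.map (ρ g) = W) ▸ Submodule.mem_map_of_mem hw
  let σ : Representation K G₁ W :=
    { toFun := fun g => (ρ (g : G)).restrict (hG₁W g g.2)
      map_one' := LinearMap.ext fun w => Subtype.ext (by simp)
      map_mul' := fun g h => LinearMap.ext fun w => Subtype.ext (by simp) }
  have hσ : ∀ (g : G₁) (w : W), (σ g w : V) = ρ (g : G) (w : V) := fun _ _ => rfl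
  haveI : Nontrivial W := Submodule.nontrivial_iff_ne_bot.mpr hW.ne_bot
  let x₁ : G₁ := ⟨x, Subgroup.mem_sup_right (Subgroup.mem_zpowers x)⟩
  haveI : (Q.subgroupOf G₁).Normal := Subgroup.normal_subgroupOf_iff le_sup_left |>.mpr
    fun k g hk hg => hconj ((sup_le Subgroup.le_normalizer (Subgroup.zpowers_le.mpr hxQ)) hg) hk
  have hQ₁ : IsPGroup u (Q.subgroupOf G₁) :=
    hQ.of_equiv (Subgroup.subgroupOfEquivOfLe le_sup_left).symm
  have hirr : IsIrredOn σ (Q.subgroupOf G₁) := fun U hU =>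
    hsub hW U fun k hk a ha => hU ⟨k, Subgroup.mem_sup_left hk⟩ hk a ha
  have hfix : ∀ i, 0 < i → i < p ^ 1 → ∀ k ∈ Q.subgroupOf G₁, Commute k (x₁ ^ i) →
      IsScalar σ k := by
    intro i hi0 hilt k hk hki
    rw [pow_one] at hilt
    have hki' : Commute (k : G) (x ^ i) := congrArg Subtype.val hki
    obtain ⟨c, hc⟩ := Nat.exists_mul_mod_eq_one_of_coprime
      (hp.out.coprime_iff_not_dvd.mpr (Nat.not_dvd_of_pos_of_lt hi0 hilt)).symm hp.out.one_lt
    have hkx : Commute (k : G) x := by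
      have h := hki'.pow_right c
      rwa [← pow_mul, pow_eq_pow_mod _ hxp, hc.2, pow_one] at h
    exact isScalar_of_commute hirr fun g hg => by
      rw [← map_mul, ← map_mul]
      exact congrArg σ (Subtype.ext (hcent k hk hkx g hg).eq).symm
  obtain ⟨⟨b, hb⟩, hcom⟩ := conj_orbits (ρ := σ) hpu hQ₁ hirr (x := x₁) (n := 1)
    (Subtype.ext (by rw [Subgroup.coe_pow, pow_one]; exact hxp)) hfix
    (fun t ht k hk => isScalar_of_commute hirr fun g hg => by
      rw [← map_mul, ← map_mul]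
      exact congrArg σ (Subtype.ext (hclass t ht k hk g hg).eq))
  obtain ⟨r, hr, hC⟩ := hcom 1 one_pos (by rw [pow_one]; exact hp.out.one_lt.le) (Nat.mod_one _)
  rw [pow_one, Nat.div_one] at hr
  rw [pow_one] at hC
  have hle := sq_finrank_le_of_norm hp.out.pos hpK (f := σ x₁)
    (by rw [← map_pow, show x₁ ^ p = 1 from Subtype.ext hxp, map_one])
    (LinearMap.ext fun w => Subtype.ext (by
      rw [LinearMap.sum_apply, Submodule.coe_sum, LinearMap.zero_apply, Submodule.coe_zero]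
      have h := LinearMap.congr_fun hN (w : V)
      rw [normEnd, LinearMap.sum_apply, LinearMap.zero_apply] at h
      refine Eq.trans (Finset.sum_congr rfl fun i _ => ?_) h
      rw [← map_pow, hσ, Subgroup.coe_pow]))
  rw [hC, sq] at hle
  set N := finrank K W with hNdef
  have hN2 : 2 ≤ N := by
    by_contra h
    push Not at h
    have h1 : N = 1 := by
      have : 0 < N := finrank_pos
      omega
    obtain ⟨k, hk, v, hv, hne'⟩ := hW.nontriv
    refine hne' ?_
    let S : Subgroup G :=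
      { carrier := {g | ∀ v ∈ W, ρ g v = v}
        mul_mem' := fun {g h} hg hh v hv => by rw [← rho_mul_apply, hh v hv, hg v hv]
        one_mem' := fun v _ => by rw [map_one]; rfl
        inv_mem' := fun {g} hg v hv => by
          conv_lhs => rw [← hg v hv, rho_apply_inv] }
    obtain ⟨e, he⟩ := exists_ne (0 : W)
    have hsc : ∀ g : G₁, IsScalar σ g := fun g => by
      obtain ⟨a, ha⟩ := (finrank_eq_one_iff_of_nonzero' e he).mp h1 (σ g e)
      refine ⟨a, LinearMap.ext fun w => ?_⟩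
      obtain ⟨d, rfl⟩ := (finrank_eq_one_iff_of_nonzero' e he).mp h1 w
      rw [LinearMap.smul_apply, End.one_apply, map_smul, ← ha, smul_comm]
    have hle' : ⁅Q, Subgroup.zpowers x⁆ ≤ S := by
      refine Subgroup.commutator_le.mpr fun k hk z hz v hv => ?_
      have h := LinearMap.congr_fun (rho_commutator_scalar (ρ := σ)
        (g := (⟨z, Subgroup.mem_sup_right hz⟩ : G₁))
        (hsc ⟨k, Subgroup.mem_sup_left hk⟩)) ⟨v, hv⟩
      exact congrArg Subtype.val h
    exact (hle' (hgen hk)) v hv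
  refine ⟨b, ?_, ?_⟩
  · by_contra hb0
    rw [show b = 0 by omega, pow_zero] at hb
    omega
  obtain ⟨m, hm⟩ : ∃ m, p = m + 1 := ⟨p - 1, by have := hp.out.pos; omega⟩
  rw [hm, Nat.add_sub_cancel] at hle
  rw [hm] at hr
  have hNle : N ≤ m := by nlinarith
  have hdvd : p ∣ N + 1 := by
    have h : p ∣ (N - 1) * (N + 1) := ⟨r, by
      rw [mul_comm, ← Nat.sq_sub_sq, one_pow, sq, hr, Nat.add_sub_cancel_left, hm, mul_comm]⟩
    rcases (Nat.Prime.dvd_mul hp.out).mp h with h | h
    · have := Nat.le_of_dvd (by omega) h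
      omega
    · exact h
  have := Nat.le_of_dvd (by omega) hdvd
  omega

/-- The norm is invariant under the powers of `z`. -/
theorem pow_mul_normEnd {z : G} {p : ℕ} (hzp : z ^ p = 1) (j : ℕ) :
    ρ (z ^ j) * normEnd ρ z p = normEnd ρ z p := by
  have h1 : ρ z * normEnd ρ z p = normEnd ρ z p := by
    have h := Finset.sum_range_succ' (fun i => ρ (z ^ i)) p
    rw [Finset.sum_range_succ, hzp, pow_zero] at h
    rw [normEnd, Finset.mul_sum]
    refine Eq.trans (Finset.sum_congr rfl fun i _ => ?_) (add_right_cancel h).symm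
    rw [← map_mul, ← pow_succ']
  induction j with
  | zero => rw [pow_zero, map_one, one_mul]
  | succ j ih => rw [pow_succ, map_mul, mul_assoc, h1, ih]

/-- With operators `z`, `h` generating a symmetric group of degree three, `h` inverting the norms
and `z` without fixed points on a group of class two, the commutators act trivially. -/
theorem commutator_eq_one [IsAlgClosed K] [FiniteDimensional K V] (h2K : (2 : K) ≠ 0)
    {L : Subgroup G} (hLK : (Nat.card L : K) ≠ 0) (hL3 : (Nat.card L).Coprime 3)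
    (hclass : ∀ a ∈ L, ∀ b ∈ L, ∀ c ∈ L, Commute c ⁅a, b⁆)
    {z h : G} (hz : z ∈ Subgroup.normalizer (L : Set G)) (hh : h ∈ Subgroup.normalizer (L : Set G))
    (hz3 : z ^ 3 = 1) (hh2 : h ^ 2 = 1) (hzh : h * z * h⁻¹ = z⁻¹)
    (hfree : ∀ a ∈ L, z * a * z⁻¹ = a → a = 1)
    (hinv : ρ h * normEnd ρ z 3 = - normEnd ρ z 3) {x y : G} (hx : x ∈ L) (hy : y ∈ L) :
    ρ ⁅x, y⁆ = 1 := by
  classical
  set cz : G → G := fun a => z * a * z⁻¹ with hcz
  have hczL : ∀ a ∈ L, cz a ∈ L := fun a ha => (Subgroup.mem_normalizer_iff.mp hz a).mp ha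
  have hcz3 : ∀ a, cz (cz (cz a)) = a := fun a => by
    show z * (z * (z * a * z⁻¹) * z⁻¹) * z⁻¹ = a
    rw [show z * (z * (z * a * z⁻¹) * z⁻¹) * z⁻¹ = z ^ 3 * a * (z ^ 3)⁻¹ by
      simp only [pow_succ, pow_zero, one_mul]; group, hz3]
    group
  -- the norm of every element is trivial, and `a` commutes with its conjugate
  have hnorm : ∀ a ∈ L, a * cz a * cz (cz a) = 1 ∧ a * cz (cz a) * cz a = 1 := by
    have key : ∀ w : G, (∀ a ∈ L, w * a * w⁻¹ ∈ L) → (∀ a ∈ L, w * a * w⁻¹ = a → a = 1) →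
        w ^ 3 = 1 → ∀ a ∈ L, a * (w * a * w⁻¹) * (w * (w * a * w⁻¹) * w⁻¹) = 1 := by
      intro w hw hwf hw3 a ha
      let f : L → L := fun b => ⟨(b : G)⁻¹ * (w * b * w⁻¹), L.mul_mem (L.inv_mem b.2) (hw b b.2)⟩
      have hf : Function.Surjective f := by
        refine Finite.injective_iff_surjective.1 fun b c hbc => Subtype.ext ?_
        have h1 : (b : G)⁻¹ * (w * b * w⁻¹) = (c : G)⁻¹ * (w * c * w⁻¹) := congrArg Subtype.val hbc
        refine mul_inv_eq_one.mp (hwf _ (L.mul_mem b.2 (L.inv_mem c.2)) ?_)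
        rw [show w * ((b : G) * (c : G)⁻¹) * w⁻¹ = (w * b * w⁻¹) * (w * c * w⁻¹)⁻¹ by group,
          show w * (b : G) * w⁻¹ = b * ((c : G)⁻¹ * (w * c * w⁻¹)) by
            rw [← h1, mul_inv_cancel_left]]
        group
      obtain ⟨b, hb⟩ := hf ⟨a, ha⟩
      have hb' : (b : G)⁻¹ * (w * b * w⁻¹) = a := congrArg Subtype.val hb
      rw [← hb', show (b : G)⁻¹ * (w * b * w⁻¹) * (w * ((b : G)⁻¹ * (w * b * w⁻¹)) * w⁻¹) *
        (w * (w * ((b : G)⁻¹ * (w * b * w⁻¹)) * w⁻¹) * w⁻¹) = (b : G)⁻¹ * (w ^ 3 * b * (w ^ 3)⁻¹)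
        by simp only [pow_succ, pow_zero, one_mul]; group, hw3]
      group
    intro a ha
    refine ⟨key z (fun b hb => hczL b hb) hfree hz3 a ha, ?_⟩
    have h := key z⁻¹ (fun b hb => by
      rw [inv_inv]; exact conj_mem hz hb) (fun b hb hfix => hfree b hb (by
        conv_lhs => rw [← hfix]
        group)) (by rw [inv_pow, hz3, inv_one]) a ha
    rw [inv_inv] at h
    have e : ∀ b, z⁻¹ * b * z = cz (cz b) := fun b => by
      have h3 := hcz3 (z⁻¹ * b * z)
      have : cz (z⁻¹ * b * z) = b := by show z * (z⁻¹ * b * z) * z⁻¹ = b; group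
      rw [this] at h3
      exact h3.symm
    rwa [e, e, hcz3] at h
  have hcomm : ∀ a ∈ L, a * cz a = cz a * a := by
    intro a ha
    obtain ⟨h1, h2⟩ := hnorm (cz (cz a)) (hczL _ (hczL a ha))
    simp only [hcz3] at h1 h2
    exact mul_left_cancel (a := cz (cz a)) ((mul_assoc _ _ _).symm.trans ((h1.trans h2.symm).trans (mul_assoc _ _ _)))
  have hLc : ∀ a ∈ L, ∀ b ∈ L, ⁅a, b⁆ ∈ L := fun a ha b hb => by
    rw [commutatorElement_def]
    exact L.mul_mem (L.mul_mem (L.mul_mem ha hb) (L.inv_mem ha)) (L.inv_mem hb)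
  have hmulr : ∀ a ∈ L, ∀ b ∈ L, ∀ c ∈ L, ⁅a, b * c⁆ = ⁅a, b⁆ * ⁅a, c⁆ := fun a ha b hb c hc => by
    rw [show ⁅a, b * c⁆ = ⁅a, b⁆ * (b * ⁅a, c⁆ * b⁻¹) by simp only [commutatorElement_def]; group,
      (hclass a ha c hc b hb).eq, mul_inv_cancel_right]
  have hmull : ∀ a ∈ L, ∀ b ∈ L, ∀ c ∈ L, ⁅a * b, c⁆ = ⁅a, c⁆ * ⁅b, c⁆ := fun a ha b hb c hc => by
    rw [show ⁅a * b, c⁆ = a * ⁅b, c⁆ * a⁻¹ * ⁅a, c⁆ by simp only [commutatorElement_def]; group,
      (hclass b hb c hc a ha).eq, mul_inv_cancel_right,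
      ((hclass a ha c hc _ (hLc b hb c hc))).eq]
  have hcc : ∀ a ∈ L, ∀ b ∈ L, cz ⁅a, b⁆ = ⁅cz a, cz b⁆ := fun a _ b _ => by
    simp only [hcz, commutatorElement_def]; group
  -- `[a, z b] = z² [a, b]`
  have hshift : ∀ a ∈ L, ∀ b ∈ L, ⁅a, cz b⁆ = cz (cz ⁅a, b⁆) := by
    intro a ha b hb
    have e1 : ∀ a ∈ L, ∀ b ∈ L, ⁅a, cz b⁆ * ⁅b, cz a⁆ = 1 := by
      intro a ha b hb
      have h1 : ⁅a * b, cz (a * b)⁆ = 1 :=
        commutatorElement_eq_one_iff_mul_comm.mpr (hcomm _ (L.mul_mem ha hb))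
      have e : cz (a * b) = cz a * cz b := by show z * (a * b) * z⁻¹ = _; simp only [hcz]; group
      rw [e, hmull a ha b hb _ (L.mul_mem (hczL a ha) (hczL b hb)), hmulr a ha _ (hczL a ha) _ (hczL b hb),
        hmulr b hb _ (hczL a ha) _ (hczL b hb), commutatorElement_eq_one_iff_mul_comm.mpr (hcomm a ha),
        commutatorElement_eq_one_iff_mul_comm.mpr (hcomm b hb), one_mul, mul_one] at h1
      exact h1
    have e2 : ∀ a ∈ L, ∀ b ∈ L, ⁅a, cz b⁆ = ⁅cz a, b⁆ := fun a ha b hb => by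
      rw [← commutatorElement_inv b (cz a)]
      exact eq_inv_of_mul_eq_one_left (e1 a ha b hb)
    have hc := hLc a ha b hb
    have h1 : ⁅a, b * cz b * cz (cz b)⁆ = 1 := by
      rw [(hnorm b hb).1, commutatorElement_one_right]
    rw [hmulr a ha _ (L.mul_mem hb (hczL b hb)) _ (hczL _ (hczL b hb)),
      hmulr a ha b hb _ (hczL b hb), e2 a ha _ (hczL b hb), ← hcc a ha b hb] at h1
    have h2 := (hnorm _ hc).2
    have h3 : ⁅a, b⁆ * ⁅a, cz b⁆ * cz ⁅a, b⁆ = ⁅a, b⁆ * cz (cz ⁅a, b⁆) * cz ⁅a, b⁆ := h1.trans h2.symm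
    exact mul_left_cancel (mul_right_cancel h3)
  -- a weight of the derived subgroup
  by_contra hne
  set A := Subgroup.closure {c | ∃ a ∈ L, ∃ b ∈ L, c = ⁅a, b⁆} with hA
  have hAL : A ≤ L := (Subgroup.closure_le _).mpr fun c ⟨a, ha, b, hb, he⟩ => he ▸ hLc a ha b hb
  have hAc : ∀ a ∈ A, ∀ c ∈ L, Commute c a := by
    intro a ha c hc
    have hle : A ≤ Subgroup.centralizer ({c} : Set G) := (Subgroup.closure_le _).mpr
      fun d ⟨a, ha, b, hb, he⟩ => Subgroup.mem_centralizer_singleton_iff.mpr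
        (he ▸ (hclass a ha b hb c hc).eq.symm)
    exact (Subgroup.mem_centralizer_singleton_iff.mp (hle ha)).symm
  have hmemA : ∀ a ∈ L, ∀ b ∈ L, ⁅a, b⁆ ∈ A := fun a ha b hb =>
    Subgroup.subset_closure ⟨a, ha, b, hb, rfl⟩
  have hnA : ∀ g ∈ Subgroup.normalizer (L : Set G), g ∈ Subgroup.normalizer (A : Set G) := by
    have key : ∀ g ∈ Subgroup.normalizer (L : Set G), ∀ a ∈ A, g * a * g⁻¹ ∈ A := by
      intro g hg a ha
      have hle : A ≤ A.comap (MulAut.conj g).toMonoidHom := (Subgroup.closure_le _).mpr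
        fun d ⟨a, ha, b, hb, he⟩ => by
          show g * d * g⁻¹ ∈ A
          rw [he, show g * ⁅a, b⁆ * g⁻¹ = ⁅g * a * g⁻¹, g * b * g⁻¹⁆ by
            simp only [commutatorElement_def]; group]
          exact hmemA _ ((Subgroup.mem_normalizer_iff.mp hg a).mp ha) _
            ((Subgroup.mem_normalizer_iff.mp hg b).mp hb)
      exact hle ha
    intro g hg
    refine Subgroup.mem_normalizer_iff.mpr fun a => ⟨key g hg a, fun ha => ?_⟩
    have h := key g⁻¹ (inv_mem hg) _ ha
    rwa [show g⁻¹ * (g * a * g⁻¹) * g⁻¹⁻¹ = a by group] at h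
  have hAK : (Nat.card A : K) ≠ 0 := fun h => by
    obtain ⟨c, hc⟩ := Subgroup.card_dvd_of_le hAL
    rw [hc, Nat.cast_mul, h, zero_mul] at hLK
    exact hLK rfl
  obtain ⟨χ, v, hv, hv0, hχ⟩ := exists_weight_ne (A := A) (fun a ha b hb => by
    rw [← map_mul, ← map_mul, (hAc b hb a (hAL ha)).eq]) (hmemA x hx y hy) hne hAK
  have hzA := hnA z hz
  have hmove : ¬ Fixes A χ z := not_fixes_of_free hv hv0 hzA
    (fun a ha => hfree a (hAL ha)) (hmemA x hx y hy) hχ
  have hhz : ∀ i, h * z ^ i = (z ^ i)⁻¹ * h := fun i => by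
    rw [← inv_pow, ← hzh, conj_pow]; group
  -- some involution fixes the weight
  obtain ⟨j, hj⟩ : ∃ j, z ^ j * h ∈ stab A χ := by
    by_contra hno
    push Not at hno
    let w : Fin 3 ⊕ Fin 3 → G := Sum.elim (fun i => z ^ (i : ℕ)) fun i => h * z ^ (i : ℕ)
    have hw : ∀ i, w i ∈ Subgroup.normalizer (A : Set G) := by
      rintro (i | i)
      · exact pow_mem hzA _
      · exact mul_mem (hnA h hh) (pow_mem hzA _)
    have hmix : ∀ i j : Fin 3, ¬ ∀ b ∈ A, χ ((z ^ (i : ℕ))⁻¹ * b * z ^ (i : ℕ)) =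
        χ ((h * z ^ (j : ℕ))⁻¹ * b * (h * z ^ (j : ℕ))) := by
      intro i j hij
      refine hno ((3 - i) + (3 - j)) ⟨mul_mem (pow_mem hzA _) (hnA h hh), fun b hb => ?_⟩
      have hzi : z ^ (3 - (i : ℕ)) = (z ^ (i : ℕ))⁻¹ := eq_inv_of_mul_eq_one_left (by
        rw [← pow_add, Nat.sub_add_cancel i.isLt.le, hz3])
      have hzj : z ^ (3 - (j : ℕ)) = (z ^ (j : ℕ))⁻¹ := eq_inv_of_mul_eq_one_left (by
        rw [← pow_add, Nat.sub_add_cancel j.isLt.le, hz3])
      have h1 := hij (z ^ (i : ℕ) * b * (z ^ (i : ℕ))⁻¹)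
        ((Subgroup.mem_normalizer_iff.mp (pow_mem hzA _) b).mp hb)
      rw [show (z ^ (i : ℕ))⁻¹ * (z ^ (i : ℕ) * b * (z ^ (i : ℕ))⁻¹) * z ^ (i : ℕ) = b by group] at h1
      rw [h1, pow_add, hzi, hzj, mul_assoc ((z ^ (i : ℕ))⁻¹), ← hhz]
      congr 1
      group
    have hli := linearIndependent_of_weights (fun b : A => ρ (b : G))
      (fun (i : Fin 3 ⊕ Fin 3) (b : A) => χ ((w i)⁻¹ * b * w i)) (fun i j hij => by
        rcases i with i | i <;> rcases j with j | j
        · exact congrArg Sum.inl (Fin.ext (eq_of_fixes_pow Nat.prime_three hzA hz3 hmove i.isLt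
            j.isLt fun b hb => congrFun hij ⟨b, hb⟩))
        · exact absurd (fun b hb => congrFun hij ⟨b, hb⟩) (hmix i j)
        · exact absurd (fun b hb => (congrFun hij ⟨b, hb⟩).symm) (hmix j i)
        · refine congrArg Sum.inr (Fin.ext (eq_of_fixes_pow Nat.prime_three hzA hz3 hmove i.isLt
            j.isLt fun b hb => ?_))
          have h1 := congrFun hij
            ⟨h * b * h⁻¹, (Subgroup.mem_normalizer_iff.mp (hnA h hh) b).mp hb⟩
          simp only [w, Sum.elim_inr] at h1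
          rwa [show (h * z ^ (i : ℕ))⁻¹ * (h * b * h⁻¹) * (h * z ^ (i : ℕ))
              = (z ^ (i : ℕ))⁻¹ * b * z ^ (i : ℕ) by group,
            show (h * z ^ (j : ℕ))⁻¹ * (h * b * h⁻¹) * (h * z ^ (j : ℕ))
              = (z ^ (j : ℕ))⁻¹ * b * z ^ (j : ℕ) by group] at h1)
      (fun i => ρ (w i) v) (fun i => rho_ne_zero hv0) (fun i b => rho_mem_wspace' hv (hw i) b b.2)
    rw [Fintype.linearIndependent_iff] at hli
    have hz0 : ∑ i : Fin 3 ⊕ Fin 3, (1 : K) • ρ (w i) v = 0 := by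
      rw [Fintype.sum_sum_type]
      simp only [Sum.elim_inl, Sum.elim_inr, one_smul, w]
      rw [← normEnd_apply z 3 v]
      have h' := LinearMap.congr_fun hinv v
      rw [End.mul_apply, LinearMap.neg_apply, normEnd_apply, map_sum] at h'
      rw [normEnd_apply, ← Finset.sum_congr rfl (fun i _ => rho_mul_apply h (z ^ ((i : Fin 3) : ℕ)) v),
        h', add_neg_cancel]
    exact one_ne_zero (hli _ hz0 (Sum.inr ⟨0, by norm_num⟩))
  set t := z ^ j * h with ht
  have htt : t * t = 1 := by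
    rw [ht, show z ^ j * h * (z ^ j * h) = z ^ j * (h * z ^ j) * h by group, hhz,
      ← mul_assoc, mul_inv_cancel, one_mul, ← sq, hh2]
  have htN : ρ t * normEnd ρ z 3 = - normEnd ρ z 3 := by
    rw [ht, map_mul, mul_assoc, hinv, mul_neg, pow_mul_normEnd hz3]
  -- the involution negates the weight space
  have hneg : ∀ u ∈ wspace ρ A χ, ρ t u = -u := by
    intro u hu
    by_contra hne'
    have hw0 : ρ t u + u ≠ 0 := fun h => hne' (eq_neg_of_add_eq_zero_left h)
    have hw : ρ t u + u ∈ wspace ρ A χ := by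
      refine add_mem (fun a ha => ?_) hu
      rw [rho_mem_wspace' hu hj.1 a ha]
      exact congrArg (· • ρ t u) (hj.2 a ha)
    have hli := translates_li Nat.prime_three hzA hz3 hmove hw hw0
    rw [Fintype.linearIndependent_iff] at hli
    have hz0 : ∑ i : Fin 3, (1 : K) • ρ (z ^ (i : ℕ)) (ρ t u + u) = 0 := by
      have htz : ∀ i, t * z ^ i = (z ^ i)⁻¹ * t := fun i => by
        rw [ht, mul_assoc, hhz, ← mul_assoc, ← mul_assoc]
        congr 1
        exact ((Commute.refl z).pow_pow j i).inv_right.eq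
      have h2 : ∑ i : Fin 3, ρ (z ^ (i : ℕ)) (ρ t u) = ρ t (normEnd ρ z 3 u) := by
        rw [normEnd_apply, map_sum, Fin.sum_univ_three, Fin.sum_univ_three]
        simp only [rho_mul_apply, Fin.val_zero, Fin.val_one, Fin.val_two, htz]
        rw [show (z ^ 1)⁻¹ = z ^ 2 from inv_eq_of_mul_eq_one_right (by rw [← pow_add]; exact hz3),
          show (z ^ 2)⁻¹ = z ^ 1 from inv_eq_of_mul_eq_one_right (by rw [← pow_add]; exact hz3),
          pow_zero, inv_one]
        abel
      simp only [one_smul, map_add, Finset.sum_add_distrib]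
      rw [h2, ← normEnd_apply, ← End.mul_apply, htN, LinearMap.neg_apply, neg_add_cancel]
    exact one_ne_zero (hli _ hz0 ⟨0, by norm_num⟩)
  have hstable : ∀ a ∈ L, ∀ u ∈ wspace ρ A χ, ρ a u ∈ wspace ρ A χ := fun a ha u hu b hb => by
    rw [rho_mul_apply, ← (hAc b hb a ha).eq, ← rho_mul_apply, hu b hb, map_smul]
  -- `χ [a, t b] = χ [a, b]`
  have hkey : ∀ a ∈ L, ∀ b ∈ L, χ ⁅a, t * b * t⁻¹⁆ = χ ⁅a, b⁆ := by
    intro a ha b hb
    have htL : t ∈ Subgroup.normalizer (L : Set G) := mul_mem (pow_mem hz _) hh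
    have hbL : t * b * t⁻¹ ∈ L := (Subgroup.mem_normalizer_iff.mp htL b).mp hb
    have hsame : ∀ u ∈ wspace ρ A χ, ρ (t * b * t⁻¹) u = ρ b u := fun u hu => by
      have hti : t⁻¹ = t := inv_eq_of_mul_eq_one_right htt
      rw [hti, ← rho_mul_apply, ← rho_mul_apply, hneg u hu, map_neg, map_neg,
        hneg _ (hstable b hb u hu), neg_neg]
    have hinv' : ∀ u ∈ wspace ρ A χ, ρ (t * b * t⁻¹)⁻¹ u = ρ b⁻¹ u := fun u hu => by
      have h1 := hsame _ (hstable _ (L.inv_mem hb) u hu)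
      rw [rho_inv_apply] at h1
      conv_lhs => rw [← h1, rho_apply_inv]
    generalize t * b * t⁻¹ = c at hbL hsame hinv' ⊢
    have h1 : ρ ⁅a, c⁆ v = ρ ⁅a, b⁆ v := by
      simp only [commutatorElement_def, ← rho_mul_apply]
      rw [hinv' v hv, hsame _ (hstable _ (L.inv_mem ha) _ (hstable _ (L.inv_mem hb) v hv))]
    rw [hv _ (hmemA a ha _ hbL), hv _ (hmemA a ha b hb)] at h1
    exact smul_left_injective K hv0 h1
  -- so `χ` is constant on the conjugates of the commutator
  have hall : ∀ a ∈ L, ∀ b ∈ L, χ (cz ⁅a, t * b * t⁻¹⁆) = χ (cz ⁅a, b⁆) ∧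
      χ (cz (cz ⁅a, t * b * t⁻¹⁆)) = χ (cz (cz ⁅a, b⁆)) := by
    intro a ha b hb
    have hbL : t * b * t⁻¹ ∈ L :=
      (Subgroup.mem_normalizer_iff.mp (mul_mem (pow_mem hz _) hh) b).mp hb
    have e : ∀ a ∈ L, ∀ c ∈ L, ⁅cz a, c⁆ = cz (cz ⁅a, c⁆) := fun a ha c hc => by
      have h1 := hshift a ha (cz (cz c)) (hczL _ (hczL c hc))
      rw [hcz3] at h1
      rw [← hcz3 c, ← hcc a ha _ (hczL _ (hczL c hc)), hcz3 c, h1, hcz3]
    refine ⟨?_, ?_⟩
    · have h := hkey _ (hczL _ (hczL a ha)) b hb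
      rwa [e _ (hczL a ha) _ hbL, e _ ha _ hbL, e _ (hczL a ha) _ hb, e _ ha _ hb, hcz3, hcz3] at h
    · have h := hkey _ (hczL a ha) b hb
      rwa [e _ ha _ hbL, e _ ha _ hb] at h
  have htc : t * cz y * t⁻¹ = cz (cz (t * y * t⁻¹)) := by
    have h1 : t * z * t⁻¹ = z⁻¹ := by
      rw [ht, show z ^ j * h * z * (z ^ j * h)⁻¹ = z ^ j * (h * z * h⁻¹) * (z ^ j)⁻¹ by group, hzh]
      group
    rw [show z⁻¹ = z ^ 2 from inv_eq_of_mul_eq_one_right (by rw [← pow_succ']; exact hz3)] at h1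
    show t * (z * y * z⁻¹) * t⁻¹ = z * (z * (t * y * t⁻¹) * z⁻¹) * z⁻¹
    rw [show t * (z * y * z⁻¹) * t⁻¹ = (t * z * t⁻¹) * (t * y * t⁻¹) * (t * z * t⁻¹)⁻¹ by group, h1]
    simp only [pow_succ, pow_zero, one_mul]
    group
  have hty : t * y * t⁻¹ ∈ L :=
    (Subgroup.mem_normalizer_iff.mp (mul_mem (pow_mem hz _) hh) y).mp hy
  have h0 := hkey x hx (cz y) (hczL y hy)
  have h1 := (hall x hx (cz y) (hczL y hy)).1
  rw [htc, hshift x hx _ (hczL _ hty), hshift x hx _ hty, hshift x hx y hy, hcz3] at h0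
  rw [(hall x hx y hy).1] at h0
  rw [htc, hshift x hx _ (hczL _ hty), hshift x hx _ hty, hshift x hx y hy, hcz3, hcz3,
    (hall x hx y hy).2] at h1
  set c := ⁅x, y⁆ with hc
  have hcA : c ∈ A := hmemA x hx y hy
  have hczA : ∀ a ∈ A, cz a ∈ A := fun a ha => (Subgroup.mem_normalizer_iff.mp hzA a).mp ha
  have h3 : χ c ^ 3 = 1 := by
    calc χ c ^ 3 = χ c * χ (cz c) * χ (cz (cz c)) := by rw [h0, h1]; ring
      _ = χ (c * cz c * cz (cz c)) := by
        rw [weight_mul hv hv0 (A.mul_mem hcA (hczA c hcA)) (hczA _ (hczA c hcA)),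
          weight_mul hv hv0 hcA (hczA c hcA)]
      _ = 1 := by rw [(hnorm c (hAL hcA)).1, weight_one hv hv0]
  have h4 : χ c ^ Nat.card A = 1 := by
    rw [← weight_pow hv hv0 hcA, show c ^ Nat.card A = 1 from
      congrArg Subtype.val (pow_card_eq_one' (x := (⟨c, hcA⟩ : A))), weight_one hv hv0]
  exact hχ (orderOf_eq_one_iff.mp (Nat.eq_one_of_dvd_coprimes
    (hL3.coprime_dvd_left (Subgroup.card_dvd_of_le hAL)) (orderOf_dvd_of_pow_eq_one h4)
    (orderOf_dvd_of_pow_eq_one h3)))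

/-- The norm as a sum over the cyclic group. -/
theorem normEnd_eq_sum_zpowers {z : G} {p : ℕ} (hp : p.Prime) (hzp : z ^ p = 1)
    (hz1 : z ≠ 1) [Fintype (Subgroup.zpowers z)] :
    normEnd ρ z p = ∑ m : Subgroup.zpowers z, ρ (m : G) := by
  haveI := Fact.mk hp
  have ho : orderOf z = p := orderOf_eq_prime hzp hz1
  rw [← Fintype.sum_equiv (finEquivZPowers (isOfFinOrder_of_finite z)) (fun i => ρ (z ^ (i : ℕ)))
    (fun m => ρ (m : G)) (fun i => rfl), Fin.sum_univ_eq_sum_range (fun i => ρ (z ^ i)), ho, normEnd]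

/-- An element normalising `⟨z⟩` commutes with the norm. -/
theorem commute_normEnd {z : G} {p : ℕ} (hp : p.Prime) (hzp : z ^ p = 1) {g : G}
    (hg : g ∈ Subgroup.normalizer ((Subgroup.zpowers z : Subgroup G) : Set G)) :
    ρ g * normEnd ρ z p = normEnd ρ z p * ρ g := by
  classical
  rcases eq_or_ne z 1 with hz1 | hz1
  · simp [normEnd, hz1, (Nat.commute_cast (ρ g) p).eq]
  haveI : Fintype (Subgroup.zpowers z) := Fintype.ofFinite _
  rw [normEnd_eq_sum_zpowers hp hzp hz1, Finset.mul_sum, Finset.sum_mul]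
  let e : Subgroup.zpowers z ≃ Subgroup.zpowers z :=
    { toFun := fun m => ⟨g * m * g⁻¹, (Subgroup.mem_normalizer_iff.mp hg m).mp m.2⟩
      invFun := fun m => ⟨g⁻¹ * m * g, conj_mem hg m.2⟩
      left_inv := fun m => Subtype.ext (by group)
      right_inv := fun m => Subtype.ext (by group) }
  refine Fintype.sum_equiv e _ _ fun m => ?_
  show ρ g * ρ (m : G) = ρ (g * m * g⁻¹) * ρ g
  rw [← map_mul, ← map_mul]
  congr 1
  group

/-- The elements which send a weight into its orbit under `z`. -/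
def orbitStab (A : Subgroup G) (χ : G → K) (z : G) : Subgroup G where
  carrier := {g | g ∈ Subgroup.normalizer (A : Set G) ∧
    g ∈ Subgroup.normalizer ((Subgroup.zpowers z : Subgroup G) : Set G) ∧
    ∃ j : ℕ, z ^ j * g ∈ stab A χ}
  mul_mem' := by
    rintro g g' ⟨hg, hgz, j, hj⟩ ⟨hg', hgz', j', hj'⟩
    obtain ⟨m, hm⟩ := mem_powers_iff_mem_zpowers.mpr ((Subgroup.mem_normalizer_iff.mp hgz _).mp
      ((Subgroup.zpowers z).pow_mem (Subgroup.mem_zpowers z) j'))
    dsimp only at hm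
    refine ⟨mul_mem hg hg', mul_mem hgz hgz', j + m, ?_⟩
    have h1 := (stab A χ).mul_mem hj hj'
    rwa [pow_add, hm, show z ^ j * (g * z ^ j' * g⁻¹) * (g * g') = z ^ j * g * (z ^ j' * g') by
      group]
  one_mem' := ⟨one_mem _, one_mem _, 0, by simpa using (stab A χ).one_mem⟩
  inv_mem' := by
    rintro g ⟨hg, hgz, j, hj⟩
    obtain ⟨m, hm⟩ := mem_powers_iff_mem_zpowers.mpr
      ((Subgroup.mem_normalizer_iff.mp (inv_mem hgz) _).mp
        ((Subgroup.zpowers z).inv_mem ((Subgroup.zpowers z).pow_mem (Subgroup.mem_zpowers z) j)))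
    dsimp only at hm
    refine ⟨inv_mem hg, inv_mem hgz, m, ?_⟩
    have h1 := (stab A χ).inv_mem hj
    rwa [hm, show g⁻¹ * (z ^ j)⁻¹ * g⁻¹⁻¹ * g⁻¹ = (z ^ j * g)⁻¹ by group]

/-- If the product of the norms vanishes, the weight is sent into its `z`-orbit. -/
theorem exists_mem_stab_of_norm {p q : ℕ} (hp : p.Prime) (hq : q.Prime) {A : Subgroup G}
    {χ : G → K} {v : V} (hv : v ∈ wspace ρ A χ) (hv0 : v ≠ 0) {z : G}
    (hz : z ∈ Subgroup.normalizer (A : Set G)) (hzp : z ^ p = 1) (hmove : ¬ Fixes A χ z) {g : G}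
    (hgA : g ∈ Subgroup.normalizer (A : Set G))
    (hgz : g ∈ Subgroup.normalizer ((Subgroup.zpowers z : Subgroup G) : Set G)) (hgq : g ^ q = 1)
    (hN : normEnd ρ g q * normEnd ρ z p = 0) : ∃ j : ℕ, z ^ j * g ∈ stab A χ := by
  classical
  suffices hgB : g ∈ orbitStab A χ z from hgB.2.2
  by_contra hgB
  let w : Fin q × Fin p → G := fun i => g ^ (i.1 : ℕ) * z ^ (i.2 : ℕ)
  have hw : ∀ i, w i ∈ Subgroup.normalizer (A : Set G) := fun i =>
    mul_mem (pow_mem hgA _) (pow_mem hz _)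
  have hkey : ∀ {k l : ℕ}, k < l → l < q → ∀ {i j : ℕ}, ¬ ∀ b ∈ A,
      χ ((g ^ k * z ^ i)⁻¹ * b * (g ^ k * z ^ i)) = χ ((g ^ l * z ^ j)⁻¹ * b * (g ^ l * z ^ j)) := by
    intro k l hkl hlq i j hij
    have hst : (g ^ k * z ^ i)⁻¹ * (g ^ l * z ^ j) ∈ stab A χ := by
      refine ⟨mul_mem (inv_mem (mul_mem (pow_mem hgA _) (pow_mem hz _)))
        (mul_mem (pow_mem hgA _) (pow_mem hz _)), fun b hb => ?_⟩
      have h1 := hij (g ^ k * z ^ i * b * (g ^ k * z ^ i)⁻¹)
        ((Subgroup.mem_normalizer_iff.mp (mul_mem (pow_mem hgA k) (pow_mem hz i)) b).mp hb)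
      rw [show (g ^ k * z ^ i)⁻¹ * (g ^ k * z ^ i * b * (g ^ k * z ^ i)⁻¹) * (g ^ k * z ^ i) = b
        by group] at h1
      rw [h1]
      congr 1
      group
    have hd : g ^ (l - k) ∈ orbitStab A χ z := by
      refine ⟨pow_mem hgA _, pow_mem hgz _, ?_⟩
      obtain ⟨m, hm⟩ := mem_powers_iff_mem_zpowers.mpr ((Subgroup.zpowers z).mul_mem
        ((Subgroup.zpowers z).inv_mem ((Subgroup.zpowers z).pow_mem (Subgroup.mem_zpowers z) i))
        ((Subgroup.mem_normalizer_iff.mp (pow_mem hgz (l - k)) _).mp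
          ((Subgroup.zpowers z).pow_mem (Subgroup.mem_zpowers z) j)))
      dsimp only at hm
      refine ⟨m, ?_⟩
      have he : g ^ l = g ^ k * g ^ (l - k) := by rw [← pow_add]; congr 1; omega
      rwa [hm, show (z ^ i)⁻¹ * (g ^ (l - k) * z ^ j * (g ^ (l - k))⁻¹) * g ^ (l - k)
        = (g ^ k * z ^ i)⁻¹ * (g ^ k * g ^ (l - k) * z ^ j) by group, ← he]
    obtain ⟨c, hc⟩ := Nat.exists_mul_mod_eq_one_of_coprime
      (hq.coprime_iff_not_dvd.mpr
        (Nat.not_dvd_of_pos_of_lt (by omega) (by omega : l - k < q))).symm hq.one_lt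
    have h2 := pow_mem hd c
    rw [← pow_mul, pow_eq_pow_mod _ hgq, hc.2, pow_one] at h2
    exact hgB h2
  have hli := linearIndependent_of_weights (fun b : A => ρ (b : G))
    (fun (i : Fin q × Fin p) (b : A) => χ ((w i)⁻¹ * b * w i)) (fun x y hxy => by
      have hb : ∀ b ∈ A, χ ((w x)⁻¹ * b * w x) = χ ((w y)⁻¹ * b * w y) :=
        fun b hb => congrFun hxy ⟨b, hb⟩
      rcases Nat.lt_trichotomy (x.1 : ℕ) y.1 with h1 | h1 | h1
      · exact absurd hb (hkey h1 y.1.isLt)
      · refine Prod.ext (Fin.ext h1) (Fin.ext (eq_of_fixes_pow hp hz hzp hmove x.2.isLt y.2.isLt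
          fun b hbA => ?_))
        have h2 := hb (g ^ (x.1 : ℕ) * b * (g ^ (x.1 : ℕ))⁻¹)
          ((Subgroup.mem_normalizer_iff.mp (pow_mem hgA _) b).mp hbA)
        simp only [w, ← h1] at h2
        rwa [show (g ^ (x.1 : ℕ) * z ^ (x.2 : ℕ))⁻¹ *
              (g ^ (x.1 : ℕ) * b * (g ^ (x.1 : ℕ))⁻¹) * (g ^ (x.1 : ℕ) * z ^ (x.2 : ℕ))
            = (z ^ (x.2 : ℕ))⁻¹ * b * z ^ (x.2 : ℕ) by group,
          show (g ^ (x.1 : ℕ) * z ^ (y.2 : ℕ))⁻¹ *
              (g ^ (x.1 : ℕ) * b * (g ^ (x.1 : ℕ))⁻¹) * (g ^ (x.1 : ℕ) * z ^ (y.2 : ℕ))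
            = (z ^ (y.2 : ℕ))⁻¹ * b * z ^ (y.2 : ℕ) by group] at h2
      · exact absurd (fun b hbA => (hb b hbA).symm) (hkey h1 x.1.isLt))
    (fun i => ρ (w i) v) (fun i => rho_ne_zero hv0) (fun i b => rho_mem_wspace' hv (hw i) b b.2)
  rw [Fintype.linearIndependent_iff] at hli
  have hz0 : ∑ i : Fin q × Fin p, (1 : K) • ρ (w i) v = 0 := by
    simp only [one_smul, w]
    rw [Fintype.sum_prod_type]
    have h1 := LinearMap.congr_fun hN v
    rw [End.mul_apply, normEnd_apply, normEnd_apply, LinearMap.zero_apply] at h1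
    refine Eq.trans (Finset.sum_congr rfl fun i _ => ?_) h1
    rw [map_sum]
    exact Finset.sum_congr rfl fun j _ => (rho_mul_apply _ _ _).symm
  exact one_ne_zero (hli _ hz0 (⟨0, hq.pos⟩, ⟨0, hp.pos⟩))

/-- The twisted element fixing the weight has vanishing norm on the weight space. -/
theorem norm_twist {p q : ℕ} (hp : p.Prime) {A : Subgroup G} {χ : G → K} {z : G}
    (hz : z ∈ Subgroup.normalizer (A : Set G)) (hzp : z ^ p = 1) (hmove : ¬ Fixes A χ z) {g : G}
    (hgz : g ∈ Subgroup.normalizer ((Subgroup.zpowers z : Subgroup G) : Set G)) (hgq : g ^ q = 1)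
    (hN : normEnd ρ g q * normEnd ρ z p = 0) {j : ℕ} (hj : z ^ j * g ∈ stab A χ) :
    (z ^ j * g) ^ q = 1 ∧ ∀ v ∈ wspace ρ A χ, normEnd ρ (z ^ j * g) q v = 0 := by
  classical
  set g' := z ^ j * g with hg'
  set Z := Subgroup.zpowers z with hZ
  have hpow : ∀ k : ℕ, ∃ m : ℕ, g' ^ k = z ^ m * g ^ k := by
    intro k
    induction k with
    | zero => exact ⟨0, by simp⟩
    | succ k ih =>
      obtain ⟨m, hm⟩ := ih
      obtain ⟨i, hi⟩ := mem_powers_iff_mem_zpowers.mpr
        ((Subgroup.mem_normalizer_iff.mp (pow_mem hgz k) _).mp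
          (Z.pow_mem (Subgroup.mem_zpowers z) j))
      dsimp only at hi
      refine ⟨m + i, ?_⟩
      rw [pow_succ, hm, hg', pow_add, hi, pow_succ g k]
      group
  refine ⟨?_, fun v hv => ?_⟩
  · obtain ⟨m, hm⟩ := hpow q
    rw [hgq, mul_one] at hm
    rw [hm]
    by_contra hm1
    refine hmove ?_
    obtain ⟨c, hc⟩ := Nat.exists_mul_mod_eq_one_of_coprime
      ((hp.coprime_iff_not_dvd (n := m)).mpr fun ⟨c, hc⟩ =>
        hm1 (by rw [hc, pow_mul, hzp, one_pow])).symm hp.one_lt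
    have h2 : (g' ^ q) ^ c ∈ stab A χ := pow_mem (pow_mem hj q) c
    rw [hm, ← pow_mul, pow_eq_pow_mod _ hzp, hc.2, pow_one] at h2
    exact h2.2
  · have hkey : normEnd ρ z p * normEnd ρ g' q = 0 := by
      rw [← hN, normEnd.eq_def ρ g', normEnd.eq_def ρ g, Finset.mul_sum, Finset.sum_mul]
      refine Finset.sum_congr rfl fun k _ => ?_
      obtain ⟨m, hm⟩ := hpow k
      rw [hm, map_mul, ← mul_assoc, commute_normEnd hp hzp (pow_mem hgz k)]
      congr 1
      rw [← commute_normEnd hp hzp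
        (Subgroup.le_normalizer (Z.pow_mem (Subgroup.mem_zpowers z) m)), pow_mul_normEnd hzp]
    set u := normEnd ρ g' q v with hu
    have huw : u ∈ wspace ρ A χ := by
      rw [hu, normEnd, LinearMap.sum_apply]
      refine sum_mem fun k _ a ha => ?_
      have hk := pow_mem hj k
      have hk' := rho_mem_wspace' hv hk.1 a ha
      beta_reduce at hk'
      rw [hk', hk.2 a ha]
    by_contra hu0
    have hli := translates_li hp hz hzp hmove huw hu0
    rw [Fintype.linearIndependent_iff] at hli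
    have h1 : ∑ i : Fin p, (1 : K) • ρ (z ^ (i : ℕ)) u = 0 := by
      simp only [one_smul]
      rw [← normEnd_apply, hu, ← End.mul_apply, hkey, LinearMap.zero_apply]
    exact one_ne_zero (hli _ h1 ⟨0, hp.pos⟩)

/-- Case A, without coprimality of `T`: the Frobenius complement permutes the orbits of weights. -/
theorem commute_of_free_norm [IsAlgClosed K] [FiniteDimensional K V] {p q s : ℕ} (hp : p.Prime)
    (hq : q.Prime) (hs : s.Prime) (hps : p ≠ s) {A : Subgroup G}
    (hab : ∀ a ∈ A, ∀ b ∈ A, a * b = b * a) (hAK : (Nat.card A : K) ≠ 0)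
    {z : G} (hz : z ∈ Subgroup.normalizer (A : Set G)) (hzp : z ^ p = 1)
    (hfree : ∀ a ∈ A, z * a * z⁻¹ = a → a = 1)
    {T : Subgroup G} (hTA : T ≤ Subgroup.normalizer (A : Set G)) (hT : IsPGroup s T)
    (hTz : ∀ t ∈ T, Commute t z) {h : G} (hh : h ∈ Subgroup.normalizer (A : Set G))
    (hhq : h ^ q = 1)
    (hhz : h ∈ Subgroup.normalizer ((Subgroup.zpowers z : Subgroup G) : Set G))
    (hhT : h ∈ Subgroup.normalizer (T : Set G)) (hfreeT : ∀ t ∈ T, h * t * h⁻¹ = t → t = 1)
    (hN : normEnd ρ h q * normEnd ρ z p = 0) :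
    ∀ a ∈ A, ∀ t ∈ T, ρ ⁅a, t⁆ = 1 := by
  classical
  intro a ha t ht
  by_contra hne
  have hk : ⁅a, t⁆ ∈ A := by
    rw [commutatorElement_def, mul_assoc, mul_assoc]
    exact A.mul_mem ha (by
      rw [← mul_assoc]; exact (Subgroup.mem_normalizer_iff.mp (hTA ht) _).mp (A.inv_mem ha))
  have habρ : ∀ a ∈ A, ∀ b ∈ A, ρ a * ρ b = ρ b * ρ a := fun a ha b hb => by
    rw [← map_mul, ← map_mul, hab a ha b hb]
  obtain ⟨χ, v, hv, hv0, hχ⟩ := exists_weight_ne habρ hk hne hAK
  have hmove : ¬ Fixes A χ z := not_fixes_of_free hv hv0 hz hfree hk hχ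
  have hzpn : ∀ g ∈ T, g ∈ Subgroup.normalizer ((Subgroup.zpowers z : Subgroup G) : Set G) := by
    intro g hg
    refine Subgroup.centralizer_le_normalizer (G := G) (s := (Subgroup.zpowers z : Set G))
      (Subgroup.mem_centralizer_iff.mpr fun m hm => ?_)
    obtain ⟨j, rfl⟩ := hm
    exact ((hTz g hg).zpow_right j).eq.symm
  -- every conjugate of `h` by `T` lies in the orbit stabiliser
  have hconjB : ∀ r ∈ T, r * h * r⁻¹ ∈ orbitStab A χ z := by
    intro r hr
    have hgA : r * h * r⁻¹ ∈ Subgroup.normalizer (A : Set G) :=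
      mul_mem (mul_mem (hTA hr) hh) (inv_mem (hTA hr))
    have hgz : r * h * r⁻¹ ∈ Subgroup.normalizer ((Subgroup.zpowers z : Subgroup G) : Set G) :=
      mul_mem (mul_mem (hzpn r hr) hhz) (inv_mem (hzpn r hr))
    refine ⟨hgA, hgz, exists_mem_stab_of_norm hp hq hv hv0 hz hzp hmove hgA hgz
      (by rw [conj_pow, hhq, mul_one, mul_inv_cancel]) ?_⟩
    have hcom : ρ r⁻¹ * normEnd ρ z p = normEnd ρ z p * ρ r⁻¹ :=
      commute_normEnd hp hzp (inv_mem (hzpn r hr))
    rw [show normEnd ρ (r * h * r⁻¹) q = ρ r * normEnd ρ h q * ρ r⁻¹ by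
      rw [normEnd, normEnd, Finset.mul_sum, Finset.sum_mul]
      exact Finset.sum_congr rfl fun i _ => by rw [← map_mul, ← map_mul, conj_pow],
      mul_assoc, hcom, ← mul_assoc, mul_assoc (ρ r), hN, mul_zero, zero_mul]
  -- hence `T` lies in it
  have htB : t ∈ orbitStab A χ z := by
    let f : T → T := fun r => ⟨(r : G)⁻¹ * (h * r * h⁻¹),
      T.mul_mem (T.inv_mem r.2) ((Subgroup.mem_normalizer_iff.mp hhT r).mp r.2)⟩
    have hf : Function.Surjective f := by
      refine Finite.injective_iff_surjective.1 fun b c hbc => Subtype.ext ?_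
      have h1 : (b : G)⁻¹ * (h * b * h⁻¹) = (c : G)⁻¹ * (h * c * h⁻¹) := congrArg Subtype.val hbc
      refine mul_inv_eq_one.mp (hfreeT _ (T.mul_mem b.2 (T.inv_mem c.2)) ?_)
      rw [show h * ((b : G) * (c : G)⁻¹) * h⁻¹ = (h * b * h⁻¹) * (h * c * h⁻¹)⁻¹ by group,
        show h * (b : G) * h⁻¹ = b * ((c : G)⁻¹ * (h * c * h⁻¹)) by
          rw [← h1, mul_inv_cancel_left]]
      group
    obtain ⟨r, hr⟩ := hf ⟨t, ht⟩
    have hr' : (r : G)⁻¹ * (h * r * h⁻¹) = t := congrArg Subtype.val hr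
    have h1 := (orbitStab A χ z).mul_mem (hconjB _ (T.inv_mem r.2))
      ((orbitStab A χ z).inv_mem (hconjB 1 T.one_mem))
    simp only [inv_inv, one_mul, inv_one, mul_one] at h1
    rwa [show (r : G)⁻¹ * h * (r : G) * h⁻¹ = t by rw [← hr']; group] at h1
  obtain ⟨-, -, j, hj⟩ := htB
  haveI := Fact.mk hs
  obtain ⟨e, he⟩ := IsPGroup.iff_card.mp hT
  have hte : t ^ s ^ e = 1 :=
    orderOf_dvd_iff_pow_eq_one.mp (he ▸ Subgroup.orderOf_dvd_natCard T ht)
  have ht' : t ∈ stab A χ := by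
    have h1 := pow_mem hj (s ^ e)
    rw [((hTz t ht).symm.pow_left j).mul_pow, hte, mul_one, ← pow_mul] at h1
    have hpj : z ^ j = 1 := by
      by_contra hj1
      refine hmove ?_
      have hcop : (j * s ^ e).Coprime p := Nat.Coprime.symm (Nat.Coprime.mul_right
        (hp.coprime_iff_not_dvd.mpr fun ⟨c, hc⟩ => hj1 (by rw [hc, pow_mul, hzp, one_pow]))
        (Nat.Coprime.pow_right e ((Nat.coprime_primes hp hs).mpr hps)))
      obtain ⟨c, hc⟩ := Nat.exists_mul_mod_eq_one_of_coprime hcop hp.one_lt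
      have h2 := pow_mem h1 c
      rw [← pow_mul, pow_eq_pow_mod _ hzp, hc.2, pow_one] at h2
      exact h2.2
    rwa [hpj, one_mul] at hj
  refine hχ ?_
  rw [commutatorElement_def, show a * t * a⁻¹ * t⁻¹ = a * (t * a⁻¹ * t⁻¹) by group,
    weight_mul hv hv0 ha ((Subgroup.mem_normalizer_iff.mp (hTA ht) _).mp (A.inv_mem ha))]
  have h' := (inv_mem ht').2 a⁻¹ (A.inv_mem ha)
  rw [inv_inv] at h'
  rw [h', ← weight_mul hv hv0 ha (A.inv_mem ha), mul_inv_cancel, weight_one hv hv0]

/-- An abelian group without fixed vectors, with an operator `h` of prime order without fixed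
points on it: the norm of `h` is nonzero, and `h` fixes at most the `q`-th part. -/
theorem free_of_frobenius [IsAlgClosed K] {q : ℕ} (hq : q.Prime) (hqK : (q : K) ≠ 0)
    {A : Subgroup G} [Fintype A] (hAK : (Nat.card A : K) ≠ 0) {h : G}
    (hh : h ∈ Subgroup.normalizer (A : Set G)) (hhq : h ^ q = 1)
    (hfree : ∀ a ∈ A, h * a * h⁻¹ = a → a = 1) (hgen : A ⊔ Subgroup.zpowers h = ⊤) :
    ∀ (n : ℕ) {W : Type*} [AddCommGroup W] [Module K W] [FiniteDimensional K W]
      (σ : Representation K G W), finrank K W = n →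
      (∀ a ∈ A, ∀ b ∈ A, σ a * σ b = σ b * σ a) → ∑ a : A, σ (a : G) = 0 →
      q * finrank K (LinearMap.ker (σ h - 1)) ≤ n ∧ (0 < n → normEnd σ h q ≠ 0) := by
  classical
  intro n
  induction n using Nat.strong_induction_on with
  | _ n ih =>
    intro W _ _ _ σ hn hab hsum
    rcases Nat.eq_zero_or_pos n with hn0 | hn0
    · refine ⟨?_, fun h0 => absurd hn0 (by omega)⟩
      have h0 : finrank K (LinearMap.ker (σ h - 1)) ≤ finrank K W := Submodule.finrank_le _
      rw [hn, hn0] at h0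
      rw [hn0, Nat.le_zero.mp h0, mul_zero]
    haveI : Nontrivial W := Module.nontrivial_of_finrank_pos (R := K) (hn ▸ hn0)
    obtain ⟨χ, hχ⟩ := exists_weight (ρ := σ) A hab
    obtain ⟨v, hv, hv0⟩ := Submodule.exists_mem_ne_zero_of_ne_bot hχ
    obtain ⟨k, hk, hχk⟩ : ∃ k ∈ A, χ k ≠ 1 := by
      by_contra hall
      push Not at hall
      have h1 := LinearMap.congr_fun hsum v
      rw [LinearMap.sum_apply, LinearMap.zero_apply, Finset.sum_congr rfl (fun (a : A) _ =>
        show σ (a : G) v = v by rw [hv a a.2, hall a a.2, one_smul]), Finset.sum_const,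
        Finset.card_univ, ← Nat.card_eq_fintype_card, ← Nat.cast_smul_eq_nsmul K, smul_eq_zero] at h1
      exact hv0 (h1.resolve_left hAK)
    have hmove := not_fixes_of_free hv hv0 hh hfree hk hχk
    have hli := translates_li hq hh hhq hmove hv hv0
    refine ⟨?_, fun _ hN => ?_⟩
    swap
    · rw [Fintype.linearIndependent_iff] at hli
      have h1 : ∑ i : Fin q, (1 : K) • σ (h ^ (i : ℕ)) v = 0 := by
        simp only [one_smul]
        rw [← normEnd_apply, hN, LinearMap.zero_apply]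
      exact one_ne_zero (hli _ h1 ⟨0, hq.pos⟩)
    set S := Submodule.span K (Set.range fun i : Fin q => σ (h ^ (i : ℕ)) v) with hS
    have hSdim : finrank K S = q := by
      rw [hS, finrank_span_eq_card hli, Fintype.card_fin]
    have hgen' : ∀ i : ℕ, σ (h ^ i) v ∈ S := fun i => Submodule.subset_span
      ⟨⟨i % q, Nat.mod_lt _ hq.pos⟩, by simp only [← pow_eq_pow_mod _ hhq]⟩
    have hSinv : ∀ g : G, ∀ w ∈ S, σ g w ∈ S := by
      let F : Subgroup G :=
        { carrier := {g | S.map (σ g) = S}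
          mul_mem' := fun {g g'} hg hg' => by
            show S.map (σ (g * g')) = S
            rw [map_mul, End.mul_eq_comp, Submodule.map_comp, show S.map (σ g') = S from hg']
            exact hg
          one_mem' := by show S.map (σ 1) = S; rw [map_one]; exact Submodule.map_id S
          inv_mem' := fun {g} hg => by
            show S.map (σ g⁻¹) = S
            conv_lhs => rw [← show S.map (σ g) = S from hg]
            rw [← Submodule.map_comp, ← End.mul_eq_comp, ← map_mul, inv_mul_cancel, map_one]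
            exact Submodule.map_id S }
      have hin : ∀ g, (∀ i : Fin q, σ g (σ (h ^ (i : ℕ)) v) ∈ S) → g ∈ F := fun g hg => by
        refine Submodule.eq_of_le_of_finrank_eq ?_ ?_
        · rw [hS, Submodule.map_span, Submodule.span_le]
          rintro _ ⟨_, ⟨i, rfl⟩, rfl⟩
          exact hg i
        · exact (Submodule.equivMapOfInjective _
            (fun u w he => by rw [← rho_apply_inv (ρ := σ) g u, he, rho_apply_inv]) S).finrank_eq.symm
      have hle : (⊤ : Subgroup G) ≤ F := hgen ▸ sup_le (fun a ha => hin a fun i => by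
          rw [rho_mem_wspace' hv (pow_mem hh (i : ℕ)) a ha]
          exact Submodule.smul_mem _ _ (hgen' _))
        (Subgroup.zpowers_le.mpr (hin h fun i => by
          rw [rho_mul_apply, ← pow_succ']; exact hgen' _))
      exact fun g w hw => (hle (Subgroup.mem_top g) : S.map (σ g) = S) ▸
        Submodule.mem_map_of_mem hw
    let τ : Representation K G (W ⧸ S) :=
      { toFun := fun g => S.mapQ S (σ g) (hSinv g)
        map_one' := Submodule.linearMap_qext _ (LinearMap.ext fun w => by simp)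
        map_mul' := fun g g' => Submodule.linearMap_qext _ (LinearMap.ext fun w => by simp) }
    have hτ : ∀ (g : G) (w : W),
        τ g (Submodule.Quotient.mk w) = Submodule.Quotient.mk (σ g w) := fun g w => rfl
    have hsub : finrank K (W ⧸ S) + q = n := by
      rw [← hSdim, Submodule.finrank_quotient_add_finrank, hn]
    obtain ⟨hrec, -⟩ := ih (finrank K (W ⧸ S)) (by have := hq.pos; omega) τ rfl
      (fun a ha b hb => Submodule.linearMap_qext _ (LinearMap.ext fun w => by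
        simp only [LinearMap.comp_apply, Submodule.mkQ_apply, End.mul_apply, hτ]
        rw [← End.mul_apply, hab a ha b hb, End.mul_apply]))
      (Submodule.linearMap_qext _ (LinearMap.ext fun w => by
        simp only [LinearMap.comp_apply, Submodule.mkQ_apply, LinearMap.sum_apply, hτ,
          LinearMap.zero_apply]
        show ∑ a : A, S.mkQ (σ (a : G) w) = 0
        rw [← map_sum, ← LinearMap.sum_apply, hsum, LinearMap.zero_apply, map_zero]))
    -- fixed vectors
    set Fx := LinearMap.ker (σ h - 1) with hFx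
    have hmem : ∀ {w : W}, w ∈ Fx ↔ σ h w = w := fun {w} => by
      rw [hFx, LinearMap.mem_ker, LinearMap.sub_apply, End.one_apply, sub_eq_zero]
    let f : Fx →ₗ[K] LinearMap.ker (τ h - 1) :=
      (S.mkQ.comp Fx.subtype).codRestrict _ fun w => by
        rw [LinearMap.mem_ker, LinearMap.sub_apply, End.one_apply, sub_eq_zero]
        show Submodule.Quotient.mk (σ h (w : W)) = Submodule.Quotient.mk (w : W)
        rw [hmem.mp w.2]
    have hkerf : finrank K (LinearMap.ker f) ≤ 1 := by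
      let g : LinearMap.ker f →ₗ[K] W := Fx.subtype.comp (LinearMap.ker f).subtype
      have hg : Function.Injective g := fun a b hab => Subtype.ext (Subtype.ext hab)
      rw [← LinearMap.finrank_range_of_inj hg]
      refine (Submodule.finrank_mono (?_ : LinearMap.range g ≤
        Submodule.span K {normEnd σ h q v})).trans ?_
      · rintro _ ⟨x, rfl⟩
        set w : W := ((x : Fx) : W) with hw
        have hwS : w ∈ S := by
          have hx := congrArg Subtype.val (LinearMap.mem_ker.mp x.2)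
          exact (Submodule.Quotient.mk_eq_zero _).mp hx
        have hwfix : ∀ i : ℕ, σ (h ^ i) w = w := by
          intro i
          induction i with
          | zero => rw [pow_zero, map_one, End.one_apply]
          | succ i ihi => rw [pow_succ, ← rho_mul_apply, hmem.mp (x : Fx).2, ihi]
        have hnw : normEnd σ h q w = (q : K) • w := by
          rw [normEnd_apply, Finset.sum_congr rfl (fun (i : Fin q) _ => hwfix i), Finset.sum_const,
            Finset.card_univ, Fintype.card_fin, Nat.cast_smul_eq_nsmul]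
        have hle : S ≤ (Submodule.span K {normEnd σ h q v}).comap (normEnd σ h q) := by
          rw [hS, Submodule.span_le]
          rintro _ ⟨i, rfl⟩
          show normEnd σ h q (σ (h ^ (i : ℕ)) v) ∈ Submodule.span K {normEnd σ h q v}
          rw [← End.mul_apply, ← commute_normEnd hq hhq
            (Subgroup.le_normalizer (pow_mem (Subgroup.mem_zpowers h) _)), pow_mul_normEnd hhq]
          exact Submodule.mem_span_singleton_self _
        have h1 : (q : K) • w ∈ Submodule.span K {normEnd σ h q v} := hnw ▸ hle hwS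
        show w ∈ _
        rw [← one_smul K w, ← inv_mul_cancel₀ hqK, ← smul_smul]
        exact Submodule.smul_mem _ _ h1
      · exact (finrank_span_le_card ({normEnd σ h q v} : Set W)).trans_eq (by simp)
    have h1 := LinearMap.finrank_range_add_finrank_ker f
    have h2 : finrank K (LinearMap.range f) ≤ finrank K (LinearMap.ker (τ h - 1)) :=
      Submodule.finrank_le _
    calc q * finrank K Fx ≤ q * (finrank K (LinearMap.ker (τ h - 1)) + 1) :=
          Nat.mul_le_mul_left q (by omega)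
      _ ≤ n := by rw [mul_add, mul_one]; omega

end CfsgLib.FgsC.CoprimeWeights
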