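import Cfsg.Agent.Lib.FgsC.IsomorphicSubgroups

/-!
# The chain of generators attached to a dihedral pair

`H` is generated by `P` and its conjugate by `k`, `Q` has index 2 in `P` and is normal in `H`, and `y`
normalizes `P` but no nontrivial normal subgroup of `H` contained in `P`.
-/

set_option autoImplicit false

namespace FgsC.DihPair

open Subgroup Pointwise
open scoped commutatorElement

variable {G : Type*} [Group G] [Finite G]

/-- The hypotheses, in the group `G`. -/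
structure Pair (G : Type*) [Group G] where
  H : Subgroup G
  P : Subgroup G
  Q : Subgroup G
  k : G
  y : G
  hPH : P ≤ H
  hkH : k ∈ H
  hQn : H ≤ normalizer (Q : Set G)
  hQP : Q ≤ P
  hQ1 : Q ≠ ⊥
  hP2 : IsPGroup 2 P
  hidx : Q.relIndex P = 2
  hinter : P ⊓ (MulAut.conj k⁻¹) • P = Q
  hgen : H ≤ P ⊔ (MulAut.conj k⁻¹) • P
  hyP : (MulAut.conj y) • P = P
  hy2 : y ^ 2 ∈ P ⊔ centralizer (P : Set G)
  hyQ : ∀ N : Subgroup G, N ≤ P → H ≤ normalizer (N : Set G) → (MulAut.conj y) • N = N → N = ⊥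

namespace Pair

variable (D : Pair G)

theorem conj_mem_P {x : G} (hx : x ∈ D.P) : D.y * x * D.y⁻¹ ∈ D.P := by
  have := Subgroup.smul_mem_pointwise_smul x (MulAut.conj D.y) D.P hx
  rwa [D.hyP] at this

theorem conj_smul_eq_self {N : Subgroup G} {h : G} (hh : h ∈ normalizer (N : Set G)) :
    (MulAut.conj h) • N = N :=
  Subgroup.mem_normalizer_iff_map_conj_eq.1 hh

theorem Q_le_H : D.Q ≤ D.H := D.hQP.trans D.hPH

/-- An element of `P` central in `H` together with its conjugate is trivial. -/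
theorem eq_one_of_central {z : G} (hz : z ∈ D.P) (h1 : ∀ h ∈ D.H, h * z = z * h)
    (h2 : ∀ h ∈ D.H, h * (D.y * z * D.y⁻¹) = (D.y * z * D.y⁻¹) * h) : z = 1 := by
  let N : Subgroup G := D.P ⊓ centralizer (D.H : Set G) ⊓
    (centralizer (D.H : Set G)).comap (MulAut.conj D.y).toMonoidHom
  have hmemN : ∀ x, x ∈ N ↔ (x ∈ D.P ∧ x ∈ centralizer (D.H : Set G)) ∧ D.y * x * D.y⁻¹ ∈ centralizer (D.H : Set G) :=
    fun x => Iff.rfl
  have hN : N = ⊥ := by
    refine D.hyQ N (inf_le_left.trans inf_le_left) ?_ ?_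
    · refine le_trans ?_ (Subgroup.centralizer_le_normalizer _)
      intro h hh
      exact Subgroup.mem_centralizer_iff.2 fun x hx =>
        (Subgroup.mem_centralizer_iff.1 ((hmemN x).1 hx).1.2 h hh).symm
    · refine Subgroup.eq_of_le_of_card_ge ?_
        (le_of_eq (Nat.card_congr (Subgroup.equivSMul (MulAut.conj D.y) N).toEquiv))
      rintro _ ⟨x, hx, rfl⟩
      obtain ⟨⟨hxP, hxC⟩, hxy⟩ := (hmemN x).1 hx
      show D.y * x * D.y⁻¹ ∈ N
      refine (hmemN _).2 ⟨⟨D.conj_mem_P hxP, hxy⟩, ?_⟩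
      have hle : D.P ⊔ centralizer (D.P : Set G) ≤ centralizer ({x} : Set G) :=
        sup_le (fun p hp => mem_centralizer_singleton_iff.2 (Subgroup.mem_centralizer_iff.1 hxC p (D.hPH hp)))
          (fun c hc => mem_centralizer_singleton_iff.2 (Subgroup.mem_centralizer_iff.1 hc x hxP).symm)
      have hc : D.y ^ 2 * x = x * D.y ^ 2 := mem_centralizer_singleton_iff.1 (hle D.hy2)
      have : D.y * (D.y * x * D.y⁻¹) * D.y⁻¹ = x := by
        calc D.y * (D.y * x * D.y⁻¹) * D.y⁻¹ = D.y ^ 2 * x * (D.y ^ 2)⁻¹ := by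
              simp only [pow_two, mul_inv_rev, mul_assoc]
          _ = x := by rw [hc, mul_inv_cancel_right]
      rw [this]; exact hxC
  have : z ∈ N := (hmemN z).2 ⟨⟨hz, Subgroup.mem_centralizer_iff.2 h1⟩, Subgroup.mem_centralizer_iff.2 h2⟩
  rw [hN, mem_bot] at this
  exact this

theorem y_sq_mem : D.y ^ 2 ∈ normalizer (D.Q : Set G) := by
  refine (sup_le (D.hPH.trans D.hQn) ?_ : D.P ⊔ centralizer (D.P : Set G) ≤ normalizer (D.Q : Set G)) D.hy2
  intro c hc
  refine Subgroup.centralizer_le_normalizer _ (Subgroup.mem_centralizer_iff.2 fun q hq => ?_)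
  exact Subgroup.mem_centralizer_iff.1 hc q (D.hQP hq)

/-- The properties of the chain. -/
structure Chain (D : Pair G) (T u : ℕ) (w : ℕ → G) : Prop where
  hP : IsoSub.seg w 0 T = D.P
  hQ : IsoSub.seg w 0 (T - 1) = D.Q
  hcard : ∀ i m : ℕ, m ≤ T → Nat.card (IsoSub.seg w i m) = 2 ^ m
  hgenH : ∀ i : ℕ, (∀ l < T + 1, Commute (w (i + 1)) (w l)) → ∀ h ∈ D.H, h * w i = w i * h
  hclose : ∀ i j : ℕ, i < j + u → j < i + u → Commute (w i) (w j)
  hfar : u < T → ∀ i, ¬ Commute (w i) (w (i + u))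
  hD : ∀ N : Subgroup G, N = IsoSub.seg w 1 (T - 2) → D.H ≤ normalizer (N : Set G) → N = ⊥
  hu1 : 1 ≤ u
  huT : u ≤ T
  hT2 : 2 ≤ T
  h3u : 2 * T ≤ 3 * u
  h2u : 2 * u ≤ T + 2

theorem exists_chain : ∃ (T u : ℕ) (w : ℕ → G), Chain D T u w := by
  classical
  haveI : Fact (Nat.Prime 2) := ⟨Nat.prime_two⟩
  obtain ⟨φ, hφ⟩ : ∃ φ : MulAut G, φ = MulAut.conj (D.y * D.k)⁻¹ := ⟨_, rfl⟩
  have hky : (MulAut.conj D.y)⁻¹ • D.P = D.P := inv_smul_eq_iff.2 D.hyP.symm
  have hφP : φ • D.P = MulAut.conj D.k⁻¹ • D.P := by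
    rw [hφ, mul_inv_rev, map_mul, mul_smul, map_inv MulAut.conj D.y, hky]
  have hkk : MulAut.conj D.k • D.Q = D.Q := conj_smul_eq_self (D.hQn D.hkH)
  have hkk' : MulAut.conj D.k⁻¹ • D.Q = D.Q := conj_smul_eq_self (inv_mem (D.hQn D.hkH))
  have hint : D.P ⊓ φ • D.P = D.Q := by rw [hφP, D.hinter]
  have hQle : D.Q ≤ φ • D.P := hint ▸ inf_le_right
  have hN : ((D.P ⊓ φ • D.P).subgroupOf (φ • D.P)).Normal := by
    rw [hint, Subgroup.normal_subgroupOf_iff_le_normalizer hQle, hφP, Subgroup.pointwise_smul_subset_iff]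
    intro p hp
    rw [Subgroup.mem_pointwise_smul_iff_inv_smul_mem, inv_inv, MulAut.smul_def, MulAut.conj_apply]
    exact mul_mem (mul_mem (inv_mem (D.hQn D.hkH)) (D.hQn (D.hPH hp)))
      (inv_mem (inv_mem (D.hQn D.hkH)))
  have hidx : (D.P ⊓ φ • D.P).relIndex (φ • D.P) = 2 := by
    rw [hint, hφP]
    conv_lhs => rw [← hkk']
    rw [Subgroup.relIndex_pointwise_smul]
    exact D.hidx
  have h1 : ∀ N : Subgroup G, N ≤ D.P → (N.subgroupOf D.P).Normal → φ • N = N → N = ⊥ := by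
    intro N hNP hNn hNf
    have hNP' : D.P ≤ normalizer (N : Set G) := (Subgroup.normal_subgroupOf_iff_le_normalizer hNP).1 hNn
    obtain ⟨M, hM⟩ : ∃ M, (MulAut.conj D.y)⁻¹ • N = M := ⟨_, rfl⟩
    have hMN : MulAut.conj D.k⁻¹ • M = N := by
      conv_rhs => rw [← hNf, hφ, mul_inv_rev, map_mul, mul_smul, map_inv MulAut.conj D.y, hM]
    have hMP : M ≤ D.P := by rw [← hM, ← hky]; exact Subgroup.pointwise_smul_le_pointwise_smul_iff.2 hNP
    have hMn : D.P ≤ normalizer (M : Set G) := by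
      have : (MulAut.conj D.y)⁻¹ • normalizer (N : Set G) = normalizer (M : Set G) := by
        rw [← hM]; exact Subgroup.map_equiv_normalizer_eq _ _
      rw [← this, ← hky]
      exact Subgroup.pointwise_smul_le_pointwise_smul_iff.2 hNP'
    have hMn' : MulAut.conj D.k⁻¹ • D.P ≤ normalizer (N : Set G) := by
      have : MulAut.conj D.k⁻¹ • normalizer (M : Set G) = normalizer (N : Set G) := by
        rw [← hMN]; exact Subgroup.map_equiv_normalizer_eq _ _
      rw [← this]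
      exact Subgroup.pointwise_smul_le_pointwise_smul_iff.2 hMn
    have hHN : D.H ≤ normalizer (N : Set G) := D.hgen.trans (sup_le hNP' hMn')
    have hkN : MulAut.conj D.k⁻¹ • N = N := conj_smul_eq_self (inv_mem (hHN D.hkH))
    have hMeq : M = N := smul_left_cancel _ (hMN.trans hkN.symm)
    refine D.hyQ N hNP hHN ?_
    conv_lhs => rw [← hMeq, ← hM, smul_inv_smul]
  obtain ⟨T, S, hT1, hT, hσ, hSP, hSQ⟩ := IsoSub.exists_sys D.P φ 2 hN hidx h1
  rw [hint] at hSQ
  have hT2 : 2 ≤ T := by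
    by_contra h
    apply D.hQ1
    rw [hSQ, show T - 1 = 0 by omega, IsoSub.seg_zero]
  obtain ⟨u, hu1, huT, h3u, hu, hclose⟩ := S.main hT1
  have hstep : ∀ i, φ (S.y (i + 1)) = S.y i := fun i => by
    rw [S.hy, hσ, ← MulAut.mul_apply, mul_inv_cancel, MulAut.one_apply]
  have hgenH : ∀ i : ℕ, (∀ l < T + 1, Commute (S.y (i + 1)) (S.y l)) → ∀ h ∈ D.H,
      h * S.y i = S.y i * h := by
    intro i hi
    have hle : D.H ≤ centralizer ({S.y i} : Set G) := by
      have hseg : IsoSub.seg S.y 0 (T + 1) ≤ centralizer ({S.y (i + 1)} : Set G) :=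
        IsoSub.seg_le fun l _ hl => mem_centralizer_singleton_iff.2 (hi l (by omega)).eq.symm
      have hφle : φ • IsoSub.seg S.y 0 (T + 1) ≤ centralizer ({S.y i} : Set G) := by
        refine le_trans (Subgroup.pointwise_smul_le_pointwise_smul_iff.2 hseg) ?_
        rintro _ ⟨c, hc, rfl⟩
        rw [mem_centralizer_singleton_iff, ← hstep i]
        show φ c * φ (S.y (i + 1)) = φ (S.y (i + 1)) * φ c
        rw [← map_mul, mem_centralizer_singleton_iff.1 hc, map_mul]
      refine D.hgen.trans (le_trans (sup_le ?_ ?_) hφle)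
      · rw [← hSP]
        refine IsoSub.seg_le fun l _ hl => ?_
        rw [Subgroup.mem_pointwise_smul_iff_inv_smul_mem, MulAut.smul_def, ← hσ, ← S.hy]
        exact IsoSub.mem_seg (by omega) (by omega)
      · rw [← hφP, ← hSP]
        exact Subgroup.pointwise_smul_le_pointwise_smul_iff.2 (IsoSub.seg_mono le_rfl (by omega))
    exact fun h hh => mem_centralizer_singleton_iff.1 (hle hh)
  have h2u : 2 * u ≤ T + 2 := by
    by_contra hcon
    obtain ⟨m, hm⟩ : ∃ m, u = m + 3 := ⟨u - 3, by omega⟩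
    have hz1 : ∀ h ∈ D.H, h * S.y m = S.y m * h :=
      hgenH m fun l hl => hclose _ _ (by omega) (by omega)
    have hz2 : ∀ h ∈ D.H, h * S.y (m + 1) = S.y (m + 1) * h :=
      hgenH (m + 1) fun l hl => hclose _ _ (by omega) (by omega)
    have hzy : D.y * S.y m * D.y⁻¹ = S.y (m + 1) := by
      have h : (D.y * D.k) * S.y m * (D.y * D.k)⁻¹ = S.y (m + 1) := by
        rw [← hstep m, hφ, MulAut.conj_apply]; group
      rw [← h]
      calc D.y * S.y m * D.y⁻¹ = D.y * (S.y m * D.k) * (D.k⁻¹ * D.y⁻¹) := by group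
        _ = _ := by rw [← hz1 D.k D.hkH, mul_inv_rev]; group
    have hone : S.y m = 1 := D.eq_one_of_central
      (hSP ▸ IsoSub.mem_seg (Nat.zero_le _) (by omega)) hz1 (hzy ▸ hz2)
    have hc : Nat.card (IsoSub.seg S.y m 1) = 1 := by
      rw [Subgroup.card_eq_one]
      exact le_bot_iff.1 (IsoSub.seg_le fun j h1 h2 => by
        obtain rfl : j = m := by omega
        rw [hone]; exact one_mem _)
    rw [S.card_seg m hT1] at hc
    norm_num at hc
  refine ⟨T, u, S.y, hSP, hSQ.symm, fun i m hm => S.card_seg i hm, hgenH, hclose, ?_, ?_, hu1, huT, hT2,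
    h3u, h2u⟩
  · intro hlt i h
    rcases hu with rfl | hu
    · omega
    · exact hu ((S.commute_shift i u).1 h)
  · intro N hN' hHN
    subst hN'
    obtain ⟨l, hl⟩ : ∃ l, T = l + 2 := ⟨T - 2, by omega⟩
    subst hl
    simp only [Nat.add_sub_cancel] at hHN hSQ ⊢
    rw [show l + 2 - 1 = l + 1 by omega] at hSQ
    -- `yQy⁻¹` is the shifted segment
    have hyQ : MulAut.conj D.y • D.Q = IsoSub.seg S.y 1 (l + 1) := by
      have h : IsoSub.seg S.y 1 (l + 1) = (IsoSub.seg S.y 0 (l + 1)).map (S.σ ^ 1).toMonoidHom :=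
        S.seg_shift 1 0 (l + 1)
      rw [pow_one, hσ, ← hSQ] at h
      rw [h]
      show _ = φ⁻¹ • D.Q
      rw [hφ, map_inv, inv_inv, map_mul, mul_smul, hkk]
    have hinter : IsoSub.seg S.y 0 (l + 1) ⊓ IsoSub.seg S.y 1 (l + 1) = IsoSub.seg S.y 1 l := by
      rcases IsoSub.eq_or_eq_of_index (p := 2) (k := l) (A := IsoSub.seg S.y 1 l)
          (B := IsoSub.seg S.y 0 (l + 1) ⊓ IsoSub.seg S.y 1 (l + 1))
          (le_inf (IsoSub.seg_mono (by omega) (by omega)) (IsoSub.seg_mono le_rfl (by omega))) inf_le_left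
          (S.card_seg 0 (by omega)) (S.card_seg 1 (by omega)) with h | h
      · exact h
      · exfalso
        have h' : IsoSub.seg S.y 0 (l + 2) ≤ IsoSub.seg S.y 1 (l + 1) := IsoSub.seg_le fun j _ hj => by
          rcases Nat.eq_zero_or_pos j with rfl | hj0
          · exact inf_eq_left.1 h (IsoSub.mem_seg le_rfl (by omega))
          · exact IsoSub.mem_seg (by omega) (by omega)
        have := Subgroup.card_le_of_le h'
        rw [S.card_seg 0 le_rfl, S.card_seg 1 (by omega), pow_succ 2 (l + 1)] at this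
        have := Nat.two_pow_pos (l + 1)
        omega
    refine D.hyQ _ (hSP ▸ IsoSub.seg_mono (Nat.zero_le _) (by omega)) hHN ?_
    have hy2Q : MulAut.conj D.y • (MulAut.conj D.y • D.Q) = D.Q := by
      rw [← mul_smul, ← map_mul, ← pow_two]
      exact conj_smul_eq_self D.y_sq_mem
    rw [← hinter, Subgroup.smul_inf, ← hSQ, ← hyQ, hy2Q, inf_comm]

end Pair

end FgsC.DihPair
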