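import Cfsg.Agent.Lib.FgsC.DihedralPairQuot
import Cfsg.Agent.Lib.FgsC.DihedralPairChain

/-!
# Dihedral pairs: the structure theorem
-/

set_option autoImplicit false

namespace FgsC.DihPair

open Subgroup Pointwise
open scoped commutatorElement

variable {G : Type*} [Group G] [Finite G]

theorem commute_of_seg {w : ℕ → G} {x : G} {i m : ℕ} (h : ∀ l, i ≤ l → l < i + m → Commute x (w l))
    {a : G} (ha : a ∈ IsoSub.seg w i m) : Commute x a :=
  (mem_centralizer_singleton_iff.1 ((IsoSub.seg_le (H := centralizer ({x} : Set G))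
    fun l h1 h2 => mem_centralizer_singleton_iff.2 (h l h1 h2).eq.symm) ha)).symm

theorem seg_comm {w : ℕ → G} {i m : ℕ}
    (h : ∀ l l', i ≤ l → l < i + m → i ≤ l' → l' < i + m → Commute (w l) (w l')) :
    ∀ a ∈ IsoSub.seg w i m, ∀ b ∈ IsoSub.seg w i m, a * b = b * a := by
  intro a ha b hb
  exact (commute_of_seg (fun l h1 h2 => (commute_of_seg (fun l' g1 g2 => h l l' h1 h2 g1 g2) ha).symm) hb).eq

theorem seg_sq {w : ℕ → G} {i m : ℕ} (hsq : ∀ l, w l * w l = 1)
    (h : ∀ l l', i ≤ l → l < i + m → i ≤ l' → l' < i + m → Commute (w l) (w l')) :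
    ∀ a ∈ IsoSub.seg w i m, a * a = 1 := by
  intro a ha
  let K : Subgroup G :=
    { carrier := {a | a ∈ IsoSub.seg w i m ∧ a * a = 1}
      one_mem' := ⟨one_mem _, mul_one 1⟩
      mul_mem' := fun {a b} ha hb => ⟨mul_mem ha.1 hb.1, by
        rw [mul_assoc, ← mul_assoc b a, seg_comm h b hb.1 a ha.1, mul_assoc, hb.2, mul_one, ha.2]⟩
      inv_mem' := fun {a} ha => ⟨inv_mem ha.1, by rw [← mul_inv_rev, ha.2, inv_one]⟩ }
  exact (IsoSub.seg_le (H := K) (fun l h1 h2 => ⟨IsoSub.mem_seg h1 h2, hsq l⟩) ha).2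

theorem ofAdd_one_ne : (Multiplicative.ofAdd (1 : ZMod 2)) ≠ 1 := by decide

theorem zmod_two_cases : ∀ b : Multiplicative (ZMod 2), b = 1 ∨ b = Multiplicative.ofAdd 1 := by decide

namespace Pair.Chain

variable {D : Pair G} {T u : ℕ} {w : ℕ → G}

theorem mem_P (C : Pair.Chain D T u w) {i : ℕ} (hi : i < T) : w i ∈ D.P :=
  C.hP ▸ IsoSub.mem_seg (Nat.zero_le i) (by omega)

theorem mem_Q (C : Pair.Chain D T u w) {i : ℕ} (hi : i + 1 < T) : w i ∈ D.Q :=
  C.hQ ▸ IsoSub.mem_seg (Nat.zero_le i) (by omega)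

theorem last_notMem (C : Pair.Chain D T u w) : w (T - 1) ∉ D.Q := by
  intro h
  have hT2 := C.hT2
  have h' : D.P ≤ D.Q := by
    rw [← C.hP]
    refine IsoSub.seg_le fun l _ hl => ?_
    rcases Nat.lt_or_ge (l + 1) T with h' | h'
    · exact C.mem_Q h'
    · rwa [show l = T - 1 by omega]
  have := D.hidx
  rw [Subgroup.relIndex_eq_one.2 h'] at this
  omega

theorem sq (C : Pair.Chain D T u w) (l : ℕ) : w l * w l = 1 := by
  have hc := C.hcard l 1 (by have := C.hT2; omega)
  have hm : w l ∈ IsoSub.seg w l 1 := IsoSub.mem_seg le_rfl (by omega)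
  have := Subgroup.orderOf_dvd_natCard _ hm
  rw [hc, pow_one] at this
  rw [← pow_two]
  exact orderOf_dvd_iff_pow_eq_one.1 this

theorem bounds (C : Pair.Chain D T u w) :
    (T = 2 ∧ u = 2) ∨ (T = 3 ∧ u = 2) ∨ (T = 4 ∧ u = 3) ∨ (T = 6 ∧ u = 4) := by
  have := C.hu1; have := C.huT; have := C.hT2; have := C.h3u; have := C.h2u
  omega

/-- The chain does not have length six. -/
theorem ne_six (C : Pair.Chain D T u w) : T ≠ 6 := by
  intro hT
  subst hT
  haveI : Fact (Nat.Prime 2) := ⟨Nat.prime_two⟩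
  have hu : u = 4 := by rcases C.bounds with h | h | h | h <;> omega
  subst hu
  have hcl : ∀ i m : ℕ, ∀ x : ℕ, (∀ l, i ≤ l → l < i + m → x < l + 4 ∧ l < x + 4) →
      ∀ a ∈ IsoSub.seg w i m, Commute (w x) a := fun i m x h a ha =>
    commute_of_seg (fun l h1 h2 => C.hclose _ _ (h l h1 h2).1 (h l h1 h2).2) ha
  -- the centre of `Q`
  have hQ : IsoSub.seg w 0 5 = D.Q := C.hQ
  have hZle : IsoSub.seg w 1 3 ≤ D.Q := hQ ▸ IsoSub.seg_mono (by omega) (by omega)
  have hZcent : ∀ z ∈ IsoSub.seg w 1 3, ∀ q ∈ D.Q, Commute z q := fun z hz q hq =>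
    commute_of_seg (fun l _ hl => (hcl 1 3 l (fun l' h1 h2 => by omega) z hz).symm) (hQ ▸ hq)
  have hcentre : ∀ z ∈ D.Q, (∀ q ∈ D.Q, Commute q z) → z ∈ IsoSub.seg w 1 3 := by
    intro z hz hzc
    have h1 : z ∈ IsoSub.seg w 1 4 :=
      IsoSub.mem_of_commute (p := 2) (k := 4) (IsoSub.seg_mono (by omega) (by omega)) (C.hcard 0 5 (by omega))
        (C.hcard 1 4 (by omega)) (hQ ▸ hz) (IsoSub.mem_seg (j := 0) le_rfl (by omega)) (q := w 4)
        (hzc _ (C.mem_Q (by omega))) (hcl 1 4 4 (fun l h1 h2 => by omega))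
        (fun h => C.hfar (by omega) 0 h.symm)
    exact IsoSub.mem_of_commute (p := 2) (k := 3) (IsoSub.seg_mono (by omega) (by omega)) (C.hcard 1 4 (by omega))
      (C.hcard 1 3 (by omega)) h1 (IsoSub.mem_seg (j := 4) (by omega) (by omega)) (q := w 0)
      (hzc _ (C.mem_Q (by omega))) (hcl 1 3 0 (fun l h1 h2 => by omega))
      (fun h => C.hfar (by omega) 0 h)
  have hZn : D.H ≤ normalizer (IsoSub.seg w 1 3 : Set G) := by
    have hfwd : ∀ h ∈ D.H, ∀ z ∈ IsoSub.seg w 1 3, h * z * h⁻¹ ∈ IsoSub.seg w 1 3 := by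
      intro h hh z hz
      refine hcentre _ ((mem_normalizer_iff.1 (D.hQn hh) z).1 (hZle hz)) fun q hq => ?_
      have hq' : h⁻¹ * q * h ∈ D.Q := by simpa using (mem_normalizer_iff.1 (D.hQn (inv_mem hh)) q).1 hq
      have := (hZcent z hz _ hq').map (MulAut.conj h)
      simpa [MulAut.conj_apply, mul_assoc] using this.symm
    intro h hh
    refine mem_normalizer_iff.2 fun z => ⟨hfwd h hh z, fun hz => ?_⟩
    simpa [mul_assoc] using hfwd h⁻¹ (inv_mem hh) _ hz
  -- the commutator of the endpoints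
  obtain ⟨d, hd⟩ : ∃ d, ⁅w 0, w 5⁆ = d := ⟨_, rfl⟩
  have hle : IsoSub.seg w 1 5 ≤ D.P := C.hP ▸ IsoSub.seg_mono (by omega) (by omega)
  have hP6 : Nat.card D.P = 2 ^ 6 := by rw [← C.hP]; exact C.hcard 0 6 le_rfl
  have hn2 : D.P ≤ normalizer (IsoSub.seg w 1 5 : Set G) :=
    IsoSub.le_normalizer_of_index (p := 2) (k := 5) hle hP6 (C.hcard 1 5 (by omega))
  have hn1 : D.P ≤ normalizer (D.Q : Set G) := D.hPH.trans D.hQn
  have hdD : d ∈ IsoSub.seg w 1 4 := by
    have hinter : D.Q ⊓ IsoSub.seg w 1 5 = IsoSub.seg w 1 4 := by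
      rcases IsoSub.eq_or_eq_of_index (p := 2) (k := 4) (A := IsoSub.seg w 1 4) (B := D.Q ⊓ IsoSub.seg w 1 5)
        (le_inf (hQ ▸ IsoSub.seg_mono (by omega) (by omega)) (IsoSub.seg_mono le_rfl (by omega))) inf_le_left
        (hQ ▸ C.hcard 0 5 (by omega)) (C.hcard 1 4 (by omega)) with h | h
      · exact h
      · exfalso
        have hPle : D.P ≤ IsoSub.seg w 1 5 := by
          rw [← C.hP]
          refine IsoSub.seg_le fun l _ hl => ?_
          rcases Nat.eq_zero_or_pos l with rfl | h0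
          · exact inf_eq_left.1 h (C.mem_Q (by omega))
          · exact IsoSub.mem_seg (by omega) (by omega)
        have := Subgroup.card_le_of_le hPle
        rw [hP6, C.hcard 1 5 (by omega)] at this
        omega
    rw [← hinter, ← hd, commutatorElement_def]
    refine Subgroup.mem_inf.2 ⟨?_, ?_⟩
    · rw [show w 0 * w 5 * (w 0)⁻¹ * (w 5)⁻¹ = w 0 * (w 5 * (w 0)⁻¹ * (w 5)⁻¹) by group]
      exact mul_mem (C.mem_Q (by omega))
        ((mem_normalizer_iff.1 (hn1 (C.mem_P (by omega))) _).1 (inv_mem (C.mem_Q (by omega))))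
    · exact mul_mem ((mem_normalizer_iff.1 (hn2 (C.mem_P (by omega))) _).1 (IsoSub.mem_seg (by omega) (by omega)))
        (inv_mem (IsoSub.mem_seg (by omega) (by omega)))
  -- `w 0` inverts `d`, so commutes with it
  have hd2 : d * d = 1 := seg_sq C.sq (fun l l' h1 h2 h3 h4 => C.hclose _ _ (by omega) (by omega)) d hdD
  have hd0 : Commute (w 0) d := by
    have hinv : ∀ l, (w l)⁻¹ = w l := fun l => inv_eq_of_mul_eq_one_left (C.sq l)
    have hd' : w 0 * d * (w 0)⁻¹ = d⁻¹ := by
      rw [← hd, commutatorElement_def]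
      simp only [mul_inv_rev, inv_inv, hinv]
      calc w 0 * (w 0 * w 5 * w 0 * w 5) * w 0 = (w 0 * w 0) * w 5 * w 0 * w 5 * w 0 := by group
        _ = _ := by rw [C.sq 0, one_mul]; simp only [mul_assoc]
    rw [inv_eq_of_mul_eq_one_left hd2] at hd'
    exact mul_inv_eq_iff_eq_mul.1 hd'
  have hdZ : d ∈ IsoSub.seg w 1 3 :=
    IsoSub.mem_of_commute (p := 2) (k := 3) (IsoSub.seg_mono (by omega) (by omega)) (C.hcard 1 4 (by omega))
      (C.hcard 1 3 (by omega)) hdD (IsoSub.mem_seg (j := 4) (by omega) (by omega)) (q := w 0) hd0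
      (hcl 1 3 0 (fun l h1 h2 => by omega)) (fun h => C.hfar (by omega) 0 h)
  -- `[w 4, w 0]` lies in the centre
  have hn5 : IsoSub.seg w 0 5 ≤ normalizer (IsoSub.seg w 0 4 : Set G) :=
    IsoSub.le_normalizer_of_index (p := 2) (k := 4) (IsoSub.seg_mono le_rfl (by omega)) (C.hcard 0 5 (by omega))
      (C.hcard 0 4 (by omega))
  have hn5' : IsoSub.seg w 0 5 ≤ normalizer (IsoSub.seg w 1 4 : Set G) :=
    IsoSub.le_normalizer_of_index (p := 2) (k := 4) (IsoSub.seg_mono (by omega) (by omega)) (C.hcard 0 5 (by omega))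
      (C.hcard 1 4 (by omega))
  have hinter4 : IsoSub.seg w 0 4 ⊓ IsoSub.seg w 1 4 = IsoSub.seg w 1 3 := by
    rcases IsoSub.eq_or_eq_of_index (p := 2) (k := 3) (A := IsoSub.seg w 1 3)
      (B := IsoSub.seg w 0 4 ⊓ IsoSub.seg w 1 4)
      (le_inf (IsoSub.seg_mono (by omega) (by omega)) (IsoSub.seg_mono le_rfl (by omega))) inf_le_left
      (C.hcard 0 4 (by omega)) (C.hcard 1 3 (by omega)) with h | h
    · exact h
    · exfalso
      have h5 : IsoSub.seg w 0 5 ≤ IsoSub.seg w 1 4 := IsoSub.seg_le fun l _ hl => by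
        rcases Nat.eq_zero_or_pos l with rfl | h0
        · exact inf_eq_left.1 h (IsoSub.mem_seg le_rfl (by omega))
        · exact IsoSub.mem_seg (by omega) (by omega)
      have := Subgroup.card_le_of_le h5
      rw [C.hcard 0 5 (by omega), C.hcard 1 4 (by omega)] at this
      omega
  have zero_four : w 0 * w 4 * (w 0)⁻¹ * (w 4)⁻¹ ∈ IsoSub.seg w 1 3 := by
    rw [← hinter4]
    have a0 : w 0 ∈ IsoSub.seg w 0 4 := IsoSub.mem_seg le_rfl (by omega)
    have a4 : w 4 ∈ IsoSub.seg w 1 4 := IsoSub.mem_seg (by omega) (by omega)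
    refine Subgroup.mem_inf.2 ⟨?_, mul_mem ((mem_normalizer_iff.1 (hn5' (IsoSub.mem_seg le_rfl (by omega))) _).1 a4) (inv_mem a4)⟩
    rw [show w 0 * w 4 * (w 0)⁻¹ * (w 4)⁻¹ = w 0 * (w 4 * (w 0)⁻¹ * (w 4)⁻¹) by group]
    exact mul_mem a0 ((mem_normalizer_iff.1 (hn5 (IsoSub.mem_seg (j := 4) (by omega) (by omega))) _).1 (inv_mem a0))
  have four_zero : w 4 * w 0 * (w 4)⁻¹ * (w 0)⁻¹ ∈ IsoSub.seg w 1 3 := by
    have := inv_mem zero_four
    simpa [mul_assoc] using this
  -- `H` centralises `Q` modulo the centre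
  let K : Subgroup G :=
    { carrier := {h | h ∈ D.H ∧ ∀ q ∈ D.Q, h * q * h⁻¹ * q⁻¹ ∈ IsoSub.seg w 1 3}
      one_mem' := ⟨one_mem _, fun q _ => by simp⟩
      mul_mem' := fun {a b} ha hb => ⟨mul_mem ha.1 hb.1, fun q hq => by
        have hq' : b * q * b⁻¹ ∈ D.Q := (mem_normalizer_iff.1 (D.hQn hb.1) q).1 hq
        have := mul_mem (ha.2 _ hq') (hb.2 q hq)
        simpa [mul_assoc] using this⟩
      inv_mem' := fun {a} ha => ⟨inv_mem ha.1, fun q hq => by
        have hq' : a⁻¹ * q * a ∈ D.Q := by simpa using (mem_normalizer_iff.1 (D.hQn (inv_mem ha.1)) q).1 hq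
        have := inv_mem (ha.2 _ hq')
        have heq : (a * (a⁻¹ * q * a) * a⁻¹ * (a⁻¹ * q * a)⁻¹)⁻¹ = a⁻¹ * q * a⁻¹⁻¹ * q⁻¹ := by
          simp [mul_assoc]
        rwa [heq] at this⟩ }
  have hKconj : ∀ g ∈ D.H, ∀ h ∈ K, g * h * g⁻¹ ∈ K := by
    intro g hg h hh
    refine ⟨mul_mem (mul_mem hg hh.1) (inv_mem hg), fun q hq => ?_⟩
    have hq' : g⁻¹ * q * g ∈ D.Q := by simpa using (mem_normalizer_iff.1 (D.hQn (inv_mem hg)) q).1 hq
    have := (mem_normalizer_iff.1 (hZn hg) _).1 (hh.2 _ hq')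
    simpa [mul_assoc] using this
  have hPK : D.P ≤ K := by
    rw [← C.hP]
    refine IsoSub.seg_le fun x _ hx => ⟨D.hPH (C.mem_P (by omega)), ?_⟩
    intro q hq
    rw [← hQ] at hq
    -- commutators of generators
    let M : Subgroup G :=
      { carrier := {q | q ∈ D.Q ∧ w x * q * (w x)⁻¹ * q⁻¹ ∈ IsoSub.seg w 1 3}
        one_mem' := ⟨one_mem _, by simp⟩
        mul_mem' := fun {a b} ha hb => ⟨mul_mem ha.1 hb.1, by
          have h2 := (mem_normalizer_iff.1 (hZn (D.Q_le_H ha.1)) _).1 hb.2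
          have := mul_mem ha.2 h2
          simpa [mul_assoc] using this⟩
        inv_mem' := fun {a} ha => ⟨inv_mem ha.1, by
          have := (mem_normalizer_iff.1 (hZn (inv_mem (D.Q_le_H ha.1))) _).1 (inv_mem ha.2)
          simpa [mul_assoc] using this⟩ }
    refine (IsoSub.seg_le (H := M) (fun l _ hl => ⟨C.mem_Q (by omega), ?_⟩) hq).2
    by_cases hlZ : 1 ≤ l ∧ l < 4
    · have hz : w l ∈ IsoSub.seg w 1 3 := IsoSub.mem_seg hlZ.1 (by omega)
      exact mul_mem ((mem_normalizer_iff.1 (hZn (D.hPH (C.mem_P (by omega)))) _).1 hz) (inv_mem hz)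
    by_cases hc : x < l + 4 ∧ l < x + 4
    · rw [(C.hclose x l hc.1 hc.2).mul_inv_cancel, mul_inv_cancel]; exact one_mem _
    rcases (show (x = 4 ∧ l = 0) ∨ (x = 0 ∧ l = 4) ∨ (x = 5 ∧ l = 0) by omega) with ⟨rfl, rfl⟩ | ⟨rfl, rfl⟩ | ⟨rfl, rfl⟩
    · -- `[w 4, w 0]` lies in the centre
      exact four_zero
    · exact zero_four
    · have : w 5 * w 0 * (w 5)⁻¹ * (w 0)⁻¹ = d⁻¹ := by rw [← hd, commutatorElement_def]; group
      rw [this]; exact inv_mem hdZ
  have hHK : D.H ≤ K := by
    refine D.hgen.trans (sup_le hPK ?_)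
    rintro _ ⟨p, hp, rfl⟩
    exact hKconj _ (inv_mem D.hkH) p (hPK hp)
  have hDn : D.H ≤ normalizer (IsoSub.seg w 1 4 : Set G) := by
    have hle4 : IsoSub.seg w 1 4 ≤ D.Q := hQ ▸ IsoSub.seg_mono (by omega) (by omega)
    have hfwd : ∀ h ∈ D.H, ∀ a ∈ IsoSub.seg w 1 4, h * a * h⁻¹ ∈ IsoSub.seg w 1 4 := by
      intro h hh a ha
      have h3 := IsoSub.seg_mono (y := w) (i := 1) (m := 3) (i' := 1) (m' := 4) le_rfl (by omega) ((hHK hh).2 a (hle4 ha))
      have := mul_mem h3 ha
      simpa using this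
    intro h hh
    refine mem_normalizer_iff.2 fun z => ⟨hfwd h hh z, fun hz => ?_⟩
    simpa [mul_assoc] using hfwd h⁻¹ (inv_mem hh) _ hz
  have hbot := C.hD _ rfl hDn
  have hc := C.hcard 1 4 (by omega)
  rw [hbot, Subgroup.card_bot] at hc
  omega

end Pair.Chain

/-- The structure theorem. -/
theorem structure_theorem (H : Subgroup G) (hO : Cfsg.pCore 2 ↥H ≠ ⊥) (n : ℕ) (hn : 2 ≤ n)
    (hdih : Nonempty (↥H ⧸ Cfsg.pCore 2 ↥H ≃* DihedralGroup n))
    (P : Subgroup G) (hPH : P ≤ H) (hP : IsPGroup 2 P) (hPsyl : ¬ 2 ∣ P.relIndex H)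
    (y : G) (hy2 : y ^ 2 ∈ P ⊔ centralizer (P : Set G)) (hyN : MulAut.conj y • P = P)
    (hyQ : ∀ Q : Subgroup G, Q ≤ P → (Q.subgroupOf H).Normal → MulAut.conj y • Q = Q → Q = ⊥) :
    (Nat.card P = 4 ∨ Nat.card P = 8 ∨ Nat.card P = 16) ∧
    (Nonempty (↥H ⧸ Cfsg.pPrimeCore 2 ↥H ≃* Multiplicative (ZMod 2) × Multiplicative (ZMod 2)) ∨
     Nonempty (↥H ⧸ Cfsg.pPrimeCore 2 ↥H ≃* Equiv.Perm (Fin 4)) ∨
     Nonempty (↥H ⧸ Cfsg.pPrimeCore 2 ↥H ≃* Equiv.Perm (Fin 4) × Multiplicative (ZMod 2))) := by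
  classical
  haveI : Fact (Nat.Prime 2) := ⟨Nat.prime_two⟩
  haveI : NeZero n := ⟨by omega⟩
  obtain ⟨e⟩ := hdih
  obtain ⟨f, hfdef⟩ : ∃ f : ↥H →* DihedralGroup n, f = e.toMonoidHom.comp (QuotientGroup.mk' (Cfsg.pCore 2 ↥H)) :=
    ⟨_, rfl⟩
  have hf : Function.Surjective f := hfdef ▸ e.surjective.comp (QuotientGroup.mk'_surjective _)
  have hker : f.ker = Cfsg.pCore 2 ↥H := by
    ext x
    rw [MonoidHom.mem_ker, hfdef, MonoidHom.comp_apply, MulEquiv.coe_toMonoidHom, e.map_eq_one_iff]
    exact QuotientGroup.eq_one_iff _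
  have hkp : IsPGroup 2 f.ker := hker ▸ CfsgLib.Base.isPGroup_pCore 2 ↥H
  -- `n` is odd
  have hodd : Odd n := by
    rw [← Nat.not_even_iff_odd]
    rintro ⟨m, rfl⟩
    let z : DihedralGroup (m + m) := DihedralGroup.r (m : ZMod (m + m))
    have hm2 : (m : ZMod (m + m)) + m = 0 := by
      rw [← Nat.cast_add]; exact ZMod.natCast_self _
    have hzc : ∀ g : DihedralGroup (m + m), g * z = z * g := by
      rintro (i | i)
      · simp only [z, DihedralGroup.r_mul_r, add_comm]
      · simp only [z, DihedralGroup.sr_mul_r, DihedralGroup.r_mul_sr]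
        congr 1
        linear_combination hm2
    have hz2 : z * z = 1 := by
      simp only [z, DihedralGroup.r_mul_r, hm2, DihedralGroup.r_zero]
    haveI hZn : (zpowers z).Normal := ⟨fun a ha g => by
      obtain ⟨l, rfl⟩ := ha
      rw [((show Commute g z from hzc g).zpow_right l).eq, mul_inv_cancel_right]
      exact ⟨l, rfl⟩⟩
    haveI : ((zpowers z).comap f).Normal := hZn.comap f
    have hzp : IsPGroup 2 (zpowers z) := by
      rintro ⟨a, l, rfl⟩
      refine ⟨1, Subtype.ext ?_⟩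
      show (z ^ l) ^ (2 ^ 1) = 1
      rw [← zpow_natCast, ← zpow_mul, mul_comm, zpow_mul, zpow_natCast, pow_one, pow_two, hz2, one_zpow]
    have hle : (zpowers z).comap f ≤ f.ker :=
      hker ▸ CfsgLib.Base.le_pCore (hzp.comap_of_ker_isPGroup f hkp)
    obtain ⟨g, hg⟩ := hf z
    have hz1 : z = 1 := hg ▸ hle (show f g ∈ zpowers z from hg ▸ mem_zpowers z)
    rw [DihedralGroup.one_def] at hz1
    have h0 : (m : ZMod (m + m)) = 0 := by injection hz1
    rw [ZMod.natCast_eq_zero_iff] at h0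
    have := Nat.le_of_dvd (by omega) h0
    omega
  have hn3 : 3 ≤ n := by
    obtain ⟨m, hm⟩ := hodd; omega
  -- `P` inside `H`
  obtain ⟨P', hP'⟩ : ∃ P', P.subgroupOf H = P' := ⟨_, rfl⟩
  have hP'2 : IsPGroup 2 P' := hP' ▸ hP.of_equiv (Subgroup.subgroupOfEquivOfLe hPH).symm
  have hP'idx : ¬ 2 ∣ P'.index := hP' ▸ hPsyl
  let SP : Sylow 2 ↥H := hP'2.toSylow hP'idx
  have hSP : (SP : Subgroup ↥H) = P' := rfl
  have hkerP : f.ker ≤ P' := hker ▸ hSP ▸ CfsgLib.Base.pCore_le_sylow SP
  have hcardH : Nat.card ↥H = 2 * n * Nat.card f.ker := by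
    rw [Subgroup.card_eq_card_quotient_mul_card_subgroup f.ker,
      Nat.card_congr (QuotientGroup.quotientKerEquivOfSurjective f hf).toEquiv, DihedralGroup.nat_card]
  have hrel : f.ker.relIndex P' = 2 := by
    have h := Subgroup.relIndex_mul_index hkerP
    rw [Subgroup.index_ker, MonoidHom.range_eq_top.2 hf, Subgroup.card_top, DihedralGroup.nat_card] at h
    obtain ⟨a, ha⟩ := hP'2.exists_card_eq
    have hd : f.ker.relIndex P' ∣ 2 ^ a := by
      rw [← ha]
      exact Subgroup.index_dvd_card _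
    obtain ⟨b, -, hb⟩ := (Nat.dvd_prime_pow Nat.prime_two).1 hd
    rw [hb] at h ⊢
    obtain ⟨i, hi⟩ : Odd P'.index := Nat.odd_iff.2 (Nat.two_dvd_ne_zero.1 hP'idx)
    obtain ⟨m, hm⟩ := hodd
    rcases b with _ | _ | b
    · exfalso; rw [hi, pow_zero, one_mul] at h; omega
    · rfl
    · exfalso
      have h4 : 4 ∣ 2 * n := ⟨2 ^ b * P'.index, by rw [← h, pow_succ, pow_succ]; ring⟩
      omega
  have hcardP' : Nat.card P' = 2 * Nat.card f.ker := by
    have h := Subgroup.relIndex_mul_relIndex ⊥ f.ker P' bot_le hkerP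
    rw [Subgroup.relIndex_bot_left, Subgroup.relIndex_bot_left, hrel] at h
    rw [← h, mul_comm]
  have hneP : ¬ P' ≤ f.ker := fun h => by
    rw [Subgroup.relIndex_eq_one.2 h] at hrel; omega
  obtain ⟨t, htP, htK⟩ := SetLike.not_le_iff_exists.1 hneP
  obtain ⟨j, hj⟩ : ∃ j, f t = DihedralGroup.sr j := by
    cases hft : f t with
    | sr j => exact ⟨j, rfl⟩
    | r i =>
      exfalso
      obtain ⟨a, ha⟩ := hP'2 ⟨t, htP⟩
      have hta : t ^ 2 ^ a = 1 := congrArg Subtype.val ha
      have h1 := congrArg f hta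
      rw [map_pow, map_one, hft, DihedralGroup.r_pow, DihedralGroup.one_def] at h1
      have h1' : i * ((2 ^ a : ℕ) : ZMod n) = 0 := by injection h1
      have hu : IsUnit ((2 ^ a : ℕ) : ZMod n) :=
        (ZMod.isUnit_iff_coprime _ _).2 (Nat.Coprime.pow_left _ hodd.coprime_two_left)
      have hi : i = 0 := (IsUnit.mul_left_eq_zero hu).1 h1'
      exact htK (by rw [MonoidHom.mem_ker, hft, hi, DihedralGroup.r_zero])
  obtain ⟨k, hk⟩ := hf (DihedralGroup.r 1)
  let DD : Data ↥H :=
    { n := n, hn := hodd, hn3 := hn3, f := f, hf := hf, P := P', hP := hP'2, hQP := hkerP, j := j, t := t,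
      htP := htP, hft := hj, hcardP := hcardP', k := k, hk := hk }
  have hmap : P'.map H.subtype = P := by
    rw [← hP', Subgroup.map_subgroupOf_eq_of_le hPH]
  -- conjugation inside `H`
  have hconj : MulAut.conj (k : G)⁻¹ • P = (P'.map (MulAut.conj k⁻¹).toMonoidHom).map H.subtype := by
    rw [← hmap, Subgroup.map_map]
    show (P'.map H.subtype).map (MulAut.conj (k : G)⁻¹).toMonoidHom = _
    rw [Subgroup.map_map]
    rfl
  have hfP : ∀ x ∈ P', f x = 1 ∨ f x = DihedralGroup.sr j := by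
    intro x hx
    by_cases hxk : x ∈ f.ker
    · exact Or.inl hxk
    right
    have := (Subgroup.index_eq_two_iff.1 hrel)
    obtain ⟨a, ha⟩ := this
    have hxt : x * t⁻¹ ∈ f.ker := by
      have h2 := Subgroup.mul_mem_iff_of_index_two hrel (a := (⟨x, hx⟩ : P')) (b := (⟨t, htP⟩ : P')⁻¹)
      simp only [Subgroup.mem_subgroupOf, Subgroup.coe_mul, Subgroup.coe_inv, inv_mem_iff] at h2
      exact h2.2 ⟨fun h => absurd h hxk, fun h => absurd h htK⟩
    rw [MonoidHom.mem_ker, map_mul, map_inv, mul_inv_eq_one] at hxt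
    rw [hxt, hj]
  let E : Pair G :=
    { H := H, P := P, Q := f.ker.map H.subtype, k := k, y := y
      hPH := hPH
      hkH := k.2
      hQn := by
        intro h hh
        refine mem_normalizer_iff.2 fun z => ⟨?_, ?_⟩
        · rintro ⟨z, hz, rfl⟩
          exact ⟨⟨h, hh⟩ * z * ⟨h, hh⟩⁻¹, (MonoidHom.normal_ker f).conj_mem _ hz _, rfl⟩
        · rintro ⟨z', hz, hzz⟩
          refine ⟨⟨h, hh⟩⁻¹ * z' * ⟨h, hh⟩, by simpa using (MonoidHom.normal_ker f).conj_mem _ hz ⟨h, hh⟩⁻¹, ?_⟩
          change h⁻¹ * (z' : G) * h = z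
          change (z' : G) = h * z * h⁻¹ at hzz
          rw [hzz]; group
      hQP := hmap ▸ Subgroup.map_mono hkerP
      hQ1 := by
        rw [hker]
        exact fun h => hO ((Subgroup.map_eq_bot_iff_of_injective _ H.subtype_injective).1 h)
      hP2 := hP
      hidx := by rw [← hmap, Subgroup.relIndex_map_map_of_injective _ _ H.subtype_injective]; exact hrel
      hinter := by
        rw [hconj, ← hmap, ← Subgroup.map_inf _ _ _ H.subtype_injective]
        congr 1
        refine le_antisymm ?_ (le_inf hkerP ?_)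
        · rintro x ⟨hx, x', hx', rfl⟩
          rw [MulEquiv.coe_toMonoidHom, MulAut.conj_apply, inv_inv] at hx ⊢
          rcases hfP x' hx' with h1 | h1
          · rw [MonoidHom.mem_ker, map_mul, map_mul, map_inv, h1]; simp
          · rcases hfP _ hx with h2 | h2
            · exact h2
            · exfalso
              rw [map_mul, map_mul, map_inv, h1, hk, DihedralGroup.inv_r, DihedralGroup.r_mul_sr,
                DihedralGroup.sr_mul_r] at h2
              have h3 : j - -1 + 1 = j := by injection h2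
              exact Data.two_ne_zero DD (by linear_combination h3)
        · intro x hx
          refine ⟨k * x * k⁻¹, hkerP ((MonoidHom.normal_ker f).conj_mem _ hx k), ?_⟩
          simp [mul_assoc]
      hgen := by
        rw [hconj, ← hmap, ← Subgroup.map_sup]
        intro h hh
        refine ⟨⟨h, hh⟩, ?_, rfl⟩
        have h1 : P' ≤ P' ⊔ P'.map (MulAut.conj k⁻¹).toMonoidHom := le_sup_left
        have hts : k⁻¹ * t * k ∈ P' ⊔ P'.map (MulAut.conj k⁻¹).toMonoidHom :=
          Subgroup.mem_sup_right ⟨t, htP, by simp⟩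
        obtain ⟨M, hM⟩ : ∃ M, P' ⊔ P'.map (MulAut.conj k⁻¹).toMonoidHom = M := ⟨_, rfl⟩
        rw [hM] at h1 hts ⊢
        have hprod : f (t * (k⁻¹ * t * k)) = DihedralGroup.r (2 : ZMod n) := by
          rw [map_mul, map_mul, map_mul, map_inv, hj, hk, DihedralGroup.inv_r, DihedralGroup.r_mul_sr,
            DihedralGroup.sr_mul_r, DihedralGroup.sr_mul_sr]
          congr 1; ring
        obtain ⟨m, hm⟩ := hodd
        have hk' : f ((t * (k⁻¹ * t * k)) ^ (m + 1)) = DihedralGroup.r 1 := by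
          rw [map_pow, hprod, DihedralGroup.r_pow]
          congr 1
          have h0 : ((2 * m + 1 : ℕ) : ZMod n) = 0 := by rw [← hm]; exact ZMod.natCast_self _
          push_cast at h0 ⊢
          linear_combination h0
        have hkM : k ∈ M := by
          have hd : ((t * (k⁻¹ * t * k)) ^ (m + 1))⁻¹ * k ∈ f.ker := by
            rw [MonoidHom.mem_ker, map_mul, map_inv, hk', hk, inv_mul_cancel]
          have hpow : (t * (k⁻¹ * t * k)) ^ (m + 1) ∈ M := M.pow_mem (M.mul_mem (h1 htP) hts) _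
          simpa using M.mul_mem hpow (h1 (hkerP hd))
        have htop : M = ⊤ := DD.generate h1 hkM
        rw [htop]; trivial
      hyP := hyN
      hy2 := hy2
      hyQ := fun N hN hHN hNy => hyQ N hN
        ((Subgroup.normal_subgroupOf_iff_le_normalizer (hN.trans hPH)).2 hHN) hNy }
  obtain ⟨T, u, w, C⟩ := E.exists_chain
  have hcardP : Nat.card P = 2 ^ T := by
    rw [show P = E.P from rfl, ← C.hP]; exact C.hcard 0 T le_rfl
  have hcardQ : Nat.card f.ker = 2 ^ (T - 1) := by
    rw [← Subgroup.card_map_of_injective H.subtype_injective, show f.ker.map H.subtype = E.Q from rfl, ← C.hQ]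
    exact C.hcard 0 (T - 1) (Nat.sub_le _ _)
  have hQseg : ∀ x : ↥H, x ∈ f.ker ↔ (x : G) ∈ IsoSub.seg w 0 (T - 1) := by
    intro x
    rw [C.hQ]
    exact (Subgroup.mem_map_iff_mem H.subtype_injective).symm
  have hne6 := C.ne_six
  rcases C.bounds with ⟨rfl, rfl⟩ | h34 | h34 | h34
  · refine ⟨Or.inl hcardP, Or.inl (klein DD hcardQ fun x hx => ?_)⟩
    refine Subtype.ext ?_
    show (x : G) * x = 1
    have hxP : (x : G) ∈ P := by rw [← hmap]; exact ⟨x, hx, rfl⟩
    refine seg_sq (i := 0) (m := 2) C.sq (fun l l' _ h1 _ h2 => C.hclose l l' (by omega) (by omega)) (x : G) ?_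
    rw [C.hP]; exact hxP
  rotate_right
  · omega
  all_goals
    obtain ⟨hT, hu⟩ := h34
    have hQ34 : T - 1 = u := by omega
    have hclose' : ∀ l l', 0 ≤ l → l < 0 + (T - 1) → 0 ≤ l' → l' < 0 + (T - 1) → Commute (w l) (w l') :=
      fun l l' _ h1 _ h2 => C.hclose l l' (by omega) (by omega)
    have hQc : ∀ a ∈ f.ker, ∀ b ∈ f.ker, a * b = b * a := fun a ha b hb =>
      Subtype.ext (seg_comm hclose' (a : G) ((hQseg a).1 ha) (b : G) ((hQseg b).1 hb))
    have hQe : ∀ a ∈ f.ker, a * a = 1 := fun a ha =>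
      Subtype.ext (seg_sq C.sq hclose' (a : G) ((hQseg a).1 ha))
    obtain ⟨t', ht'⟩ : ∃ t' : ↥H, (t' : G) = w (T - 1) :=
      ⟨⟨w (T - 1), hPH (C.mem_P (by omega))⟩, rfl⟩
    obtain ⟨a', ha'⟩ : ∃ a' : ↥H, (a' : G) = w 0 := ⟨⟨w 0, hPH (C.mem_P (by omega))⟩, rfl⟩
    have ht'P : t' ∈ P' := by
      rw [← hP', Subgroup.mem_subgroupOf, ht']; exact C.mem_P (by omega)
    have ht'K : t' ∉ f.ker := fun h => C.last_notMem (ht' ▸ ⟨t', h, rfl⟩)
    obtain ⟨j', hj'⟩ : ∃ j', f t' = DihedralGroup.sr j' := by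
      rcases hfP t' ht'P with h | h
      · exact absurd h ht'K
      · exact ⟨j, h⟩
    let D2 : Data ↥H := { DD with t := t', htP := ht'P, j := j', hft := hj' }
    obtain ⟨D1, hD1def⟩ : ∃ D1, (IsoSub.seg w 1 (T - 2)).subgroupOf H = D1 := ⟨_, rfl⟩
    have hDle : IsoSub.seg w 1 (T - 2) ≤ E.Q := C.hQ ▸ IsoSub.seg_mono (by omega) (by omega)
    have hD1ne : ¬ D1.Normal := by
      intro hn'
      subst hD1def
      have := C.hD _ rfl ((Subgroup.normal_subgroupOf_iff_le_normalizer (hDle.trans E.Q_le_H)).1 hn')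
      have hc := C.hcard 1 (T - 2) (by omega)
      rw [this, Subgroup.card_bot] at hc
      have := Nat.one_lt_two_pow (n := T - 2) (by omega)
      omega
    have hD1le : D1 ≤ f.ker := by
      subst hD1def
      intro x hx
      rw [hQseg, C.hQ]
      exact hDle hx
    have hD1P : P' ≤ normalizer (D1 : Set ↥H) := by
      subst hD1def
      intro p hp
      refine mem_normalizer_iff.2 fun v => ?_
      rw [Subgroup.mem_subgroupOf, Subgroup.mem_subgroupOf, Subgroup.coe_mul, Subgroup.coe_mul, Subgroup.coe_inv]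
      have hpP : (p : G) ∈ E.P := by rw [show E.P = P from rfl, ← hmap]; exact ⟨p, hp, rfl⟩
      have hnorm : E.P ≤ normalizer (IsoSub.seg w 1 (T - 2) : Set G) := by
        rw [← C.hP]
        refine IsoSub.seg_le fun l _ hl => ?_
        rcases Nat.lt_or_ge (l + 1) T with hl' | hl'
        · rcases Nat.eq_zero_or_pos l with rfl | hl0
          · exact Subgroup.centralizer_le_normalizer _ (Subgroup.mem_centralizer_iff.2 fun x hx =>
              (commute_of_seg (fun i h1 h2 => C.hclose 0 i (by omega) (by omega)) hx).eq.symm)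
          · exact Subgroup.le_normalizer (IsoSub.mem_seg (by omega) (by omega))
        · exact Subgroup.centralizer_le_normalizer _ (Subgroup.mem_centralizer_iff.2 fun x hx =>
            (commute_of_seg (fun i h1 h2 => C.hclose l i (by omega) (by omega)) hx).eq.symm)
      exact mem_normalizer_iff.1 (hnorm hpP) v
    have hfar := C.hfar (by omega)
  · -- order 8
    subst hT hu
    refine ⟨Or.inr (Or.inl hcardP), Or.inr (Or.inl ?_)⟩
    obtain ⟨O, g, hO', hg, hgker, -⟩ := octahedral D2 hQc hQe ⊥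
      (fun z hz g => by rw [mem_bot] at hz; subst hz; simp) bot_le
      (by show Nat.card f.ker = _; rw [hcardQ, Subgroup.card_bot]; rfl)
      ⟨a', by rw [show D2.f = f from rfl, hQseg, ha']; exact IsoSub.mem_seg le_rfl (by omega), fun h => by
        rw [mem_bot] at h
        have h' := congrArg Subtype.val h
        simp only [Subgroup.coe_mul, Subgroup.coe_inv, Subgroup.coe_one] at h'
        change (t' : G) * a' * (t' : G)⁻¹ * (a' : G)⁻¹ = 1 at h'
        rw [ht', ha', mul_inv_eq_one, mul_inv_eq_iff_eq_mul] at h'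
        exact hfar 0 h'.symm⟩
      D1 hD1le hD1P hD1ne
    rw [bot_sup_eq] at hgker
    exact ⟨(QuotientGroup.quotientMulEquivOfEq (hO'.trans hgker.symm)).trans
      (QuotientGroup.quotientKerEquivOfSurjective g hg)⟩
  · -- order 16
    subst hT hu
    refine ⟨Or.inr (Or.inr hcardP), Or.inr (Or.inr ?_)⟩
    obtain ⟨z, hz⟩ : ∃ z : ↥H, (z : G) = w 1 := ⟨⟨w 1, hPH (C.mem_P (by omega))⟩, rfl⟩
    have hzc : ∀ g : ↥H, g * z = z * g := fun g => Subtype.ext (by
      rw [Subgroup.coe_mul, Subgroup.coe_mul, hz]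
      exact C.hgenH 1 (fun l hl => C.hclose _ _ (by omega) (by omega)) g g.2)
    have hz1 : z ≠ 1 := fun h => by
      have hc := C.hcard 1 1 (by omega)
      have : IsoSub.seg w 1 1 = ⊥ := le_bot_iff.1 (IsoSub.seg_le fun l h1 h2 => by
        obtain rfl : l = 1 := by omega
        rw [← hz, h]; exact one_mem _)
      rw [this, Subgroup.card_bot] at hc; norm_num at hc
    have hzK : z ∈ f.ker := by rw [hQseg, hz]; exact IsoSub.mem_seg (by omega) (by omega)
    have hZcard : Nat.card (zpowers z) = 2 := by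
      rw [Nat.card_zpowers]
      exact orderOf_eq_prime (by rw [pow_two]; exact hQe z hzK) hz1
    -- the commutator `c`
    obtain ⟨c, hc⟩ : ∃ c : ↥H, t' * a' * t'⁻¹ * a'⁻¹ = c := ⟨_, rfl⟩
    have ha'K : a' ∈ f.ker := by rw [hQseg, ha']; exact IsoSub.mem_seg le_rfl (by omega)
    have hcD : (c : G) ∈ IsoSub.seg w 1 2 := by
      rw [← hc]
      simp only [Subgroup.coe_mul, Subgroup.coe_inv, ht', ha']
      have h := C.hfar (by omega) 0
      have hinter : E.Q ⊓ IsoSub.seg w 1 3 = IsoSub.seg w 1 2 := by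
        rcases IsoSub.eq_or_eq_of_index (p := 2) (k := 2) (A := IsoSub.seg w 1 2) (B := E.Q ⊓ IsoSub.seg w 1 3)
          (le_inf hDle (IsoSub.seg_mono le_rfl (by omega))) inf_le_left
          (C.hQ ▸ C.hcard 0 3 (by omega)) (C.hcard 1 2 (by omega)) with h | h
        · exact h
        · exfalso
          have h2 : E.P ≤ IsoSub.seg w 1 3 := by
            rw [← C.hP]
            refine IsoSub.seg_le fun l _ hl => ?_
            rcases Nat.eq_zero_or_pos l with rfl | h0
            · exact inf_eq_left.1 h (C.mem_Q (by omega))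
            · exact IsoSub.mem_seg (by omega) (by omega)
          have := Subgroup.card_le_of_le h2
          rw [show E.P = P from rfl, hcardP, C.hcard 1 3 (by omega)] at this
          omega
      rw [← hinter, Subgroup.mem_inf]
      have hn3' : E.P ≤ normalizer (IsoSub.seg w 1 3 : Set G) :=
        IsoSub.le_normalizer_of_index (p := 2) (k := 3) (C.hP ▸ IsoSub.seg_mono (by omega) (by omega))
          hcardP (C.hcard 1 3 (by omega))
      refine ⟨?_, ?_⟩
      · exact mul_mem ((mem_normalizer_iff.1 (E.hQn (hPH (C.mem_P (by omega)))) _).1 (C.mem_Q (by omega)))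
          (inv_mem (C.mem_Q (by omega)))
      · rw [show w (4 - 1) * w 0 * (w (4 - 1))⁻¹ * (w 0)⁻¹ = w (4 - 1) * (w 0 * (w (4 - 1))⁻¹ * (w 0)⁻¹) by group]
        exact mul_mem (IsoSub.mem_seg (by omega) (by omega))
          ((mem_normalizer_iff.1 (hn3' (C.mem_P (by omega))) _).1 (inv_mem (IsoSub.mem_seg (by omega) (by omega))))
    have hcK : c ∈ f.ker := by
      rw [hQseg]; exact IsoSub.seg_mono (by omega) (by omega) hcD
    have hcP : ∀ p ∈ P', p * c = c * p := by
      intro p hp
      refine Subtype.ext ?_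
      have hpP : (p : G) ∈ IsoSub.seg w 0 4 := by rw [C.hP, ← show P = E.P from rfl, ← hmap]; exact ⟨p, hp, rfl⟩
      exact (commute_of_seg (fun l _ hl =>
        (commute_of_seg (fun i h1 h2 => C.hclose l i (by omega) (by omega)) hcD).symm) hpP).eq.symm
    have hc1 : c ≠ 1 := fun h => by
      rw [h] at hc
      rw [mul_inv_eq_one, mul_inv_eq_iff_eq_mul] at hc
      exact hfar 0 (show w 0 * w 3 = w 3 * w 0 by
        have := congrArg Subtype.val hc
        simp only [Subgroup.coe_mul, ht', ha'] at this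
        exact this.symm)
    -- `c` generates the derived subgroup of `P`, which `y` fixes
    have hcz : c ≠ z := by
      intro hcz
      have hyc : E.y * w 1 * E.y⁻¹ = w 1 := by
        have hsub : ∀ a ∈ E.P, ∀ b ∈ E.P, a * b * a⁻¹ * b⁻¹ ∈ zpowers (w 1) := by
          have hcw : (c : G) = w 1 := hcz ▸ hz
          let K2 : G → Subgroup G := fun b => centralizer ({b} : Set G)
          have hgen : ∀ l l', l < 4 → l' < 4 → w l * w l' * (w l)⁻¹ * (w l')⁻¹ ∈ zpowers (w 1) := by
            intro l l' hl hl'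
            by_cases hcl : l < l' + 3 ∧ l' < l + 3
            · rw [(C.hclose l l' hcl.1 hcl.2).mul_inv_cancel, mul_inv_cancel]; exact one_mem _
            have hval : w 3 * w 0 * (w 3)⁻¹ * (w 0)⁻¹ = w 1 := by
              rw [← hcw, ← hc]; simp only [Subgroup.coe_mul, Subgroup.coe_inv, ht', ha']
            rcases (show (l = 3 ∧ l' = 0) ∨ (l = 0 ∧ l' = 3) by omega) with ⟨rfl, rfl⟩ | ⟨rfl, rfl⟩
            · rw [hval]; exact mem_zpowers _
            · rw [show w 0 * w 3 * (w 0)⁻¹ * (w 3)⁻¹ = (w 3 * w 0 * (w 3)⁻¹ * (w 0)⁻¹)⁻¹ by group, hval]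
              exact inv_mem (mem_zpowers _)
          have hcen : ∀ p ∈ E.P, ∀ x ∈ zpowers (w 1), p * x * p⁻¹ = x := by
            intro p hp x hx
            obtain ⟨i, rfl⟩ := hx
            have hcm : Commute (w 1) p := commute_of_seg (fun l _ hl => C.hclose 1 l (by omega) (by omega)) (C.hP.symm ▸ hp)
            exact (hcm.zpow_left i).symm.mul_inv_cancel
          have hone : ∀ l < 4, ∀ b ∈ E.P, w l * b * (w l)⁻¹ * b⁻¹ ∈ zpowers (w 1) := by
            intro l hl b hb
            let M : Subgroup G :=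
              { carrier := {b | b ∈ E.P ∧ w l * b * (w l)⁻¹ * b⁻¹ ∈ zpowers (w 1)}
                one_mem' := ⟨one_mem _, by simp⟩
                mul_mem' := fun {a b} ha hb => ⟨mul_mem ha.1 hb.1, by
                  have := mul_mem ha.2 hb.2
                  rw [← hcen a ha.1 _ hb.2] at this
                  simpa [mul_assoc] using this⟩
                inv_mem' := fun {a} ha => ⟨inv_mem ha.1, by
                  have := inv_mem ha.2
                  rw [← hcen a⁻¹ (inv_mem ha.1) _ this] at this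
                  simpa [mul_assoc] using this⟩ }
            rw [← C.hP] at hb
            exact (IsoSub.seg_le (H := M) (fun l' _ hl' => ⟨C.mem_P (by omega), hgen l l' hl (by omega)⟩) hb).2
          intro a ha b hb
          let M : Subgroup G :=
            { carrier := {a | a ∈ E.P ∧ a * b * a⁻¹ * b⁻¹ ∈ zpowers (w 1)}
              one_mem' := ⟨one_mem _, by simp⟩
              mul_mem' := fun {a a'} ha ha' => ⟨mul_mem ha.1 ha'.1, by
                have := mul_mem ha'.2 ha.2
                rw [← hcen a ha.1 _ ha'.2] at this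
                simpa [mul_assoc] using this⟩
              inv_mem' := fun {a} ha => ⟨inv_mem ha.1, by
                have := inv_mem ha.2
                rw [← hcen a⁻¹ (inv_mem ha.1) _ this] at this
                simpa [mul_assoc] using this⟩ }
          rw [← C.hP] at ha
          exact (IsoSub.seg_le (H := M) (fun l _ hl => ⟨C.mem_P (by omega), hone l (by omega) b hb⟩) ha).2
        have hzz : ∀ x ∈ zpowers (w 1), x ≠ 1 → x = w 1 := by
          rintro _ ⟨i, rfl⟩ hne
          rcases Int.even_or_odd' i with ⟨m, rfl | rfl⟩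
          · exfalso; apply hne
            show w 1 ^ (2 * m) = 1
            rw [zpow_mul, show (2 : ℤ) = ((2 : ℕ) : ℤ) from rfl, zpow_natCast, pow_two, C.sq 1, one_zpow]
          · show w 1 ^ (2 * m + 1) = w 1
            rw [zpow_add, zpow_mul, show (2 : ℤ) = ((2 : ℕ) : ℤ) from rfl, zpow_natCast, pow_two, C.sq 1,
              one_zpow, one_mul, zpow_one]
        refine hzz _ ?_ fun h => hz1 (Subtype.ext (hz.trans (conj_eq_one_iff.1 h)))
        have hcw : (c : G) = w 1 := hcz ▸ hz
        have hval : w 1 = w 3 * w 0 * (w 3)⁻¹ * (w 0)⁻¹ := by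
          rw [← hcw, ← hc]; simp only [Subgroup.coe_mul, Subgroup.coe_inv, ht', ha']
        have := hsub _ (E.conj_mem_P (C.mem_P (show 3 < 4 by omega))) _ (E.conj_mem_P (C.mem_P (show 0 < 4 by omega)))
        have heq : E.y * w 1 * E.y⁻¹ = (E.y * w 3 * E.y⁻¹) * (E.y * w 0 * E.y⁻¹) * (E.y * w 3 * E.y⁻¹)⁻¹ *
            (E.y * w 0 * E.y⁻¹)⁻¹ := by rw [hval]; group
        rw [heq]; exact this
      have h1 : w 1 = 1 := E.eq_one_of_central (C.mem_P (by omega))
        (C.hgenH 1 fun l hl => C.hclose _ _ (by omega) (by omega))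
        (by rw [hyc]; exact C.hgenH 1 fun l hl => C.hclose _ _ (by omega) (by omega))
      exact hz1 (Subtype.ext (hz.trans h1))
    have hts : t' * a' * t'⁻¹ * a'⁻¹ ∉ zpowers z := by
      rw [hc]
      intro h
      obtain ⟨i, hi⟩ := h
      rcases Int.even_or_odd' i with ⟨m, rfl | rfl⟩
      · apply hc1; rw [← hi]
        show z ^ (2 * m) = 1
        rw [zpow_mul, show (2 : ℤ) = ((2 : ℕ) : ℤ) from rfl, zpow_natCast, pow_two, hQe z hzK, one_zpow]
      · apply hcz; rw [← hi]
        show z ^ (2 * m + 1) = z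
        rw [zpow_add, zpow_mul, show (2 : ℤ) = ((2 : ℕ) : ℤ) from rfl, zpow_natCast, pow_two, hQe z hzK,
          one_zpow, one_mul, zpow_one]
    obtain ⟨O, g, hO', hg, hgker, hOodd⟩ := octahedral D2 hQc hQe (zpowers z)
      (fun x hx g => by obtain ⟨i, rfl⟩ := hx; exact ((show Commute g z from hzc g).zpow_right i).eq)
      (Subgroup.zpowers_le.2 hzK)
      (by show Nat.card f.ker = _; rw [hcardQ, hZcard]; rfl)
      ⟨a', ha'K, hts⟩ D1 hD1le hD1P hD1ne
    -- a subgroup of index two of `P` missing `z`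
    have ha't : t' * a' = c * (a' * t') := by rw [← hc]; group
    have hsq_t : t' * t' = 1 := Subtype.ext (by rw [Subgroup.coe_mul, ht']; exact C.sq _)
    have hsq_a : a' * a' = 1 := hQe a' ha'K
    have hsq_c : c * c = 1 := hQe c hcK
    have hsq_z : z * z = 1 := hQe z hzK
    have ha'P : a' ∈ P' := hkerP ha'K
    have hcP' : c ∈ P' := hkerP hcK
    let M : Subgroup ↥H := closure {a', t'}
    have hMP : M ≤ P' := (closure_le P').2 (by rintro x (rfl | rfl) <;> assumption)
    have hMform : ∀ x ∈ M, ∃ b ∈ zpowers c, ∃ a ∈ zpowers a', x = b * a ∨ x = b * (a * t') := by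
      have hta : ∀ a ∈ zpowers a', ∃ b ∈ zpowers c, t' * a = b * (a * t') := by
        rintro _ ⟨i, rfl⟩
        rcases Int.even_or_odd' i with ⟨m, rfl | rfl⟩
        · refine ⟨1, one_mem _, ?_⟩
          show t' * a' ^ (2 * m) = 1 * (a' ^ (2 * m) * t')
          rw [zpow_mul, show (2 : ℤ) = ((2 : ℕ) : ℤ) from rfl, zpow_natCast, pow_two, hsq_a, one_zpow]
          simp
        · refine ⟨c, mem_zpowers c, ?_⟩
          show t' * a' ^ (2 * m + 1) = c * (a' ^ (2 * m + 1) * t')
          rw [zpow_add, zpow_mul, show (2 : ℤ) = ((2 : ℕ) : ℤ) from rfl, zpow_natCast, pow_two, hsq_a,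
            one_zpow, one_mul, zpow_one, ha't]
      have hmem : ∀ p ∈ P', ∀ b ∈ zpowers c, p * b = b * p := by
        rintro p hp _ ⟨i, rfl⟩
        exact ((show Commute p c from hcP p hp).zpow_right i).eq
      intro x hx
      refine closure_induction_left (p := fun x _ => ∃ b ∈ zpowers c, ∃ a ∈ zpowers a', x = b * a ∨ x = b * (a * t'))
        ⟨1, one_mem _, 1, one_mem _, Or.inl (by simp)⟩ ?_ ?_ hx
      · intro s hs x _ ih
        obtain ⟨b, hb, a, ha, hxe⟩ := ih
        rcases hs with rfl | rfl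
        · refine ⟨b, hb, s * a, mul_mem (mem_zpowers s) ha, ?_⟩
          rcases hxe with rfl | rfl
          · left; rw [← mul_assoc, hmem s ha'P b hb, mul_assoc]
          · right; rw [← mul_assoc, hmem s ha'P b hb]; simp [mul_assoc]
        · obtain ⟨b', hb', hta'⟩ := hta a ha
          refine ⟨b * b', mul_mem hb hb', a, ha, ?_⟩
          rcases hxe with rfl | rfl
          · right; rw [← mul_assoc s b a, hmem s ht'P b hb, mul_assoc, hta', ← mul_assoc]
          · left; rw [← mul_assoc s b, hmem s ht'P b hb, mul_assoc, ← mul_assoc s a, hta']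
            simp only [mul_assoc, hsq_t, mul_one]
      · intro s hs x _ ih
        obtain ⟨b, hb, a, ha, hxe⟩ := ih
        rcases hs with rfl | rfl
        · rw [inv_eq_of_mul_eq_one_left hsq_a]
          refine ⟨b, hb, s * a, mul_mem (mem_zpowers s) ha, ?_⟩
          rcases hxe with rfl | rfl
          · left; rw [← mul_assoc, hmem s ha'P b hb, mul_assoc]
          · right; rw [← mul_assoc, hmem s ha'P b hb]; simp [mul_assoc]
        · rw [inv_eq_of_mul_eq_one_left hsq_t]
          obtain ⟨b', hb', hta'⟩ := hta a ha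
          refine ⟨b * b', mul_mem hb hb', a, ha, ?_⟩
          rcases hxe with rfl | rfl
          · right; rw [← mul_assoc s b a, hmem s ht'P b hb, mul_assoc, hta', ← mul_assoc]
          · left; rw [← mul_assoc s b, hmem s ht'P b hb, mul_assoc, ← mul_assoc s a, hta']
            simp only [mul_assoc, hsq_t, mul_one]
    have htwo : ∀ {x v : ↥H}, x * x = 1 → v ∈ zpowers x → v = 1 ∨ v = x := by
      rintro x _ hx ⟨i, rfl⟩
      rcases Int.even_or_odd' i with ⟨m, rfl | rfl⟩
      · left; show x ^ (2 * m) = 1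
        rw [zpow_mul, show (2 : ℤ) = ((2 : ℕ) : ℤ) from rfl, zpow_natCast, pow_two, hx, one_zpow]
      · right; show x ^ (2 * m + 1) = x
        rw [zpow_add, zpow_mul, show (2 : ℤ) = ((2 : ℕ) : ℤ) from rfl, zpow_natCast, pow_two, hx, one_zpow,
          one_mul, zpow_one]
    have hzM : z ∉ M := by
      intro h
      obtain ⟨b, hb, a, ha, hx⟩ := hMform z h
      have hbK : b ∈ f.ker := Subgroup.zpowers_le.2 hcK hb
      have haK : a ∈ f.ker := Subgroup.zpowers_le.2 ha'K ha
      rcases hx with hx | hx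
      · have hbD : (b : G) ∈ IsoSub.seg w 1 2 := by
          rcases htwo hsq_c hb with rfl | rfl
          · exact one_mem _
          · exact hcD
        rcases htwo hsq_a ha with ha2 | ha2 <;> rw [ha2] at hx
        · rw [mul_one] at hx
          rcases htwo hsq_c hb with rfl | rfl
          · exact hz1 hx
          · exact hcz hx.symm
        · have hmem0 : w 0 ∈ IsoSub.seg w 1 2 := by
            rw [← ha', show a' = b⁻¹ * z by rw [hx, inv_mul_cancel_left]]
            exact mul_mem (inv_mem hbD) (show (z : G) ∈ IsoSub.seg w 1 2 from hz ▸ IsoSub.mem_seg le_rfl (by omega))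
          exact hfar 0 (commute_of_seg (fun i h1 h2 => C.hclose _ _ (by omega) (by omega)) hmem0).symm
      · refine ht'K ?_
        rw [show t' = a⁻¹ * (b⁻¹ * z) by rw [hx]; group]
        exact mul_mem (inv_mem haK) (mul_mem (inv_mem hbK) hzK)
    have hMidx : (M.subgroupOf P').index = 2 := by
      -- `P` is generated by `M` and `z`
      have hzP' : z ∈ P' := hkerP hzK
      rw [Subgroup.index_eq_two_iff]
      refine ⟨⟨z, hzP'⟩, fun b => ?_⟩
      have hall : ∀ x ∈ P', x ∈ M ∨ x * z ∈ M := by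
        let M2 : Subgroup ↥H :=
          { carrier := {x | x ∈ M ∨ x * z ∈ M}
            one_mem' := Or.inl M.one_mem
            mul_mem' := by
              rintro x v (hx | hx) (hv | hv)
              · exact Or.inl (M.mul_mem hx hv)
              · exact Or.inr (by rw [mul_assoc]; exact M.mul_mem hx hv)
              · refine Or.inr ?_
                have := M.mul_mem hx hv
                rwa [mul_assoc, ← hzc v, ← mul_assoc] at this
              · refine Or.inl ?_
                have := M.mul_mem hx hv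
                rwa [mul_assoc, ← mul_assoc z, ← hzc v, mul_assoc v, hsq_z, mul_one] at this
            inv_mem' := by
              rintro x (hx | hx)
              · exact Or.inl (M.inv_mem hx)
              · refine Or.inr ?_
                have := M.inv_mem hx
                rwa [mul_inv_rev, inv_eq_of_mul_eq_one_right hsq_z, ← hzc] at this }
        have hM2 : ∀ x, x ∈ M2 ↔ (x ∈ M ∨ x * z ∈ M) := fun x => Iff.rfl
        intro x hx
        have hxP : (x : G) ∈ IsoSub.seg w 0 4 := by rw [C.hP, ← show P = E.P from rfl, ← hmap]; exact ⟨x, hx, rfl⟩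
        have hM2w : ∀ l, l < 4 → w l ∈ M2.map H.subtype := by
          intro l hl
          have hw1 : w 1 ∈ M2.map H.subtype :=
            ⟨z, (hM2 z).2 (Or.inr (hsq_z ▸ M.one_mem)), hz⟩
          have hw0 : w 0 ∈ M2.map H.subtype :=
            ⟨a', (hM2 a').2 (Or.inl (subset_closure (by simp))), ha'⟩
          have hw3 : w 3 ∈ M2.map H.subtype :=
            ⟨t', (hM2 t').2 (Or.inl (subset_closure (by simp))), ht'⟩
          have hcM : (c : G) ∈ M2.map H.subtype := by
            refine ⟨c, (hM2 c).2 (Or.inl ?_), rfl⟩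
            rw [← hc]
            exact M.mul_mem (M.mul_mem (M.mul_mem (subset_closure (by simp)) (subset_closure (by simp)))
              (M.inv_mem (subset_closure (by simp)))) (M.inv_mem (subset_closure (by simp)))
          have hw2 : w 2 ∈ M2.map H.subtype := by
            rcases IsoSub.eq_or_eq_of_index (p := 2) (k := 1) (A := IsoSub.seg w 1 1)
              (B := IsoSub.seg w 1 2 ⊓ M2.map H.subtype)
              (le_inf (IsoSub.seg_mono le_rfl (by omega)) (IsoSub.seg_le fun i h1 h2 => by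
                obtain rfl : i = 1 := by omega
                exact hw1)) inf_le_left (C.hcard 1 2 (by omega)) (C.hcard 1 1 (by omega)) with h | h
            · exfalso
              have hmem : (c : G) ∈ IsoSub.seg w 1 1 := h ▸ ⟨hcD, hcM⟩
              have hsub : IsoSub.seg w 1 1 ≤ zpowers (w 1) := IsoSub.seg_le fun i h1 h2 => by
                obtain rfl : i = 1 := by omega
                exact mem_zpowers _
              obtain ⟨i, hi⟩ := hsub hmem
              have hiz : z ^ i = c := Subtype.ext (by rw [Subgroup.coe_zpow, hz]; exact hi)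
              rcases htwo hsq_z ⟨i, hiz⟩ with h | h
              · exact hc1 h
              · exact hcz h
            · exact (h.ge (IsoSub.mem_seg (by omega) (by omega))).2
          interval_cases l
          · exact hw0
          · exact hw1
          · exact hw2
          · exact hw3
        obtain ⟨x', hx', hxx⟩ := IsoSub.seg_le (fun l _ hl => hM2w l (by omega)) hxP
        rw [H.subtype_injective hxx] at hx'
        exact (hM2 x).1 hx'
      rw [Subgroup.mem_subgroupOf, Subgroup.mem_subgroupOf, Subgroup.coe_mul]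
      rcases hall b b.2 with hb | hb
      · refine Or.inr ⟨hb, fun h => hzM ?_⟩
        have := M.mul_mem (M.inv_mem hb) h
        rwa [inv_mul_cancel_left] at this
      · refine Or.inl ⟨hb, fun h => hzM ?_⟩
        have := M.mul_mem (M.inv_mem h) hb
        rwa [inv_mul_cancel_left] at this
    -- transfer
    let ε : ↥P' →* Multiplicative (ZMod 2) :=
      { toFun := fun x => if x ∈ M.subgroupOf P' then 1 else Multiplicative.ofAdd 1
        map_one' := by simp
        map_mul' := fun x v => by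
          by_cases hx : x ∈ M.subgroupOf P' <;> by_cases hv : v ∈ M.subgroupOf P' <;>
            simp [hx, hv, Subgroup.mul_mem_iff_of_index_two hMidx, ← ofAdd_add] <;> rfl }
    have hεz : ε ⟨z, hkerP hzK⟩ = Multiplicative.ofAdd 1 := if_neg hzM
    haveI : P'.FiniteIndex := inferInstance
    let χ : ↥H →* Multiplicative (ZMod 2) := MonoidHom.transfer ε
    have hχz : χ z = Multiplicative.ofAdd 1 := by
      have key : ∀ (m : ℕ) (g₀ : ↥H), g₀⁻¹ * z ^ m * g₀ ∈ P' → g₀⁻¹ * z ^ m * g₀ = z ^ m := fun m g₀ _ => by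
        rw [mul_assoc, ← ((show Commute g₀ z from hzc g₀).pow_right m).eq, inv_mul_cancel_left]
      rw [show χ = MonoidHom.transfer ε from rfl, MonoidHom.transfer_eq_pow ε z key,
        show (⟨z ^ P'.index, MonoidHom.transfer_eq_pow_aux z key⟩ : P') = ⟨z, hkerP hzK⟩ ^ P'.index from rfl,
        map_pow, hεz]
      obtain ⟨i, hi⟩ : Odd P'.index := Nat.odd_iff.2 (Nat.two_dvd_ne_zero.1 hP'idx)
      rw [hi, pow_succ, pow_mul, pow_two, ← ofAdd_add, show (1 : ZMod 2) + 1 = 0 from rfl, ofAdd_zero, one_pow, one_mul]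
    have hO2 : ∀ x ∈ O, χ x = 1 := fun x hx => by
      have h1 := (hOodd.of_dvd_nat (Subgroup.orderOf_dvd_natCard _ hx))
      have h2 : orderOf (χ x) ∣ 2 := by
        have := orderOf_dvd_natCard (χ x)
        simpa [Nat.card_eq_fintype_card] using this
      have h3 := h1.of_dvd_nat (orderOf_map_dvd χ x)
      have := Nat.le_of_dvd (by norm_num) h2
      rw [Nat.odd_iff] at h3
      exact orderOf_eq_one_iff.1 (by omega)
    haveI : O.Normal := hO' ▸ Cfsg.pPrimeCore_normal 2 ↥H
    let ψ : ↥H →* Equiv.Perm (Fin 4) × Multiplicative (ZMod 2) := g.prod χ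
    have hψker : ψ.ker = O := by
      refine le_antisymm (fun x hx => ?_) fun x hx => ?_
      · rw [MonoidHom.mem_ker] at hx
        have h1 : x ∈ g.ker := congrArg Prod.fst hx
        have h2 : χ x = 1 := congrArg Prod.snd hx
        rw [hgker] at h1
        obtain ⟨v, hv, o, ho, rfl⟩ := Subgroup.mem_sup_of_normal_right.1 h1
        rcases htwo hsq_z hv with rfl | rfl
        · simpa using ho
        · exfalso
          rw [map_mul, hO2 o ho, mul_one, hχz] at h2
          exact ofAdd_one_ne h2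
      · rw [MonoidHom.mem_ker]
        refine Prod.ext ?_ (hO2 x hx)
        exact MonoidHom.mem_ker.1 (hgker ▸ Subgroup.mem_sup_right hx)
    have hψs : Function.Surjective ψ := by
      rintro ⟨a, b⟩
      obtain ⟨x, hx⟩ := hg a
      have hgz : g z = 1 := MonoidHom.mem_ker.1 (hgker ▸ Subgroup.mem_sup_left (mem_zpowers z))
      rcases zmod_two_cases ((χ x)⁻¹ * b) with h | h
      · exact ⟨x, Prod.ext hx (inv_mul_eq_one.1 h)⟩
      · refine ⟨x * z, Prod.ext ?_ ?_⟩
        · show g (x * z) = a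
          rw [map_mul, hx, hgz, mul_one]
        · show χ (x * z) = b
          rw [map_mul, hχz, ← h, mul_inv_cancel_left]
    exact ⟨(QuotientGroup.quotientMulEquivOfEq (hO'.trans hψker.symm)).trans
      (QuotientGroup.quotientKerEquivOfSurjective ψ hψs)⟩

end FgsC.DihPair
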