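import Mathlib
import Cfsg.Prelude.Def_Solvable
import Cfsg.Agent.Lib.Base.Cores

/-!
# Groups with `H/O₂(H)` dihedral and a small elementary abelian `O₂(H)`

Identification of `H/O(H)` as `S₄` or `S₄ × C₂`.
-/

set_option autoImplicit false

namespace FgsC.DihPair

open Subgroup
open scoped commutatorElement

/-- A group of order 24 with a self-centralizing normal subgroup of order 4 is `S₄`. -/
theorem equiv_perm_four {G : Type*} [Group G] [Finite G] (hG : Nat.card G = 24) (V : Subgroup G)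
    [V.Normal] (hV : Nat.card V = 4) (hC : centralizer (V : Set G) ≤ V) :
    Nonempty (G ≃* Equiv.Perm (Fin 4)) := by
  classical
  haveI : Fact (Nat.Prime 3) := ⟨Nat.prime_three⟩
  have hPcard : ∀ P : Sylow 3 G, Nat.card (P : Subgroup G) = 3 := fun P => by
    rw [Sylow.card_eq_multiplicity, hG, show (24 : ℕ) = 3 * 8 from rfl,
      Nat.factorization_mul (by norm_num) (by norm_num), Finsupp.add_apply,
      Nat.Prime.factorization_self Nat.prime_three,
      Nat.factorization_eq_zero_of_not_dvd (by norm_num : ¬ 3 ∣ 8)]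
    norm_num
  have hPV : ∀ P : Sylow 3 G, ∀ a ∈ (P : Subgroup G), a ∈ V → a = 1 := fun P a ha hv => by
    have h1 := Subgroup.orderOf_dvd_natCard _ ha
    have h2 := Subgroup.orderOf_dvd_natCard _ hv
    rw [hPcard P] at h1; rw [hV] at h2
    exact orderOf_eq_one_iff.1 (Nat.dvd_one.1 (Nat.dvd_gcd h1 h2))
  -- an element of order 3 fixes no non-trivial element of `V`
  have hfix : ∀ P : Sylow 3 G, ∀ v ∈ V, v ∈ centralizer ((P : Subgroup G) : Set G) → v = 1 := by
    intro P v hv hvC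
    by_contra hv1
    obtain ⟨a, haP, ha1⟩ : ∃ a ∈ (P : Subgroup G), a ≠ 1 := by
      by_contra h
      push Not at h
      have : (P : Subgroup G) = ⊥ := (Subgroup.eq_bot_iff_forall _).2 h
      have h3 := hPcard P
      rw [this, Subgroup.card_bot] at h3
      omega
    have hav : a * v = v * a := Subgroup.mem_centralizer_iff.1 hvC a haP
    -- conjugation by `a` on `V`
    let c : Equiv.Perm V :=
      { toFun := fun w => ⟨a * w * a⁻¹, (inferInstance : V.Normal).conj_mem _ w.2 a⟩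
        invFun := fun w => ⟨a⁻¹ * w * a, by simpa using (inferInstance : V.Normal).conj_mem _ w.2 a⁻¹⟩
        left_inv := fun w => Subtype.ext (by simp [mul_assoc])
        right_inv := fun w => Subtype.ext (by simp [mul_assoc]) }
    have hc3 : c ^ 3 = 1 := by
      have ha3 : a ^ 3 = 1 := by
        have := Subgroup.orderOf_dvd_natCard _ haP
        rw [hPcard P] at this
        exact orderOf_dvd_iff_pow_eq_one.1 this
      ext w
      show a * (a * (a * w * a⁻¹) * a⁻¹) * a⁻¹ = (w : G)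
      calc a * (a * (a * w * a⁻¹) * a⁻¹) * a⁻¹ = a ^ 3 * w * (a ^ 3)⁻¹ := by
            simp only [pow_succ, pow_zero, one_mul, mul_inv_rev, mul_assoc]
        _ = w := by rw [ha3]; simp
    haveI : Fintype V := Fintype.ofFinite _
    have hcard4 : Fintype.card V = 4 := by rw [← Nat.card_eq_fintype_card, hV]
    have hs : ({1, ⟨v, hv⟩} : Finset V) ⊆ c.supportᶜ := by
      intro w hw
      rw [Finset.mem_compl, Equiv.Perm.notMem_support]
      rcases Finset.mem_insert.1 hw with rfl | hw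
      · exact Subtype.ext (by show a * 1 * a⁻¹ = 1; simp)
      · rw [Finset.mem_singleton] at hw; subst hw
        exact Subtype.ext (by show a * v * a⁻¹ = v; rw [hav]; simp)
    have hsupp : c.support.card ≤ 2 := by
      have h := Finset.card_le_card hs
      rw [Finset.card_compl, hcard4, Finset.card_pair (fun h => hv1 (congrArg Subtype.val h).symm)] at h
      omega
    have hc1 : c = 1 := by
      by_contra hc1
      have h2 : c.support.card = 2 := by
        have := Equiv.Perm.two_le_card_support_of_ne_one hc1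
        omega
      have hswap := Equiv.Perm.card_support_eq_two.1 h2
      have := hswap.orderOf
      have h3 : orderOf c ∣ 3 := orderOf_dvd_of_pow_eq_one hc3
      rw [this] at h3
      norm_num at h3
    have : a ∈ centralizer (V : Set G) := Subgroup.mem_centralizer_iff.2 fun w hw => by
      have := congrArg Subtype.val (Equiv.congr_fun hc1 ⟨w, hw⟩)
      change a * w * a⁻¹ = w at this
      exact (mul_inv_eq_iff_eq_mul.1 this).symm
    exact ha1 (hPV P a haP (hC this))
  -- four Sylow subgroups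
  have hn : Nat.card (Sylow 3 G) = 4 := by
    have hmod : Nat.card (Sylow 3 G) ≡ 1 [MOD 3] := card_sylow_modEq_one 3 G
    let P : Sylow 3 G := default
    have hd : Nat.card (Sylow 3 G) ∣ (P : Subgroup G).index := Sylow.card_dvd_index P
    have hidx := (P : Subgroup G).card_mul_index
    rw [hPcard P, hG] at hidx
    rw [show (P : Subgroup G).index = 8 by omega] at hd
    have hle := Nat.le_of_dvd (by norm_num) hd
    unfold Nat.ModEq at hmod
    have hne1 : Nat.card (Sylow 3 G) ≠ 1 := by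
      intro h1
      haveI : Subsingleton (Sylow 3 G) := (Nat.card_eq_one_iff_unique.1 h1).1
      have hPn : (P : Subgroup G).Normal := inferInstance
      obtain ⟨v, hv, hv1⟩ : ∃ v ∈ V, v ≠ 1 := by
        by_contra h
        push Not at h
        rw [(Subgroup.eq_bot_iff_forall V).2 h, Subgroup.card_bot] at hV
        omega
      refine hv1 (hfix P v hv (Subgroup.mem_centralizer_iff.2 fun a ha => ?_))
      exact Subgroup.commute_of_normal_of_disjoint _ _ hPn inferInstance
        (Subgroup.disjoint_def.2 fun {x} hx hx' => hPV P x hx hx') a v ha hv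
    rcases (show Nat.card (Sylow 3 G) = 1 ∨ Nat.card (Sylow 3 G) = 4 ∨ Nat.card (Sylow 3 G) = 7 by omega)
      with h | h | h
    · exact absurd h hne1
    · exact h
    · rw [h] at hd; norm_num at hd
  haveI : Fintype (Sylow 3 G) := Fintype.ofFinite _
  let f : G →* Equiv.Perm (Sylow 3 G) := MulAction.toPermHom G _
  have hfi : Function.Injective f := by
    rw [← MonoidHom.ker_eq_bot_iff, Subgroup.eq_bot_iff_forall]
    have hkV : ∀ x ∈ f.ker, x ∈ V → x = 1 := by
      intro x hx hxV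
      let P : Sylow 3 G := default
      refine hfix P x hxV (Subgroup.mem_centralizer_iff.2 fun a ha => ?_)
      have hxP : x • P = P := Equiv.congr_fun (MonoidHom.mem_ker.1 hx) P
      have hxN : x ∈ normalizer ((P : Subgroup G) : Set G) := Sylow.smul_eq_iff_mem_normalizer.1 hxP
      have h1 : x * a * x⁻¹ * a⁻¹ ∈ (P : Subgroup G) :=
        mul_mem ((Subgroup.mem_normalizer_iff.1 hxN a).1 ha) (inv_mem ha)
      have h2 : x * a * x⁻¹ * a⁻¹ ∈ V := by
        have := V.mul_mem hxV ((inferInstance : V.Normal).conj_mem _ (V.inv_mem hxV) a)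
        simpa [mul_assoc] using this
      have := hPV P _ h1 h2
      have : x * a * x⁻¹ = a := mul_inv_eq_one.1 this
      exact (mul_inv_eq_iff_eq_mul.1 this).symm
    intro x hx
    refine hkV x hx (hC (Subgroup.mem_centralizer_iff.2 fun v hv => ?_))
    exact Subgroup.commute_of_normal_of_disjoint V f.ker inferInstance inferInstance
      (Subgroup.disjoint_def.2 fun {w} hw hw' => hkV w hw' hw) v x hv hx
  have hcard : Nat.card (Equiv.Perm (Sylow 3 G)) = 24 := by
    rw [Nat.card_perm, hn]; rfl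
  have hbij : Function.Bijective f := hfi.bijective_of_nat_card_le (by rw [hcard, hG])
  let e : Sylow 3 G ≃ Fin 4 := (Finite.equivFin _).trans (finCongr hn)
  exact ⟨(MulEquiv.ofBijective f hbij).trans (Equiv.permCongrHom e)⟩

variable {H : Type*} [Group H] [Finite H]

theorem pPrimeCore_eq {O : Subgroup H} (hOn : O.Normal) (hOc : (Nat.card O).Coprime 2)
    (hmax : ∀ N : Subgroup H, N.Normal → (Nat.card N).Coprime 2 → N ≤ O) : Cfsg.pPrimeCore 2 H = O :=
  le_antisymm (sSup_le fun N hN => hmax N hN.1 hN.2) (le_sSup ⟨hOn, hOc⟩)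

/-- The data: `f` maps `H` onto a dihedral group with kernel the 2-group `Q`. -/
structure Data (H : Type*) [Group H] where
  n : ℕ
  hn : Odd n
  hn3 : 3 ≤ n
  f : H →* DihedralGroup n
  hf : Function.Surjective f
  P : Subgroup H
  hP : IsPGroup 2 P
  hQP : f.ker ≤ P
  j : ZMod n
  t : H
  htP : t ∈ P
  hft : f t = DihedralGroup.sr j
  hcardP : Nat.card P = 2 * Nat.card f.ker
  k : H
  hk : f k = DihedralGroup.r 1

namespace Data

variable (D : Data H)

/-- The preimage of the rotations. -/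
def R : Subgroup H := (zpowers (DihedralGroup.r (1 : ZMod D.n))).comap D.f

theorem mem_R {x : H} : x ∈ D.R ↔ ∃ i, D.f x = DihedralGroup.r i := by
  constructor
  · rintro ⟨m, hm⟩
    exact ⟨(m : ZMod D.n), by rw [← hm]; exact DihedralGroup.r_one_zpow m⟩
  · rintro ⟨i, hi⟩
    haveI : NeZero D.n := ⟨by have := D.hn3; omega⟩
    refine ⟨(i.val : ℤ), ?_⟩
    show DihedralGroup.r (1 : ZMod D.n) ^ (i.val : ℤ) = D.f x
    rw [hi, zpow_natCast, DihedralGroup.r_one_pow, ZMod.natCast_zmod_val]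

theorem not_mem_R {x : H} (hx : x ∉ D.R) : ∃ i, D.f x = DihedralGroup.sr i := by
  cases hfx : D.f x with
  | r i => exact absurd (D.mem_R.2 ⟨i, hfx⟩) hx
  | sr i => exact ⟨i, rfl⟩

theorem generate {M : Subgroup H} (hP : D.P ≤ M) (hk : D.k ∈ M) : M = ⊤ := by
  rw [eq_top_iff]
  intro x _
  have hR : ∀ z ∈ D.R, z ∈ M := by
    rintro z ⟨m, hm⟩
    have : z * (D.k ^ m)⁻¹ ∈ D.f.ker := by
      rw [MonoidHom.mem_ker, map_mul, map_inv, map_zpow, D.hk, ← hm]; simp
    simpa using M.mul_mem (hP (D.hQP this)) (M.zpow_mem hk m)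
  by_cases hx : x ∈ D.R
  · exact hR x hx
  obtain ⟨i, hi⟩ := D.not_mem_R hx
  have : D.t * x ∈ D.R := D.mem_R.2 ⟨i - D.j, by rw [map_mul, D.hft, hi, DihedralGroup.sr_mul_sr]⟩
  simpa using M.mul_mem (M.inv_mem (hP D.htP)) (hR _ this)

theorem two_ne_zero : (2 : ZMod D.n) ≠ 0 := by
  intro h
  have h' : ((2 : ℕ) : ZMod D.n) = 0 := by exact_mod_cast h
  rw [ZMod.natCast_eq_zero_iff] at h'
  have := Nat.le_of_dvd (by norm_num) h'
  have := D.hn3
  omega

/-- Odd order elements lie in the preimage of the rotations. -/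
theorem mem_R_of_odd {x : H} (hx : Odd (orderOf x)) : x ∈ D.R := by
  by_contra h
  obtain ⟨i, hi⟩ := D.not_mem_R h
  have h2 := orderOf_map_dvd D.f x
  rw [hi, DihedralGroup.orderOf_sr] at h2
  rw [Nat.odd_iff] at hx
  omega

/-- A normal subgroup containing the kernel but not `t` lies in the preimage of the rotations. -/
theorem le_R {K : Subgroup H} [K.Normal] (hQ : D.f.ker ≤ K) (ht : D.t ∉ K) : K ≤ D.R := by
  intro x hx
  by_contra h
  obtain ⟨i, hi⟩ := D.not_mem_R h
  haveI : NeZero D.n := ⟨by have := D.hn3; omega⟩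
  -- conjugate the reflection `sr i` to `sr j`
  obtain ⟨l, hl⟩ : ∃ l : ZMod D.n, i - l - l = D.j := by
    obtain ⟨m, hm⟩ := D.hn
    refine ⟨(i - D.j) * ((m + 1 : ℕ) : ZMod D.n), ?_⟩
    have hn0 : ((2 * m + 1 : ℕ) : ZMod D.n) = 0 := by rw [← hm]; exact ZMod.natCast_self _
    push_cast at hn0 ⊢
    linear_combination -(i - D.j) * hn0
  obtain ⟨g, hg⟩ := D.hf (DihedralGroup.r l)
  have hgx : g * x * g⁻¹ ∈ K := (inferInstance : K.Normal).conj_mem _ hx g
  have : D.t * (g * x * g⁻¹)⁻¹ ∈ D.f.ker := by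
    rw [MonoidHom.mem_ker, map_mul, map_inv, map_mul, map_mul, map_inv, D.hft, hg, hi,
      DihedralGroup.inv_r, DihedralGroup.r_mul_sr, DihedralGroup.sr_mul_r, DihedralGroup.inv_sr,
      DihedralGroup.sr_mul_sr, DihedralGroup.one_def]
    congr 1
    linear_combination hl
  have h' := K.mul_mem (hQ this) hgx
  rw [inv_mul_cancel_right] at h'
  exact ht h'

theorem index_R : D.R.index = 2 := by
  haveI : NeZero D.n := ⟨by have := D.hn3; omega⟩
  rw [R, Subgroup.index_comap_of_surjective _ D.hf]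
  have h := (zpowers (DihedralGroup.r (1 : ZMod D.n))).card_mul_index
  rw [Nat.card_zpowers, DihedralGroup.orderOf_r_one, DihedralGroup.nat_card, mul_comm 2 D.n] at h
  exact Nat.eq_of_mul_eq_mul_left (by have := D.hn3; omega) h

theorem card_eq : Nat.card H = 2 * D.n * Nat.card D.f.ker := by
  haveI : NeZero D.n := ⟨by have := D.hn3; omega⟩
  rw [Subgroup.card_eq_card_quotient_mul_card_subgroup D.f.ker,
    Nat.card_congr (QuotientGroup.quotientKerEquivOfSurjective D.f D.hf).toEquiv,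
    DihedralGroup.nat_card]

end Data

/-- The centralizer in `R` of an abelian kernel splits off its odd part. -/
theorem exists_odd_part (D : Data H) (hQc : ∀ a ∈ D.f.ker, ∀ b ∈ D.f.ker, a * b = b * a) :
    ∃ O : Subgroup H, O.Normal ∧ Cfsg.pPrimeCore 2 H = O ∧ Odd (Nat.card O) ∧
      O ≤ D.R ⊓ centralizer (D.f.ker : Set H) ∧
      Nat.card ↥(D.R ⊓ centralizer (D.f.ker : Set H)) = Nat.card D.f.ker * Nat.card O ∧
      (∀ x ∈ D.R ⊓ centralizer (D.f.ker : Set H), ∃ q ∈ D.f.ker, ∃ o ∈ O, x = q * o) := by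
  classical
  obtain ⟨C, hC⟩ : ∃ C, D.R ⊓ centralizer (D.f.ker : Set H) = C := ⟨_, rfl⟩
  rw [hC]
  haveI hRn : D.R.Normal := Subgroup.normal_of_index_eq_two D.index_R
  haveI : (centralizer (D.f.ker : Set H)).Normal := inferInstance
  haveI hCn : C.Normal := hC ▸ inferInstance
  have hQC : D.f.ker ≤ C := hC ▸ le_inf
    (fun x hx => D.mem_R.2 ⟨0, by rw [MonoidHom.mem_ker.1 hx, DihedralGroup.one_def]⟩)
    (fun x hx => Subgroup.mem_centralizer_iff.2 fun y hy => hQc y hy x hx)
  haveI : (D.f.ker.subgroupOf C).Normal := inferInstance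
  haveI hQ2 : IsPGroup 2 (D.f.ker.subgroupOf C) :=
    (D.hP.to_le D.hQP).of_equiv (Subgroup.subgroupOfEquivOfLe hQC).symm
  -- the index of the kernel in `C` is odd
  have hodd : Odd (D.f.ker.subgroupOf C).index := by
    have h1 : D.f.ker.relIndex C ∣ D.f.ker.relIndex D.R :=
      Dvd.intro _ (Subgroup.relIndex_mul_relIndex D.f.ker C D.R hQC (hC ▸ inf_le_left))
    have h2 : D.f.ker.relIndex D.R = D.n := by
      have h := Subgroup.relIndex_mul_index (show D.f.ker ≤ D.R from hQC.trans (hC ▸ inf_le_left))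
      rw [D.index_R, Subgroup.index_ker, MonoidHom.range_eq_top.2 D.hf] at h
      haveI : NeZero D.n := ⟨by have := D.hn3; omega⟩
      rw [Subgroup.card_top, DihedralGroup.nat_card] at h
      omega
    rw [h2] at h1
    exact D.hn.of_dvd_nat h1
  have hcop : (Nat.card (D.f.ker.subgroupOf C)).Coprime (D.f.ker.subgroupOf C).index := by
    obtain ⟨m, hm⟩ := hQ2.exists_card_eq
    rw [hm]
    exact Nat.Coprime.pow_left _ hodd.coprime_two_left
  obtain ⟨N, hN⟩ := Subgroup.exists_right_complement'_of_coprime hcop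
  have hNodd : Odd (Nat.card N) := by rw [← hN.symm.index_eq_card]; exact hodd
  have hdec : ∀ x : C, ∃ q ∈ D.f.ker.subgroupOf C, ∃ o ∈ N, x = q * o := fun x => by
    obtain ⟨⟨q, o⟩, hqo⟩ := hN.surjective x
    exact ⟨q, q.2, o, o.2, hqo.symm⟩
  have hcentral : ∀ q ∈ D.f.ker.subgroupOf C, ∀ x : C, q * x = x * q := fun q hq x => by
    apply Subtype.ext
    have hx : (x : H) ∈ D.R ⊓ centralizer (D.f.ker : Set H) := hC ▸ x.2
    exact Subgroup.mem_centralizer_iff.1 hx.2 q hq
  have hNmem : ∀ x : C, Odd (orderOf x) → x ∈ N := by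
    intro x hx
    obtain ⟨q, hq, o, ho, rfl⟩ := hdec x
    obtain ⟨m, hm⟩ := hQ2 ⟨q, hq⟩
    have hqm : q ^ 2 ^ m = 1 := congrArg Subtype.val hm
    have h1 : (q * o) ^ 2 ^ m ∈ N := by
      rw [(show Commute q o from hcentral q hq o).mul_pow, hqm, one_mul]
      exact N.pow_mem ho _
    obtain ⟨l, hl⟩ := exists_pow_eq_self_of_coprime
      (x := q * o) (n := 2 ^ m) (Nat.Coprime.pow_left _ hx.coprime_two_left)
    rw [← hl]
    exact N.pow_mem h1 l
  have hOmem : ∀ x : H, x ∈ N.map C.subtype ↔ x ∈ C ∧ Odd (orderOf x) := by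
    intro x
    constructor
    · rintro ⟨x, hx, rfl⟩
      exact ⟨x.2, by
        rw [Subgroup.coe_subtype, Subgroup.orderOf_coe]
        exact hNodd.of_dvd_nat (Subgroup.orderOf_dvd_natCard _ hx)⟩
    · rintro ⟨hxC, hx⟩
      exact ⟨⟨x, hxC⟩, hNmem _ (by rwa [← Subgroup.orderOf_coe]), rfl⟩
  have hOn : (N.map C.subtype).Normal := ⟨fun x hx g => by
    rw [hOmem] at hx ⊢
    exact ⟨hCn.conj_mem _ hx.1 g, by rw [← MulAut.conj_apply, MulEquiv.orderOf_eq]; exact hx.2⟩⟩
  have hcardO : Nat.card (N.map C.subtype) = Nat.card N :=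
    Subgroup.card_map_of_injective C.subtype_injective
  refine ⟨N.map C.subtype, hOn, pPrimeCore_eq hOn (by rw [hcardO]; exact hNodd.coprime_two_left.symm) ?_,
    hcardO ▸ hNodd, Subgroup.map_subtype_le _, ?_, ?_⟩
  · intro M hMn hM x hx
    have hM2 : Odd (Nat.card M) := Nat.Coprime.odd_of_right hM.symm.symm
    have hxodd : Odd (orderOf x) := hM2.of_dvd_nat (Subgroup.orderOf_dvd_natCard _ hx)
    refine (hOmem x).2 ⟨hC ▸ ⟨D.mem_R_of_odd hxodd, Subgroup.mem_centralizer_iff.2 fun q hq => ?_⟩, hxodd⟩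
    refine Subgroup.commute_of_normal_of_disjoint D.f.ker M inferInstance hMn
      (Subgroup.disjoint_def.2 fun {w} hw hw' => ?_) q x hq hx
    obtain ⟨m, hm⟩ := (D.hP.to_le D.hQP).exists_card_eq
    have h1 := Subgroup.orderOf_dvd_natCard _ hw
    rw [hm] at h1
    exact orderOf_eq_one_iff.1 (Nat.eq_one_of_dvd_coprimes (Nat.Coprime.pow_left _ hM2.coprime_two_left)
      h1 (Subgroup.orderOf_dvd_natCard _ hw'))
  · rw [hcardO, ← hN.card_mul_card, Nat.card_congr (Subgroup.subgroupOfEquivOfLe hQC).toEquiv]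
  · intro x hx
    obtain ⟨q, hq, o, ho, hqo⟩ := hdec ⟨x, hx⟩
    exact ⟨q, hq, o, ⟨o, ho, rfl⟩, congrArg Subtype.val hqo⟩

/-- Case of order 4. -/
theorem klein (D : Data H) (hQ : Nat.card D.f.ker = 2) (hexp : ∀ x ∈ D.P, x * x = 1) :
    Nonempty (H ⧸ Cfsg.pPrimeCore 2 H ≃* Multiplicative (ZMod 2) × Multiplicative (ZMod 2)) := by
  have hcent : ∀ a ∈ D.f.ker, ∀ g : H, g * a = a * g := by
    intro a ha g
    rcases eq_or_ne a 1 with rfl | ha1
    · simp
    have hg : g * a * g⁻¹ ∈ D.f.ker := (MonoidHom.normal_ker _).conj_mem _ ha g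
    obtain ⟨u, v, huv, huniv⟩ := Nat.card_eq_two_iff.1 hQ
    have hmem : ∀ w : D.f.ker, w = u ∨ w = v := fun w => by
      have : w ∈ ({u, v} : Set D.f.ker) := huniv ▸ trivial
      simpa using this
    have : g * a * g⁻¹ = a := by
      rcases hmem 1 with h1 | h1 <;> rcases hmem ⟨a, ha⟩ with h2 | h2 <;>
        rcases hmem ⟨_, hg⟩ with h3 | h3
      all_goals first
        | exact congrArg Subtype.val (h3.trans h2.symm)
        | exact absurd (congrArg Subtype.val (h2.trans h1.symm)) ha1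
        | exact absurd (conj_eq_one_iff.1 (congrArg Subtype.val (h3.trans h1.symm))) ha1
    exact mul_inv_eq_iff_eq_mul.1 this
  obtain ⟨O, hOn, hO, hOodd, -, hcC, -⟩ := exists_odd_part D fun a ha b hb => (hcent b hb a)
  have hRC : D.R ⊓ centralizer (D.f.ker : Set H) = D.R := inf_eq_left.2 fun x _ =>
    Subgroup.mem_centralizer_iff.2 fun a ha => (hcent a ha x).symm
  rw [hRC] at hcC
  subst hO
  have hidx := (Cfsg.pPrimeCore 2 H).card_mul_index
  have hR := D.R.card_mul_index
  rw [D.index_R, hcC, hQ] at hR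
  have h4 : (Cfsg.pPrimeCore 2 H).index = 4 := by
    refine Nat.eq_of_mul_eq_mul_left (Nat.card_pos (α := Cfsg.pPrimeCore 2 H)) ?_
    rw [hidx, ← hR]; ring
  have hsq : ∀ q : H ⧸ Cfsg.pPrimeCore 2 H, q * q = 1 := by
    have hsurj : Function.Surjective ((QuotientGroup.mk' (Cfsg.pPrimeCore 2 H)).comp D.P.subtype) := by
      refine (Function.Injective.bijective_of_nat_card_le ?_ ?_).2
      · rw [← MonoidHom.ker_eq_bot_iff, Subgroup.eq_bot_iff_forall]
        intro x hx
        rw [MonoidHom.mem_ker, MonoidHom.comp_apply, QuotientGroup.mk'_apply, QuotientGroup.eq_one_iff] at hx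
        have h1 := hOodd.of_dvd_nat (Subgroup.orderOf_dvd_natCard _ hx)
        have h2 : orderOf (x : H) ∣ 2 := orderOf_dvd_of_pow_eq_one (by rw [pow_two]; exact hexp x x.2)
        refine Subtype.ext (orderOf_eq_one_iff.1 ?_)
        have := Nat.le_of_dvd (by norm_num) h2
        rw [Nat.odd_iff] at h1
        simp only [Subgroup.coe_subtype] at *
        omega
      · rw [D.hcardP, hQ]
        exact h4.le
    intro q
    obtain ⟨x, rfl⟩ := hsurj q
    rw [← map_mul, Subtype.ext (hexp x x.2) (a1 := x * x) (a2 := 1), map_one]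
  haveI : IsKleinFour (H ⧸ Cfsg.pPrimeCore 2 H) := by
    refine ⟨h4, ?_⟩
    refine le_antisymm ?_ ?_ |>.trans rfl
    · exact Nat.le_of_dvd (by norm_num) (Monoid.exponent_dvd_of_forall_pow_eq_one fun q => by
        rw [pow_two]; exact hsq q)
    · have hpos : 0 < Monoid.exponent (H ⧸ Cfsg.pPrimeCore 2 H) :=
        Monoid.ExponentExists.of_finite.exponent_pos
      by_contra h
      have h1 : Monoid.exponent (H ⧸ Cfsg.pPrimeCore 2 H) = 1 := by omega
      haveI := Monoid.exp_eq_one_iff.1 h1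
      have : Nat.card (H ⧸ Cfsg.pPrimeCore 2 H) = 1 := Nat.card_unique
      rw [← Subgroup.index_eq_card] at *
      omega
  haveI : IsKleinFour (Multiplicative (ZMod 2) × Multiplicative (ZMod 2)) :=
    ⟨by simp [Nat.card_eq_fintype_card], by
      simp [Monoid.exponent_prod, Monoid.exponent_multiplicative, ZMod.exponent]⟩
  exact IsKleinFour.nonempty_mulEquiv

/-- The main configuration: `H/(Z O)` is `S₄`. -/
theorem octahedral (D : Data H) (hQc : ∀ a ∈ D.f.ker, ∀ b ∈ D.f.ker, a * b = b * a)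
    (hQe : ∀ a ∈ D.f.ker, a * a = 1)
    (Z : Subgroup H) (hZ : ∀ z ∈ Z, ∀ g : H, g * z = z * g) (hZQ : Z ≤ D.f.ker)
    (hcard : Nat.card D.f.ker = 4 * Nat.card Z)
    (hts : ∃ a ∈ D.f.ker, D.t * a * D.t⁻¹ * a⁻¹ ∉ Z)
    (D1 : Subgroup H) (hD1 : D1 ≤ D.f.ker) (hD1P : D.P ≤ normalizer (D1 : Set H)) (hD1n : ¬ D1.Normal) :
    ∃ (O : Subgroup H) (g : H →* Equiv.Perm (Fin 4)), Cfsg.pPrimeCore 2 H = O ∧
      Function.Surjective g ∧ g.ker = Z ⊔ O ∧ Odd (Nat.card O) := by
  classical
  obtain ⟨O, hOn, hO, hOodd, hOle, hcC, hdec⟩ := exists_odd_part D hQc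
  haveI := hOn
  haveI hZn : Z.Normal := ⟨fun z hz g => by rw [hZ z hz g]; simpa using hz⟩
  obtain ⟨C, hC⟩ : ∃ C, D.R ⊓ centralizer (D.f.ker : Set H) = C := ⟨_, rfl⟩
  rw [hC] at hcC hOle hdec
  haveI : D.R.Normal := Subgroup.normal_of_index_eq_two D.index_R
  haveI hCn : C.Normal := hC ▸ inferInstance
  have hQC : D.f.ker ≤ C := hC ▸ le_inf
    (fun x hx => D.mem_R.2 ⟨0, by rw [MonoidHom.mem_ker.1 hx, DihedralGroup.one_def]⟩)
    (fun x hx => Subgroup.mem_centralizer_iff.2 fun y hy => hQc y hy x hx)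
  -- the elements acting trivially modulo `Z`
  let K1 : Subgroup H :=
    { carrier := {x | ∀ q ∈ D.f.ker, x * q * x⁻¹ * q⁻¹ ∈ Z}
      one_mem' := fun q _ => by simp
      mul_mem' := fun {x y} hx hy q hq => by
        have h1 := hy q hq
        have hq' : y * q * y⁻¹ ∈ D.f.ker := (MonoidHom.normal_ker _).conj_mem _ hq y
        have h2 := hx _ hq'
        have := Z.mul_mem h2 h1
        simpa [mul_assoc] using this
      inv_mem' := fun {x} hx q hq => by
        have hq' : x⁻¹ * q * x ∈ D.f.ker := by simpa using (MonoidHom.normal_ker D.f).conj_mem _ hq x⁻¹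
        have := Z.inv_mem (hx _ hq')
        have heq : (x * (x⁻¹ * q * x) * x⁻¹ * (x⁻¹ * q * x)⁻¹)⁻¹ = x⁻¹ * q * x⁻¹⁻¹ * q⁻¹ := by
          simp [mul_assoc]
        rwa [heq] at this }
  have hK1mem : ∀ x, x ∈ K1 ↔ ∀ q ∈ D.f.ker, x * q * x⁻¹ * q⁻¹ ∈ Z := fun x => Iff.rfl
  haveI hK1n : K1.Normal := ⟨fun x hx g q hq => by
    have hq' : g⁻¹ * q * g ∈ D.f.ker := by simpa using (MonoidHom.normal_ker D.f).conj_mem _ hq g⁻¹
    have := hZn.conj_mem _ ((hK1mem x).1 hx _ hq') g
    simpa [mul_assoc] using this⟩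
  have hCK1 : C ≤ K1 := fun x hx q hq => by
    rw [← hC] at hx
    have := Subgroup.mem_centralizer_iff.1 hx.2 q hq
    rw [← this]; simp
  have htK1 : D.t ∉ K1 := fun h => by obtain ⟨a, ha, ha'⟩ := hts; exact ha' (h a ha)
  have hK1R : K1 ≤ D.R := D.le_R (hQC.trans hCK1) htK1
  have hK1C : K1 ≤ C := by
    intro x hx
    rw [← hC]
    refine ⟨hK1R hx, Subgroup.mem_centralizer_iff.2 fun q hq => ?_⟩
    obtain ⟨z, hzdef⟩ : ∃ z, x * q * x⁻¹ * q⁻¹ = z := ⟨_, rfl⟩
    have hzZ : z ∈ Z := hzdef ▸ hx q hq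
    have hxq : x * q * x⁻¹ = z * q := by rw [← hzdef]; group
    have hz2 : z * z = 1 := hQe z (hZQ hzZ)
    have h2 : Commute (x ^ 2) q := by
      have : x ^ 2 * q * (x ^ 2)⁻¹ = q := by
        calc x ^ 2 * q * (x ^ 2)⁻¹ = x * (x * q * x⁻¹) * x⁻¹ := by
              simp only [pow_two, mul_inv_rev, mul_assoc]
          _ = x * z * q * x⁻¹ := by rw [hxq]; group
          _ = z * (x * q * x⁻¹) := by rw [hZ z hzZ x]; group
          _ = q := by rw [hxq, ← mul_assoc, hz2, one_mul]
      exact mul_inv_eq_iff_eq_mul.1 this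
    haveI : NeZero D.n := ⟨by have := D.hn3; omega⟩
    obtain ⟨i, hi⟩ := D.mem_R.1 (hK1R hx)
    have hker : x ^ D.n ∈ D.f.ker := by
      rw [MonoidHom.mem_ker, map_pow, hi, DihedralGroup.r_pow, ZMod.natCast_self, mul_zero, DihedralGroup.one_def]
    have hn' : Commute (x ^ D.n) q := hQc _ hker q hq
    obtain ⟨m, hm⟩ := D.hn
    rw [hm, pow_succ, pow_mul] at hn'
    have := ((h2.pow_left m).inv_left).mul_left hn'
    rw [inv_mul_cancel_left] at this
    exact this.eq.symm
  have hk : D.k ∉ C := by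
    intro hkC
    refine hD1n (Subgroup.normalizer_eq_top_iff.1 (D.generate hD1P ?_))
    rw [← hC] at hkC
    refine Subgroup.mem_normalizer_iff.2 fun v => ?_
    constructor
    · intro hv
      rw [← Subgroup.mem_centralizer_iff.1 hkC.2 v (hD1 hv)]; simpa using hv
    · intro hv
      have hc := Subgroup.mem_centralizer_iff.1 hkC.2 _ (hD1 hv)
      have : D.k * v * D.k⁻¹ = v := by
        have h' : D.k * v * D.k⁻¹ * D.k = D.k * (D.k * v * D.k⁻¹) := hc
        rw [inv_mul_cancel_right] at h'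
        exact (mul_left_cancel h').symm
      rwa [this] at hv
  -- the permutation group on the cosets of `Z`
  haveI : (Z.subgroupOf D.f.ker).Normal := inferInstance
  have hQ4 : Nat.card (D.f.ker ⧸ Z.subgroupOf D.f.ker) = 4 := by
    have h := Subgroup.card_eq_card_quotient_mul_card_subgroup (Z.subgroupOf D.f.ker)
    rw [Nat.card_congr (Subgroup.subgroupOfEquivOfLe hZQ).toEquiv, hcard] at h
    exact (Nat.eq_of_mul_eq_mul_right Nat.card_pos h).symm
  have hk3 : D.k ^ 3 ∈ C := by
    refine hK1C ?_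
    haveI : Fintype (D.f.ker ⧸ Z.subgroupOf D.f.ker) := Fintype.ofFinite _
    let α : MulAut (D.f.ker ⧸ Z.subgroupOf D.f.ker) :=
      QuotientGroup.congr _ _ (MulAut.conjNormal D.k) (by
        ext w
        constructor
        · rintro ⟨v, hv, rfl⟩
          rw [Subgroup.mem_subgroupOf]
          show D.k * (v : H) * D.k⁻¹ ∈ Z
          exact hZn.conj_mem _ hv D.k
        · intro hw
          refine ⟨(MulAut.conjNormal D.k).symm w, ?_, (MulAut.conjNormal D.k).apply_symm_apply w⟩
          rw [SetLike.mem_coe, Subgroup.mem_subgroupOf, MulAut.conjNormal_symm_apply]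
          simpa using hZn.conj_mem _ hw D.k⁻¹)
    have hα : ∀ (m : ℕ) (w : D.f.ker), (α ^ m) (QuotientGroup.mk w) =
        QuotientGroup.mk (MulAut.conjNormal (D.k ^ m) w) := by
      intro m
      induction m with
      | zero => intro w; simp
      | succ m ih =>
        intro w
        rw [pow_succ', MulAut.mul_apply, ih, pow_succ', map_mul, MulAut.mul_apply]
        rfl
    let β : Equiv.Perm {w : D.f.ker ⧸ Z.subgroupOf D.f.ker // w ≠ 1} :=
      (α.toEquiv).subtypeEquiv fun w => by simp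
    have h3 : Fintype.card {w : D.f.ker ⧸ Z.subgroupOf D.f.ker // w ≠ 1} = 3 := by
      rw [Fintype.card_subtype_compl, Fintype.card_subtype_eq, ← Nat.card_eq_fintype_card, hQ4]
    have hβ : β ^ 6 = 1 := by
      have := pow_card_eq_one (x := β)
      rwa [Fintype.card_perm, h3] at this
    have hβpow : ∀ (m : ℕ) (w : {w : D.f.ker ⧸ Z.subgroupOf D.f.ker // w ≠ 1}),
        (((β ^ m) w : {w : D.f.ker ⧸ Z.subgroupOf D.f.ker // w ≠ 1}) : D.f.ker ⧸ Z.subgroupOf D.f.ker) = (α ^ m) w := by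
      intro m
      induction m with
      | zero => intro w; rfl
      | succ m ih =>
        intro w
        rw [pow_succ', Equiv.Perm.mul_apply, pow_succ', MulAut.mul_apply, ← ih]
        rfl
    have hα6 : α ^ 6 = 1 := by
      ext w
      by_cases hw : w = 1
      · rw [hw, map_one, map_one]
      · have := hβpow 6 ⟨w, hw⟩
        rw [hβ] at this
        exact this.symm
    have hk6 : D.k ^ 6 ∈ K1 := by
      intro q hq
      have h := hα 6 ⟨q, hq⟩
      rw [hα6, MulAut.one_apply, eq_comm, QuotientGroup.eq, Subgroup.mem_subgroupOf, Subgroup.coe_mul,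
        Subgroup.coe_inv, MulAut.conjNormal_apply] at h
      have hc : ∀ a b : H, a⁻¹ * b ∈ Z → a * b⁻¹ ∈ Z := fun a b h => by
        have := hZn.conj_mem _ (Z.inv_mem h) a
        simpa [mul_assoc] using this
      apply hc
      exact h
    -- `k` has odd order modulo `C`
    have hkn : D.k ^ D.n ∈ K1 := hCK1 (hQC (by
      rw [MonoidHom.mem_ker, map_pow, D.hk, DihedralGroup.r_one_pow_n]))
    obtain ⟨m, hm⟩ := D.hn
    have h6 : (D.k ^ 3) ^ 2 ∈ K1 := by rw [← pow_mul]; exact hk6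
    have hn3' : (D.k ^ 3) ^ D.n ∈ K1 := by
      rw [← pow_mul, mul_comm, pow_mul]; exact K1.pow_mem hkn 3
    rw [hm, pow_succ, pow_mul] at hn3'
    have := K1.mul_mem (K1.inv_mem (K1.pow_mem h6 m)) hn3'
    rwa [inv_mul_cancel_left] at this
  -- orders
  have hidxC : C.index = 6 := by
    have hle : C ≤ D.R := hC ▸ inf_le_left
    have h := Subgroup.relIndex_mul_index hle
    rw [D.index_R] at h
    have h3 : C.relIndex D.R = 3 := by
      let g : D.R →* H ⧸ C := (QuotientGroup.mk' C).comp D.R.subtype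
      have hrange : g.range = zpowers (QuotientGroup.mk D.k) := by
        refine le_antisymm ?_ (Subgroup.zpowers_le.2 ⟨⟨D.k, D.mem_R.2 ⟨1, D.hk⟩⟩, rfl⟩)
        rintro _ ⟨⟨x, m, hm⟩, rfl⟩
        refine ⟨m, ?_⟩
        show (QuotientGroup.mk D.k : H ⧸ C) ^ m = QuotientGroup.mk x
        rw [← QuotientGroup.mk_zpow, QuotientGroup.eq]
        refine hQC ?_
        rw [MonoidHom.mem_ker, map_mul, map_inv, map_zpow, D.hk, ← hm]
        exact inv_mul_cancel _
      have hker : g.ker = C.subgroupOf D.R := by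
        ext x
        rw [MonoidHom.mem_ker, Subgroup.mem_subgroupOf]
        exact QuotientGroup.eq_one_iff _
      rw [Subgroup.relIndex, ← hker, Subgroup.index_ker, hrange, Nat.card_zpowers]
      refine orderOf_eq_prime (p := 3) ?_ ?_
      · rw [← QuotientGroup.mk_pow]; exact (QuotientGroup.eq_one_iff _).2 hk3
      · exact fun h => hk ((QuotientGroup.eq_one_iff _).1 h)
    rw [h3] at h
    omega
  haveI : (Z ⊔ O).Normal := inferInstance
  have hZO : Nat.card ↥(Z ⊔ O) = Nat.card Z * Nat.card O := by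
    have hdisj : O.relIndex Z = Nat.card Z := by
      rw [← Subgroup.inf_relIndex_right, show O ⊓ Z = ⊥ from ?_, Subgroup.relIndex_bot_left]
      rw [Subgroup.eq_bot_iff_forall]
      rintro x ⟨hxO, hxZ⟩
      have h1 := hOodd.of_dvd_nat (Subgroup.orderOf_dvd_natCard _ hxO)
      have h2 : orderOf x ∣ 2 := orderOf_dvd_of_pow_eq_one (by rw [pow_two]; exact hQe x (hZQ hxZ))
      have := Nat.le_of_dvd (by norm_num) h2
      rw [Nat.odd_iff] at h1
      exact orderOf_eq_one_iff.1 (by omega)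
    have h := Subgroup.relIndex_mul_relIndex ⊥ O (Z ⊔ O) bot_le le_sup_right
    rw [Subgroup.relIndex_bot_left, Subgroup.relIndex_bot_left, Subgroup.relIndex_sup_right, hdisj] at h
    rw [← h, mul_comm]
  have hQO : ∀ x ∈ D.f.ker, x ∈ Z ⊔ O → x ∈ Z := by
    intro x hx hx'
    obtain ⟨z, hz, o, ho, rfl⟩ := Subgroup.mem_sup_of_normal_right.1 hx'
    have ho2 : o * o = 1 := hQe o (by simpa using (D.f.ker).mul_mem (D.f.ker.inv_mem (hZQ hz)) hx)
    have h1 := hOodd.of_dvd_nat (Subgroup.orderOf_dvd_natCard _ ho)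
    have h2 : orderOf o ∣ 2 := orderOf_dvd_of_pow_eq_one (by rw [pow_two]; exact ho2)
    have h3 : orderOf o = 1 := by
      have := Nat.le_of_dvd (by norm_num) h2
      rw [Nat.odd_iff] at h1
      omega
    rw [orderOf_eq_one_iff.1 h3, mul_one]
    exact hz
  let W : Subgroup (H ⧸ (Z ⊔ O)) := D.f.ker.map (QuotientGroup.mk' (Z ⊔ O))
  haveI : W.Normal := (MonoidHom.normal_ker D.f).map _ (QuotientGroup.mk'_surjective _)
  have hW : Nat.card W = 4 := by
    let g : D.f.ker →* H ⧸ (Z ⊔ O) := (QuotientGroup.mk' (Z ⊔ O)).comp D.f.ker.subtype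
    have hker : g.ker = Z.subgroupOf D.f.ker := by
      ext x
      rw [MonoidHom.mem_ker, Subgroup.mem_subgroupOf]
      exact (QuotientGroup.eq_one_iff _).trans ⟨hQO x x.2, fun h => Subgroup.mem_sup_left h⟩
    have hr : g.range = W := by
      rw [MonoidHom.range_comp, Subgroup.range_subtype]
    rw [← hr, ← Subgroup.index_ker g, hker, Subgroup.index_eq_card, hQ4]
  have h24 : Nat.card (H ⧸ (Z ⊔ O)) = 24 := by
    have h := Subgroup.card_eq_card_quotient_mul_card_subgroup (Z ⊔ O)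
    have h' := C.card_mul_index
    rw [hidxC, hcC, hcard] at h'
    rw [hZO, ← h'] at h
    have hpos : 0 < Nat.card Z * Nat.card O := Nat.mul_pos Nat.card_pos Nat.card_pos
    refine (Nat.eq_of_mul_eq_mul_right hpos ?_).symm
    rw [← h]; ring
  have hCW : centralizer (W : Set (H ⧸ (Z ⊔ O))) ≤ W := by
    intro v hv
    obtain ⟨x, rfl⟩ := QuotientGroup.mk'_surjective (Z ⊔ O) v
    have hx : x ∈ C := hK1C fun q hq => by
      have hq' := Subgroup.mem_centralizer_iff.1 hv _ ⟨q, hq, rfl⟩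
      have hone : (QuotientGroup.mk' (Z ⊔ O)) (x * q * x⁻¹ * q⁻¹) = 1 := by
        rw [map_mul, map_mul, map_mul, map_inv, map_inv, ← hq']; group
      exact hQO _ (D.f.ker.mul_mem ((MonoidHom.normal_ker _).conj_mem _ hq x) (D.f.ker.inv_mem hq))
        ((QuotientGroup.eq_one_iff _).1 hone)
    obtain ⟨q, hq, o, ho, rfl⟩ := hdec x hx
    refine ⟨q, hq, ?_⟩
    rw [map_mul, show (QuotientGroup.mk' (Z ⊔ O)) o = 1 from
      (QuotientGroup.eq_one_iff _).2 (Subgroup.mem_sup_right ho), mul_one]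
  obtain ⟨e⟩ := equiv_perm_four h24 W hW hCW
  refine ⟨O, e.toMonoidHom.comp (QuotientGroup.mk' (Z ⊔ O)), hO,
    e.surjective.comp (QuotientGroup.mk'_surjective _), ?_, hOodd⟩
  ext x
  rw [MonoidHom.mem_ker, MonoidHom.comp_apply, MulEquiv.coe_toMonoidHom, e.map_eq_one_iff]
  exact QuotientGroup.eq_one_iff _

end FgsC.DihPair
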