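import Cfsg.Agent.Lib.FgsC.PrimeClassSizes
import Cfsg.Agent.Lib.CNGroups.Structure

/-!
A disconnected class-size prime graph: the central quotient is a Frobenius group with abelian
kernel and abelian complement.

The kernel is the abelian subgroup `B` generated by the centre and the elements whose class sizes
lie on the side without the largest class; an element outside `B` acts without fixed points on it.
-/

set_option autoImplicit false
set_option linter.style.haveILetI false
set_option linter.unusedSectionVars false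

namespace CfsgLib.FgsC.DiscGraph

open CfsgLib.FgsC.PrimeClasses
open scoped Pointwise

variable {G : Type*} [Group G] [Finite G]

theorem mem_cent {u v : G} : u ∈ Subgroup.centralizer ({v} : Set G) ↔ u * v = v * u :=
  Subgroup.mem_centralizer_singleton_iff

theorem relIndex_ne_zero' (H K : Subgroup G) : H.relIndex K ≠ 0 :=
  Subgroup.index_ne_zero_of_finite

theorem index_sup_eq_one {H K : Subgroup G} (h : H.index.Coprime K.index) : H ⊔ K = ⊤ :=
  Subgroup.index_eq_one.1 (Nat.eq_one_of_dvd_coprimes h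
    (Subgroup.index_dvd_of_le le_sup_left) (Subgroup.index_dvd_of_le le_sup_right))

theorem exists_mul_of_coprime {H K : Subgroup G} (h : H.index.Coprime K.index) (g : G) :
    ∃ a ∈ H, ∃ b ∈ K, a * b = g := by
  have hsub : ((fun p : G × G => p.1 * p.2) '' ((H : Set G) ×ˢ (K : Set G))) = Set.univ := by
    have hdvd : H.index * K.index ∣ (H ⊓ K).index :=
      h.mul_dvd_of_dvd_of_dvd (Subgroup.index_dvd_of_le inf_le_left)
        (Subgroup.index_dvd_of_le inf_le_right)
    have hidx : (H ⊓ K).index = H.index * K.index :=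
      le_antisymm Subgroup.index_inf_le
        (Nat.le_of_dvd (Nat.pos_of_ne_zero Subgroup.index_ne_zero_of_finite) hdvd)
    have hrel : (H ⊓ K).relIndex K = H.index := by
      have e := Subgroup.relIndex_mul_index (inf_le_right : H ⊓ K ≤ K)
      rw [hidx] at e
      exact Nat.eq_of_mul_eq_mul_right (Nat.pos_of_ne_zero Subgroup.index_ne_zero_of_finite) e
    -- the orbit of the trivial coset under `K` is everything
    have hsurj : Function.Surjective (fun b : K ⧸ (H ⊓ K).subgroupOf K =>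
        Quotient.liftOn' b (fun k : K => ((k : G) : G ⧸ H)) (fun a b hab => by
          rw [QuotientGroup.leftRel_apply, Subgroup.mem_subgroupOf] at hab
          exact QuotientGroup.eq.2 (by simpa using hab.1))) := by
      refine ((Nat.bijective_iff_injective_and_card _).2 ⟨?_, ?_⟩).2
      · intro a b
        induction a using QuotientGroup.induction_on with | _ a => ?_
        induction b using QuotientGroup.induction_on with | _ b => ?_
        intro hab
        refine QuotientGroup.eq.2 ?_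
        rw [Subgroup.mem_subgroupOf]
        exact ⟨by simpa using QuotientGroup.eq.1 hab, ((a⁻¹ * b : K)).2⟩
      · exact hrel
    refine Set.eq_univ_of_forall fun g => ?_
    obtain ⟨b, hb⟩ := hsurj (g⁻¹ : G)
    induction b using QuotientGroup.induction_on with
    | _ b =>
      have h' : ((b : G))⁻¹ * g⁻¹ ∈ H := QuotientGroup.eq.1 hb
      exact ⟨(g * (b : G), (b : G)⁻¹), ⟨by simpa [mul_inv_rev] using H.inv_mem h', K.inv_mem b.2⟩,
        by simp⟩
  obtain ⟨⟨a, b⟩, ⟨ha, hb⟩, e⟩ : g ∈ (fun p : G × G => p.1 * p.2) '' ((H : Set G) ×ˢ (K : Set G)) := by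
    rw [hsub]; trivial
  exact ⟨a, ha, b, hb, e⟩

/-- Classes of coprime sizes `m > n`, no size mixing the two. -/
theorem cls_mul_coprime {m n : ℕ} (hmn : n < m) (hn1 : n ≠ 1) (hcop : m.Coprime n)
    {x y : G} (hx : sz x = m) (hy : sz y = n)
    (hpure : sz (x * y) ∣ m ∨ sz (x * y) ∣ n) :
    ∀ z ∈ cls x, ∀ y' ∈ cls y, z * (y' * y⁻¹) ∈ cls x := by
  set Cx := Subgroup.centralizer ({x} : Set G)
  set Cy := Subgroup.centralizer ({y} : Set G)
  set Cw := Subgroup.centralizer ({x * y} : Set G)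
  have hpos : ∀ z : G, 0 < sz z := fun z => Nat.pos_of_ne_zero Subgroup.index_ne_zero_of_finite
  have hn2 : 2 ≤ n := by have := hpos y; omega
  have hD : (Cx ⊓ Cy).index = m * n := by
    refine le_antisymm ?_ ?_
    · rw [← hx, ← hy]; exact Subgroup.index_inf_le
    · refine Nat.le_of_dvd (Nat.pos_of_ne_zero Subgroup.index_ne_zero_of_finite) ?_
      exact hcop.mul_dvd_of_dvd_of_dvd (hx ▸ Subgroup.index_dvd_of_le inf_le_left)
        (hy ▸ Subgroup.index_dvd_of_le inf_le_right)
  have h1 : Cw ⊓ Cy ≤ Cx ⊓ Cy := fun u ⟨hu, hu'⟩ => by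
    refine ⟨mem_cent.2 ?_, hu'⟩
    have e1 := mem_cent.1 hu
    have e2 := mem_cent.1 hu'
    calc u * x = u * (x * y) * y⁻¹ := by group
      _ = x * y * u * y⁻¹ := by rw [e1]
      _ = x * (u * y) * y⁻¹ := by rw [e2]; group
      _ = x * u := by group
  have hw : sz (x * y) = m := by
    have hb2 : m * n ≤ sz (x * y) * n := by
      rw [← hD]
      exact (Nat.le_of_dvd (Nat.pos_of_ne_zero Subgroup.index_ne_zero_of_finite)
        (Subgroup.index_dvd_of_le h1)).trans ((Subgroup.index_inf_le).trans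
          (Nat.mul_le_mul le_rfl (le_of_eq hy)))
    have hb3 : m ≤ sz (x * y) := Nat.le_of_mul_le_mul_right hb2 (by omega)
    rcases hpure with e | e
    · exact le_antisymm (Nat.le_of_dvd (by omega) e) hb3
    · exact absurd (hb3.trans (Nat.le_of_dvd (by omega) e)) (not_le.2 hmn)
  set S := {z | ∃ a ∈ Cy, a * x * a⁻¹ = z}
  have hScard : S.ncard = m := by
    rw [ncard_conj_by]
    have e := Subgroup.relIndex_mul_index (inf_le_right : Cx ⊓ Cy ≤ Cy)
    rw [hD, Subgroup.inf_relIndex_right, show Cy.index = n from hy] at e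
    exact Nat.eq_of_mul_eq_mul_right (by omega) e
  have hS : S = cls x := by
    refine Set.eq_of_subset_of_ncard_le (fun z ⟨a, _, e⟩ => ⟨a, e⟩) ?_
    rw [hScard, ncard_cls, hx]
  have hW : (fun z => z * y) '' S = cls (x * y) := by
    refine Set.eq_of_subset_of_ncard_le ?_ ?_
    · rintro _ ⟨_, ⟨a, ha, rfl⟩, rfl⟩
      refine ⟨a, ?_⟩
      calc a * (x * y) * a⁻¹ = a * x * a⁻¹ * (a * y) * a⁻¹ := by group
        _ = a * x * a⁻¹ * y := by rw [mem_cent.1 ha]; group
    · rw [Set.ncard_image_of_injective _ (mul_left_injective y), hScard, ncard_cls, hw]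
  rintro _ ⟨g, rfl⟩ _ ⟨h, rfl⟩
  obtain ⟨a, ha, e⟩ : (g⁻¹ * h)⁻¹ * x * (g⁻¹ * h) ∈ S := by
    rw [hS]; exact ⟨(g⁻¹ * h)⁻¹, by group⟩
  have hk : g⁻¹ * h * a ∈ Cx := mem_cent.2 (by
    calc g⁻¹ * h * a * x = g⁻¹ * h * (a * x * a⁻¹) * a := by group
      _ = x * (g⁻¹ * h * a) := by rw [e]; group)
  have hWm : g * x * g⁻¹ * (h * y * h⁻¹) ∈ cls (x * y) := by
    refine ⟨g * (g⁻¹ * h * a), ?_⟩
    calc g * (g⁻¹ * h * a) * (x * y) * (g * (g⁻¹ * h * a))⁻¹
        = g * (g⁻¹ * h * a * x) * y * (g⁻¹ * h * a)⁻¹ * g⁻¹ := by group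
      _ = g * x * g⁻¹ * (h * (a * y) * a⁻¹ * h⁻¹) := by rw [mem_cent.1 hk]; group
      _ = g * x * g⁻¹ * (h * y * h⁻¹) := by rw [mem_cent.1 ha]; group
  rw [← hW] at hWm
  obtain ⟨s, hs, hse⟩ := hWm
  rw [← hS]
  have : g * x * g⁻¹ * (h * y * h⁻¹ * y⁻¹) = s := by
    rw [show g * x * g⁻¹ * (h * y * h⁻¹ * y⁻¹) = g * x * g⁻¹ * (h * y * h⁻¹) * y⁻¹ by group, ← hse]
    group
  rw [this]
  exact hs

/-- All prime divisors of `n` lie in `S`. -/
def InS (S : Set ℕ) (n : ℕ) : Prop := ∀ p : ℕ, p.Prime → p ∣ n → p ∈ S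

/-- No prime divisor of `n` lies in `S`. -/
def OutS (S : Set ℕ) (n : ℕ) : Prop := ∀ p : ℕ, p.Prime → p ∣ n → p ∉ S

theorem coprime_in_out {S : Set ℕ} {a b : ℕ} (ha : InS S a) (hb : OutS S b) : a.Coprime b :=
  Nat.coprime_of_dvd fun p hp h1 h2 => hb p hp h2 (ha p hp h1)

theorem InS.of_dvd {S : Set ℕ} {a b : ℕ} (h : InS S b) (hd : a ∣ b) : InS S a :=
  fun p hp hpd => h p hp (hpd.trans hd)

set_option maxHeartbeats 2000000 in
theorem structure_of_max (S : Set ℕ) (hdich : ∀ g : G, InS S (sz g) ∨ OutS S (sz g))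
    (x₀ : G) (hx₀ : InS S (sz x₀)) (hmax : ∀ g : G, sz g ≤ sz x₀) (hx₀1 : sz x₀ ≠ 1)
    (y₀ : G) (hy₀ : OutS S (sz y₀)) (hy₀1 : sz y₀ ≠ 1) :
    ∃ H : Subgroup (G ⧸ Subgroup.center G), Cfsg.IsFrobeniusComplement H ∧ IsMulCommutative H ∧
      ∀ x ∈ Cfsg.frobeniusKernel H, ∀ y ∈ Cfsg.frobeniusKernel H, x * y = y * x := by
  classical
  set Z := Subgroup.center G with hZdef
  have hpos : ∀ z : G, 0 < sz z := fun z => Nat.pos_of_ne_zero Subgroup.index_ne_zero_of_finite
  have hZiff : ∀ g : G, g ∈ Z ↔ sz g = 1 := fun g => (sz_eq_one_iff g).symm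
  have hone : ∀ {a : ℕ}, InS S a → OutS S a → a = 1 := fun {a} h1 h2 =>
    (Nat.coprime_self a).1 (coprime_in_out h1 h2)
  have hTA : ∀ {g : G}, ¬ OutS S (sz g) → InS S (sz g) := fun h => (hdich _).resolve_right h
  have hpure : ∀ {x y : G}, InS S (sz x) → OutS S (sz y) → ∀ w : G,
      (sz w ∣ sz x * sz y) → sz w ∣ sz x ∨ sz w ∣ sz y := by
    intro x y hx hy w hd
    rcases hdich w with h | h
    · exact Or.inl ((coprime_in_out h hy).dvd_of_dvd_mul_right hd)
    · exact Or.inr ((coprime_in_out hx h).symm.dvd_of_dvd_mul_left hd)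
  have hprod : ∀ {x y : G}, InS S (sz x) → OutS S (sz y) →
      sz (x * y) ∣ sz x * sz y ∧ sz (y * x) ∣ sz x * sz y := by
    intro x y hx hy
    have hidx : (Subgroup.centralizer ({x} : Set G) ⊓ Subgroup.centralizer ({y} : Set G)).index =
        sz x * sz y := le_antisymm Subgroup.index_inf_le
      (Nat.le_of_dvd (Nat.pos_of_ne_zero Subgroup.index_ne_zero_of_finite)
        ((coprime_in_out hx hy).mul_dvd_of_dvd_of_dvd (Subgroup.index_dvd_of_le inf_le_left)
          (Subgroup.index_dvd_of_le inf_le_right)))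
    constructor <;> rw [← hidx] <;> refine Subgroup.index_dvd_of_le fun u hu => mem_cent.2 ?_
    · rw [← mul_assoc, mem_cent.1 hu.1, mul_assoc, mem_cent.1 hu.2, ← mul_assoc]
    · rw [← mul_assoc, mem_cent.1 hu.2, mul_assoc, mem_cent.1 hu.1, ← mul_assoc]
  -- the stabiliser of the largest class
  set K := stab x₀
  have hKS : InS S (Nat.card K) := hx₀.of_dvd (card_stab_dvd x₀)
  haveI hKn : K.Normal := ⟨fun t ht g z => by
    have hc : ∀ w, g⁻¹ * w * g ∈ cls x₀ ↔ w ∈ cls x₀ := fun w => by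
      constructor
      · rintro ⟨h, e⟩
        exact ⟨g * h, by
          calc g * h * x₀ * (g * h)⁻¹ = g * (h * x₀ * h⁻¹) * g⁻¹ := by group
            _ = w := by rw [e]; group⟩
      · rintro ⟨h, rfl⟩
        exact ⟨g⁻¹ * h, by group⟩
    rw [← hc (z * (g * t * g⁻¹)), ← hc z,
      show g⁻¹ * (z * (g * t * g⁻¹)) * g = g⁻¹ * z * g * t by group]
    exact ht _⟩
  set U : Set G := {y | sz y ≠ 1 ∧ OutS S (sz y)}
  have hlt0 : ∀ {y}, y ∈ U → sz y < sz x₀ := fun {y} hy => lt_of_le_of_ne (hmax y) fun e =>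
    hy.1 (hone (e ▸ hx₀) hy.2)
  have hKmem : ∀ {y}, y ∈ U → ∀ g, g * y * g⁻¹ * y⁻¹ ∈ K := fun {y} hy g =>
    mem_stab_of_maps fun z hz => cls_mul_coprime (hlt0 hy) hy.1 (coprime_in_out hx₀ hy.2) rfl rfl
      (hpure hx₀ hy.2 _ (hprod hx₀ hy.2).1) z hz _ ⟨g, rfl⟩
  -- `K` centralises `U`
  have hKC : ∀ {y}, y ∈ U → ∀ k ∈ K, k * y = y * k := by
    intro y hy k hk
    set C := Subgroup.centralizer ({y} : Set G)
    have hdvd : C.relIndex K ∣ Nat.card K := Subgroup.index_dvd_card _
    have hd2 : C.relIndex K ∣ C.index := by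
      have h1 := Subgroup.relIndex_sup_right C K
      have h2 : C.relIndex (C ⊔ K) * (C ⊔ K).index = C.index :=
        Subgroup.relIndex_mul_index le_sup_left
      have h3 : C.relIndex (C ⊔ K) = C.relIndex K := by
        have a1 := Subgroup.relIndex_mul_relIndex (C ⊓ K) C (C ⊔ K) inf_le_left le_sup_left
        have a2 := Subgroup.relIndex_mul_relIndex (C ⊓ K) K (C ⊔ K) inf_le_right le_sup_right
        rw [Subgroup.inf_relIndex_left] at a1
        rw [Subgroup.inf_relIndex_right, h1, ← a1, mul_comm (K.relIndex C)] at a2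
        exact (Nat.eq_of_mul_eq_mul_right (Nat.pos_of_ne_zero (relIndex_ne_zero' _ _))
          a2).symm
      rw [← h3]
      exact Dvd.intro _ h2
    exact mem_cent.1 ((Subgroup.relIndex_eq_one.1
      (Nat.eq_one_of_dvd_coprimes (coprime_in_out hKS hy.2) hdvd hd2)) hk)
  -- the abelian normal subgroup
  set A := (Subgroup.center K).map K.subtype
  have hAmem : ∀ {y}, y ∈ U → ∀ g, g * y * g⁻¹ * y⁻¹ ∈ A := fun {y} hy g => by
    refine ⟨⟨_, hKmem hy g⟩, Subgroup.mem_center_iff.2 fun k => Subtype.ext ?_, rfl⟩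
    show (k : G) * (g * y * g⁻¹ * y⁻¹) = g * y * g⁻¹ * y⁻¹ * k
    have e1 : (k : G) * y⁻¹ = y⁻¹ * k := ((show Commute (k : G) y from hKC hy k k.2).inv_right).eq
    have hy' : g * y * g⁻¹ ∈ U := by
      have : cls (g * y * g⁻¹) = cls y := by
        ext w
        exact ⟨fun ⟨h, e⟩ => ⟨h * g, by rw [← e]; group⟩, fun ⟨h, e⟩ => ⟨h * g⁻¹, by rw [← e]; group⟩⟩
      show sz _ ≠ 1 ∧ OutS S (sz _)
      rw [← ncard_cls, this, ncard_cls]
      exact hy
    calc (k : G) * (g * y * g⁻¹ * y⁻¹) = ((k : G) * (g * y * g⁻¹)) * y⁻¹ := by group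
      _ = g * y * g⁻¹ * ((k : G) * y⁻¹) := by rw [hKC hy' k k.2]; group
      _ = _ := by rw [e1]; group
  have hAc : ∀ a ∈ A, ∀ b ∈ A, a * b = b * a := by
    rintro _ ⟨a, ha, rfl⟩ _ ⟨b, hb, rfl⟩
    exact congrArg Subtype.val (Subgroup.mem_center_iff.1 hb a)
  haveI hAn : A.Normal := ⟨fun a ha g => by
    obtain ⟨⟨a, haK⟩, hac, rfl⟩ := ha
    refine ⟨⟨g * a * g⁻¹, hKn.conj_mem a haK g⟩, Subgroup.mem_center_iff.2 fun k => Subtype.ext ?_, rfl⟩
    have h := congrArg Subtype.val (Subgroup.mem_center_iff.1 hac ⟨g⁻¹ * k * g, by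
      simpa using hKn.conj_mem (k : G) k.2 g⁻¹⟩)
    change g⁻¹ * (k : G) * g * a = a * (g⁻¹ * (k : G) * g) at h
    show (k : G) * (g * a * g⁻¹) = g * a * g⁻¹ * k
    calc (k : G) * (g * a * g⁻¹) = g * (g⁻¹ * (k : G) * g * a) * g⁻¹ := by group
      _ = g * a * g⁻¹ * k := by rw [h]; group⟩
  have hAS : InS S (Nat.card A) := hKS.of_dvd (Subgroup.card_dvd_of_le (Subgroup.map_subtype_le _))
  -- averaging
  have havg : ∀ {y}, y ∈ U → ∃ z ∈ Z, ∃ a ∈ A, y = a * z := by
    intro y hy
    letI : CommGroup A :=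
      { (inferInstance : Group A) with mul_comm := fun a b => Subtype.ext (hAc a a.2 b b.2) }
    haveI : Fintype (cls y) := Fintype.ofFinite _
    let f : cls y → A := fun w => ⟨(w : G) * y⁻¹, by
      obtain ⟨g, hg⟩ := w.2
      rw [← hg]
      exact hAmem hy g⟩
    set P : A := ∏ w, f w with hP
    let cA : G → A →* A := fun g =>
      { toFun := fun a => ⟨g * a * g⁻¹, hAn.conj_mem a a.2 g⟩
        map_one' := Subtype.ext (by simp)
        map_mul' := fun a b => Subtype.ext (by simp [mul_assoc]) }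
    have hcard : Fintype.card (cls y) = sz y := by
      rw [← Nat.card_eq_fintype_card, Nat.card_coe_set_eq, ncard_cls]
    have hconj : ∀ g : G, cA g P * (⟨_, hAmem hy g⟩ : A) ^ sz y = P := by
      intro g
      let e : cls y ≃ cls y :=
        { toFun := fun w => ⟨g * w * g⁻¹, by
            obtain ⟨h, hh⟩ := w.2; exact ⟨g * h, by rw [← hh]; group⟩⟩
          invFun := fun w => ⟨g⁻¹ * w * g, by
            obtain ⟨h, hh⟩ := w.2; exact ⟨g⁻¹ * h, by rw [← hh]; group⟩⟩
          left_inv := fun w => Subtype.ext (by simp [mul_assoc])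
          right_inv := fun w => Subtype.ext (by simp [mul_assoc]) }
      rw [hP, map_prod, ← hcard, ← Finset.card_univ, ← Finset.prod_const, ← Finset.prod_mul_distrib]
      refine (Finset.prod_congr rfl fun w _ => Subtype.ext ?_).trans (e.prod_comp f)
      show g * ((w : G) * y⁻¹) * g⁻¹ * (g * y * g⁻¹ * y⁻¹) = g * (w : G) * g⁻¹ * y⁻¹
      group
    have hcop : (sz y).Coprime (Nat.card A) := (coprime_in_out hAS hy.2).symm
    set c : A := (powCoprime hcop.symm).symm P with hcdef
    have hcn : c ^ sz y = P := (powCoprime hcop.symm).apply_symm_apply P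
    refine ⟨(c : G) * y, ?_, (c : G)⁻¹, A.inv_mem c.2, by group⟩
    rw [hZdef, Subgroup.mem_center_iff]
    intro g
    have hc : cA g c * ⟨_, hAmem hy g⟩ = c := by
      refine (powCoprime hcop.symm).injective ?_
      show ((cA g c) * ⟨_, hAmem hy g⟩) ^ sz y = c ^ sz y
      rw [mul_pow, ← map_pow, hcn]
      exact hconj g
    have h3 : g * (c : G) * g⁻¹ * (g * y * g⁻¹ * y⁻¹) = (c : G) := congrArg Subtype.val hc
    calc g * ((c : G) * y) = g * (c : G) * g⁻¹ * (g * y * g⁻¹ * y⁻¹) * y * g := by group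
      _ = (c : G) * y * g := by rw [h3]
  -- every class of the first kind is larger than every class of the second kind
  have hbig : ∀ {x y : G}, sz x ≠ 1 → InS S (sz x) → y ∈ U → sz y < sz x := by
    intro x y hx1 hxS hy
    rcases lt_trichotomy (sz y) (sz x) with h | h | h
    · exact h
    · exact absurd (hone hxS (h ▸ hy.2)) hx1
    · exfalso
      refine hx1 ((sz_eq_one_iff x).2 (Subgroup.mem_center_iff.2 fun g => ?_))
      have ht : g * x * g⁻¹ * x⁻¹ ∈ stab y := mem_stab_of_maps fun z hz =>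
        cls_mul_coprime h hx1 (coprime_in_out hxS hy.2).symm rfl rfl
          ((hpure hxS hy.2 _ (hprod hxS hy.2).2).symm) z hz _ ⟨g, rfl⟩
      have hle : stab y ≤ K := fun t ht => by
        obtain ⟨h', hh'⟩ := (ht y).2 ⟨1, by group⟩
        have := hKn.conj_mem _ (hKmem hy h') y⁻¹
        rw [hh'] at this
        simpa [mul_assoc] using this
      have hbot : stab y = ⊥ := Subgroup.eq_bot_of_card_eq _ (hone
        (hKS.of_dvd (Subgroup.card_dvd_of_le hle))
        (fun p hp hd => hy.2 p hp (hd.trans (card_stab_dvd y))))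
      rw [hbot, Subgroup.mem_bot, mul_inv_eq_one, mul_inv_eq_iff_eq_mul] at ht
      exact ht
  have hstable : ∀ {x y : G}, sz x ≠ 1 → InS S (sz x) → y ∈ U → ∀ g, g * y * g⁻¹ * y⁻¹ ∈ stab x :=
    fun {x y} hx1 hxS hy g => mem_stab_of_maps fun z hz =>
      cls_mul_coprime (hbig hx1 hxS hy) hy.1 (coprime_in_out hxS hy.2) rfl rfl
        (hpure hxS hy.2 _ (hprod hxS hy.2).1) z hz _ ⟨g, rfl⟩
  set B := Subgroup.closure (U ∪ (Z : Set G)) with hBdef
  have hUB : ∀ {y}, y ∈ U → y ∈ B := fun hy => Subgroup.subset_closure (Or.inl hy)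
  have hZB : Z ≤ B := fun z hz => Subgroup.subset_closure (Or.inr hz)
  have hBAZ : B ≤ A ⊔ Z := (Subgroup.closure_le _).2 fun u hu => by
    rcases hu with hu | hu
    · obtain ⟨z, hz, a, ha, rfl⟩ := havg hu
      exact Subgroup.mul_mem_sup ha hz
    · exact Subgroup.mem_sup_right hu
  have hAZc : ∀ u ∈ A ⊔ Z, ∀ v ∈ A ⊔ Z, u * v = v * u := by
    intro u hu v hv
    obtain ⟨a, ha, z, hz, rfl⟩ := Subgroup.mem_sup_of_normal_left.1 hu
    obtain ⟨b, hb, w, hw, rfl⟩ := Subgroup.mem_sup_of_normal_left.1 hv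
    have e1 := Subgroup.mem_center_iff.1 hz
    have e2 := Subgroup.mem_center_iff.1 hw
    calc a * z * (b * w) = a * (z * b) * w := by group
      _ = a * b * (z * w) := by rw [← e1 b]; group
      _ = b * a * (w * z) := by rw [hAc a ha b hb, e2 z]
      _ = b * (a * w) * z := by group
      _ = b * w * (a * z) := by rw [e2 a]; group
  have hBc : ∀ u ∈ B, ∀ v ∈ B, u * v = v * u := fun u hu v hv => hAZc u (hBAZ hu) v (hBAZ hv)
  have hcls : ∀ g y : G, sz (g * y * g⁻¹) = sz y := fun g y => by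
    have : cls (g * y * g⁻¹) = cls y := by
      ext w
      exact ⟨fun ⟨h, e⟩ => ⟨h * g, by rw [← e]; group⟩, fun ⟨h, e⟩ => ⟨h * g⁻¹, by rw [← e]; group⟩⟩
    rw [← ncard_cls, this, ncard_cls]
  haveI hBn : B.Normal := by
    refine ⟨fun b hb g => ?_⟩
    have : B ≤ B.comap (MulAut.conj g).toMonoidHom := (Subgroup.closure_le _).2 fun u hu => by
      refine Subgroup.subset_closure ?_
      rcases hu with hu | hu
      · exact Or.inl ⟨fun e => hu.1 ((hcls g u).symm.trans e), (hcls g u).symm ▸ hu.2⟩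
      · exact Or.inr ((inferInstance : Z.Normal).conj_mem u hu g)
    exact this hb
  set L := Subgroup.centralizer (B : Set G) with hLdef
  have hBL : B ≤ L := fun b hb => Subgroup.mem_centralizer_iff.2 fun c hc => hBc c hc b hb
  haveI hLn : L.Normal := ⟨fun l hl g => Subgroup.mem_centralizer_iff.2 fun b hb => by
    have h := Subgroup.mem_centralizer_iff.1 hl (g⁻¹ * b * g) (by simpa using hBn.conj_mem b hb g⁻¹)
    calc b * (g * l * g⁻¹) = g * (g⁻¹ * b * g * l) * g⁻¹ := by group
      _ = g * l * g⁻¹ * b := by rw [h]; group⟩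
  -- `L` has index prime to `S`
  have hLout : OutS S L.index := by
    intro p hp hd hpS
    haveI := Fact.mk hp
    obtain ⟨P⟩ : Nonempty (Sylow p G) := inferInstance
    have hPL : (P : Subgroup G) ≤ L := by
      intro g hg
      refine Subgroup.mem_centralizer_iff.2 fun b hb => ?_
      have : B ≤ Subgroup.centralizer ({g} : Set G) := (Subgroup.closure_le _).2 fun u hu => by
        rcases hu with hu | hu
        swap
        · exact mem_cent.2 (Subgroup.mem_center_iff.1 hu g).symm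
        by_cases hg1 : sz g = 1
        · exact mem_cent.2 (Subgroup.mem_center_iff.1 ((hZiff g).2 hg1) u)
        by_cases hgO : OutS S (sz g)
        · exact mem_cent.2 (hBc u (hUB hu) g (hUB ⟨hg1, hgO⟩))
        · obtain ⟨h, hh⟩ := CfsgLib.FgsB.ClassPrimes.exists_conj_mem_centralizer P (x := u)
            (fun hd' => hu.2 p hp hd' hpS)
          have e0 : (h⁻¹ * u * h) * g = g * (h⁻¹ * u * h) :=
            (Subgroup.mem_centralizer_iff.1 hh g hg).symm
          obtain ⟨a, ha, b', hb', e⟩ := exists_mul_of_coprime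
            (H := Subgroup.centralizer ({g} : Set G)) (K := Subgroup.centralizer ({u} : Set G))
            (coprime_in_out (hTA hgO) hu.2) h⁻¹
          -- `h⁻¹ u h` is conjugate to `u` by an element centralising `g`
          have e1 : h⁻¹ * u * h = a * u * a⁻¹ := by
            calc h⁻¹ * u * h = a * b' * u * (a * b')⁻¹ := by rw [e]; group
              _ = a * (b' * u) * b'⁻¹ * a⁻¹ := by group
              _ = a * u * a⁻¹ := by rw [mem_cent.1 hb']; group
          rw [e1] at e0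
          refine mem_cent.2 ?_
          calc u * g = a⁻¹ * (a * u * a⁻¹ * (a * g)) := by group
            _ = a⁻¹ * (a * u * a⁻¹ * g) * a := by rw [mem_cent.1 ha]; group
            _ = a⁻¹ * g * a * u := by rw [e0]; group
            _ = a⁻¹ * (a * g) * u := by rw [mem_cent.1 ha]; group
            _ = g * u := by group
      exact mem_cent.1 (this hb)
    exact P.not_dvd_index (hd.trans (Subgroup.index_dvd_of_le hPL))
  have hBU : ∀ b ∈ B, b ∈ Z ∨ b ∈ U := by
    intro b hb
    by_cases h1 : sz b = 1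
    · exact Or.inl ((hZiff b).2 h1)
    refine Or.inr ⟨h1, fun p hp hd => hLout p hp (hd.trans (Subgroup.index_dvd_of_le fun l hl =>
      mem_cent.2 (Subgroup.mem_centralizer_iff.1 hl b hb).symm))⟩
  have hoff : ∀ g, g ∉ B → sz g ≠ 1 ∧ InS S (sz g) := fun g hg =>
    ⟨fun e => hg (hZB ((hZiff g).2 e)), hTA fun h => hg (hUB ⟨fun e => hg (hZB ((hZiff g).2 e)), h⟩)⟩
  have htopL : ∀ g, g ∉ B → ∀ h : G, ∃ a ∈ Subgroup.centralizer ({g} : Set G), ∃ l ∈ L, a * l = h :=
    fun g hg => exists_mul_of_coprime (coprime_in_out (hoff g hg).2 hLout)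
  -- `L = B`
  have hLB : L ≤ B := by
    by_contra hne
    have key : ∀ {q : ℕ} [Fact q.Prime], q ∉ S → ∀ Q : Sylow q G, ∀ {y}, y ∈ U → ∀ h,
        h * y * h⁻¹ * y⁻¹ ∈ Subgroup.centralizer ((Q : Subgroup G) : Set G) := by
      intro q _ hqS Q y hy h
      set CL := (Subgroup.centralizer ((Q : Subgroup G) : Set G) ⊓ L) ⊔ B
      have hCL : L ≤ CL := by
        have hcov : CL.subgroupOf L = ⊤ := by
          refine CfsgLib.FgsB.eq_top_of_forall_exists_conj_mem fun l => ?_
          by_cases hlB : (l : G) ∈ B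
          · exact ⟨1, by rw [Subgroup.mem_subgroupOf]; simpa using Subgroup.mem_sup_right hlB⟩
          set C := Subgroup.centralizer ({(l : G)} : Set G)
          set W := L ⊔ (Q : Subgroup G)
          have hCW : C.relIndex W = C.index := by
            refine le_antisymm ?_ ?_
            · rw [← Subgroup.relIndex_top_right C]
              exact Subgroup.relIndex_le_of_le_right le_top (by simpa using Subgroup.index_ne_zero_of_finite)
            · refine le_trans ?_ (Subgroup.relIndex_le_of_le_right (le_sup_left : L ≤ W)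
                (relIndex_ne_zero' _ _))
              have h1 := Subgroup.relIndex_sup_right C L
              have h3 : C.relIndex (C ⊔ L) = C.relIndex L := by
                have a1 := Subgroup.relIndex_mul_relIndex (C ⊓ L) C (C ⊔ L) inf_le_left le_sup_left
                have a2 := Subgroup.relIndex_mul_relIndex (C ⊓ L) L (C ⊔ L) inf_le_right le_sup_right
                rw [Subgroup.inf_relIndex_left] at a1
                rw [Subgroup.inf_relIndex_right, h1, ← a1, mul_comm (L.relIndex C)] at a2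
                exact (Nat.eq_of_mul_eq_mul_right
                  (Nat.pos_of_ne_zero (relIndex_ne_zero' _ _)) a2).symm
              rw [← h3, index_sup_eq_one (coprime_in_out (hoff _ hlB).2 hLout),
                Subgroup.relIndex_top_right]
          obtain ⟨T, hT⟩ : ∃ T : Sylow q (W : Subgroup G), (l : G) ∈
              Subgroup.centralizer (((T : Subgroup W).map W.subtype : Subgroup G) : Set G) := by
            obtain ⟨T, hT⟩ := CfsgLib.FgsB.ClassPrimes.exists_sylow_le_centralizer (p := q)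
              (G := W) (x := ⟨(l : G), Subgroup.mem_sup_left l.2⟩) (by
                have : (Subgroup.centralizer
                    ({(⟨(l : G), Subgroup.mem_sup_left l.2⟩ : W)} : Set W)) = C.subgroupOf W := by
                  ext w
                  simp [Subgroup.mem_subgroupOf, mem_cent, C, Subtype.ext_iff,
                    Subgroup.mem_centralizer_singleton_iff]
                rw [this]
                show ¬ q ∣ C.relIndex W
                rw [hCW]
                exact fun hd => hqS ((hoff _ hlB).2 q Fact.out hd))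
            refine ⟨T, Subgroup.mem_centralizer_iff.2 ?_⟩
            rintro _ ⟨t, ht, rfl⟩
            exact congrArg Subtype.val (Subgroup.mem_centralizer_iff.1 hT t ht)
          have hQW : (Q : Subgroup G) ≤ W := le_sup_right
          obtain ⟨w, hw⟩ := MulAction.exists_smul_eq W (Q.subtype hQW) T
          obtain ⟨l', hl', t, ht, e⟩ := Subgroup.mem_sup_of_normal_left.1 w.2
          -- `l` centralises `l' Q l'⁻¹`
          refine ⟨⟨l', hl'⟩, ?_⟩
          rw [Subgroup.mem_subgroupOf]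
          refine Subgroup.mem_sup_left ⟨Subgroup.mem_centralizer_iff.2 fun u hu => ?_,
            (L.mul_mem (L.mul_mem (L.inv_mem hl') l.2) hl')⟩
          have hu' : t⁻¹ * u * t ∈ (Q : Subgroup G) :=
            Q.1.mul_mem (Q.1.mul_mem (Q.1.inv_mem ht) hu) ht
          have hm : (w : G) * (t⁻¹ * u * t) * (w : G)⁻¹ ∈ (T : Subgroup W).map W.subtype := by
            refine ⟨w * ⟨_, hQW hu'⟩ * w⁻¹, ?_, rfl⟩
            rw [← hw]
            exact ⟨⟨_, hQW hu'⟩, hu', rfl⟩
          have h1 := Subgroup.mem_centralizer_iff.1 hT _ hm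
          rw [← e] at h1
          have h2 : l' * u * l'⁻¹ * (l : G) = (l : G) * (l' * u * l'⁻¹) := by
            rw [show l' * t * (t⁻¹ * u * t) * (l' * t)⁻¹ = l' * u * l'⁻¹ by group] at h1
            exact h1
          show u * (l'⁻¹ * (l : G) * l') = l'⁻¹ * (l : G) * l' * u
          calc u * (l'⁻¹ * (l : G) * l') = l'⁻¹ * (l' * u * l'⁻¹ * (l : G)) * l' := by group
            _ = _ := by rw [h2]; group
        exact fun l hl => by
          have : (⟨l, hl⟩ : L) ∈ CL.subgroupOf L := by rw [hcov]; trivial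
          exact this
      -- an element `g` outside `B` centralising `Q`
      obtain ⟨g, ⟨hgQ, hgL⟩, hgB⟩ : ∃ g, g ∈ Subgroup.centralizer ((Q : Subgroup G) : Set G) ⊓ L ∧
          g ∉ B := by
        by_contra hno
        push Not at hno
        exact hne (hCL.trans (sup_le hno le_rfl))
      obtain ⟨u, hu⟩ : g * (h * y * h⁻¹ * y⁻¹) ∈ cls g :=
        (hstable (hoff g hgB).1 (hoff g hgB).2 hy h g).2 ⟨1, by group⟩
      obtain ⟨a, ha, l, hl, e⟩ := htopL g hgB u⁻¹
      obtain ⟨c, ⟨hcQ, hcL⟩, b, hb, e'⟩ := Subgroup.mem_sup_of_normal_right.1 (hCL (L.inv_mem hl))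
      have hu2 : u * g * u⁻¹ = c * g * c⁻¹ := by
        calc u * g * u⁻¹ = (l⁻¹ * a⁻¹) * g * (a * l) := by rw [← mul_inv_rev, e]; group
          _ = l⁻¹ * a⁻¹ * (g * a) * l := by group
          _ = l⁻¹ * g * l := by rw [← mem_cent.1 ha]; group
          _ = c * (b * g) * b⁻¹ * c⁻¹ := by rw [show l = (l⁻¹)⁻¹ from (inv_inv l).symm, ← e']; group
          _ = c * g * c⁻¹ := by rw [Subgroup.mem_centralizer_iff.1 hgL b hb]; group
      have hmem := Subgroup.mul_mem _ (Subgroup.inv_mem _ hgQ)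
        (Subgroup.mul_mem _ (Subgroup.mul_mem _ hcQ hgQ) (Subgroup.inv_mem _ hcQ))
      rw [← hu2, hu] at hmem
      simpa using hmem
    refine hy₀1 ?_
    have hy : y₀ ∈ U := ⟨hy₀1, hy₀⟩
    -- the commutators are central
    have hcen : ∀ g, g * y₀ * g⁻¹ * y₀⁻¹ ∈ Z := fun g => by
      set t := g * y₀ * g⁻¹ * y₀⁻¹
      have htB : t ∈ B := B.mul_mem (hBn.conj_mem _ (hUB hy) g) (B.inv_mem (hUB hy))
      refine (hZiff t).2 ?_
      by_contra h1
      obtain ⟨q, hq, hqd⟩ := Nat.exists_prime_and_dvd h1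
      haveI := Fact.mk hq
      obtain ⟨Q⟩ : Nonempty (Sylow q G) := inferInstance
      refine Q.not_dvd_index (hqd.trans (Subgroup.index_dvd_of_le ?_))
      intro u hu
      by_cases hqS : q ∈ S
      · -- a Sylow subgroup for a prime of `S` lies in `L`
        have huL : u ∈ L := by
          rw [← QuotientGroup.eq_one_iff (N := L), ← orderOf_eq_one_iff]
          obtain ⟨k, hk⟩ := IsPGroup.iff_orderOf.1 Q.isPGroup' ⟨u, hu⟩
          rw [Subgroup.orderOf_mk] at hk
          have hd1 : orderOf (QuotientGroup.mk u : G ⧸ L) ∣ q ^ k :=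
            hk ▸ orderOf_map_dvd (QuotientGroup.mk' L) u
          have hd2 : orderOf (QuotientGroup.mk u : G ⧸ L) ∣ L.index := by
            rw [Subgroup.index_eq_card]; exact orderOf_dvd_natCard _
          refine Nat.eq_one_of_dvd_coprimes (Nat.Coprime.pow_left k
            (hq.coprime_iff_not_dvd.2 fun h => hLout q hq h hqS)) hd1 hd2
        exact mem_cent.2 (Subgroup.mem_centralizer_iff.1 huL t htB).symm
      · exact mem_cent.2 (Subgroup.mem_centralizer_iff.1 (key hqS Q hy g) u hu)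
    let ψ : G →* G := MonoidHom.mk' (fun g => g * y₀ * g⁻¹ * y₀⁻¹) fun g h => by
      have e := Subgroup.mem_center_iff.1 (hcen h) g
      calc g * h * y₀ * (g * h)⁻¹ * y₀⁻¹
          = g * (h * y₀ * h⁻¹ * y₀⁻¹) * (y₀ * g⁻¹ * y₀⁻¹) := by group
        _ = (h * y₀ * h⁻¹ * y₀⁻¹) * (g * y₀ * g⁻¹ * y₀⁻¹) := by rw [e]; group
        _ = _ := (Subgroup.mem_center_iff.1 (hcen h) _).symm
    have hker : ψ.ker = Subgroup.centralizer ({y₀} : Set G) := by
      ext g
      rw [MonoidHom.mem_ker, mem_cent]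
      show g * y₀ * g⁻¹ * y₀⁻¹ = 1 ↔ _
      rw [mul_inv_eq_one, mul_inv_eq_iff_eq_mul]
    refine hone (hKS.of_dvd ?_) hy₀
    rw [sz, ← hker, Subgroup.index_ker]
    exact Subgroup.card_dvd_of_le (by rintro _ ⟨g, rfl⟩; exact hKmem hy g)
  have hLeq : L = B := le_antisymm hLB hBL
  rw [hLeq] at hLout htopL
  -- an element outside `B` acts without fixed points
  have hfix : ∀ x, x ∉ B → ∀ b ∈ B, b * x = x * b → b ∈ Z := by
    intro x hx b hb hbx
    rcases hBU b hb with h | h
    · exact h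
    refine (hZiff b).2 ?_
    by_contra h1
    refine h1 ((sz_eq_one_iff b).2 (Subgroup.mem_center_iff.2 fun g => ?_))
    set t := g * b * g⁻¹ * b⁻¹ with ht
    have hKx : ∀ c ∈ B, c * x = x * c → ∀ g, g * c * g⁻¹ * x = x * (g * c * g⁻¹) := by
      intro c hc hcx g
      obtain ⟨a, ha, l, hl, e⟩ := htopL x hx g
      have e1 : g * c * g⁻¹ = a * c * a⁻¹ := by
        rw [← e, show a * l * c * (a * l)⁻¹ = a * (l * c * l⁻¹) * a⁻¹ by group, hBc l hl c hc,
          mul_inv_cancel_right]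
      have ha' := mem_cent.1 ha
      rw [e1]
      calc a * c * a⁻¹ * x = a * c * (a⁻¹ * x) := by group
        _ = a * (c * x) * a⁻¹ := by
          rw [((show Commute a x from ha').inv_left).eq]; group
        _ = (a * x) * c * a⁻¹ := by rw [hcx]; group
        _ = x * (a * c * a⁻¹) := by rw [ha']; group
    have htx : Commute t x :=
      (show Commute (g * b * g⁻¹) x from hKx b hb hbx g).mul_left (show Commute b x from hbx).inv_left
    have htB : t ∈ B := B.mul_mem (hBn.conj_mem b hb g) (B.inv_mem hb)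
    obtain ⟨u, hu⟩ : x * t ∈ cls x := (hstable (hoff x hx).1 (hoff x hx).2 h g x).2 ⟨1, by group⟩
    obtain ⟨a, ha, l, hl, e⟩ := htopL x hx u⁻¹
    have hu2 : u * x * u⁻¹ = l⁻¹ * x * l := by
      calc u * x * u⁻¹ = (l⁻¹ * a⁻¹) * x * (a * l) := by rw [← mul_inv_rev, e]; group
        _ = l⁻¹ * a⁻¹ * (x * a) * l := by group
        _ = l⁻¹ * x * l := by rw [← mem_cent.1 ha]; group
    rw [hu2] at hu
    have hxl : x⁻¹ * (l⁻¹ * x * l) = t := by rw [hu]; group
    have hpow : ∀ i : ℕ, x ^ i * l * (x ^ i)⁻¹ = t ^ i * l := by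
      intro i
      induction i with
      | zero => simp
      | succ i ih =>
        have e2 : x * l * x⁻¹ = t * l := by
          have e3 : x * t = t * x := htx.eq.symm
          have e4 : l * t = t * l := hBc l hl t htB
          calc x * l * x⁻¹ = l * (l⁻¹ * x * l) * x⁻¹ := by group
            _ = l * (x * t) * x⁻¹ := by rw [hu]
            _ = t * l := by rw [e3, ← e4]; group
        calc x ^ (i + 1) * l * (x ^ (i + 1))⁻¹ = x * (x ^ i * l * (x ^ i)⁻¹) * x⁻¹ := by
              rw [pow_succ']; group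
          _ = (x * t ^ i) * l * x⁻¹ := by rw [ih]; group
          _ = t ^ i * (x * l * x⁻¹) := by rw [(htx.pow_left i).eq.symm]; group
          _ = t ^ (i + 1) * l := by rw [e2, pow_succ]; group
    have h5 := hpow B.index
    have hxm : x ^ B.index ∈ B := Subgroup.pow_index_mem B x
    rw [hBc _ hxm l hl, mul_inv_cancel_right, right_eq_mul] at h5
    have hd1 : orderOf t ∣ B.index := orderOf_dvd_of_pow_eq_one h5
    have hd2 : orderOf t ∣ Nat.card K := by
      have : t ∈ K := hKmem h g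
      rw [← Subgroup.orderOf_mk t this]
      exact orderOf_dvd_natCard _
    have := orderOf_eq_one_iff.1 (Nat.eq_one_of_dvd_coprimes (coprime_in_out hKS hLout) hd2 hd1)
    rw [ht, mul_inv_eq_one, mul_inv_eq_iff_eq_mul] at this
    exact this
  -- a commutator with `B` fixed by `x` is trivial
  have hcommfix : ∀ x, x ∉ B → ∀ b ∈ B, x * b * x⁻¹ * b⁻¹ ∈ Z → b ∈ Z := by
    intro x hx b hb hz
    refine hfix x hx b hb ?_
    set t := x * b * x⁻¹ * b⁻¹ with ht
    have hc := Subgroup.mem_center_iff.1 hz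
    have e2 : x * b * x⁻¹ = t * b := by rw [ht]; group
    have hpow : ∀ i : ℕ, x ^ i * b * (x ^ i)⁻¹ = t ^ i * b := by
      intro i
      induction i with
      | zero => simp
      | succ i ih =>
        have e3 : x * t ^ i = t ^ i * x := ((show Commute x t from hc x).pow_right i).eq
        calc x ^ (i + 1) * b * (x ^ (i + 1))⁻¹ = x * (x ^ i * b * (x ^ i)⁻¹) * x⁻¹ := by
              rw [pow_succ']; group
          _ = (x * t ^ i) * b * x⁻¹ := by rw [ih]; group
          _ = t ^ i * (x * b * x⁻¹) := by rw [e3]; group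
          _ = t ^ (i + 1) * b := by rw [e2, pow_succ]; group
    have h5 := hpow B.index
    have hxm : x ^ B.index ∈ B := Subgroup.pow_index_mem B x
    rw [hBc _ hxm b hb, mul_inv_cancel_right, right_eq_mul] at h5
    have hd1 : orderOf t ∣ B.index := orderOf_dvd_of_pow_eq_one h5
    have hd2 : orderOf t ∣ Nat.card K := by
      rcases hBU b hb with h | h
      · rw [ht, Subgroup.mem_center_iff.1 h x, mul_inv_cancel_right, mul_inv_cancel, orderOf_one]
        exact one_dvd _
      · rw [← Subgroup.orderOf_mk t (hKmem h x)]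
        exact orderOf_dvd_natCard _
    have := orderOf_eq_one_iff.1 (Nat.eq_one_of_dvd_coprimes (coprime_in_out hKS hLout) hd2 hd1)
    rw [ht, mul_inv_eq_one, mul_inv_eq_iff_eq_mul] at this
    exact this.symm
  have hx₀B : x₀ ∉ B := fun h => by
    rcases hBU x₀ h with h' | h'
    · exact hx₀1 ((hZiff x₀).1 h')
    · exact h'.1 (hone hx₀ h'.2)
  have hquot : ∀ g h : G, g * h * g⁻¹ * h⁻¹ ∈ B := by
    intro g h
    by_cases hg : g ∈ B
    · have : g * (h * g⁻¹ * h⁻¹) ∈ B := B.mul_mem hg (hBn.conj_mem _ (B.inv_mem hg) h)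
      simpa [mul_assoc] using this
    obtain ⟨a, ha, l, hl, e⟩ := htopL g hg h
    have e1 : g * h * g⁻¹ * h⁻¹ = a * (g * l * g⁻¹ * l⁻¹) * a⁻¹ := by
      rw [← e]
      calc g * (a * l) * g⁻¹ * (a * l)⁻¹ = (g * a) * l * g⁻¹ * l⁻¹ * a⁻¹ := by group
        _ = _ := by rw [← mem_cent.1 ha]; group
    rw [e1]
    exact hBn.conj_mem _ (B.mul_mem (hBn.conj_mem l hl g) (B.inv_mem hl)) a
  set C₀ := Subgroup.centralizer ({x₀} : Set G)
  have hinf : ∀ u ∈ C₀, u ∈ B → u ∈ Z := fun u hu huB => hfix x₀ hx₀B u huB (mem_cent.1 hu)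
  have hC₀c : ∀ u ∈ C₀, ∀ v ∈ C₀, u * v = v * u := by
    intro u hu v hv
    by_cases huB : u ∈ B
    · exact (Subgroup.mem_center_iff.1 (hinf u hu huB) v).symm
    obtain ⟨a, ha, b, hb, e⟩ := htopL u huB v
    have hm : u * v * u⁻¹ * v⁻¹ ∈ Z := hinf _
      (C₀.mul_mem (C₀.mul_mem (C₀.mul_mem hu hv) (C₀.inv_mem hu)) (C₀.inv_mem hv)) (hquot u v)
    have e1 : a⁻¹ * (u * v * u⁻¹ * v⁻¹) * a = u * b * u⁻¹ * b⁻¹ := by
      rw [← e]
      calc a⁻¹ * (u * (a * b) * u⁻¹ * (a * b)⁻¹) * a = a⁻¹ * (u * a) * b * u⁻¹ * b⁻¹ := by group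
        _ = _ := by rw [← mem_cent.1 ha]; group
    have hbZ : b ∈ Z := hcommfix u huB b hb
      (e1 ▸ by simpa using (inferInstance : Z.Normal).conj_mem _ hm a⁻¹)
    rw [← e]
    calc u * (a * b) = (u * a) * b := by group
      _ = a * (u * b) := by rw [← mem_cent.1 ha]; group
      _ = a * b * u := by rw [Subgroup.mem_center_iff.1 hbZ u]; group
  -- pass to the quotient
  set π := QuotientGroup.mk' Z with hπ
  have hπs : Function.Surjective π := QuotientGroup.mk'_surjective Z
  have hlift : ∀ {H : Subgroup G}, Z ≤ H → ∀ {g}, π g ∈ H.map π → g ∈ H := by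
    intro H hH g hg
    obtain ⟨u, hu, e⟩ := hg
    have h1 : u⁻¹ * g ∈ Z := QuotientGroup.eq.1 e
    simpa using H.mul_mem hu (hH h1)
  have hZC : Z ≤ C₀ := fun z hz => mem_cent.2 (Subgroup.mem_center_iff.1 hz x₀).symm
  set N := B.map π
  set E := C₀.map π
  haveI : N.Normal := hBn.map π hπs
  have hc : Subgroup.IsComplement' N E := by
    refine Subgroup.isComplement'_of_disjoint_and_mul_eq_univ ?_ ?_
    · rw [Subgroup.disjoint_def]
      rintro _ ⟨b, hb, rfl⟩ hbE
      exact (QuotientGroup.eq_one_iff b).2 (hinf b (hlift hZC hbE) hb)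
    · refine Set.eq_univ_of_forall fun q => ?_
      obtain ⟨g, rfl⟩ := hπs q
      obtain ⟨a, ha, l, hl, e⟩ := htopL x₀ hx₀B g
      refine ⟨π (a * l * a⁻¹), ⟨_, hBn.conj_mem l hl a, rfl⟩, π a, ⟨a, ha, rfl⟩, ?_⟩
      show π (a * l * a⁻¹) * π a = π g
      rw [← map_mul, ← e]
      group
  have hNne : N ≠ ⊥ := fun e => hy₀1 ((hZiff y₀).1 ((QuotientGroup.eq_one_iff y₀).1
    (Subgroup.mem_bot.1 (e ▸ ⟨y₀, hUB ⟨hy₀1, hy₀⟩, rfl⟩ : π y₀ ∈ (⊥ : Subgroup _)))))
  have hEne : E ≠ ⊥ := fun e => hx₀1 ((hZiff x₀).1 ((QuotientGroup.eq_one_iff x₀).1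
    (Subgroup.mem_bot.1 (e ▸ ⟨x₀, mem_cent.2 rfl, rfl⟩ : π x₀ ∈ (⊥ : Subgroup _)))))
  have hF : Cfsg.IsFrobeniusComplement E := by
    refine CfsgLib.CNGroups.isFrobeniusComplement_of_fpf hc hNne hEne fun e he he1 => ?_
    obtain ⟨u, hu, rfl⟩ := he
    have huB : u ∉ B := fun h => he1 ((QuotientGroup.eq_one_iff u).2 (hinf u hu h))
    refine (Subgroup.eq_bot_iff_forall _).2 ?_
    rintro _ ⟨⟨b, hb, rfl⟩, hbc⟩
    refine (QuotientGroup.eq_one_iff b).2 (hcommfix u huB b hb ?_)
    have h' : π b * π u = π u * π b := Subgroup.mem_centralizer_singleton_iff.1 hbc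
    rw [← QuotientGroup.eq_one_iff]
    show π (u * b * u⁻¹ * b⁻¹) = 1
    rw [map_mul, map_mul, map_mul, map_inv, map_inv, ← h', mul_inv_cancel_right, mul_inv_cancel]
  refine ⟨E, hF, ⟨⟨fun a b => Subtype.ext ?_⟩⟩, ?_⟩
  · obtain ⟨u, hu, e1⟩ := a.2
    obtain ⟨v, hv, e2⟩ := b.2
    show (a : G ⧸ Z) * b = b * a
    rw [← e1, ← e2, ← map_mul, ← map_mul, hC₀c u hu v hv]
  · rw [CfsgLib.Base.Frobenius.frobeniusKernel_eq hF N hc]
    rintro _ ⟨a, ha, rfl⟩ _ ⟨b, hb, rfl⟩
    rw [← map_mul, ← map_mul, hBc a ha b hb]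

theorem main (S : Set ℕ) (hdich : ∀ g : G, InS S (sz g) ∨ OutS S (sz g))
    (a b : G) (ha : InS S (sz a)) (ha1 : sz a ≠ 1) (hb : OutS S (sz b)) (hb1 : sz b ≠ 1) :
    ∃ H : Subgroup (G ⧸ Subgroup.center G), Cfsg.IsFrobeniusComplement H ∧ IsMulCommutative H ∧
      ∀ x ∈ Cfsg.frobeniusKernel H, ∀ y ∈ Cfsg.frobeniusKernel H, x * y = y * x := by
  obtain ⟨x₀, hx₀⟩ := Finite.exists_max (sz : G → ℕ)
  have h1 : sz x₀ ≠ 1 := fun e => by
    have := hx₀ a
    have := Nat.pos_of_ne_zero (Subgroup.index_ne_zero_of_finite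
      (H := Subgroup.centralizer ({a} : Set G)))
    change 0 < sz a at this
    omega
  rcases hdich x₀ with h | h
  · exact structure_of_max S hdich x₀ h hx₀ h1 b hb hb1
  · refine structure_of_max Sᶜ (fun g => ?_) x₀ (fun p hp hd => h p hp hd) hx₀ h1 a
      (fun p hp hd hc => hc (ha p hp hd)) ha1
    rcases hdich g with h' | h'
    · exact Or.inr fun p hp hd hc => hc (h' p hp hd)
    · exact Or.inl fun p hp hd => h' p hp hd

end CfsgLib.FgsC.DiscGraph
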