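import Cfsg.Agent.Lib.PGroups.Basic
import Cfsg.Agent.Lib.Base.Frattini
import Cfsg.Prelude.Def_Transfer

/-!
An elementary abelian group of order eight acting on a `p`-group, `p` odd, with restrictions on
the involutions having non-cyclic fixed points.
-/

set_option autoImplicit false

namespace CfsgLib.FgsC.EightCyc

variable {P : Type*} [Group P]

/-- The fixed point subgroup of an automorphism. -/
def Fx (T : MulAut P) : Subgroup P := MonoidHom.eqLocus T.toMonoidHom (MonoidHom.id P)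

theorem mem_Fx {T : MulAut P} {x : P} : x ∈ Fx T ↔ T x = x := Iff.rfl

/-- The fixed points form a cyclic subgroup. -/
def Cyc (T : MulAut P) : Prop := ∃ g : P, ∀ x : P, (T x = x ↔ x ∈ Subgroup.zpowers g)

local notation "q" => QuotientGroup.mk' (frattini P)

theorem q_apply_congr [Finite P] (T : MulAut P) {x y : P} (h : q x = q y) : q (T x) = q (T y) := by
  rw [QuotientGroup.mk'_eq_mk'] at h ⊢
  obtain ⟨z, hz, rfl⟩ := h
  refine ⟨T z, ?_, (map_mul T x z).symm⟩
  rw [← CfsgLib.Base.map_frattini_mulEquiv T]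
  exact ⟨z, hz, rfl⟩

variable [Finite P] {p : ℕ} [Fact p.Prime] (hP : IsPGroup p P) (hp2 : p ≠ 2)

include hP

theorem q_comm (a b : P ⧸ frattini P) : a * b = b * a :=
  (Subgroup.Normal.quotient_commutative_iff_commutator_le.mpr
    (CfsgLib.PGroups.commutator_le_frattini hP)).is_comm.comm a b

theorem q_pow (a : P ⧸ frattini P) : a ^ p = 1 := by
  induction a using QuotientGroup.induction_on with
  | H x =>
    rw [← QuotientGroup.mk_pow, QuotientGroup.eq_one_iff]
    exact CfsgLib.PGroups.pow_mem_frattini hP x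

include hp2

theorem p_odd : Odd p := (Fact.out : p.Prime).odd_of_ne_two hp2

theorem q_sqrt (a : P ⧸ frattini P) : (a * a) ^ ((p + 1) / 2) = a := by
  obtain ⟨j, hj⟩ := p_odd hP hp2
  rw [← sq, ← pow_mul, show 2 * ((p + 1) / 2) = p + 1 by omega, pow_succ, q_pow hP, one_mul]

theorem q_eq_one_of_inv_eq {a : P ⧸ frattini P} (h : a⁻¹ = a) : a = 1 := by
  have h2 : a * a = 1 := by
    nth_rewrite 1 [← h]
    exact inv_mul_cancel a
  rw [← q_sqrt hP hp2 a, h2, one_pow]

theorem exists_sqrt (c : P) : ∃ n : ℕ, c ^ n * c ^ n = c := by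
  obtain ⟨k, hk⟩ := hP c
  obtain ⟨j, hj⟩ := (p_odd hP hp2).pow (n := k)
  refine ⟨j + 1, ?_⟩
  rw [← pow_add, show j + 1 + (j + 1) = p ^ k + 1 by omega, pow_succ, hk, one_mul]

theorem exists_fixed_lift {T : MulAut P} (hT : ∀ y, T (T y) = y) {x : P} (hx : q (T x) = q x) :
    ∃ y : P, T y = y ∧ q y = q x := by
  set c := x⁻¹ * T x with hc
  have hTc : T c = c⁻¹ := by rw [hc, map_mul, map_inv, hT, mul_inv_rev, inv_inv]
  have hqc : q c = 1 := by rw [hc, map_mul, map_inv, hx, inv_mul_cancel]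
  obtain ⟨n, hn⟩ := exists_sqrt hP hp2 c
  refine ⟨x * c ^ n, ?_, by rw [map_mul, map_pow, hqc, one_pow, mul_one]⟩
  rw [map_mul, map_pow, hTc, inv_pow, show T x = x * c by rw [hc, mul_inv_cancel_left],
    mul_assoc, show c * (c ^ n)⁻¹ = c ^ n by rw [mul_inv_eq_iff_eq_mul, hn]]

/-- An involution fixing the Frattini quotient pointwise is trivial. -/
theorem eq_one_of_fix {T : MulAut P} (hT : ∀ y, T (T y) = y) (h : ∀ x, q (T x) = q x) : T = 1 := by
  have htop : Fx T ⊔ frattini P = ⊤ := by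
    rw [eq_top_iff]
    intro x _
    obtain ⟨y, hy, hyx⟩ := exists_fixed_lift hP hp2 hT (h x)
    have hd : y⁻¹ * x ∈ frattini P := by
      rw [← QuotientGroup.eq_one_iff]
      show q (y⁻¹ * x) = 1
      rw [map_mul, map_inv, hyx, inv_mul_cancel]
    rw [← mul_inv_cancel_left y x]
    exact mul_mem (Subgroup.mem_sup_left hy) (Subgroup.mem_sup_right hd)
  refine MulEquiv.ext fun x => ?_
  exact (CfsgLib.Base.eq_top_of_sup_frattini htop ▸ Subgroup.mem_top x : x ∈ Fx T)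

variable {I : Subgroup (MulAut P)} (hinv : ∀ T ∈ I, ∀ y, T (T y) = y)
  (hcomm : ∀ S ∈ I, ∀ T ∈ I, ∀ y, S (T y) = T (S y))

include hinv hcomm

/-- The quotient is generated by common eigenvectors. -/
theorem eigen_gen (s : Finset (MulAut P)) (hs : ∀ T ∈ s, T ∈ I) :
    Subgroup.closure (q '' {x | ∀ T ∈ s, q (T x) = q x ∨ q (T x) = (q x)⁻¹}) = ⊤ := by
  classical
  induction s using Finset.induction_on with
  | empty =>
    simp only [Finset.notMem_empty, false_imp_iff, implies_true, Set.ofPred_true, Set.image_univ]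
    rw [← MonoidHom.coe_range, Subgroup.closure_eq, QuotientGroup.range_mk']
  | insert S s hS ih =>
    have hSI := hs S (Finset.mem_insert_self S s)
    have hsI : ∀ T ∈ s, T ∈ I := fun T h => hs T (Finset.mem_insert_of_mem h)
    rw [eq_top_iff, ← ih hsI, Subgroup.closure_le]
    rintro _ ⟨x, hx, rfl⟩
    set K := Subgroup.closure (q '' {y | ∀ T ∈ insert S s, q (T y) = q y ∨ q (T y) = (q y)⁻¹})
    have h1 : q (x * S x) ∈ K := by
      refine Subgroup.subset_closure ⟨_, fun T hT => ?_, rfl⟩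
      rcases Finset.mem_insert.1 hT with rfl | hT
      · left
        rw [map_mul, hinv T hSI, map_mul, map_mul]
        exact q_comm hP _ _
      · rw [map_mul, map_mul, ← hcomm S hSI T (hsI T hT), map_mul]
        rcases hx T hT with h | h
        · left
          rw [h, q_apply_congr S h]
        · right
          rw [h, show q (S (T x)) = q (S x⁻¹) from q_apply_congr S (h.trans (map_inv _ x).symm),
            map_inv, map_inv, mul_inv_rev]
          exact q_comm hP _ _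
    have h2 : q (x * (S x)⁻¹) ∈ K := by
      refine Subgroup.subset_closure ⟨_, fun T hT => ?_, rfl⟩
      rcases Finset.mem_insert.1 hT with rfl | hT
      · right
        rw [map_mul, map_inv, hinv T hSI, map_mul, map_mul, map_inv, map_inv, mul_inv_rev, inv_inv]
      · rw [map_mul, map_mul, map_inv, ← hcomm S hSI T (hsI T hT), map_inv, map_mul, map_inv]
        rcases hx T hT with h | h
        · left
          rw [h, q_apply_congr S h]
        · right
          rw [h, show q (S (T x)) = q (S x⁻¹) from q_apply_congr S (h.trans (map_inv _ x).symm),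
            map_inv, map_inv, mul_inv_rev, inv_inv]
          exact q_comm hP _ _
    have h3 := pow_mem (mul_mem h1 h2) ((p + 1) / 2)
    rw [map_mul, map_mul, map_inv, q_comm hP (q x) (q (S x))⁻¹, mul_assoc, mul_inv_cancel_left,
      q_sqrt hP hp2] at h3
    exact h3

omit hinv hcomm

theorem fixed_of_involution_pow {T : MulAut P} (hT : ∀ y, T (T y) = y) {g : P} (hg : g ∉ frattini P)
    (hmem : T g ∈ Subgroup.zpowers g) {e : ℤ} (he : e = 1 ∨ e = -1) (hq : q (T g) = q g ^ e) :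
    T g = g ^ e := by
  obtain ⟨i, hi⟩ := Subgroup.mem_zpowers_iff.1 hmem
  obtain ⟨j, rfl⟩ : ∃ j, i = e + j := ⟨i - e, by ring⟩
  have hp : p.Prime := Fact.out
  have hjq : q g ^ j = 1 := by
    rw [← hi, map_zpow, zpow_add] at hq
    exact mul_eq_left.1 hq
  have hord : orderOf (q g) = p := orderOf_eq_prime (q_pow hP _)
    (fun h => hg ((QuotientGroup.eq_one_iff g).1 h))
  have hpj : (p : ℤ) ∣ j := by rw [← hord]; exact orderOf_dvd_iff_zpow_eq_one.2 hjq
  have h2 : g ^ ((e + j) * (e + j)) = g := by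
    rw [zpow_mul, hi, ← map_zpow T g, hi, hT]
  have h3 : (orderOf g : ℤ) ∣ j * (2 * e + j) := by
    rw [orderOf_dvd_iff_zpow_eq_one, show j * (2 * e + j) = (e + j) * (e + j) - 1 by
      rcases he with rfl | rfl <;> ring, zpow_sub, h2, zpow_one, mul_inv_cancel]
  obtain ⟨k, hk⟩ := hP g
  obtain ⟨l, -, hl⟩ := (Nat.dvd_prime_pow hp).1 (orderOf_dvd_of_pow_eq_one hk)
  have hcop : IsCoprime ((orderOf g : ℕ) : ℤ) (2 * e + j) := by
    rw [hl, Nat.cast_pow]
    refine ((Nat.prime_iff_prime_int.1 hp).coprime_iff_not_dvd.2 fun hd => hp2 ?_).pow_left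
    have h4 : (p : ℤ) ∣ 2 * e := by
      rw [show 2 * e = (2 * e + j) - j by ring]
      exact dvd_sub hd hpj
    have h5 : (p : ℤ) ∣ 2 := by rcases he with rfl | rfl <;> simpa using h4
    exact (Nat.prime_dvd_prime_iff_eq hp Nat.prime_two).1 (by exact_mod_cast h5)
  rw [← hi, zpow_add, orderOf_dvd_iff_zpow_eq_one.1 (hcop.dvd_of_dvd_mul_right h3), mul_one]

/-- Two eigenvectors distinguished by an automorphism are not both in a cyclic fixed group. -/
theorem not_cyc_of_two {T R : MulAut P} (hT : ∀ y, T (T y) = y) {v w : P} (hv : q v ≠ 1)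
    (hw : q w ≠ 1) (hTv : q (T v) = q v) (hTw : q (T w) = q w) (hRv : q (R v) = q v)
    (hRw : q (R w) ≠ q w) : ¬ Cyc T := by
  rintro ⟨g, hg⟩
  have key : ∀ u : P, q u ≠ 1 → q (T u) = q u → q u ∈ Subgroup.zpowers (q g) := by
    intro u hu hTu
    obtain ⟨y, hy, hyu⟩ := exists_fixed_lift hP hp2 hT hTu
    obtain ⟨n, hn⟩ := Subgroup.mem_zpowers_iff.1 ((hg y).1 hy)
    exact Subgroup.mem_zpowers_iff.2 ⟨n, by rw [← map_zpow, hn, hyu]⟩
  have hgv := key v hv hTv
  have hgw := key w hw hTw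
  have hord : ∀ u : P ⧸ frattini P, u ≠ 1 → Nat.card (Subgroup.zpowers u) = p := fun u hu => by
    rw [Nat.card_zpowers, orderOf_eq_prime (q_pow hP _) hu]
  have hg1 : q g ≠ 1 := fun h => hv (by
    rw [h, Subgroup.zpowers_one_eq_bot, Subgroup.mem_bot] at hgv
    exact hgv)
  have he : Subgroup.zpowers (q v) = Subgroup.zpowers (q g) :=
    Subgroup.eq_of_le_of_card_ge (Subgroup.zpowers_le.2 hgv) (by rw [hord _ hg1, hord _ hv])
  rw [← he, Subgroup.mem_zpowers_iff] at hgw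
  obtain ⟨n, hn⟩ := hgw
  have h1 : q w = q (v ^ n) := by rw [map_zpow, hn]
  refine hRw ?_
  rw [q_apply_congr R h1, map_zpow, map_zpow, hRv, hn]

/-- If one automorphism fixes a cyclic group inverted by another, the fixed group of the second
is abelian. -/
theorem commute_of_fpf {U S : MulAut P} (hU : ∀ y, U (U y) = y) (hUS : ∀ y, U (S y) = S (U y))
    {k : P} (hk : ∀ x, U x = x → x ∈ Subgroup.zpowers k) (hSk : S k = k⁻¹) {a b : P} (ha : S a = a)
    (hb : S b = b) : a * b = b * a := by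
  have hmem : ∀ x : Fx S, U x ∈ Fx S := fun x => by
    rw [mem_Fx, ← hUS, mem_Fx.1 x.2]
  let f : Fx S → Fx S := fun x => ⟨(x : P)⁻¹ * U x, mul_mem (inv_mem x.2) (hmem x)⟩
  have hf : Function.Injective f := by
    intro x y h
    have h' : (x : P)⁻¹ * U x = (y : P)⁻¹ * U y := congrArg Subtype.val h
    have h1 : U ((y : P) * (x : P)⁻¹) = (y : P) * (x : P)⁻¹ := by
      calc U ((y : P) * (x : P)⁻¹) = U y * (U x)⁻¹ := by rw [map_mul, map_inv]
        _ = (y : P) * ((y : P)⁻¹ * U y) * ((x : P)⁻¹ * U x)⁻¹ * (x : P)⁻¹ := by group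
        _ = _ := by rw [h', mul_inv_cancel_right]
    obtain ⟨n, hn⟩ := Subgroup.mem_zpowers_iff.1 (hk _ h1)
    set d := (y : P) * (x : P)⁻¹ with hd
    have hSd : S d = d := mem_Fx.1 (mul_mem y.2 (inv_mem x.2))
    have hdd : d * d = 1 := by
      have h3 : S d = d⁻¹ := by rw [← hn, map_zpow, hSk, inv_zpow]
      nth_rewrite 1 [← hSd]
      rw [h3, inv_mul_cancel]
    obtain ⟨m, hm⟩ := exists_sqrt hP hp2 d
    have hd1 : d = 1 := by
      rw [← hm, ← pow_add, ← two_mul, pow_mul, sq, hdd, one_pow]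
    exact Subtype.ext (mul_inv_eq_one.1 hd1).symm
  have hinvert : ∀ y : P, S y = y → U y = y⁻¹ := by
    intro y hy
    obtain ⟨x, hx⟩ := Finite.surjective_of_injective hf ⟨y, hy⟩
    have hx' : (x : P)⁻¹ * U x = y := congrArg Subtype.val hx
    rw [← hx', map_mul, map_inv, hU, mul_inv_rev, inv_inv]
  have h := hinvert (a * b) (by rw [map_mul, ha, hb])
  rw [map_mul, hinvert a ha, hinvert b hb, mul_inv_rev] at h
  have := congrArg (fun t => t⁻¹) h
  simpa using this.symm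

include hinv hcomm

theorem main (hI8 : Nat.card I = 8) {I₀ : Subgroup (MulAut P)} (hI₀ : I₀ < I)
    (hdisj : ∀ T ∈ I₀, T ≠ 1 → Cyc T)
    (hprod : ∀ T ∈ I, ∀ T' ∈ I, T ≠ 1 → T' ≠ 1 → ¬ Cyc T → ¬ Cyc T' → T * T' ∈ I₀) :
    IsMulCommutative P ∧ (∃ a b c : P, Subgroup.closure {a, b, c} = ⊤) ∧
      (¬ ∃ a b : P, Subgroup.closure {a, b} = ⊤) ∧
      Nat.card {T : MulAut P // T ∈ I ∧ T ≠ 1 ∧ ¬ Cyc T} = 3 ∧
      Subgroup.closure {T : MulAut P | T ∈ I ∧ T ≠ 1 ∧ ¬ Cyc T} = I ∧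
      (I₀ : Set (MulAut P)) = {S : MulAut P | ∃ T T' : MulAut P, T ∈ I ∧ T' ∈ I ∧ T ≠ 1 ∧ T' ≠ 1 ∧
        ¬ Cyc T ∧ ¬ Cyc T' ∧ S = T * T'} := by
  classical
  have : Fintype P := Fintype.ofFinite P
  have : Finite (MulAut P) := Finite.of_injective (fun T => (T : P → P)) DFunLike.coe_injective
  have : Fintype I := Fintype.ofFinite I
  -- common eigenvectors
  set E : Set P := {x | q x ≠ 1 ∧ ∀ T ∈ I, q (T x) = q x ∨ q (T x) = (q x)⁻¹} with hE
  have hmoved : ∀ T ∈ I, T ≠ 1 → ∃ x ∈ E, q (T x) ≠ q x := by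
    intro T hT hT1
    by_contra! hc
    refine hT1 (eq_one_of_fix hP hp2 (hinv T hT) fun x => ?_)
    have hgen := eigen_gen hP hp2 hinv hcomm
      ((Finset.univ : Finset I).image Subtype.val) (fun S hS => by
        obtain ⟨S', -, rfl⟩ := Finset.mem_image.1 hS
        exact S'.2)
    have hx : q x ∈ Subgroup.closure (q '' {x | ∀ S ∈ (Finset.univ : Finset I).image Subtype.val,
        q (S x) = q x ∨ q (S x) = (q x)⁻¹}) := hgen ▸ Subgroup.mem_top _
    have key : ∀ a ∈ Subgroup.closure (q '' {x | ∀ S ∈ (Finset.univ : Finset I).image Subtype.val,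
        q (S x) = q x ∨ q (S x) = (q x)⁻¹}), ∀ y, q y = a → q (T y) = q y := by
      intro a ha
      induction ha using Subgroup.closure_induction with
      | mem a ha =>
        obtain ⟨z, hz, rfl⟩ := ha
        intro y hy
        rw [q_apply_congr T hy, hy]
        by_cases h1 : q z = 1
        · rw [q_apply_congr T (h1.trans (map_one (q)).symm), map_one, map_one, h1]
        · exact hc z ⟨h1, fun S hS => hz S (Finset.mem_image.2 ⟨⟨S, hS⟩, Finset.mem_univ _, rfl⟩)⟩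
      | one =>
        intro y hy
        rw [q_apply_congr T (hy.trans (map_one (q)).symm), map_one, map_one, hy]
      | mul a b _ _ ha hb =>
        intro y hy
        obtain ⟨u, rfl⟩ := QuotientGroup.mk'_surjective (frattini P) a
        obtain ⟨v, rfl⟩ := QuotientGroup.mk'_surjective (frattini P) b
        have h2 : q y = q (u * v) := hy.trans (map_mul _ u v).symm
        rw [q_apply_congr T h2, map_mul, map_mul, ha u rfl, hb v rfl, hy]
      | inv a _ ha =>
        intro y hy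
        obtain ⟨u, rfl⟩ := QuotientGroup.mk'_surjective (frattini P) a
        have h2 : q y = q u⁻¹ := hy.trans (map_inv _ u).symm
        rw [q_apply_congr T h2, map_inv, map_inv, ha u rfl, hy]
    exact key _ hx x rfl
  have hne : ∀ x ∈ E, q x ≠ (q x)⁻¹ := fun x hx h => hx.1 (q_eq_one_of_inv_eq hP hp2 h.symm)
  have hsign : ∀ x ∈ E, ∀ S ∈ I, ∀ T ∈ I,
      (q ((S * T) x) = q x ↔ (q (S x) = q x ↔ q (T x) = q x)) := by
    intro x hx S hS T hT
    have e1 : (S * T) x = S (T x) := rfl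
    rw [e1]
    rcases hx.2 T hT with h | h
    · rw [q_apply_congr S h]
      exact ⟨fun a => iff_of_true a h, fun a => a.2 h⟩
    · rw [q_apply_congr S (h.trans (map_inv (q) x).symm), map_inv, map_inv]
      have hT' : ¬ q (T x) = q x := fun a => hne x hx (a.symm.trans h)
      rcases hx.2 S hS with a | a
      · rw [a]
        exact iff_of_false (fun b => hne x hx b.symm) (fun b => hT' (b.1 rfl))
      · rw [a, inv_inv]
        exact iff_of_true rfl (iff_of_false (fun b => hne x hx b.symm) hT')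
  -- elements fixing two given eigenvectors
  have hfix2 : ∀ x ∈ E, ∀ y ∈ E, ∃ T ∈ I, T ≠ 1 ∧ q (T x) = q x ∧ q (T y) = q y := by
    intro x hx y hy
    obtain ⟨S, T, hne', he⟩ := Fintype.exists_ne_map_eq_of_card_lt
      (fun T : I => (decide (q (T.1 x) = q x), decide (q (T.1 y) = q y)))
      (by rw [← Nat.card_eq_fintype_card (α := I), hI8]; decide)
    simp only [Prod.mk.injEq, decide_eq_decide] at he
    refine ⟨S.1 * T.1, mul_mem S.2 T.2, fun h => hne' ?_, (hsign x hx _ S.2 _ T.2).2 he.1,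
      (hsign y hy _ S.2 _ T.2).2 he.2⟩
    refine Subtype.ext ?_
    have hTT : T.1 * T.1 = 1 := MulEquiv.ext (hinv _ T.2)
    calc S.1 = S.1 * (T.1 * T.1) := by rw [hTT, mul_one]
      _ = T.1 := by rw [← mul_assoc, h, one_mul]
  obtain ⟨T₀, hT₀I, hT₀⟩ : ∃ T ∈ I, T ≠ 1 := by
    by_contra! hc
    have hbot : I = ⊥ := eq_bot_iff.2 fun T hT => Subgroup.mem_bot.2 (hc T hT)
    rw [hbot, Subgroup.card_bot] at hI8
    omega
  obtain ⟨v₁, hv₁, hm1⟩ := hmoved T₀ hT₀I hT₀
  obtain ⟨S, hSI, hS1, hSv₁, -⟩ := hfix2 v₁ hv₁ v₁ hv₁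
  obtain ⟨v₂, hv₂, hm2⟩ := hmoved S hSI hS1
  obtain ⟨R, hRI, hR1, hRv₁, hRv₂⟩ := hfix2 v₁ hv₁ v₂ hv₂
  obtain ⟨v₃, hv₃, hm3⟩ := hmoved R hRI hR1
  -- the dual involutions
  let pat : MulAut P → Bool → Bool → Bool → Prop := fun T a b c =>
    T ∈ I ∧ (q (T v₁) = q v₁ ↔ a = true) ∧ (q (T v₂) = q v₂ ↔ b = true) ∧ (q (T v₃) = q v₃ ↔ c = true)
  have pmul : ∀ T U a b c a' b' c', pat T a b c → pat U a' b' c' →
      pat (T * U) (a == a') (b == b') (c == c') := by
    rintro T U a b c a' b' c' ⟨hT, ha, hb, hc⟩ ⟨hU, ha', hb', hc'⟩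
    refine ⟨mul_mem hT hU, ?_, ?_, ?_⟩
    · rw [hsign v₁ hv₁ T hT U hU, ha, ha']; cases a <;> cases a' <;> decide
    · rw [hsign v₂ hv₂ T hT U hU, hb, hb']; cases b <;> cases b' <;> decide
    · rw [hsign v₃ hv₃ T hT U hU, hc, hc']; cases c <;> cases c' <;> decide
  obtain ⟨T₃, p3⟩ : ∃ T, pat T true true false :=
    ⟨R, hRI, iff_of_true hRv₁ rfl, iff_of_true hRv₂ rfl, iff_of_false hm3 (by simp)⟩
  obtain ⟨T₂, p2⟩ : ∃ T, pat T true false true := by
    by_cases hb : q (S v₃) = q v₃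
    · exact ⟨S, hSI, iff_of_true hSv₁ rfl, iff_of_false hm2 (by simp), iff_of_true hb rfl⟩
    · exact ⟨_, pmul _ _ _ _ _ _ _ _ (show pat S true false false from
        ⟨hSI, iff_of_true hSv₁ rfl, iff_of_false hm2 (by simp), iff_of_false hb (by simp)⟩) p3⟩
  obtain ⟨T₁, p1⟩ : ∃ T, pat T false true true := by
    have h0 : pat T₀ false (decide (q (T₀ v₂) = q v₂)) (decide (q (T₀ v₃) = q v₃)) :=
      ⟨hT₀I, iff_of_false hm1 (by simp), decide_eq_true_iff.symm, decide_eq_true_iff.symm⟩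
    generalize decide (q (T₀ v₂) = q v₂) = β, decide (q (T₀ v₃) = q v₃) = γ at h0
    cases β <;> cases γ
    · exact ⟨_, pmul _ _ _ _ _ _ _ _ (pmul _ _ _ _ _ _ _ _ h0 p2) p3⟩
    · exact ⟨_, pmul _ _ _ _ _ _ _ _ h0 p2⟩
    · exact ⟨_, pmul _ _ _ _ _ _ _ _ h0 p3⟩
    · exact ⟨_, h0⟩
  have p0 : pat 1 true true true := ⟨one_mem I, iff_of_true rfl rfl, iff_of_true rfl rfl, iff_of_true rfl rfl⟩
  have p12 : pat (T₁ * T₂) false false true := pmul _ _ _ _ _ _ _ _ p1 p2
  have p13 : pat (T₁ * T₃) false true false := pmul _ _ _ _ _ _ _ _ p1 p3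
  have p23 : pat (T₂ * T₃) true false false := pmul _ _ _ _ _ _ _ _ p2 p3
  have p123 : pat (T₁ * T₂ * T₃) false false false := pmul _ _ _ _ _ _ _ _ p12 p3
  let W : Bool × Bool × Bool → I
    | (true, true, true) => ⟨1, p0.1⟩
    | (false, true, true) => ⟨T₁, p1.1⟩
    | (true, false, true) => ⟨T₂, p2.1⟩
    | (true, true, false) => ⟨T₃, p3.1⟩
    | (false, false, true) => ⟨T₁ * T₂, p12.1⟩
    | (false, true, false) => ⟨T₁ * T₃, p13.1⟩
    | (true, false, false) => ⟨T₂ * T₃, p23.1⟩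
    | (false, false, false) => ⟨T₁ * T₂ * T₃, p123.1⟩
  have hW : ∀ a b c, pat (W (a, b, c)).1 a b c := by
    intro a b c
    cases a <;> cases b <;> cases c <;> assumption
  have hWbij : Function.Bijective W := by
    refine (Fintype.bijective_iff_injective_and_card W).2 ⟨?_, ?_⟩
    · rintro ⟨a, b, c⟩ ⟨a', b', c'⟩ h
      obtain ⟨-, h1, h2, h3⟩ := hW a b c
      obtain ⟨-, h1', h2', h3'⟩ := hW a' b' c'
      rw [h] at h1 h2 h3
      rw [Bool.eq_iff_iff.2 (h1.symm.trans h1'), Bool.eq_iff_iff.2 (h2.symm.trans h2'),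
        Bool.eq_iff_iff.2 (h3.symm.trans h3')]
    · rw [← Nat.card_eq_fintype_card (α := I), hI8]
      rfl
  have hall : ∀ T ∈ I, T = 1 ∨ T = T₁ ∨ T = T₂ ∨ T = T₃ ∨ T = T₁ * T₂ ∨ T = T₁ * T₃ ∨ T = T₂ * T₃ ∨
      T = T₁ * T₂ * T₃ := by
    intro T hT
    obtain ⟨⟨a, b, c⟩, h⟩ := hWbij.2 ⟨T, hT⟩
    rw [← show (W (a, b, c)).1 = T from congrArg Subtype.val h]
    cases a <;> cases b <;> cases c <;> simp [W]
  have ne1 : ∀ {T a b c}, pat T a b c → (a && b && c) = false → T ≠ 1 := by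
    rintro T a b c ⟨-, ha, hb, hc⟩ h rfl
    rw [ha.1 rfl, hb.1 rfl, hc.1 rfl] at h
    exact absurd h (by decide)
  -- fixed points
  have nc1 : ¬ Cyc T₁ := not_cyc_of_two hP hp2 (hinv _ p1.1) (R := T₃) hv₂.1 hv₃.1
    (p1.2.2.1.2 rfl) (p1.2.2.2.2 rfl) (p3.2.2.1.2 rfl) (fun h => by simpa using p3.2.2.2.1 h)
  have nc2 : ¬ Cyc T₂ := not_cyc_of_two hP hp2 (hinv _ p2.1) (R := T₃) hv₁.1 hv₃.1
    (p2.2.1.2 rfl) (p2.2.2.2.2 rfl) (p3.2.1.2 rfl) (fun h => by simpa using p3.2.2.2.1 h)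
  have nc3 : ¬ Cyc T₃ := not_cyc_of_two hP hp2 (hinv _ p3.1) (R := T₂) hv₁.1 hv₂.1
    (p3.2.1.2 rfl) (p3.2.2.1.2 rfl) (p2.2.1.2 rfl) (fun h => by simpa using p2.2.2.1.1 h)
  have n1 := ne1 p1 rfl
  have n2 := ne1 p2 rfl
  have n3 := ne1 p3 rfl
  have m12 := hprod _ p1.1 _ p2.1 n1 n2 nc1 nc2
  have m13 := hprod _ p1.1 _ p3.1 n1 n3 nc1 nc3
  have m23 := hprod _ p2.1 _ p3.1 n2 n3 nc2 nc3
  have sqI : ∀ T ∈ I, T * T = 1 := fun T hT => MulEquiv.ext (hinv T hT)
  have commI : ∀ S ∈ I, ∀ T ∈ I, S * T = T * S := fun S hS T hT => MulEquiv.ext (hcomm S hS T hT)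
  -- generators
  have cycgen : ∀ U, U ∈ I₀ → U ≠ 1 → ∀ v : P, q v ≠ 1 → q (U v) = q v → ∃ g : P,
      (∀ x, U x = x ↔ x ∈ Subgroup.zpowers g) ∧ q g ≠ 1 ∧
      (∀ w : P, q (U w) = q w → q w ∈ Subgroup.zpowers (q g)) ∧
      q g ∈ Subgroup.zpowers (q v) := by
    intro U hU hU1 v hv hUv
    obtain ⟨g, hg⟩ := hdisj U hU hU1
    have key : ∀ w : P, q (U w) = q w → q w ∈ Subgroup.zpowers (q g) := by
      intro w hw
      obtain ⟨y, hy, hyw⟩ := exists_fixed_lift hP hp2 (hinv U (hI₀.le hU)) hw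
      obtain ⟨n, hn⟩ := Subgroup.mem_zpowers_iff.1 ((hg y).1 hy)
      exact Subgroup.mem_zpowers_iff.2 ⟨n, by rw [← map_zpow, hn, hyw]⟩
    have hgv := key v hUv
    have hg1 : q g ≠ 1 := fun h => hv (by
      rw [h, Subgroup.zpowers_one_eq_bot, Subgroup.mem_bot] at hgv
      exact hgv)
    refine ⟨g, hg, hg1, key, ?_⟩
    have he : Subgroup.zpowers (q v) = Subgroup.zpowers (q g) :=
      Subgroup.eq_of_le_of_card_ge (Subgroup.zpowers_le.2 hgv) (by
        rw [Nat.card_zpowers, Nat.card_zpowers, orderOf_eq_prime (q_pow hP _) hv,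
          orderOf_eq_prime (q_pow hP _) hg1])
    rw [he]
    exact Subgroup.mem_zpowers _
  obtain ⟨g₃, hg₃, hg₃1, k₃, e₃⟩ := cycgen _ m12 (ne1 p12 rfl) v₃ hv₃.1 (p12.2.2.2.2 rfl)
  obtain ⟨g₂, hg₂, hg₂1, k₂, e₂⟩ := cycgen _ m13 (ne1 p13 rfl) v₂ hv₂.1 (p13.2.2.1.2 rfl)
  obtain ⟨g₁, hg₁, hg₁1, k₁, e₁⟩ := cycgen _ m23 (ne1 p23 rfl) v₁ hv₁.1 (p23.2.1.2 rfl)
  have act : ∀ {U g : _} {v : P}, U ∈ I → (∀ x : P, U x = x ↔ x ∈ Subgroup.zpowers g) → q g ≠ 1 →
      q g ∈ Subgroup.zpowers (q v) → v ∈ E → ∀ T ∈ I,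
      (q (T v) = q v → T g = g) ∧ (q (T v) ≠ q v → T g = g⁻¹) := by
    intro U g v hU hg hg1 hgv hv T hT
    have hgF : g ∉ frattini P := fun h => hg1 ((QuotientGroup.eq_one_iff g).2 h)
    have hmem : T g ∈ Subgroup.zpowers g :=
      (hg _).1 (by rw [hcomm U hU T hT, (hg g).2 (Subgroup.mem_zpowers g)])
    obtain ⟨n, hn⟩ := Subgroup.mem_zpowers_iff.1 hgv
    have h1 : q g = q (v ^ n) := by rw [map_zpow, hn]
    constructor
    · intro h
      have := fixed_of_involution_pow hP hp2 (hinv T hT) hgF hmem (Or.inl rfl)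
        (by rw [q_apply_congr T h1, map_zpow, map_zpow, h, hn, zpow_one])
      rwa [zpow_one] at this
    · intro h
      have := fixed_of_involution_pow hP hp2 (hinv T hT) hgF hmem (Or.inr rfl)
        (by rw [q_apply_congr T h1, map_zpow, map_zpow, (hv.2 T hT).resolve_left h, inv_zpow, hn,
          zpow_neg_one])
      rwa [zpow_neg_one] at this
  have a3 := fun T hT => act p12.1 hg₃ hg₃1 e₃ hv₃ T hT
  have a2 := fun T hT => act p13.1 hg₂ hg₂1 e₂ hv₂ T hT
  have a1 := fun T hT => act p23.1 hg₁ hg₁1 e₁ hv₁ T hT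
  have c12 : g₁ * g₂ = g₂ * g₁ := commute_of_fpf hP hp2 (hinv _ p12.1)
    (hcomm _ p12.1 _ p3.1) (fun x hx => (hg₃ x).1 hx)
    ((a3 _ p3.1).2 (fun h => by simpa using p3.2.2.2.1 h))
    ((a1 _ p3.1).1 (p3.2.1.2 rfl)) ((a2 _ p3.1).1 (p3.2.2.1.2 rfl))
  have c13 : g₁ * g₃ = g₃ * g₁ := commute_of_fpf hP hp2 (hinv _ p13.1)
    (hcomm _ p13.1 _ p2.1) (fun x hx => (hg₂ x).1 hx)
    ((a2 _ p2.1).2 (fun h => by simpa using p2.2.2.1.1 h))
    ((a1 _ p2.1).1 (p2.2.1.2 rfl)) ((a3 _ p2.1).1 (p2.2.2.2.2 rfl))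
  have c23 : g₂ * g₃ = g₃ * g₂ := commute_of_fpf hP hp2 (hinv _ p23.1)
    (hcomm _ p23.1 _ p1.1) (fun x hx => (hg₁ x).1 hx)
    ((a1 _ p1.1).2 (fun h => by simpa using p1.2.1.1 h))
    ((a2 _ p1.1).1 (p1.2.2.1.2 rfl)) ((a3 _ p1.1).1 (p1.2.2.2.2 rfl))
  have hgen : Subgroup.closure {g₁, g₂, g₃} = (⊤ : Subgroup P) := by
    refine CfsgLib.Base.eq_top_of_sup_frattini ?_
    have hmap : (⊤ : Subgroup (P ⧸ frattini P)) ≤ (Subgroup.closure {g₁, g₂, g₃}).map (q) := by
      rw [← eigen_gen hP hp2 hinv hcomm ((Finset.univ : Finset I).image Subtype.val) (fun S hS => by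
        obtain ⟨S', -, rfl⟩ := Finset.mem_image.1 hS
        exact S'.2), Subgroup.closure_le]
      rintro _ ⟨x, hx, rfl⟩
      by_cases h1 : q x = 1
      · rw [h1]; exact one_mem _
      have hxE : x ∈ E := ⟨h1, fun T hT => hx T (Finset.mem_image.2 ⟨⟨T, hT⟩, Finset.mem_univ _, rfl⟩)⟩
      have sub : ∀ g ∈ ({g₁, g₂, g₃} : Set P), q x ∈ Subgroup.zpowers (q g) →
          q x ∈ (Subgroup.closure {g₁, g₂, g₃}).map (q) := by
        intro g hg hxg
        obtain ⟨n, hn⟩ := Subgroup.mem_zpowers_iff.1 hxg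
        exact ⟨g ^ n, zpow_mem (Subgroup.subset_closure hg) n, by rw [map_zpow, hn]⟩
      by_cases b1 : q (T₁ x) = q x <;> by_cases b2 : q (T₂ x) = q x
      · exact sub g₃ (by simp) (k₃ x ((hsign x hxE _ p1.1 _ p2.1).2 (iff_of_true b1 b2)))
      · by_cases b3 : q (T₃ x) = q x
        · exact sub g₂ (by simp) (k₂ x ((hsign x hxE _ p1.1 _ p3.1).2 (iff_of_true b1 b3)))
        · exact sub g₁ (by simp) (k₁ x ((hsign x hxE _ p2.1 _ p3.1).2 (iff_of_false b2 b3)))
      · by_cases b3 : q (T₃ x) = q x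
        · exact sub g₁ (by simp) (k₁ x ((hsign x hxE _ p2.1 _ p3.1).2 (iff_of_true b2 b3)))
        · exact sub g₂ (by simp) (k₂ x ((hsign x hxE _ p1.1 _ p3.1).2 (iff_of_false b1 b3)))
      · exact sub g₃ (by simp) (k₃ x ((hsign x hxE _ p1.1 _ p2.1).2 (iff_of_false b1 b2)))
    rw [eq_top_iff]
    intro x _
    obtain ⟨y, hy, hyx⟩ := hmap (Subgroup.mem_top (q x))
    have hd : y⁻¹ * x ∈ frattini P := by
      rw [← QuotientGroup.eq_one_iff]
      show q (y⁻¹ * x) = 1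
      rw [map_mul, map_inv, hyx, inv_mul_cancel]
    rw [← mul_inv_cancel_left y x]
    exact mul_mem (Subgroup.mem_sup_left hy) (Subgroup.mem_sup_right hd)
  have habl : IsMulCommutative P := by
    have h := Subgroup.closure_le_centralizer_centralizer ({g₁, g₂, g₃} : Set P)
    have hs : ({g₁, g₂, g₃} : Set P) ⊆ Subgroup.centralizer ({g₁, g₂, g₃} : Set P) := by
      rintro a (rfl | rfl | rfl) b (rfl | rfl | rfl) <;>
        first | rfl | exact c12 | exact c12.symm | exact c13 | exact c13.symm | exact c23 | exact c23.symm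
    refine ⟨⟨fun a b => ?_⟩⟩
    have ha : a ∈ Subgroup.closure {g₁, g₂, g₃} := hgen ▸ Subgroup.mem_top a
    have hb : b ∈ Subgroup.centralizer ({g₁, g₂, g₃} : Set P) :=
      ((Subgroup.closure_le _).2 hs) (hgen ▸ Subgroup.mem_top b)
    exact ((Subgroup.mem_centralizer_iff.1 (h ha)) b hb).symm
  have cM : Cyc (T₁ * T₂ * T₃) := by
    refine ⟨1, fun x => ?_⟩
    have hneg : ∀ x, (T₁ * T₂ * T₃) x = x⁻¹ := by
      intro x
      have hx : x ∈ Subgroup.closure {g₁, g₂, g₃} := hgen ▸ Subgroup.mem_top x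
      induction hx using Subgroup.closure_induction with
      | mem y hy =>
        rcases hy with rfl | rfl | rfl
        · exact (a1 _ p123.1).2 (fun h => by simpa using p123.2.1.1 h)
        · exact (a2 _ p123.1).2 (fun h => by simpa using p123.2.2.1.1 h)
        · exact (a3 _ p123.1).2 (fun h => by simpa using p123.2.2.2.1 h)
      | one => rw [map_one, inv_one]
      | mul a b _ _ ha hb => rw [map_mul, ha, hb, mul_inv_rev, habl.is_comm.comm]
      | inv a _ ha => rw [map_inv, ha]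
    rw [hneg, Subgroup.zpowers_one_eq_bot, Subgroup.mem_bot]
    constructor
    · intro h
      obtain ⟨m, hm⟩ := exists_sqrt hP hp2 x
      have hxx : x * x = 1 := by
        nth_rewrite 1 [← h]
        exact inv_mul_cancel x
      rw [← hm, ← pow_add, ← two_mul, pow_mul, sq, hxx, one_pow]
    · rintro rfl
      exact inv_one
  have hHat : ∀ T, (T ∈ I ∧ T ≠ 1 ∧ ¬ Cyc T) ↔ (T = T₁ ∨ T = T₂ ∨ T = T₃) := by
    intro T
    constructor
    · rintro ⟨hT, h1, hc⟩
      rcases hall T hT with h | h | h | h | h | h | h | h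
      · exact absurd h h1
      · exact Or.inl h
      · exact Or.inr (Or.inl h)
      · exact Or.inr (Or.inr h)
      · exact absurd (hdisj T (h ▸ m12) h1) hc
      · exact absurd (hdisj T (h ▸ m13) h1) hc
      · exact absurd (hdisj T (h ▸ m23) h1) hc
      · exact absurd (h ▸ cM) hc
    · rintro (rfl | rfl | rfl)
      exacts [⟨p1.1, n1, nc1⟩, ⟨p2.1, n2, nc2⟩, ⟨p3.1, n3, nc3⟩]
  have d12 : T₁ ≠ T₂ := fun e => by simpa using (e ▸ p2.2.1).2 rfl |> p1.2.1.1
  have d13 : T₁ ≠ T₃ := fun e => by simpa using (e ▸ p3.2.1).2 rfl |> p1.2.1.1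
  have d23 : T₂ ≠ T₃ := fun e => by simpa using (e ▸ p3.2.2.1).2 rfl |> p2.2.2.1.1
  refine ⟨habl, ⟨g₁, g₂, g₃, hgen⟩, ?_, ?_, ?_, ?_⟩
  · rintro ⟨a, b, hab⟩
    -- the Frattini quotient has order at least `p ^ 3`
    have hcard2 : Nat.card (P ⧸ frattini P) ≤ p * p := by
      have hgenq : Subgroup.zpowers (q a) ⊔ Subgroup.zpowers (q b) = ⊤ := by
        rw [eq_top_iff, ← QuotientGroup.range_mk' (frattini P), MonoidHom.range_eq_map, ← hab,
          MonoidHom.map_closure, Subgroup.closure_le, Set.image_pair]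
        rintro c (rfl | rfl)
        · exact Subgroup.mem_sup_left (Subgroup.mem_zpowers _)
        · exact Subgroup.mem_sup_right (Subgroup.mem_zpowers _)
      have : (Subgroup.zpowers (q b)).Normal := ⟨fun x hx y => by
        rw [q_comm hP y x, mul_inv_cancel_right]; exact hx⟩
      have hsur : Function.Surjective (fun z : Subgroup.zpowers (q a) × Subgroup.zpowers (q b) =>
          (z.1 : P ⧸ frattini P) * (z.2 : P ⧸ frattini P)) := by
        intro x
        obtain ⟨y, hy, z, hz, rfl⟩ := Subgroup.mem_sup_of_normal_right.1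
          (hgenq ▸ Subgroup.mem_top x : x ∈ Subgroup.zpowers (q a) ⊔ Subgroup.zpowers (q b))
        exact ⟨(⟨y, hy⟩, ⟨z, hz⟩), rfl⟩
      refine (Nat.card_le_card_of_surjective _ hsur).trans ?_
      rw [Nat.card_prod, Nat.card_zpowers, Nat.card_zpowers]
      exact Nat.mul_le_mul (orderOf_le_of_pow_eq_one (Fact.out : p.Prime).pos (q_pow hP _))
        (orderOf_le_of_pow_eq_one (Fact.out : p.Prime).pos (q_pow hP _))
    let ι : Fin 3 → P := ![v₁, v₂, v₃]
    let Ts : Fin 3 → MulAut P := ![T₁, T₂, T₃]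
    have hV : p * p * p ≤ Nat.card (P ⧸ frattini P) := by
      have : NeZero p := ⟨(Fact.out : p.Prime).ne_zero⟩
      let f : ZMod p × ZMod p × ZMod p → P ⧸ frattini P := fun z =>
        q v₁ ^ z.1.val * q v₂ ^ z.2.1.val * q v₃ ^ z.2.2.val
      have hf : Function.Injective f := by
        -- a relation is preserved by the involutions
        have inj : ∀ (u : P) (m n : ℕ), q u ≠ 1 → m < p → n < p → q u ^ m = q u ^ n → m = n := by
          intro u m n hu hm hn h
          refine pow_injOn_Iio_orderOf ?_ ?_ h <;> rw [orderOf_eq_prime (q_pow hP _) hu] <;>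
            assumption
        have quo : ∀ (T : MulAut P) (m n k : ℕ) (a b c : ℤ), q (T v₁) = q v₁ ^ a → q (T v₂) = q v₂ ^ b →
            q (T v₃) = q v₃ ^ c → q (T (v₁ ^ m * v₂ ^ n * v₃ ^ k)) =
              (q v₁ ^ a) ^ m * (q v₂ ^ b) ^ n * (q v₃ ^ c) ^ k := by
          intro T m n k a b c ha hb hc
          simp only [map_mul, map_pow, ha, hb, hc]
        have e1 : ∀ {T : MulAut P} {v : P}, q (T v) = q v → q (T v) = q v ^ (1 : ℤ) :=
          fun h => h.trans (zpow_one _).symm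
        have e2 : ∀ {T : MulAut P} {v : P}, v ∈ E → T ∈ I → q (T v) ≠ q v → q (T v) = q v ^ (-1 : ℤ) :=
          fun hv hT h => ((hv.2 _ hT).resolve_left h).trans (zpow_neg_one _).symm
        rintro ⟨m, n, k⟩ ⟨m', n', k'⟩ h
        have h0 : q (v₁ ^ m.val * v₂ ^ n.val * v₃ ^ k.val) =
            q (v₁ ^ m'.val * v₂ ^ n'.val * v₃ ^ k'.val) := by simpa [f] using h
        have one_ : ∀ (T : MulAut P) (v : P) (i i' : ℕ), q v ≠ 1 →
            i < p → i' < p → (q v ^ (-1 : ℤ)) ^ i * (q v ^ i') = (q v ^ (-1 : ℤ)) ^ i' * (q v ^ i) →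
            i = i' := by
          intro T v i i' hv hi hi' h
          rw [zpow_neg_one, inv_pow, inv_pow, inv_mul_eq_iff_eq_mul, ← mul_assoc,
            q_comm hP (q v ^ i) _, mul_assoc, eq_inv_mul_iff_mul_eq] at h
          have h' : (q v ^ i' * (q v ^ i')) ^ ((p + 1) / 2) = (q v ^ i * (q v ^ i)) ^ ((p + 1) / 2) := by
            rw [h]
          rw [q_sqrt hP hp2, q_sqrt hP hp2] at h'
          exact inj v i i' hv hi hi' h'.symm
        have h1 := q_apply_congr T₁ h0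
        rw [quo T₁ _ _ _ _ _ _ (e2 hv₁ p1.1 fun e => by simpa using p1.2.1.1 e) (e1 (p1.2.2.1.2 rfl))
          (e1 (p1.2.2.2.2 rfl)), quo T₁ _ _ _ _ _ _ (e2 hv₁ p1.1 fun e => by simpa using p1.2.1.1 e)
          (e1 (p1.2.2.1.2 rfl)) (e1 (p1.2.2.2.2 rfl))] at h1
        have h2 := q_apply_congr T₂ h0
        rw [quo T₂ _ _ _ _ _ _ (e1 (p2.2.1.2 rfl)) (e2 hv₂ p2.1 fun e => by simpa using p2.2.2.1.1 e)
          (e1 (p2.2.2.2.2 rfl)), quo T₂ _ _ _ _ _ _ (e1 (p2.2.1.2 rfl))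
          (e2 hv₂ p2.1 fun e => by simpa using p2.2.2.1.1 e) (e1 (p2.2.2.2.2 rfl))] at h2
        simp only [zpow_one] at h1 h2
        simp only [map_mul, map_pow] at h0
        let : CommGroup (P ⧸ frattini P) := { (inferInstance : Group (P ⧸ frattini P)) with
          mul_comm := q_comm hP }
        have key : ∀ (A B C A' B' C' X X' : P ⧸ frattini P), A * B * C = A' * B' * C' →
            X * B * C = X' * B' * C' → X * A' = X' * A := by
          intro A B C A' B' C' X X' u w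
          rw [mul_assoc A, mul_assoc A'] at u
          rw [mul_assoc X, mul_assoc X'] at w
          calc X * A' = X * (B * C) * (A' * (B * C)⁻¹) := by rw [mul_comm A', ← mul_assoc, mul_inv_cancel_right]
            _ = X' * (B' * C') * (A' * (B * C)⁻¹) := by rw [w]
            _ = X' * (A' * (B' * C')) * (B * C)⁻¹ := by simp only [mul_assoc, mul_left_comm]
            _ = X' * A := by rw [← u, mul_assoc, mul_assoc A, mul_inv_cancel, mul_one]
        have hm : m.val = m'.val := one_ T₁ v₁ _ _ hv₁.1 (ZMod.val_lt m) (ZMod.val_lt m')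
          (key _ _ _ _ _ _ _ _ h0 h1)
        have hn : n.val = n'.val := one_ T₂ v₂ _ _ hv₂.1 (ZMod.val_lt n) (ZMod.val_lt n')
          (key _ _ _ _ _ _ _ _ (by rw [mul_comm (q v₂ ^ n.val) (q v₁ ^ m.val),
            mul_comm (q v₂ ^ n'.val) (q v₁ ^ m'.val)]; exact h0) (by
            rw [mul_comm _ (q v₁ ^ m.val), mul_comm _ (q v₁ ^ m'.val)]; exact h2))
        rw [hm, hn, mul_left_cancel_iff] at h0
        have hk := inj v₃ _ _ hv₃.1 (ZMod.val_lt k) (ZMod.val_lt k') h0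
        rw [ZMod.val_injective p hm, ZMod.val_injective p hn, ZMod.val_injective p hk]
      have := Nat.card_le_card_of_injective f hf
      rwa [Nat.card_prod, Nat.card_prod, Nat.card_zmod, ← mul_assoc] at this
    have hp1 := (Fact.out : p.Prime).two_le
    have hpp : 1 * (p * p) < p * (p * p) := (Nat.mul_lt_mul_right (by positivity)).2 (by omega)
    rw [one_mul, ← mul_assoc] at hpp
    omega
  · rw [Nat.card_congr (Equiv.subtypeEquivRight hHat), Nat.card_eq_fintype_card,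
      Fintype.card_subtype, show (Finset.univ.filter fun T : MulAut P => T = T₁ ∨ T = T₂ ∨ T = T₃) =
        {T₁, T₂, T₃} by ext; simp, Finset.card_eq_three]
    exact ⟨_, _, _, d12, d13, d23, rfl⟩
  · simp only [hHat]
    refine le_antisymm ((Subgroup.closure_le _).2 ?_) fun T hT => ?_
    · rintro T (rfl | rfl | rfl)
      exacts [p1.1, p2.1, p3.1]
    · have k1 : T₁ ∈ Subgroup.closure {T : MulAut P | T = T₁ ∨ T = T₂ ∨ T = T₃} :=
        Subgroup.subset_closure (Or.inl rfl)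
      have k2 : T₂ ∈ Subgroup.closure {T : MulAut P | T = T₁ ∨ T = T₂ ∨ T = T₃} :=
        Subgroup.subset_closure (Or.inr (Or.inl rfl))
      have k3 : T₃ ∈ Subgroup.closure {T : MulAut P | T = T₁ ∨ T = T₂ ∨ T = T₃} :=
        Subgroup.subset_closure (Or.inr (Or.inr rfl))
      rcases hall T hT with rfl | rfl | rfl | rfl | rfl | rfl | rfl | rfl
      exacts [one_mem _, k1, k2, k3, mul_mem k1 k2, mul_mem k1 k3, mul_mem k2 k3,
        mul_mem (mul_mem k1 k2) k3]
  · ext U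
    constructor
    · intro hU
      rcases hall U (hI₀.le hU) with h | h | h | h | h | h | h | h
      · exact ⟨T₁, T₁, p1.1, p1.1, n1, n1, nc1, nc1, by rw [h, sqI _ p1.1]⟩
      · exact absurd (hdisj U hU (h ▸ n1)) (h ▸ nc1)
      · exact absurd (hdisj U hU (h ▸ n2)) (h ▸ nc2)
      · exact absurd (hdisj U hU (h ▸ n3)) (h ▸ nc3)
      · exact ⟨T₁, T₂, p1.1, p2.1, n1, n2, nc1, nc2, h⟩
      · exact ⟨T₁, T₃, p1.1, p3.1, n1, n3, nc1, nc3, h⟩
      · exact ⟨T₂, T₃, p2.1, p3.1, n2, n3, nc2, nc3, h⟩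
      · exfalso
        have hh : T₃ ∈ I₀ := by
          have e : T₁ * T₂ * (T₁ * T₂ * T₃) = T₃ := by
            rw [← mul_assoc, sqI _ p12.1, one_mul]
          exact e ▸ mul_mem m12 (h ▸ hU)
        exact nc3 (hdisj _ hh n3)
    · rintro ⟨T, T', hT, hT', a, b, c, d, rfl⟩
      exact hprod T hT T' hT' a b c d

end CfsgLib.FgsC.EightCyc
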