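import Cfsg.Agent.Lib.FgsC.EqualOrderConjShape

/-!
# An extraspecial Sylow subgroup of order p³ and exponent p is incompatible with conjugacy of all
p-subgroups of equal order (when the Sylow 2-subgroups are abelian or quaternion)

If `E = ⟨z, e⟩` is one of the `p + 1` subgroups of order `p²` containing the centre `⟨z⟩`, some
2-element of `N(P)` inverts `E`; a Sylow 2-subgroup of `N(P)` containing it then fixes `E`, while
`N(P)` is transitive on the even number of these subgroups.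
-/

set_option linter.unusedSectionVars false
set_option linter.style.haveILetI false
set_option linter.deprecated false

namespace CfsgLib.FgsC.EqualOrderConj

open Subgroup
open scoped Pointwise

theorem conj_zpow_eq {Γ : Type*} [Group Γ] {a e c : Γ} (h : a * e * a⁻¹ = c * e) (hac : Commute a c)
    (k : ℤ) : a ^ k * e * (a ^ k)⁻¹ = c ^ k * e := by
  induction k using Int.induction_on with
  | zero => simp
  | succ k ih =>
    calc a ^ ((k : ℤ) + 1) * e * (a ^ ((k : ℤ) + 1))⁻¹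
        = a * (a ^ (k : ℤ) * e * (a ^ (k : ℤ))⁻¹) * a⁻¹ := by group
      _ = (a * c ^ (k : ℤ) * a⁻¹) * (a * e * a⁻¹) := by rw [ih]; group
      _ = c ^ (k : ℤ) * (c * e) := by rw [(hac.zpow_right k).eq, mul_inv_cancel_right, h]
      _ = _ := by rw [← mul_assoc, ← zpow_add_one]
  | pred k ih =>
    have h' : a⁻¹ * e * a = c⁻¹ * e := by
      have : e = a⁻¹ * (c * e) * a := by rw [← h]; group
      calc a⁻¹ * e * a = c⁻¹ * (c * (a⁻¹ * e * a)) := by group
        _ = c⁻¹ * (a⁻¹ * (c * e) * a) := by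
            rw [← mul_assoc c, ← mul_assoc c, hac.inv_left.eq.symm]; group
        _ = c⁻¹ * e := by rw [← this]
    calc a ^ (-(k : ℤ) - 1) * e * (a ^ (-(k : ℤ) - 1))⁻¹
        = a⁻¹ * (a ^ (-(k : ℤ)) * e * (a ^ (-(k : ℤ)))⁻¹) * a := by group
      _ = (a⁻¹ * c ^ (-(k : ℤ)) * a) * (a⁻¹ * e * a) := by rw [ih]; group
      _ = c ^ (-(k : ℤ)) * (c⁻¹ * e) := by
          rw [(hac.inv_left.zpow_right (-(k : ℤ))).eq, inv_mul_cancel_right, h']
      _ = _ := by rw [← mul_assoc, ← zpow_sub_one]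

theorem inv_odd {Γ : Type*} [Group Γ] {n x : Γ} (h : n * x * n⁻¹ = x⁻¹) {m : ℕ} (hm : Odd m) :
    n ^ m * x * (n ^ m)⁻¹ = x⁻¹ := by
  obtain ⟨j, rfl⟩ := hm
  induction j with
  | zero => simpa using h
  | succ j ih =>
    have h' : n * x⁻¹ * n⁻¹ = x := by
      have := congrArg (·⁻¹) h
      simpa [mul_assoc] using this
    calc n ^ (2 * (j + 1) + 1) * x * (n ^ (2 * (j + 1) + 1))⁻¹
        = n * (n * (n ^ (2 * j + 1) * x * (n ^ (2 * j + 1))⁻¹) * n⁻¹) * n⁻¹ := by
          rw [show 2 * (j + 1) + 1 = (2 * j + 1) + 1 + 1 by omega, pow_succ', pow_succ']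
          group
      _ = x⁻¹ := by rw [ih, h', h]

variable {G : Type*} [Group G] [Finite G] {p : ℕ} [Fact p.Prime]

theorem exists_conj_in {H : Subgroup G} (P Q : Sylow p G) (hP : (P : Subgroup G) ≤ H)
    (hQ : (Q : Subgroup G) ≤ H) : ∃ h ∈ H, h • Q = P := by
  obtain ⟨m, hm⟩ := MulAction.exists_smul_eq ↥H (Q.subtype hQ) (P.subtype hP)
  rw [Sylow.smul_subtype] at hm
  exact ⟨m, m.2, Sylow.subtype_injective hm⟩

theorem mem_smul_sylow (g x : G) (P : Sylow p G) :
    x ∈ ((g • P : Sylow p G) : Subgroup G) ↔ g⁻¹ * x * g ∈ (P : Subgroup G) := by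
  rw [Sylow.coe_subgroup_smul, Subgroup.mem_pointwise_smul_iff_inv_smul_mem]
  simp [MulAut.smul_def, MulAut.conj_inv_apply]

set_option maxHeartbeats 1000000 in
theorem not_extraspecial_sylow
    (hD : ∀ H K : Subgroup G, IsPGroup p H → IsPGroup p K → Nat.card H = Nat.card K →
      ∃ g : G, K = H.map (MulAut.conj g).toMonoidHom)
    (h2 : ∀ T : Subgroup G, IsPGroup 2 T → ∀ a ∈ T, ∀ b ∈ T, a * b * a⁻¹ = b ∨ a * b * a⁻¹ = b⁻¹)
    (P : Sylow p G) (hp2 : p ≠ 2) (hcard : Nat.card (P : Subgroup G) = p ^ 3)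
    (hexp : ∀ x ∈ (P : Subgroup G), x ^ p = 1) {z : G} (hzP : z ∈ (P : Subgroup G)) (hz1 : z ≠ 1)
    (hzc : ∀ a ∈ (P : Subgroup G), a * z = z * a)
    (hcen : ∀ a ∈ (P : Subgroup G), (∀ b ∈ (P : Subgroup G), a * b = b * a) → a ∈ zpowers z)
    (hcomm : ∀ a ∈ (P : Subgroup G), ∀ b ∈ (P : Subgroup G), a * b * a⁻¹ * b⁻¹ ∈ zpowers z) :
    False := by
  have hp : p.Prime := Fact.out
  have hzo : orderOf z = p := orderOf_eq_prime (hexp z hzP) hz1
  have hZc : Nat.card (zpowers z) = p := by rw [Nat.card_zpowers, hzo]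
  have hZP : zpowers z ≤ (P : Subgroup G) := zpowers_le.mpr hzP
  have hgen : ∀ c ∈ zpowers z, c ≠ 1 → zpowers c = zpowers z := fun c hc hc1 =>
    Subgroup.eq_of_le_of_card_ge (zpowers_le.mpr hc)
      (by rw [hZc, Nat.card_zpowers, orderOf_eq_prime (hexp c (hZP hc)) hc1])
  have hZcent : ∀ c ∈ zpowers z, ∀ a ∈ (P : Subgroup G), Commute a c := fun c hc a ha => by
    obtain ⟨i, rfl⟩ := mem_zpowers_iff.mp hc
    exact (show Commute a z from hzc a ha).zpow_right i
  obtain ⟨e, heP, hez⟩ : ∃ e ∈ (P : Subgroup G), e ∉ zpowers z := by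
    by_contra! h
    have := Subgroup.card_le_of_le h
    rw [hZc, hcard] at this
    have := lt_self_pow₀ hp.one_lt (show 1 < 3 by norm_num)
    omega
  have he1 : e ≠ 1 := fun h => hez (h ▸ one_mem _)
  have hze : Commute z e := (hzc e heP).symm
  set E := zpowers z ⊔ zpowers e with hEdef
  have hEc : Nat.card E = p ^ 2 := card_sup_zpowers (hexp z hzP) hz1 (hexp e heP) hze hez
  have hEP : E ≤ (P : Subgroup G) := sup_le hZP (zpowers_le.mpr heP)
  -- `u` moves `e` to `z * e`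
  obtain ⟨u, huP, hue⟩ : ∃ u ∈ (P : Subgroup G), u * e * u⁻¹ = z * e := by
    obtain ⟨a, haP, hae⟩ : ∃ a ∈ (P : Subgroup G), e * a ≠ a * e := by
      by_contra! h
      exact hez (hcen e heP h)
    set c := a * e * a⁻¹ * e⁻¹ with hc
    have hcz : c ∈ zpowers z := hcomm a haP e heP
    have hc1 : c ≠ 1 := fun h => hae (by
      calc e * a = (a * e * a⁻¹ * e⁻¹) * (e * a) := by rw [← hc, h, one_mul]
        _ = a * e := by group)
    obtain ⟨k, hk⟩ := mem_zpowers_iff.mp (hgen c hcz hc1 ▸ mem_zpowers z : z ∈ zpowers c)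
    refine ⟨a ^ k, zpow_mem haP k, ?_⟩
    rw [conj_zpow_eq (c := c) (by rw [hc]; group) (hZcent c hcz a haP), hk]
  have huz : u * z * u⁻¹ = z := by rw [hzc u huP, mul_inv_cancel_right]
  -- a Sylow subgroup `g • P` in which `e` is central, containing `z`
  have hpz : ∀ x ∈ (P : Subgroup G), IsPGroup p (zpowers x) := fun x hx =>
    P.isPGroup'.to_le (zpowers_le.mpr hx)
  obtain ⟨g0, hg0⟩ := hD (zpowers z) (zpowers e) (hpz z hzP) (hpz e heP)
    (by rw [hZc, Nat.card_zpowers, orderOf_eq_prime (hexp e heP) he1])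
  have hP1 : ((g0 • P : Sylow p G) : Subgroup G) ≤ centralizer {e} := by
    intro a ha
    rw [mem_smul_sylow] at ha
    obtain ⟨c, hc, hce⟩ : e ∈ (zpowers z).map (MulAut.conj g0).toMonoidHom := hg0 ▸ mem_zpowers e
    have hce' : g0 * c * g0⁻¹ = e := hce
    rw [mem_centralizer_singleton_iff, ← hce']
    calc a * (g0 * c * g0⁻¹) = g0 * ((g0⁻¹ * a * g0) * c) * g0⁻¹ := by group
      _ = g0 * (c * (g0⁻¹ * a * g0)) * g0⁻¹ := by rw [(hZcent c hc _ ha).eq]
      _ = _ := by group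
  have hEL : E ≤ centralizer {e} := by
    refine sup_le ?_ ?_ <;> rw [zpowers_le, mem_centralizer_singleton_iff]
    exact hze.eq
  obtain ⟨Q, hQ⟩ := ((P.isPGroup'.to_le hEP).comap_subtype (K := centralizer {e})).exists_le_sylow
  obtain ⟨a, ha⟩ := MulAction.exists_smul_eq ↥(centralizer {e}) ((g0 • P).subtype hP1) Q
  rw [Sylow.smul_subtype] at ha
  set g := (a : G) * g0 with hg
  have hEg : ∀ x ∈ E, g⁻¹ * x * g ∈ (P : Subgroup G) := by
    intro x hx
    have h1 : (⟨x, hEL hx⟩ : ↥(centralizer {e})) ∈ (Q : Subgroup ↥(centralizer {e})) := hQ hx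
    rw [← ha, Sylow.coe_subtype, Subgroup.mem_subgroupOf] at h1
    rw [← mem_smul_sylow, hg, mul_smul]
    exact h1
  have hgZ : ∀ x, g⁻¹ * x * g ∈ zpowers z ↔ x ∈ zpowers e := by
    intro x
    have hae : (a : G)⁻¹ * e * (a : G) = e := by
      rw [mul_assoc, ← (mem_centralizer_singleton_iff.mp a.2), inv_mul_cancel_left]
    rw [hg0]
    constructor
    · intro hx
      refine ⟨_, hx, ?_⟩
      show g0 * (g⁻¹ * x * g) * g0⁻¹ = x
      have hmem : (a : G)⁻¹ * x * a ∈ zpowers e := by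
        rw [hg0]
        exact ⟨_, hx, by show g0 * (g⁻¹ * x * g) * g0⁻¹ = _; rw [hg]; group⟩
      obtain ⟨i, hi⟩ := mem_zpowers_iff.mp hmem
      have : x = e ^ i := by
        calc x = (a : G) * ((a : G)⁻¹ * x * a) * (a : G)⁻¹ := by group
          _ = (a : G) * e ^ i * (a : G)⁻¹ := by rw [hi]
          _ = e ^ i := by
              rw [((show Commute (a : G) e from mem_centralizer_singleton_iff.mp a.2).zpow_right i).eq,
                mul_inv_cancel_right]
      calc g0 * (g⁻¹ * x * g) * g0⁻¹ = (a : G)⁻¹ * x * a := by rw [hg]; group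
        _ = x := by
            rw [this, mul_assoc,
              ← ((show Commute (a : G) e from mem_centralizer_singleton_iff.mp a.2).zpow_right i).eq,
              inv_mul_cancel_left]
    · rintro ⟨c, hc, rfl⟩
      have h1 : g0 * c * g0⁻¹ ∈ zpowers e := hg0 ▸ ⟨c, hc, rfl⟩
      obtain ⟨i, hi⟩ := mem_zpowers_iff.mp h1
      have h2 : g⁻¹ * (g0 * c * g0⁻¹) * g = c := by
        rw [← hi, hg, mul_inv_rev]
        calc g0⁻¹ * (a : G)⁻¹ * e ^ i * ((a : G) * g0)
            = g0⁻¹ * ((a : G)⁻¹ * (e ^ i * (a : G))) * g0 := by group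
          _ = c := by
              rw [← ((show Commute (a : G) e from mem_centralizer_singleton_iff.mp a.2).zpow_right i).eq,
                inv_mul_cancel_left, hi]
              group
      show g⁻¹ * (g0 * c * g0⁻¹) * g ∈ zpowers z
      rw [h2]; exact hc
  -- `v` moves `z` to `e⁻¹ * z`
  obtain ⟨v, hve, hvz⟩ : ∃ v, Commute v e ∧ v * z * v⁻¹ = e⁻¹ * z := by
    have hzE : z ∈ E := mem_sup_left (mem_zpowers z)
    have heE : e ∈ E := mem_sup_right (mem_zpowers e)
    obtain ⟨b, hbP, hb⟩ : ∃ b ∈ (P : Subgroup G), (g⁻¹ * z * g) * b ≠ b * (g⁻¹ * z * g) := by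
      by_contra! h
      have h1 := (hgZ z).mp (hcen _ (hEg z hzE) h)
      exact hez ((Subgroup.eq_of_le_of_card_ge (zpowers_le.mpr h1)
        (by rw [hZc, Nat.card_zpowers, orderOf_eq_prime (hexp e heP) he1])).symm ▸ mem_zpowers e)
    set b' := g * b * g⁻¹ with hb'
    have hb'e : Commute b' e := by
      have h1 : g⁻¹ * e * g ∈ zpowers z := (hgZ e).mpr (mem_zpowers e)
      have h2 := (hZcent _ h1 b hbP).eq
      show b' * e = e * b'
      calc b' * e = g * (b * (g⁻¹ * e * g)) * g⁻¹ := by rw [hb']; group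
        _ = g * ((g⁻¹ * e * g) * b) * g⁻¹ := by rw [h2]
        _ = e * b' := by rw [hb']; group
    set c := b' * z * b'⁻¹ * z⁻¹ with hc
    have hce : c ∈ zpowers e := (hgZ c).mp (by
      have h1 := hcomm b hbP _ (hEg z hzE)
      have h2 : g⁻¹ * c * g = b * (g⁻¹ * z * g) * b⁻¹ * (g⁻¹ * z * g)⁻¹ := by rw [hc, hb']; group
      rw [h2]; exact h1)
    have hc1 : c ≠ 1 := fun h => hb (by
      have h2 : b' * z = z * b' := by
        calc b' * z = (b' * z * b'⁻¹ * z⁻¹) * (z * b') := by group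
          _ = z * b' := by rw [← hc, h, one_mul]
      calc g⁻¹ * z * g * b = g⁻¹ * (z * b') * g := by rw [hb']; group
        _ = g⁻¹ * (b' * z) * g := by rw [h2]
        _ = b * (g⁻¹ * z * g) := by rw [hb']; group)
    have hgenc : zpowers c = zpowers e := Subgroup.eq_of_le_of_card_ge (zpowers_le.mpr hce) (by
      rw [Nat.card_zpowers, Nat.card_zpowers, orderOf_eq_prime (hexp e heP) he1,
        orderOf_eq_prime (hexp c (zpowers_le.mpr heP hce)) hc1])
    obtain ⟨k, hk⟩ := mem_zpowers_iff.mp (hgenc.symm ▸ inv_mem (mem_zpowers e) : e⁻¹ ∈ zpowers c)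
    have hb'c : Commute b' c := by
      obtain ⟨i, hi⟩ := mem_zpowers_iff.mp hce
      exact hi ▸ hb'e.zpow_right i
    refine ⟨b' ^ k, hb'e.zpow_left k, ?_⟩
    rw [conj_zpow_eq (c := c) (by rw [hc]; group) hb'c, hk]
  -- `n0` inverts `E`
  set w := u * v * u with hw
  have hve' : v * e * v⁻¹ = e := by rw [hve.eq, mul_inv_cancel_right]
  have hwz : w * z * w⁻¹ = e⁻¹ := by
    calc w * z * w⁻¹ = u * (v * (u * z * u⁻¹) * v⁻¹) * u⁻¹ := by rw [hw]; group
      _ = u * (v * z * v⁻¹) * u⁻¹ := by rw [huz]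
      _ = (u * e * u⁻¹)⁻¹ * (u * z * u⁻¹) := by rw [hvz]; group
      _ = e⁻¹ := by rw [hue, huz]; group
  have hwe : w * e * w⁻¹ = z := by
    calc w * e * w⁻¹ = u * (v * (u * e * u⁻¹) * v⁻¹) * u⁻¹ := by rw [hw]; group
      _ = u * ((v * z * v⁻¹) * (v * e * v⁻¹)) * u⁻¹ := by rw [hue]; group
      _ = u * (e⁻¹ * z * e) * u⁻¹ := by rw [hvz, hve']
      _ = z := by rw [mul_assoc e⁻¹, hze.eq, inv_mul_cancel_left, huz]
  set n0 := w * w with hn0
  have hn0z : n0 * z * n0⁻¹ = z⁻¹ := by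
    calc n0 * z * n0⁻¹ = w * (w * z * w⁻¹) * w⁻¹ := by rw [hn0]; group
      _ = (w * e * w⁻¹)⁻¹ := by rw [hwz]; group
      _ = z⁻¹ := by rw [hwe]
  have hn0e : n0 * e * n0⁻¹ = e⁻¹ := by
    calc n0 * e * n0⁻¹ = w * (w * e * w⁻¹) * w⁻¹ := by rw [hn0]; group
      _ = e⁻¹ := by rw [hwe, hwz]
  -- adjust `n0` to normalize `P`
  let H : Subgroup G :=
    { carrier := {x | x * z * x⁻¹ = z ∧ ∃ i : ℤ, x * e * x⁻¹ = z ^ i * e}
      one_mem' := ⟨by group, 0, by group⟩
      mul_mem' := by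
        rintro x y ⟨hx, i, hi⟩ ⟨hy, j, hj⟩
        refine ⟨by rw [show x * y * z * (x * y)⁻¹ = x * (y * z * y⁻¹) * x⁻¹ by group, hy, hx],
          j + i, ?_⟩
        calc x * y * e * (x * y)⁻¹ = x * (y * e * y⁻¹) * x⁻¹ := by group
          _ = (x * z * x⁻¹) ^ j * (x * e * x⁻¹) := by rw [hj, conj_zpow]; group
          _ = z ^ (j + i) * e := by rw [hx, hi, ← mul_assoc, ← zpow_add]
      inv_mem' := by
        rintro x ⟨hx, i, hi⟩
        have hx' : x⁻¹ * z * x = z := by
          conv_lhs => rw [← hx]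
          group
        refine ⟨by rw [inv_inv]; exact hx', -i, ?_⟩
        have hxi : x⁻¹ * z ^ (-i) * x = z ^ (-i) := by
          have := map_zpow (MulAut.conj x⁻¹) z (-i)
          simp only [MulAut.conj_apply, inv_inv] at this
          rw [this, hx']
        calc x⁻¹ * e * x⁻¹⁻¹ = x⁻¹ * (z ^ (-i) * (z ^ i * e)) * x := by group
          _ = (x⁻¹ * z ^ (-i) * x) * (x⁻¹ * (x * e * x⁻¹) * x) := by rw [hi]; group
          _ = z ^ (-i) * e := by rw [hxi]; group }
  have hPH : (P : Subgroup G) ≤ H := by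
    intro x hx
    refine ⟨by rw [hzc x hx, mul_inv_cancel_right], ?_⟩
    obtain ⟨i, hi⟩ := mem_zpowers_iff.mp (hcomm x hx e heP)
    exact ⟨i, by rw [hi]; group⟩
  have hnPH : ((n0 • P : Sylow p G) : Subgroup G) ≤ H := by
    intro x hx
    rw [mem_smul_sylow] at hx
    obtain ⟨h1, i, h2⟩ := hPH hx
    set y := n0⁻¹ * x * n0 with hy
    have hxy : x = n0 * y * n0⁻¹ := by rw [hy]; group
    have hn0i : ∀ j : ℤ, n0 * z ^ j * n0⁻¹ = z ^ (-j) := fun j => by
      rw [← conj_zpow, hn0z, inv_zpow']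
    refine ⟨?_, i, ?_⟩
    · calc x * z * x⁻¹ = n0 * (y * (n0⁻¹ * z * n0) * y⁻¹) * n0⁻¹ := by rw [hxy]; group
        _ = n0 * (y * z * y⁻¹)⁻¹ * n0⁻¹ := by
            rw [show n0⁻¹ * z * n0 = z⁻¹ by
              have h := congrArg (fun t => n0⁻¹ * t⁻¹ * n0) hn0z
              simp [mul_assoc] at h
              rw [mul_assoc, ← h]]
            group
        _ = (n0 * z * n0⁻¹)⁻¹ := by rw [h1]; group
        _ = z := by rw [hn0z, inv_inv]
    · calc x * e * x⁻¹ = n0 * (y * (n0⁻¹ * e * n0) * y⁻¹) * n0⁻¹ := by rw [hxy]; group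
        _ = n0 * (y * e * y⁻¹)⁻¹ * n0⁻¹ := by
            rw [show n0⁻¹ * e * n0 = e⁻¹ by
              have h := congrArg (fun t => n0⁻¹ * t⁻¹ * n0) hn0e
              simp [mul_assoc] at h
              rw [mul_assoc, ← h]]
            group
        _ = ((n0 * z ^ i * n0⁻¹) * (n0 * e * n0⁻¹))⁻¹ := by rw [h2]; group
        _ = z ^ i * e := by
            rw [hn0i, hn0e, mul_inv_rev, inv_inv, ← zpow_neg, neg_neg]
            exact (hze.zpow_left i).eq.symm
  obtain ⟨h, hhH, hh⟩ := exists_conj_in P (n0 • P) hPH hnPH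
  obtain ⟨hhz, i, hhe⟩ := hhH
  set n1 := u ^ (-i) * h * n0 with hn1
  have hn1N : n1 ∈ normalizer ((P : Subgroup G) : Set G) := by
    refine Sylow.smul_eq_iff_mem_normalizer.mp ?_
    rw [hn1, mul_smul, mul_smul, hh]
    exact Sylow.smul_eq_iff_mem_normalizer.mpr (zpow_mem (le_normalizer huP) _)
  have huk : u ^ (-i) * e * (u ^ (-i))⁻¹ = z ^ (-i) * e := conj_zpow_eq hue (hzc u huP) (-i)
  have hukz : u ^ (-i) * z * (u ^ (-i))⁻¹ = z := by
    rw [hzc _ (zpow_mem huP _), mul_inv_cancel_right]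
  have hn1z : n1 * z * n1⁻¹ = z⁻¹ := by
    calc n1 * z * n1⁻¹ = u ^ (-i) * (h * (n0 * z * n0⁻¹) * h⁻¹) * (u ^ (-i))⁻¹ := by rw [hn1]; group
      _ = (u ^ (-i) * (h * z * h⁻¹) * (u ^ (-i))⁻¹)⁻¹ := by rw [hn0z]; group
      _ = z⁻¹ := by rw [hhz, hukz]
  have hukzi : u ^ (-i) * z ^ i * (u ^ (-i))⁻¹ = z ^ i := by
    rw [(hZcent _ (zpow_mem (mem_zpowers z) i) _ (zpow_mem huP _)).eq, mul_inv_cancel_right]
  have hn1e : n1 * e * n1⁻¹ = e⁻¹ := by
    calc n1 * e * n1⁻¹ = u ^ (-i) * (h * (n0 * e * n0⁻¹) * h⁻¹) * (u ^ (-i))⁻¹ := by rw [hn1]; group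
      _ = (u ^ (-i) * (h * e * h⁻¹) * (u ^ (-i))⁻¹)⁻¹ := by rw [hn0e]; group
      _ = ((u ^ (-i) * z ^ i * (u ^ (-i))⁻¹) * (u ^ (-i) * e * (u ^ (-i))⁻¹))⁻¹ := by rw [hhe]; group
      _ = e⁻¹ := by rw [hukzi, huk, ← mul_assoc, ← zpow_add, add_neg_cancel, zpow_zero, one_mul]
  -- a 2-element with the same action
  obtain ⟨k, m, hmodd, hord⟩ := Nat.exists_eq_two_pow_mul_odd (isOfFinOrder_of_finite n1).orderOf_pos.ne'
  set n := n1 ^ m with hndef
  have hnz : n * z * n⁻¹ = z⁻¹ := inv_odd hn1z hmodd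
  have hne : n * e * n⁻¹ = e⁻¹ := inv_odd hn1e hmodd
  have hnN : n ∈ normalizer ((P : Subgroup G) : Set G) := pow_mem hn1N m
  set N := normalizer ((P : Subgroup G) : Set G) with hNdef
  have hn2 : IsPGroup 2 (zpowers (⟨n, hnN⟩ : N)) := by
    refine IsPGroup.iff_card.mpr ⟨k, ?_⟩
    rw [Nat.card_zpowers, ← Subgroup.orderOf_coe]
    show orderOf n = _
    rw [hndef, orderOf_pow' _ hmodd.pos.ne', hord, Nat.gcd_eq_right (dvd_mul_left m _),
      Nat.mul_div_cancel _ hmodd.pos]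
  obtain ⟨T, hT⟩ := hn2.exists_le_sylow
  have hTG : IsPGroup 2 ((T : Subgroup N).map N.subtype) := T.isPGroup'.map _
  letI : MulAction ↥N (Subgroup G) := MulAction.compHom _ ((MulAut.conj : G →* MulAut G).comp N.subtype)
  have hact : ∀ (x : N) (A : Subgroup G), x • A = MulAut.conj (x : G) • A := fun _ _ => rfl
  have hNP : ∀ x ∈ N, ∀ y ∈ (P : Subgroup G), x * y * x⁻¹ ∈ (P : Subgroup G) :=
    fun x hx y hy => (Subgroup.mem_normalizer_iff.mp hx y).mp hy
  have hNz : ∀ x ∈ N, ∀ c ∈ zpowers z, x * c * x⁻¹ ∈ zpowers z := by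
    intro x hx c hc
    refine hcen _ (hNP x hx c (hZP hc)) fun b hb => ?_
    have h1 : x⁻¹ * b * x ∈ (P : Subgroup G) := by
      simpa using hNP x⁻¹ (inv_mem hx) b hb
    calc x * c * x⁻¹ * b = x * (c * (x⁻¹ * b * x)) * x⁻¹ := by group
      _ = x * ((x⁻¹ * b * x) * c) * x⁻¹ := by rw [(hZcent c hc _ h1).eq]
      _ = _ := by group
  have hfix : (T : Subgroup N) ≤ MulAction.stabilizer N E := by
    intro x hx
    rw [MulAction.mem_stabilizer_iff, hact]
    refine Subgroup.eq_of_le_of_card_ge ?_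
      (le_of_eq (Nat.card_congr (Subgroup.equivSMul (MulAut.conj (x : G)) E).toEquiv))
    have hmap : E ≤ E.comap (MulAut.conj (x : G)).toMonoidHom := by
      refine sup_le ?_ ?_ <;> rw [zpowers_le, Subgroup.mem_comap]
      · exact mem_sup_left (hNz x x.2 z (mem_zpowers z))
      · show (x : G) * e * (x : G)⁻¹ ∈ E
        set y := (x : G) * e * (x : G)⁻¹ with hy
        have hyP : y ∈ (P : Subgroup G) := hNP x x.2 e heP
        have hy1 : ((x : G) * n * (x : G)⁻¹) * y * ((x : G) * n * (x : G)⁻¹)⁻¹ = y⁻¹ := by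
          calc _ = (x : G) * (n * e * n⁻¹) * (x : G)⁻¹ := by rw [hy]; group
            _ = y⁻¹ := by rw [hne, hy]; group
        have hy2 : n * y * n⁻¹ = y⁻¹ := by
          rcases h2 _ hTG x ⟨x, hx, rfl⟩ n ⟨⟨n, hnN⟩, hT (mem_zpowers _), rfl⟩ with h3 | h3 <;>
            rw [h3] at hy1
          · exact hy1
          · rw [inv_inv] at hy1
            calc n * y * n⁻¹ = n * (n⁻¹ * y * n)⁻¹ * n⁻¹ := by rw [hy1, inv_inv]
              _ = y⁻¹ := by group
        by_contra hyE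
        -- `n` inverts and fixes the commutator of `y` and `e`
        set c := y * e * y⁻¹ * e⁻¹ with hc
        have hcz : c ∈ zpowers z := hcomm y hyP e heP
        have hnc : n * c * n⁻¹ = c⁻¹ := by
          obtain ⟨j, hj⟩ := mem_zpowers_iff.mp hcz
          rw [← hj, ← conj_zpow, hnz, inv_zpow]
        have hye : y * e = c * (e * y) := by rw [hc]; group
        have hnc' : n * c * n⁻¹ = c := by
          calc n * c * n⁻¹ = (n * y * n⁻¹) * (n * e * n⁻¹) * (n * y * n⁻¹)⁻¹ * (n * e * n⁻¹)⁻¹ := by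
                rw [hc]; group
            _ = (e * y)⁻¹ * (y * e) := by rw [hy2, hne]; group
            _ = c := by
                rw [hye, ← mul_assoc, ← (hZcent c hcz (e * y)⁻¹ (inv_mem (mul_mem heP hyP))).symm.eq,
                  inv_mul_cancel_right]
        have hc1 : c = 1 := by
          have hsq : c ^ 2 = 1 := by rw [sq]; nth_rw 1 [← hnc']; rw [hnc, inv_mul_cancel]
          have hpc : c ^ p = 1 := hexp c (hZP hcz)
          have := Nat.dvd_gcd (orderOf_dvd_of_pow_eq_one hsq) (orderOf_dvd_of_pow_eq_one hpc)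
          rw [((Nat.coprime_primes Nat.prime_two hp).mpr (Ne.symm hp2)).gcd_eq_one, Nat.dvd_one,
            orderOf_eq_one_iff] at this
          exact this
        have hyeq : Commute y e := by
          show y * e = e * y
          rw [hye, hc1, one_mul]
        refine hez (hcen e heP fun b hb => ?_)
        have htop : E ⊔ zpowers y = (P : Subgroup G) := by
          refine Subgroup.eq_of_le_of_card_ge (sup_le hEP (zpowers_le.mpr hyP)) ?_
          obtain ⟨j, hj⟩ := IsPGroup.iff_card.mp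
            (P.isPGroup'.to_le (sup_le hEP (zpowers_le.mpr hyP)) : IsPGroup p ↥(E ⊔ zpowers y))
          have hlt : Nat.card E < Nat.card ↥(E ⊔ zpowers y) := by
            refine lt_of_not_ge fun hge => hyE ?_
            exact (Subgroup.eq_of_le_of_card_ge le_sup_left hge).symm ▸ mem_sup_right (mem_zpowers y)
          rw [hEc, hj] at hlt
          rw [hcard, hj]
          exact Nat.pow_le_pow_right hp.pos ((Nat.pow_lt_pow_iff_right hp.one_lt).mp hlt)
        have hle : (P : Subgroup G) ≤ centralizer {e} := by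
          rw [← htop]
          refine sup_le hEL ?_
          rw [zpowers_le, mem_centralizer_singleton_iff]
          exact hyeq.eq
        exact (mem_centralizer_singleton_iff.mp (hle hb)).symm
    rintro _ ⟨a, ha, rfl⟩
    exact hmap ha
  -- the orbit of `E` is the set of the `p + 1` subgroups of order `p²` containing the centre
  set Ω : Set (Subgroup G) := {A | A ≤ (P : Subgroup G) ∧ z ∈ A ∧ Nat.card A = p ^ 2} with hΩ
  have hΩnorm : ∀ A ∈ Ω, (P : Subgroup G) ≤ normalizer (A : Set G) := by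
    rintro A ⟨hAP, hzA, -⟩ b hb
    have key : ∀ b ∈ (P : Subgroup G), ∀ x ∈ A, b * x * b⁻¹ ∈ A := fun b hb x hx => by
      have h1 := mul_mem (zpowers_le.mpr hzA (hcomm b hb x (hAP hx))) hx
      simpa using h1
    rw [Subgroup.mem_normalizer_iff]
    intro x
    refine ⟨key b hb x, fun hx => ?_⟩
    have := key b⁻¹ (inv_mem hb) _ hx
    simpa [mul_assoc] using this
  have hEΩ : E ∈ Ω := ⟨hEP, mem_sup_left (mem_zpowers z), hEc⟩
  have horb : MulAction.orbit N E = Ω := by
    apply Set.eq_of_subset_of_subset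
    · rintro _ ⟨x, rfl⟩
      show x • E ∈ Ω
      rw [hact]
      refine ⟨?_, ?_, by rw [← hEc]; exact Nat.card_congr (Subgroup.equivSMul _ E).toEquiv.symm⟩
      · rintro _ ⟨b, hb, rfl⟩
        exact hNP x x.2 b (hEP hb)
      · rw [Subgroup.mem_pointwise_smul_iff_inv_smul_mem]
        have h1 := hNz _ (inv_mem x.2) z (mem_zpowers z)
        rw [inv_inv] at h1
        show (MulAut.conj (x : G))⁻¹ z ∈ E
        rw [MulAut.conj_inv_apply]
        exact mem_sup_left h1
    · intro A hA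
      obtain ⟨f, hf⟩ := hD E A (P.isPGroup'.to_le hEP) (P.isPGroup'.to_le hA.1) (hEc.trans hA.2.2.symm)
      have hf' : A = MulAut.conj f • E := hf
      have hfP : ((f • P : Sylow p G) : Subgroup G) ≤ normalizer (A : Set G) := by
        intro x hx
        rw [mem_smul_sylow] at hx
        have h1 := hΩnorm E hEΩ hx
        rw [Subgroup.mem_normalizer_iff] at h1 ⊢
        have hmemA : ∀ t, t ∈ A ↔ f⁻¹ * t * f ∈ E := fun t => by
          rw [hf', Subgroup.mem_pointwise_smul_iff_inv_smul_mem]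
          show (MulAut.conj f)⁻¹ t ∈ E ↔ _
          rw [MulAut.conj_inv_apply]
        intro t
        rw [hmemA, hmemA, h1 (f⁻¹ * t * f)]
        group
      obtain ⟨b, hb, hbP⟩ := exists_conj_in P (f • P) (hΩnorm A hA) hfP
      rw [← mul_smul] at hbP
      refine ⟨⟨b * f, Sylow.smul_eq_iff_mem_normalizer.mp hbP⟩, ?_⟩
      show MulAut.conj (b * f) • E = A
      rw [map_mul, mul_smul, ← hf']
      refine Subgroup.eq_of_le_of_card_ge ?_
        (le_of_eq (Nat.card_congr (Subgroup.equivSMul (MulAut.conj b) A).toEquiv))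
      rintro _ ⟨t, ht, rfl⟩
      exact (Subgroup.mem_normalizer_iff.mp hb t).mp ht
  have hidx : (MulAction.stabilizer N E).index = Nat.card Ω := by
    rw [MulAction.index_stabilizer, horb, Nat.card_coe_set_eq]
  have hodd : ¬ 2 ∣ Nat.card Ω := fun hd => by
    rw [← hidx] at hd
    exact T.not_dvd_index (hd.trans (Subgroup.index_dvd_of_le hfix))
  -- counting
  have hcount : Nat.card Ω * (p ^ 2 - p) = p ^ 3 - p := by
    let f : (Σ A : Ω, ↥(((A : Subgroup G) : Set G) \ (zpowers z : Set G))) →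
        ↥(((P : Subgroup G) : Set G) \ (zpowers z : Set G)) :=
      fun s => ⟨s.2.1, s.1.2.1 s.2.2.1, s.2.2.2⟩
    have huni : ∀ A ∈ Ω, ∀ y ∈ A, y ∉ zpowers z → zpowers z ⊔ zpowers y = A := by
      intro A hA y hyA hyz
      refine Subgroup.eq_of_le_of_card_ge (sup_le (zpowers_le.mpr hA.2.1) (zpowers_le.mpr hyA)) ?_
      rw [hA.2.2, card_sup_zpowers (hexp z hzP) hz1 (hexp y (hA.1 hyA))
        ((show Commute y z from hzc y (hA.1 hyA)).symm) hyz]
    have hfb : Function.Bijective f := by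
      constructor
      · rintro ⟨⟨A, hA⟩, y, hy⟩ ⟨⟨B, hB⟩, y', hy'⟩ heq
        have hyy : y = y' := congrArg Subtype.val heq
        subst hyy
        have hAB : A = B := (huni A hA y hy.1 hy.2).symm.trans (huni B hB y hy'.1 hy'.2)
        subst hAB
        rfl
      · rintro ⟨y, hy, hyz⟩
        exact ⟨⟨⟨zpowers z ⊔ zpowers y, sup_le hZP (zpowers_le.mpr hy), mem_sup_left (mem_zpowers z),
          card_sup_zpowers (hexp z hzP) hz1 (hexp y hy) (show Commute y z from hzc y hy).symm hyz⟩,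
          y, mem_sup_right (mem_zpowers y), hyz⟩, rfl⟩
    have h1 := Nat.card_congr (Equiv.ofBijective f hfb)
    have h3 : ∀ S : Subgroup G, zpowers z ≤ S →
        Nat.card ↥((S : Set G) \ (zpowers z : Set G)) = Nat.card S - p := fun S hS => by
      rw [Nat.card_coe_set_eq, Set.ncard_sdiff hS (Set.toFinite _), ← hZc]
      rfl
    haveI : Fintype Ω := Fintype.ofFinite _
    rw [Nat.card_sigma, h3 _ hZP, hcard,
      Finset.sum_congr rfl (fun (A : Ω) _ => (h3 _ (zpowers_le.mpr A.2.2.1)).trans (by rw [A.2.2.2])),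
      Finset.sum_const, smul_eq_mul, Finset.card_univ, ← Nat.card_eq_fintype_card] at h1
    exact h1
  refine hodd ?_
  have hp1 : Nat.card Ω = p + 1 := by
    have hpp : p * 1 < p * p := Nat.mul_lt_mul_of_pos_left hp.one_lt hp.pos
    refine Nat.eq_of_mul_eq_mul_right (m := p ^ 2 - p) (by rw [sq]; omega) ?_
    rw [hcount, sq, Nat.mul_sub, add_mul, add_mul, one_mul, one_mul,
      show p ^ 3 = p * (p * p) by ring]
    omega
  rw [hp1]
  exact (hp.odd_of_ne_two hp2).add_odd odd_one |>.two_dvd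

end CfsgLib.FgsC.EqualOrderConj
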