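import Cfsg.Agent.Lib.PGroups.UniqueOrderP

/-!
# p-groups in which subgroups of equal order are isomorphic

Such a group is cyclic, elementary abelian, a quaternion group of order 8, or of order p³ and
exponent p with centre of order p (p odd).
-/

set_option linter.unusedSectionVars false
set_option linter.style.haveILetI false
set_option linter.deprecated false

namespace CfsgLib.FgsC.EqualOrderConj

open Subgroup
open scoped Pointwise

variable {Γ : Type*} [Group Γ] {p : ℕ} [Fact p.Prime]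

/-- A power of a conjugation by an element commuting with the commutator. -/
theorem conj_pow_eq {a e c : Γ} (h : a * e * a⁻¹ = c * e) (hac : Commute a c) (k : ℕ) :
    a ^ k * e * (a ^ k)⁻¹ = c ^ k * e := by
  induction k with
  | zero => simp
  | succ k ih =>
    calc a ^ (k + 1) * e * (a ^ (k + 1))⁻¹
        = a * (a ^ k * e * (a ^ k)⁻¹) * a⁻¹ := by rw [pow_succ']; group
      _ = a * (c ^ k * e) * a⁻¹ := by rw [ih]
      _ = (a * c ^ k * a⁻¹) * (a * e * a⁻¹) := by group
      _ = c ^ k * (c * e) := by rw [(hac.pow_right k).eq, mul_inv_cancel_right, h]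
      _ = _ := by rw [← mul_assoc, ← pow_succ]

theorem orderOf_eq_of_exp (hexp : ∀ x : Γ, x ^ p = 1) {x : Γ} (hx : x ≠ 1) : orderOf x = p :=
  orderOf_eq_prime (hexp x) hx

/-- The subgroup generated by two commuting elements of order `p` outside each other's powers. -/
theorem card_sup_zpowers [Finite Γ] {x y : Γ} (hx : x ^ p = 1) (hx1 : x ≠ 1) (hy : y ^ p = 1)
    (hxy : Commute x y) (hyx : y ∉ zpowers x) :
    Nat.card ↥(zpowers x ⊔ zpowers y) = p ^ 2 := by
  have hp : p.Prime := Fact.out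
  have hy1 : y ≠ 1 := fun h => hyx (h ▸ one_mem _)
  have hcy : Nat.card (zpowers y) = p := by rw [Nat.card_zpowers, orderOf_eq_prime hy hy1]
  have hcx : Nat.card (zpowers x) = p := by rw [Nat.card_zpowers, orderOf_eq_prime hx hx1]
  have comm : ∀ (a : zpowers x) (b : zpowers y), Commute ((zpowers x).subtype a) ((zpowers y).subtype b) := by
    rintro ⟨a, ha⟩ ⟨b, hb⟩
    obtain ⟨i, rfl⟩ := mem_zpowers_iff.mp ha
    obtain ⟨j, rfl⟩ := mem_zpowers_iff.mp hb
    exact hxy.zpow_zpow i j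
  have hdisj : Disjoint (zpowers x) (zpowers y) := by
    rw [disjoint_iff]
    have hdvd := Subgroup.card_dvd_of_le (inf_le_right : zpowers x ⊓ zpowers y ≤ zpowers y)
    rw [hcy] at hdvd
    rcases (Nat.dvd_prime hp).mp hdvd with h1 | h1
    · exact Subgroup.card_eq_one.mp h1
    · have := Subgroup.eq_of_le_of_card_ge (inf_le_right : zpowers x ⊓ zpowers y ≤ zpowers y)
        (by rw [h1, hcy])
      exact absurd ((this.symm ▸ mem_zpowers y : y ∈ zpowers x ⊓ zpowers y).1) hyx
  let f := MonoidHom.noncommCoprod (zpowers x).subtype (zpowers y).subtype comm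
  have hinj : Function.Injective f := by
    rw [MonoidHom.noncommCoprod_injective]
    exact ⟨Subtype.val_injective, Subtype.val_injective, by simpa using hdisj⟩
  have hrange : f.range = zpowers x ⊔ zpowers y := by
    rw [MonoidHom.noncommCoprod_range, Subgroup.range_subtype, Subgroup.range_subtype]
  rw [← hrange, ← Nat.card_congr (MonoidHom.ofInjective hinj).toEquiv, Nat.card_prod, hcx, hcy, sq]

theorem commute_sup_zpowers {x y : Γ} (hxy : Commute x y) {a b : Γ}
    (ha : a ∈ zpowers x ⊔ zpowers y) (hb : b ∈ zpowers x ⊔ zpowers y) : a * b = b * a := by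
  have hle : zpowers x ⊔ zpowers y ≤ centralizer ({x, y} : Set Γ) := by
    refine sup_le ?_ ?_ <;> rw [zpowers_le, mem_centralizer_iff] <;> intro m hm <;>
      rcases hm with rfl | rfl <;> first | rfl | exact hxy.eq | exact hxy.eq.symm
  have hle2 : zpowers x ⊔ zpowers y ≤ centralizer ((zpowers x ⊔ zpowers y : Subgroup Γ) : Set Γ) := by
    refine sup_le ?_ ?_ <;> rw [zpowers_le, mem_centralizer_iff] <;> intro m hm
    · exact ((mem_centralizer_iff.mp (hle hm)) x (by simp)).symm
    · exact ((mem_centralizer_iff.mp (hle hm)) y (by simp)).symm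
  exact ((mem_centralizer_iff.mp (hle2 ha)) b hb).symm

theorem exists_second_center [Finite Γ] (hΓ : IsPGroup p Γ) (hne : center Γ ≠ ⊤) :
    ∃ w : Γ, w ∉ center Γ ∧ ∀ f : Γ, w * f * w⁻¹ * f⁻¹ ∈ center Γ := by
  haveI : Nontrivial (Γ ⧸ center Γ) := QuotientGroup.nontrivial_iff.mpr hne
  haveI := (hΓ.to_quotient (center Γ)).center_nontrivial
  obtain ⟨⟨q, hq⟩, hq1⟩ := exists_ne (1 : center (Γ ⧸ center Γ))
  obtain ⟨w, rfl⟩ := QuotientGroup.mk_surjective q
  refine ⟨w, fun hw => hq1 (Subtype.ext ?_), fun f => ?_⟩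
  · exact (QuotientGroup.eq_one_iff w).mpr hw
  · rw [← QuotientGroup.eq_one_iff, QuotientGroup.mk_mul, QuotientGroup.mk_mul, QuotientGroup.mk_mul,
      QuotientGroup.mk_inv, QuotientGroup.mk_inv, ← mem_center_iff.mp hq (f : Γ ⧸ center Γ)]
    group

/-- A non-abelian group of exponent p contains a non-abelian subgroup of order dividing `p^3`. -/
theorem exists_nonabelian_cube [Finite Γ] (hΓ : IsPGroup p Γ) (hexp : ∀ x : Γ, x ^ p = 1)
    (hne : center Γ ≠ ⊤) :
    ∃ Q : Subgroup Γ, Nat.card Q ≤ p ^ 3 ∧ ∃ a ∈ Q, ∃ b ∈ Q, a * b ≠ b * a := by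
  obtain ⟨w, hw, hwc⟩ := exists_second_center hΓ hne
  obtain ⟨f, hf⟩ : ∃ f, f * w ≠ w * f := by
    by_contra! h
    exact hw (mem_center_iff.mpr h)
  set c := w * f * w⁻¹ * f⁻¹ with hc
  have hc1 : c ≠ 1 := by
    intro h
    refine hf ?_
    have h' : w * f * w⁻¹ * f⁻¹ = 1 := h
    calc f * w = (w * f * w⁻¹ * f⁻¹) * (f * w) := by rw [h', one_mul]
      _ = w * f := by group
  have hcc : ∀ y, y * c = c * y := mem_center_iff.mp (hwc f)
  have hwz : w ∉ zpowers c := fun h => hw ((zpowers_le.mpr (hwc f)) h)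
  have hcw : Commute c w := (hcc w).symm
  set K := zpowers c ⊔ zpowers w with hK
  have hKc : Nat.card K = p ^ 2 := card_sup_zpowers (hexp c) hc1 (hexp w) hcw hwz
  have hnorm : zpowers f ≤ normalizer (K : Set Γ) := by
    rw [zpowers_le, Subgroup.mem_normalizer_iff]
    have hgen : f * w * f⁻¹ = c⁻¹ * w := by rw [hc]; group
    have hfK : ∀ k ∈ K, f * k * f⁻¹ ∈ K := by
      intro k hk
      have hle : K ≤ K.comap (MulAut.conj f).toMonoidHom := by
        refine sup_le ?_ ?_ <;> rw [zpowers_le, mem_comap]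
        · show f * c * f⁻¹ ∈ K
          rw [hcc f, mul_inv_cancel_right]
          exact mem_sup_left (mem_zpowers c)
        · show f * w * f⁻¹ ∈ K
          rw [hgen]
          exact mul_mem (mem_sup_left (inv_mem (mem_zpowers c))) (mem_sup_right (mem_zpowers w))
      exact hle hk
    have hmap : K.map (MulAut.conj f).toMonoidHom = K := Subgroup.eq_of_le_of_card_ge
      (by rintro _ ⟨k, hk, rfl⟩; exact hfK k hk)
      (le_of_eq (Nat.card_congr (K.equivMapOfInjective _ (MulAut.conj f).injective).toEquiv))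
    intro k
    refine ⟨hfK k, fun hk => ?_⟩
    rw [← hmap] at hk
    obtain ⟨l, hl, hle⟩ := hk
    exact ((MulAut.conj f).injective (show MulAut.conj f l = MulAut.conj f k from hle)) ▸ hl
  refine ⟨K ⊔ zpowers f, ?_, f, mem_sup_right (mem_zpowers f), w,
    mem_sup_left (mem_sup_right (mem_zpowers w)), hf⟩
  have hfp : Nat.card (zpowers f) ≤ p := by
    rw [Nat.card_zpowers]
    exact Nat.le_of_dvd (Fact.out : p.Prime).pos (orderOf_dvd_of_pow_eq_one (hexp f))
  calc Nat.card ↥(K ⊔ zpowers f) = Nat.card ((K ⊔ zpowers f : Subgroup Γ) : Set Γ) := rfl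
    _ = Nat.card ((K : Set Γ) * (zpowers f : Set Γ) : Set Γ) := by
        rw [Subgroup.coe_mul_of_right_le_normalizer_left K (zpowers f) hnorm]
    _ ≤ Nat.card K * Nat.card (zpowers f) := Set.natCard_mul_le
    _ ≤ p ^ 3 := by rw [hKc, pow_succ p 2]; exact Nat.mul_le_mul_left _ hfp

/-- The structure of a p-group of exponent p whose subgroups of equal order are isomorphic. -/
theorem exponent_shape [Finite Γ] (hΓ : IsPGroup p Γ)
    (hiso : ∀ H K : Subgroup Γ, Nat.card H = Nat.card K → Nonempty (H ≃* K))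
    (hexp : ∀ x : Γ, x ^ p = 1) :
    (∀ a b : Γ, a * b = b * a) ∨
      (p ≠ 2 ∧ Nat.card Γ = p ^ 3 ∧ Nat.card (center Γ) = p ∧
        ∀ a b : Γ, a * b * a⁻¹ * b⁻¹ ∈ center Γ) := by
  have hp : p.Prime := Fact.out
  by_cases hne : center Γ = ⊤
  · exact Or.inl fun a b => (mem_center_iff.mp (hne ▸ mem_top a : a ∈ center Γ) b).symm
  refine Or.inr ⟨?_, ?_⟩
  · rintro rfl
    refine hne (eq_top_iff.mpr fun a _ => mem_center_iff.mpr fun b => ?_)
    have h2 : ∀ x : Γ, x⁻¹ = x := fun x => inv_eq_of_mul_eq_one_right (by rw [← sq]; exact hexp x)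
    calc b * a = (b * a)⁻¹ := (h2 _).symm
      _ = a⁻¹ * b⁻¹ := mul_inv_rev _ _
      _ = a * b := by rw [h2, h2]
  obtain ⟨n, hn⟩ := IsPGroup.iff_card.mp hΓ
  haveI : Nontrivial Γ := by
    by_contra h
    rw [not_nontrivial_iff_subsingleton] at h
    exact hne (Subsingleton.elim _ _)
  haveI := hΓ.center_nontrivial
  obtain ⟨m, hm⟩ := IsPGroup.iff_card.mp (hΓ.to_subgroup (center Γ))
  have hm1 : 1 ≤ m := by
    by_contra h
    have : Nat.card (center Γ) = 1 := by rw [hm, Nat.lt_one_iff.mp (not_le.mp h), pow_zero]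
    exact absurd (Finite.one_lt_card (α := center Γ)) (by omega)
  have hidx : (center Γ).index * p ^ m = p ^ n := by rw [← hm, ← hn]; exact index_mul_card _
  have hcyc : ¬ IsCyclic (Γ ⧸ center Γ) := fun h => hne (eq_top_iff.mpr fun a _ =>
    mem_center_iff.mpr fun b => commutative_of_cyclic_center_quotient (QuotientGroup.mk' (center Γ))
      (by rw [QuotientGroup.ker_mk']) b a)
  have hmn : m + 2 ≤ n := by
    by_contra h
    have hm' : m ≤ n := (Nat.pow_le_pow_iff_right hp.one_lt).mp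
      (Nat.le_of_dvd (pow_pos hp.pos n) (Dvd.intro_left _ hidx))
    have hidx' : (center Γ).index = p ^ (n - m) :=
      Nat.eq_of_mul_eq_mul_right (pow_pos hp.pos m)
        (hidx.trans (by rw [← pow_add, Nat.sub_add_cancel hm']))
    rcases (show n - m = 0 ∨ n - m = 1 by omega) with h0 | h0 <;> rw [h0] at hidx'
    · exact hne (index_eq_one.mp (hidx'.trans (pow_zero p)))
    · rw [pow_one, index_eq_card] at hidx'
      exact hcyc (isCyclic_of_prime_card hidx')
  -- no abelian subgroup of order p^3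
  obtain ⟨Q, hQle, qa, hqa, qb, hqb, hqab⟩ := exists_nonabelian_cube hΓ hexp hne
  have hQc : Nat.card Q = p ^ 3 := by
    obtain ⟨k, hk⟩ := IsPGroup.iff_card.mp (hΓ.to_subgroup Q)
    rw [hk] at hQle ⊢
    have hk3 : k ≤ 3 := (Nat.pow_le_pow_iff_right hp.one_lt).mp hQle
    have hk2 : ¬ k ≤ 2 := by
      intro hk2
      have key : ∀ a b : Q, a * b = b * a := by
        interval_cases k
        · rw [pow_zero] at hk
          haveI : Subsingleton Q := (Nat.card_eq_one_iff_unique.mp hk).1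
          exact fun a b => Subsingleton.elim _ _
        · haveI := isCyclic_of_prime_card (α := Q) (hk.trans (pow_one p))
          exact fun a b => IsCyclic.commGroup.mul_comm a b
        · exact fun a b => (IsPGroup.isMulCommutative_of_card_eq_prime_sq hk).is_comm.comm a b
      exact hqab (congrArg Subtype.val (key ⟨qa, hqa⟩ ⟨qb, hqb⟩))
    rw [show k = 3 by omega]
  have hnoab : ∀ A : Subgroup Γ, (∀ a ∈ A, ∀ b ∈ A, a * b = b * a) → Nat.card A ≤ p ^ 2 := by
    intro A hA
    by_contra hcard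
    obtain ⟨k, hk⟩ := IsPGroup.iff_card.mp (hΓ.to_subgroup A)
    rw [hk] at hcard
    have hk3 : 3 ≤ k := by
      by_contra h
      exact hcard (Nat.pow_le_pow_right hp.pos (by omega))
    obtain ⟨B, hB⟩ := Sylow.exists_subgroup_card_pow_prime p (G := A) (n := 3)
      (hk ▸ pow_dvd_pow p hk3)
    obtain ⟨e⟩ := hiso Q (B.map A.subtype) (by
      rw [hQc, ← hB]; exact Nat.card_congr (B.equivMapOfInjective _ Subtype.val_injective).toEquiv)
    refine hqab ?_
    have h1 := (e ⟨qa, hqa⟩).2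
    have h2 := (e ⟨qb, hqb⟩).2
    have h3 : e ⟨qa, hqa⟩ * e ⟨qb, hqb⟩ = e ⟨qb, hqb⟩ * e ⟨qa, hqa⟩ := by
      obtain ⟨a, -, ha⟩ := h1
      obtain ⟨b, -, hb⟩ := h2
      apply Subtype.ext
      rw [Subgroup.coe_mul, Subgroup.coe_mul, ← ha, ← hb]
      exact hA _ a.2 _ b.2
    rw [← map_mul, ← map_mul] at h3
    exact congrArg Subtype.val (e.injective h3)
  -- hence the centre has order p
  have hz : m = 1 := by
    by_contra h
    obtain ⟨w, hw, -⟩ := exists_second_center hΓ hne
    have hA : ∀ a ∈ center Γ ⊔ zpowers w, ∀ b ∈ center Γ ⊔ zpowers w, a * b = b * a := by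
      have hle : center Γ ⊔ zpowers w ≤ centralizer ((center Γ ⊔ zpowers w : Subgroup Γ) : Set Γ) := by
        have h1 : center Γ ⊔ zpowers w ≤ centralizer ({w} : Set Γ) := by
          refine sup_le (center_le_centralizer _) ?_
          rw [zpowers_le, mem_centralizer_singleton_iff]
        refine sup_le (center_le_centralizer _) ?_
        rw [zpowers_le, mem_centralizer_iff]
        exact fun a ha => mem_centralizer_singleton_iff.mp (h1 ha)
      exact fun a ha b hb => ((mem_centralizer_iff.mp (hle ha)) b hb).symm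
    have h1 := hnoab _ hA
    have hlt : Nat.card (center Γ) < Nat.card ↥(center Γ ⊔ zpowers w) := by
      refine lt_of_not_ge fun hge => hw ?_
      exact (Subgroup.eq_of_le_of_card_ge le_sup_left hge).symm ▸ mem_sup_right (mem_zpowers w)
    rw [hm] at hlt
    have : p ^ 2 ≤ p ^ m := Nat.pow_le_pow_right hp.pos (by omega)
    omega
  subst hz
  rw [pow_one] at hm
  -- and the group has order p^3
  have hn3 : n = 3 := by
    by_contra h
    obtain ⟨w, hw, hwc⟩ := exists_second_center hΓ hne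
    obtain ⟨⟨z, hzc⟩, hz1⟩ := exists_ne (1 : center Γ)
    have hz1' : z ≠ 1 := fun hh => hz1 (Subtype.ext hh)
    let φ : Γ →* center Γ := MonoidHom.mk' (fun f => ⟨w * f * w⁻¹ * f⁻¹, hwc f⟩) fun a b => by
      apply Subtype.ext
      show w * (a * b) * w⁻¹ * (a * b)⁻¹ = (w * a * w⁻¹ * a⁻¹) * (w * b * w⁻¹ * b⁻¹)
      calc w * (a * b) * w⁻¹ * (a * b)⁻¹
          = (w * a * w⁻¹) * (w * b * w⁻¹ * b⁻¹) * a⁻¹ := by group
        _ = (w * a * w⁻¹) * a⁻¹ * (w * b * w⁻¹ * b⁻¹) := by
            rw [mul_assoc (w * a * w⁻¹), ← mem_center_iff.mp (hwc b) a⁻¹, ← mul_assoc]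
        _ = _ := by group
    have hkerle : φ.ker.index ≤ p := by
      rw [Subgroup.index_ker, ← hm]
      exact Subgroup.card_le_card_group _
    have hker : p ^ 3 ≤ Nat.card φ.ker := by
      have h1 := φ.ker.index_mul_card
      rw [hn] at h1
      have h2 : p ^ 4 ≤ p ^ n := Nat.pow_le_pow_right hp.pos (by omega)
      by_contra h3
      have h4 := Nat.mul_le_mul_right (Nat.card φ.ker) hkerle
      rw [h1] at h4
      have h5 : p * Nat.card φ.ker < p * p ^ 3 := Nat.mul_lt_mul_of_pos_left (not_le.mp h3) hp.pos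
      rw [← pow_succ' p 3] at h5
      exact absurd (h2.trans_lt (h4.trans_lt h5)) (lt_irrefl _)
    have hzw : Commute z w := ((mem_center_iff.mp hzc) w).symm
    have hwz : w ∉ zpowers z := fun hh => hw ((zpowers_le.mpr hzc) hh)
    have hF : Nat.card ↥(zpowers z ⊔ zpowers w) = p ^ 2 :=
      card_sup_zpowers (hexp z) hz1' (hexp w) hzw hwz
    obtain ⟨t, ht, htF⟩ : ∃ t ∈ φ.ker, t ∉ zpowers z ⊔ zpowers w := by
      by_contra! hh
      have := Subgroup.card_le_of_le hh
      rw [hF] at this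
      have : p ^ 2 < p ^ 3 := Nat.pow_lt_pow_right hp.one_lt (by omega)
      omega
    have hwt : w * t = t * w := by
      have h1 : w * t * w⁻¹ * t⁻¹ = 1 := congrArg Subtype.val (MonoidHom.mem_ker.mp ht)
      calc w * t = (w * t * w⁻¹ * t⁻¹) * (t * w) := by group
        _ = t * w := by rw [h1, one_mul]
    set A := (zpowers z ⊔ zpowers w) ⊔ zpowers t with hAdef
    have hA : ∀ a ∈ A, ∀ b ∈ A, a * b = b * a := by
      have h1 : A ≤ centralizer ({z, w, t} : Set Γ) := by
        refine sup_le (sup_le ?_ ?_) ?_ <;> rw [zpowers_le, mem_centralizer_iff] <;> intro a ha <;>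
          rcases ha with rfl | rfl | rfl <;>
          first | rfl | exact hzw.eq | exact hzw.eq.symm | exact hwt | exact hwt.symm |
            exact (mem_center_iff.mp hzc _).symm | exact mem_center_iff.mp hzc _
      have h2 : A ≤ centralizer (A : Set Γ) := by
        refine sup_le (sup_le ?_ ?_) ?_ <;> rw [zpowers_le, mem_centralizer_iff] <;> intro a ha <;>
          exact ((mem_centralizer_iff.mp (h1 ha)) _ (by simp)).symm
      exact fun a ha b hb => ((mem_centralizer_iff.mp (h2 ha)) b hb).symm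
    have h1 := hnoab A hA
    have h2 : zpowers z ⊔ zpowers w = A := Subgroup.eq_of_le_of_card_ge le_sup_left (by rw [hF]; exact h1)
    exact htF (h2.symm ▸ mem_sup_right (mem_zpowers t))
  subst hn3
  refine ⟨hn, hm, fun a b => ?_⟩
  have hq : Nat.card (Γ ⧸ center Γ) = p ^ 2 := by
    rw [← index_eq_card]
    rw [pow_one] at hidx
    exact Nat.eq_of_mul_eq_mul_right hp.pos (hidx.trans (by ring))
  rw [← QuotientGroup.eq_one_iff, QuotientGroup.mk_mul, QuotientGroup.mk_mul, QuotientGroup.mk_mul,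
    QuotientGroup.mk_inv, QuotientGroup.mk_inv,
    (IsPGroup.isMulCommutative_of_card_eq_prime_sq hq).is_comm.comm (a : Γ ⧸ center Γ) (b : Γ ⧸ center Γ)]
  group

/-- The structure of a p-group whose subgroups of equal order are isomorphic. -/
theorem shape [Finite Γ] (hΓ : IsPGroup p Γ)
    (hiso : ∀ H K : Subgroup Γ, Nat.card H = Nat.card K → Nonempty (H ≃* K)) :
    IsCyclic Γ ∨ ((∀ a b : Γ, a * b = b * a) ∧ ∀ x : Γ, x ^ p = 1) ∨
      (p = 2 ∧ Nonempty (Γ ≃* QuaternionGroup 2)) ∨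
      (p ≠ 2 ∧ Nat.card Γ = p ^ 3 ∧ (∀ x : Γ, x ^ p = 1) ∧ Nat.card (center Γ) = p ∧
        ∀ a b : Γ, a * b * a⁻¹ * b⁻¹ ∈ center Γ) := by
  have hp : p.Prime := Fact.out
  by_cases ht : Nontrivial Γ
  swap
  · haveI := not_nontrivial_iff_subsingleton.mp ht
    exact Or.inl inferInstance
  haveI := hΓ.center_nontrivial
  obtain ⟨⟨z0, hz0⟩, hzp⟩ := exists_prime_orderOf_dvd_card' p (G := center Γ)
    (CfsgLib.PGroups.dvd_card_of_ne_bot hΓ ((Subgroup.nontrivial_iff_ne_bot _).mp inferInstance))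
  have hzo : orderOf z0 = p := by rw [← hzp]; exact Subgroup.orderOf_coe ⟨z0, hz0⟩
  have hz : z0 ^ p = 1 := hzo ▸ pow_orderOf_eq_one z0
  by_cases huniq : ∀ y : Γ, y ^ p = 1 → y ∈ zpowers z0
  · rcases CfsgLib.PGroups.isCyclic_or_quaternion_of_unique hΓ hz huniq with h | ⟨rfl, n, hn, ⟨e⟩⟩
    · exact Or.inl h
    refine Or.inr (Or.inr (Or.inl ⟨rfl, ?_⟩))
    by_cases hn1 : n = 1
    · subst hn1; exact ⟨e⟩
    exfalso
    -- a cyclic subgroup of order 8 and a subgroup of order 8 containing `xa 0`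
    haveI : NeZero (2 ^ n : ℕ) := ⟨(Nat.two_pow_pos n).ne'⟩
    set c := e.symm (QuaternionGroup.a 1 ^ (2 ^ (n - 2))) with hcdef
    have hc : orderOf c = 8 := by
      rw [hcdef, MulEquiv.orderOf_eq, orderOf_pow' _ (Nat.two_pow_pos _).ne',
        QuaternionGroup.orderOf_a_one, ← pow_succ', Nat.gcd_eq_right (pow_dvd_pow 2 (by omega)),
        Nat.pow_div (by omega) (by omega), show n + 1 - (n - 2) = 3 by omega]
    set y := e.symm (QuaternionGroup.xa 0) with hydef
    have hy : orderOf y = 4 := by rw [hydef, MulEquiv.orderOf_eq, QuaternionGroup.orderOf_xa]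
    have hdvd : (2 : ℕ) ^ 3 ∣ Nat.card Γ := by
      rw [show (2 : ℕ) ^ 3 = 8 by norm_num, ← hc]
      exact orderOf_dvd_natCard c
    obtain ⟨H, hH, hyH⟩ := Sylow.exists_subgroup_card_pow_prime_le 2 hdvd (zpowers y)
      (n := 2) (by rw [Nat.card_zpowers, hy]; norm_num) (by omega)
    obtain ⟨ψ⟩ := hiso (zpowers c) H (by rw [Nat.card_zpowers, hc, hH]; norm_num)
    set d : H := ψ ⟨c, mem_zpowers c⟩ with hd
    have hdo : orderOf (d : Γ) = 8 := by
      rw [Subgroup.orderOf_coe, hd, MulEquiv.orderOf_eq, ← Subgroup.orderOf_coe]; exact hc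
    obtain ⟨i, hi⟩ : ∃ i, e (d : Γ) = QuaternionGroup.a i := by
      cases hcase : e (d : Γ) with
      | a i => exact ⟨i, rfl⟩
      | xa i =>
        exfalso
        have h1 := congrArg orderOf hcase
        rw [MulEquiv.orderOf_eq, hdo, QuaternionGroup.orderOf_xa] at h1
        omega
    have hHd : H = zpowers (d : Γ) := (Subgroup.eq_of_le_of_card_ge (zpowers_le.mpr d.2)
      (by rw [Nat.card_zpowers, hdo, hH]; norm_num)).symm
    obtain ⟨k, hk⟩ := mem_zpowers_iff.mp (hHd ▸ hyH (mem_zpowers y) : y ∈ zpowers (d : Γ))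
    have h1 := congrArg e hk
    rw [map_zpow, hi, hydef, MulEquiv.apply_symm_apply] at h1
    have h2 : ∀ m : ℤ, ∃ j, (QuaternionGroup.a i : QuaternionGroup (2 ^ n)) ^ m = QuaternionGroup.a j := by
      intro m
      induction m using Int.induction_on with
      | zero => exact ⟨0, rfl⟩
      | succ m ih =>
        obtain ⟨j, hj⟩ := ih
        exact ⟨j + i, by rw [zpow_add_one, hj, QuaternionGroup.a_mul_a]⟩
      | pred m ih =>
        obtain ⟨j, hj⟩ := ih
        exact ⟨j + -i, by rw [zpow_sub_one, hj]; exact QuaternionGroup.a_mul_a j (-i)⟩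
    obtain ⟨j, hj⟩ := h2 k
    rw [hj] at h1
    cases h1
  push Not at huniq
  obtain ⟨y, hyp, hyz⟩ := huniq
  have hz01 : z0 ≠ 1 := fun h => hp.ne_one (by rw [← hzo, h, orderOf_one])
  have hzy : Commute z0 y := (mem_center_iff.mp hz0 y).symm
  have hE : Nat.card ↥(zpowers z0 ⊔ zpowers y) = p ^ 2 := card_sup_zpowers hz hz01 hyp hzy hyz
  have hexp : ∀ x : Γ, x ^ p = 1 := by
    intro x
    by_contra hx
    obtain ⟨k, hk⟩ := IsPGroup.iff_orderOf.mp hΓ x
    have hk2 : 2 ≤ k := by
      by_contra h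
      apply hx
      rw [← orderOf_dvd_iff_pow_eq_one, hk]
      calc p ^ k ∣ p ^ 1 := pow_dvd_pow p (by omega)
        _ = p := pow_one p
    set c := x ^ p ^ (k - 2) with hcdef
    have hc : orderOf c = p ^ 2 := by
      rw [hcdef, orderOf_pow' _ (pow_pos hp.pos _).ne', hk, Nat.gcd_eq_right (pow_dvd_pow p (by omega)),
        Nat.pow_div (by omega) hp.pos, show k - (k - 2) = 2 by omega]
    obtain ⟨ψ⟩ := hiso (zpowers c) (zpowers z0 ⊔ zpowers y) (by rw [Nat.card_zpowers, hc, hE])
    set d := ψ ⟨c, mem_zpowers c⟩ with hd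
    have hdo : orderOf (d : Γ) = p ^ 2 := by
      rw [Subgroup.orderOf_coe, hd, MulEquiv.orderOf_eq, ← Subgroup.orderOf_coe]; exact hc
    have hdp : (d : Γ) ^ p = 1 := by
      obtain ⟨u, hu, v, hv, huv⟩ : ∃ u ∈ zpowers z0, ∃ v ∈ zpowers y, u * v = (d : Γ) :=
        (Subgroup.mem_sup_of_normal_left (hs := ⟨fun a ha g => by
          rw [mem_center_iff.mp (zpowers_le.mpr hz0 ha) g, mul_inv_cancel_right]; exact ha⟩)).mp d.2
      obtain ⟨i, rfl⟩ := mem_zpowers_iff.mp hu
      obtain ⟨j, rfl⟩ := mem_zpowers_iff.mp hv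
      rw [← huv, (hzy.zpow_zpow i j).mul_pow, ← zpow_natCast, ← zpow_natCast, zpow_comm z0,
        zpow_comm y, zpow_natCast, zpow_natCast, hz, hyp, one_zpow, one_zpow, mul_one]
    have := orderOf_dvd_of_pow_eq_one hdp
    rw [hdo] at this
    exact absurd (Nat.le_of_dvd hp.pos this) (not_le.mpr (lt_self_pow₀ hp.one_lt (by norm_num)))
  rcases exponent_shape hΓ hiso hexp with h | ⟨h2, hcard, hzc, hcomm⟩
  · exact Or.inr (Or.inl ⟨h, hexp⟩)
  · exact Or.inr (Or.inr (Or.inr ⟨h2, hcard, hexp, hzc, hcomm⟩))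

end CfsgLib.FgsC.EqualOrderConj
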