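import Mathlib
import Cfsg.Agent.Lib.Ward.Fitting

/-!
# Fitting height: reduction to irreducible linear groups
-/

set_option linter.style.haveILetI false
set_option autoImplicit false

namespace CfsgLib.FgsC.FittingReduction

open Cfsg CfsgLib.Ward

universe u v

variable {A : Type v} [Group A] [Finite A]

/-- The reduction to irreducible linear groups: if those have trivial `k`-th term of the lower central
series for an admissible `k`, so has the quotient by the Fitting subgroup. -/
theorem exists_lowerCentralSeries_le_fitting (hAs : Group.IsSolvable A) (ok : ℕ → Prop)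
    (hok₀ : ∃ k, ok k) (hokmax : ∀ a b, ok a → ok b → ok (max a b))
    (hlin : ∀ (Γ : Type (max u v)) [Group Γ] [Finite Γ] (V : Type u) [CommGroup V] [Finite V]
      [Nontrivial V] (φ : Γ →* MulAut V) (ι : A →* Γ) (L : Subgroup Γ),
      (∃ r, r.Prime ∧ ∀ v : V, v ^ r = 1) → ι.range ≤ Subgroup.normalizer (L : Set Γ) →
      Group.IsSolvable L → (Nat.card L).Coprime (Nat.card A) →
      (Nat.card V).Coprime (Nat.card A) → (∀ x ∈ L, φ x = 1 → x = 1) →
      (∀ v : V, (∀ a, φ (ι a) v = v) → v = 1) →
      (∀ x ∈ L, (∀ a, ι a * x = x * ι a) → x = 1) →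
      (∀ W : Subgroup V, (∀ g, g ∈ ι.range ∨ g ∈ L → ∀ v ∈ W, φ g v ∈ W) → W = ⊥ ∨ W = ⊤) →
      ∃ k, ok k ∧ (⊤ : Subgroup L).lowerCentralSeries k = ⊥) :
    ∀ (n : ℕ) (G : Type u) [Group G] [Finite G], Nat.card G = n → Group.IsSolvable G →
      (Nat.card G).Coprime (Nat.card A) → ∀ ρ : A →* MulAut G, (∀ g, (∀ a, ρ a g = g) → g = 1) →
        ∃ k : ℕ, ok k ∧ (⊤ : Subgroup G).lowerCentralSeries k ≤ fittingSubgroup G := by
  intro n
  induction n using Nat.strong_induction_on with
  | _ n ih =>
    intro G _ _ hn hG hGA ρ hfpf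
    classical
    haveI := hG
    rcases subsingleton_or_nontrivial G with hS | hS
    · obtain ⟨k, hk⟩ := hok₀
      exact ⟨k, hk, fun g _ => by rw [Subsingleton.elim g 1]; exact one_mem _⟩
    have hcopA : ∀ N : Subgroup G, (Nat.card A).Coprime (Nat.card N) := fun N =>
      (hGA.coprime_dvd_left (Subgroup.card_subgroup_dvd_card N)).symm
    -- a minimal invariant normal subgroup
    obtain ⟨V, ⟨hVne, hVn, hVinv⟩, hVmin⟩ := Set.exists_min_image
      {V : Subgroup G | V ≠ ⊥ ∧ V.Normal ∧ ∀ a, ∀ v ∈ V, ρ a v ∈ V} (fun V => Nat.card V)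
      (Set.toFinite _) ⟨⊤, top_ne_bot, inferInstance, fun a v _ => Subgroup.mem_top _⟩
    haveI := hVn
    have hVmin' : ∀ U : Subgroup G, U ≤ V → U.Normal → (∀ a, ∀ v ∈ U, ρ a v ∈ U) → U ≠ ⊥ →
        U = V := fun U h1 h2 h3 h4 => Subgroup.eq_of_le_of_card_ge h1 (hVmin U ⟨h4, h2, h3⟩)
    have hVab : ∀ v ∈ V, ∀ w ∈ V, v * w = w * v := by
      have hlt : ⁅V, V⁆ < V := CfsgLib.Base.commutator_self_lt_of_isSolvable hVne inferInstance
      have hbot : ⁅V, V⁆ = ⊥ := by
        by_contra h
        refine hlt.ne (hVmin' _ hlt.le inferInstance (fun a v hv => ?_) h)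
        have h1 : (⁅V, V⁆).map (ρ a).toMonoidHom ≤ ⁅V, V⁆ := by
          rw [Subgroup.map_commutator]
          exact Subgroup.commutator_mono (by rintro _ ⟨w, hw, rfl⟩; exact hVinv a w hw)
            (by rintro _ ⟨w, hw, rfl⟩; exact hVinv a w hw)
        exact h1 ⟨v, hv, rfl⟩
      intro v hv w hw
      exact (Subgroup.mem_centralizer_iff.mp
        (Subgroup.commutator_eq_bot_iff_le_centralizer.mp hbot hv) w hw).symm
    obtain ⟨r, hr, hrdvd⟩ : ∃ r, r.Prime ∧ r ∣ Nat.card V :=
      ⟨_, Nat.minFac_prime fun h => hVne (Subgroup.eq_bot_of_card_eq _ h), Nat.minFac_dvd _⟩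
    haveI := Fact.mk hr
    have hVexp : ∀ v : V, v ^ r = 1 := by
      let R : Subgroup G :=
        { carrier := {v | v ∈ V ∧ v ^ r = 1}
          mul_mem' := fun {u w} hu hw => ⟨V.mul_mem hu.1 hw.1, by
            rw [(show Commute u w from hVab u hu.1 w hw.1).mul_pow, hu.2, hw.2, one_mul]⟩
          one_mem' := ⟨V.one_mem, one_pow r⟩
          inv_mem' := fun {u} hu => ⟨V.inv_mem hu.1, by rw [inv_pow, hu.2, inv_one]⟩ }
      have hRn : R.Normal := ⟨fun u hu g => ⟨hVn.conj_mem u hu.1 g, by
        rw [conj_pow, hu.2, mul_one, mul_inv_cancel]⟩⟩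
      obtain ⟨v, hv⟩ := exists_prime_orderOf_dvd_card' (G := V) r hrdvd
      have hv' : (v : G) ^ r = 1 := by
        rw [← Subgroup.orderOf_coe] at hv
        rw [← hv, pow_orderOf_eq_one]
      have hRV : R = V := hVmin' R (fun u hu => hu.1) hRn
        (fun a u hu => ⟨hVinv a u hu.1, by rw [← map_pow, hu.2, map_one]⟩) fun h => by
          have hmem : (v : G) ∈ R := ⟨v.2, hv'⟩
          rw [h, Subgroup.mem_bot] at hmem
          rw [show v = 1 from Subtype.ext hmem, orderOf_one] at hv
          exact hr.ne_one hv.symm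
      intro v
      have hmem : (v : G) ∈ R := hRV.symm ▸ v.2
      exact Subtype.ext hmem.2
    haveI : Nontrivial V := (Subgroup.nontrivial_iff_ne_bot V).mpr hVne
    -- the quotient by `V`
    have hVfit : ∃ k : ℕ, ok k ∧
        (⊤ : Subgroup (G ⧸ V)).lowerCentralSeries k ≤ fittingSubgroup (G ⧸ V) := by
      refine ih _ (hn ▸ CfsgLib.Coprime.card_quotient_lt hVne) (G ⧸ V) rfl inferInstance
        (hGA.coprime_dvd_left (Subgroup.card_quotient_dvd_card V))
        (quotientOp ρ V hVinv) fun x hx => ?_
      obtain ⟨g, rfl⟩ := QuotientGroup.mk_surjective x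
      obtain ⟨c, hc, hgc⟩ := exists_fixed_in_coset hAs ρ V hVinv (hcopA V)
        (x := g) (fun a => QuotientGroup.eq.mp ((quotientOp_mk ρ V hVinv a g).symm.trans (hx a)).symm)
      rw [hfpf c hc, mul_one] at hgc
      rw [QuotientGroup.eq_one_iff]
      simpa using V.inv_mem hgc
    -- the centralizer of `V`
    set C := Subgroup.centralizer (V : Set G) with hC
    haveI hCn : C.Normal := inferInstance
    have hCinv : ∀ a, ∀ c ∈ C, ρ a c ∈ C := fun a c hc => by
      rw [hC, Subgroup.mem_centralizer_iff]
      intro v hv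
      have h1 := Subgroup.mem_centralizer_iff.mp hc (ρ a⁻¹ v) (hVinv a⁻¹ v hv)
      have h2 := congrArg (ρ a) h1
      rwa [map_mul, map_mul, ← MulAut.mul_apply, ← map_mul, mul_inv_cancel, map_one,
        MulAut.one_apply] at h2
    have hGC : ∃ k, ok k ∧ (⊤ : Subgroup (G ⧸ C)).lowerCentralSeries k = ⊥ := by
      haveI : Finite ((G ⧸ C) ⋊[quotientOp ρ C hCinv] A) :=
        Finite.of_equiv _ SemidirectProduct.equivProd.symm
      letI : CommGroup V :=
        { (inferInstance : Group V) with mul_comm := fun v w => Subtype.ext (hVab v v.2 w w.2) }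
      let τ : G →* MulAut V := MulAut.conjNormal
      let ψ : G ⧸ C →* MulAut V := QuotientGroup.lift C τ fun c hc => by
        refine MulEquiv.ext fun v => Subtype.ext ?_
        show c * (v : G) * c⁻¹ = v
        rw [← Subgroup.mem_centralizer_iff.mp hc v v.2, mul_inv_cancel_right]
      have hψinj : Function.Injective ψ := by
        rw [injective_iff_map_eq_one]
        intro x hx
        obtain ⟨g, rfl⟩ := QuotientGroup.mk_surjective x
        rw [QuotientGroup.eq_one_iff, hC, Subgroup.mem_centralizer_iff]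
        intro v hv
        have h0 := congrArg Subtype.val (DFunLike.congr_fun hx (⟨v, hv⟩ : V))
        have h1 : g * v * g⁻¹ = v := h0
        exact (mul_inv_eq_iff_eq_mul.mp h1).symm
      let σ : A →* MulAut V :=
        { toFun := fun a =>
            { toFun := fun v => ⟨ρ a v, hVinv a v v.2⟩
              invFun := fun v => ⟨ρ a⁻¹ v, hVinv a⁻¹ v v.2⟩
              left_inv := fun v => Subtype.ext (by
                show ρ a⁻¹ (ρ a v) = v
                rw [← MulAut.mul_apply, ← map_mul, inv_mul_cancel, map_one, MulAut.one_apply])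
              right_inv := fun v => Subtype.ext (by
                show ρ a (ρ a⁻¹ v) = v
                rw [← MulAut.mul_apply, ← map_mul, mul_inv_cancel, map_one, MulAut.one_apply])
              map_mul' := fun v w => Subtype.ext (map_mul (ρ a) _ _) }
          map_one' := MulEquiv.ext fun v => Subtype.ext (by
            show ρ 1 v = v
            rw [map_one, MulAut.one_apply])
          map_mul' := fun a b => MulEquiv.ext fun v => Subtype.ext (by
            show ρ (a * b) v = ρ a (ρ b v)
            rw [map_mul, MulAut.mul_apply]) }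
      let φ : (G ⧸ C) ⋊[quotientOp ρ C hCinv] A →* MulAut V :=
        SemidirectProduct.lift ψ σ fun a => by
          refine MonoidHom.ext fun x => ?_
          obtain ⟨g, rfl⟩ := QuotientGroup.mk_surjective x
          refine MulEquiv.ext fun v => Subtype.ext ?_
          show ρ a g * (v : G) * (ρ a g)⁻¹ = ρ a (g * (ρ a⁻¹ v : G) * g⁻¹)
          simp only [map_mul, map_inv, MulAut.apply_inv_self]
      set Γ := (G ⧸ C) ⋊[quotientOp ρ C hCinv] A
      set A' := (SemidirectProduct.inr : A →* Γ).range with hA'
      set L := (SemidirectProduct.inl : G ⧸ C →* Γ).range with hL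
      have hLcard : Nat.card L = Nat.card (G ⧸ C) :=
        (Nat.card_congr (MonoidHom.ofInjective (f := (SemidirectProduct.inl : G ⧸ C →* Γ))
          SemidirectProduct.inl_injective).toEquiv).symm
      have hLlcs : ∃ k, ok k ∧ (⊤ : Subgroup L).lowerCentralSeries k = ⊥ := by
        refine hlin Γ V φ SemidirectProduct.inr L ⟨r, hr, fun v => ?_⟩ ?_ ?_ ?_
          (hGA.coprime_dvd_left (Subgroup.card_subgroup_dvd_card V)) ?_ ?_ ?_ ?_
        · exact hVexp v
        · rw [hL, SemidirectProduct.range_inl_eq_ker_rightHom]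
          exact le_top.trans_eq (Subgroup.normalizer_eq_top _).symm
        · exact Group.isSolvable_of_surjective
            (f := (SemidirectProduct.inl : G ⧸ C →* Γ).rangeRestrict) (MonoidHom.rangeRestrict_surjective _)
        · rw [hLcard]
          exact hGA.coprime_dvd_left (Subgroup.card_quotient_dvd_card C)
        · rintro _ ⟨x, rfl⟩ hx
          rw [show φ (SemidirectProduct.inl x) = ψ x from SemidirectProduct.lift_inl _ _ _ x] at hx
          rw [hψinj (hx.trans (map_one ψ).symm), map_one]
        · intro v hv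
          refine Subtype.ext (hfpf v fun a => ?_)
          have h1 := hv a
          rw [show φ (SemidirectProduct.inr a) = σ a from SemidirectProduct.lift_inr _ _ _ a] at h1
          exact congrArg Subtype.val h1
        · rintro _ ⟨x, rfl⟩ hx
          obtain ⟨g, rfl⟩ := QuotientGroup.mk_surjective x
          have hfix : ∀ a, g⁻¹ * ρ a g ∈ C := fun a => by
            rw [← QuotientGroup.eq, ← quotientOp_mk ρ C hCinv a g]
            refine SemidirectProduct.inl_injective (φ := quotientOp ρ C hCinv) ?_
            rw [SemidirectProduct.inl_aut, map_inv, hx a, mul_inv_cancel_right]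
          obtain ⟨c, hc, hgc⟩ := exists_fixed_in_coset hAs ρ C hCinv (hcopA C) hfix
          rw [hfpf c hc, mul_one] at hgc
          rw [(QuotientGroup.eq_one_iff g).mpr (by simpa using C.inv_mem hgc), map_one]
        · intro W hW
          have hn : (W.map V.subtype).Normal := ⟨by
            rintro _ ⟨w, hw, rfl⟩ g
            refine ⟨φ (SemidirectProduct.inl (g : G ⧸ C)) w,
              hW _ (Or.inr ⟨_, rfl⟩) w hw, ?_⟩
            rw [show φ (SemidirectProduct.inl (g : G ⧸ C)) = ψ (g : G ⧸ C) from
              SemidirectProduct.lift_inl _ _ _ _]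
            rfl⟩
          by_cases hWb : W = ⊥
          · exact Or.inl hWb
          · right
            have h1 : W.map V.subtype = V := hVmin' _ (Subgroup.map_subtype_le W) hn
              (by
                rintro a _ ⟨w, hw, rfl⟩
                refine ⟨φ (SemidirectProduct.inr a) w, hW _ (Or.inl ⟨a, rfl⟩) w hw, ?_⟩
                rw [show φ (SemidirectProduct.inr a) = σ a from SemidirectProduct.lift_inr _ _ _ a]
                rfl)
              (fun h => hWb ((Subgroup.map_eq_bot_iff_of_injective _ V.subtype_injective).mp h))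
            rw [eq_top_iff]
            intro w _
            have hw : (w : G) ∈ W.map V.subtype := h1.symm ▸ w.2
            obtain ⟨w', hw', e⟩ := hw
            rwa [← Subtype.ext (e : (w' : G) = w)]
      obtain ⟨k, hk, hkb⟩ := hLlcs
      refine ⟨k, hk, ?_⟩
      let e := MonoidHom.ofInjective (f := (SemidirectProduct.inl : G ⧸ C →* Γ))
        SemidirectProduct.inl_injective
      have h := congrArg (Subgroup.map e.symm.toMonoidHom) hkb
      rwa [Subgroup.map_lowerCentralSeries, Subgroup.map_top_of_surjective _ e.symm.surjective,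
        Subgroup.map_bot] at h
    -- assembling
    haveI hFn : (fittingSubgroup (G ⧸ V)).Normal := CfsgLib.Base.fittingSubgroup_normal' _
    set M := (fittingSubgroup (G ⧸ V)).comap (QuotientGroup.mk' V) ⊓ C with hM
    have hMfit : M ≤ fittingSubgroup G := by
      refine CfsgLib.Base.le_fittingSubgroup ?_
      let f : M →* G ⧸ V := (QuotientGroup.mk' V).comp M.subtype
      haveI : Group.IsNilpotent f.range := by
        refine CfsgLib.Base.isNilpotent_of_le ?_ (CfsgLib.Base.isNilpotent_fittingSubgroup (G ⧸ V))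
        rintro _ ⟨x, rfl⟩
        exact x.2.1
      refine Subgroup.isNilpotent_of_ker_le_center f.rangeRestrict ?_
      intro x hx
      rw [MonoidHom.mem_ker] at hx
      have hxV : (x : G) ∈ V := (QuotientGroup.eq_one_iff _).mp (congrArg Subtype.val hx)
      rw [Subgroup.mem_center_iff]
      exact fun y => Subtype.ext (Subgroup.mem_centralizer_iff.mp y.2.2 x hxV).symm
    obtain ⟨k₁, hok₁, hk₁⟩ := hVfit
    obtain ⟨k₂, hok₂, hk₂⟩ := hGC
    refine ⟨max k₁ k₂, hokmax _ _ hok₁ hok₂, fun g hg => hMfit ⟨?_, ?_⟩⟩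
    · have hm : QuotientGroup.mk' V g ∈ ((⊤ : Subgroup G).lowerCentralSeries (max k₁ k₂)).map
          (QuotientGroup.mk' V) := ⟨g, hg, rfl⟩
      rw [Subgroup.map_lowerCentralSeries, Subgroup.map_top_of_surjective _
        (QuotientGroup.mk'_surjective V)] at hm
      exact hk₁ (Subgroup.lowerCentralSeries_antitone _ (le_max_left _ _) hm)
    · have hm : QuotientGroup.mk' C g ∈ ((⊤ : Subgroup G).lowerCentralSeries (max k₁ k₂)).map
          (QuotientGroup.mk' C) := ⟨g, hg, rfl⟩
      rw [Subgroup.map_lowerCentralSeries, Subgroup.map_top_of_surjective _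
        (QuotientGroup.mk'_surjective C)] at hm
      have hm' := Subgroup.lowerCentralSeries_antitone _ (le_max_right k₁ k₂) hm
      rw [hk₂, Subgroup.mem_bot] at hm'
      exact (QuotientGroup.eq_one_iff g).mp hm'

end CfsgLib.FgsC.FittingReduction
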