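import Mathlib
import Cfsg.Agent.Lib.Transfer.Alperin

/-!
# Local control of fusion by tame intersections
-/

set_option autoImplicit false

open Subgroup

namespace CfsgLib.FgsC

variable {G : Type*} [Group G] [Finite G] {p : ℕ} [hp : Fact p.Prime]

/-- The tame intersection property for `P ⊓ Q`. -/
def IsTame (P Q : Sylow p G) : Prop :=
  ¬ p ∣ ((P : Subgroup G) ⊓ normalizer (((P : Subgroup G) ⊓ (Q : Subgroup G) : Subgroup G) : Set G)).relIndex
      (normalizer (((P : Subgroup G) ⊓ (Q : Subgroup G) : Subgroup G) : Set G)) ∧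
    ¬ p ∣ ((Q : Subgroup G) ⊓ normalizer (((P : Subgroup G) ⊓ (Q : Subgroup G) : Subgroup G) : Set G)).relIndex
      (normalizer (((P : Subgroup G) ⊓ (Q : Subgroup G) : Subgroup G) : Set G))

/-- The differences `a⁻¹ a^g` all lie in a subgroup containing the local focal generators. -/
theorem diff_mem (P : Sylow p G) (R : Subgroup G)
    (hloc : ∀ Q : Sylow p G, IsTame P Q →
      ∀ x ∈ normalizer (((P : Subgroup G) ⊓ (Q : Subgroup G) : Subgroup G) : Set G),
        (∃ k : ℕ, orderOf x = p ^ k) → ⁅(P : Subgroup G) ⊓ (Q : Subgroup G), zpowers x⁆ ≤ R)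
    (htop : ⁅(P : Subgroup G), normalizer ((P : Subgroup G) : Set G)⁆ ≤ R) :
    ∀ (U : Subgroup G) (g : G), U ≤ (P : Subgroup G) → (∀ a ∈ U, g⁻¹ * a * g ∈ (P : Subgroup G)) →
      True ∧ ∀ a ∈ U, a * (g⁻¹ * a⁻¹ * g) ∈ R := by
  suffices key : ∀ (n : ℕ) (U : Subgroup G) (g : G), Nat.card G ≤ Nat.card U + n →
      U ≤ (P : Subgroup G) → (∀ a ∈ U, g⁻¹ * a * g ∈ (P : Subgroup G)) →
      ∀ a ∈ U, a * (g⁻¹ * a⁻¹ * g) ∈ R from
    fun U g hU hg => ⟨trivial, key (Nat.card G) U g (Nat.le_add_left _ _) hU hg⟩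
  intro n
  induction n using Nat.strong_induction_on with
  | _ n ih =>
  -- a single step, for a tame intersection
  intro U g hn hU hg
  have step : ∀ (Q : Sylow p G), IsTame P Q → Nat.card U ≤ Nat.card ↥((P : Subgroup G) ⊓ (Q : Subgroup G)) →
      ∀ x ∈ normalizer (((P : Subgroup G) ⊓ (Q : Subgroup G) : Subgroup G) : Set G),
        ∀ a ∈ (P : Subgroup G) ⊓ (Q : Subgroup G), a * (x⁻¹ * a⁻¹ * x) ∈ R := by
    intro Q hQ hcard x hx a ha
    set D : Subgroup G := (P : Subgroup G) ⊓ (Q : Subgroup G) with hD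
    rcases (inf_le_left : D ≤ (P : Subgroup G)).eq_or_lt with hDP | hDP
    · rw [hD, hDP] at ha hx
      refine htop ?_
      have := commutator_mem_commutator ha (inv_mem hx)
      simpa [commutatorElement_def, mul_assoc] using this
    set N : Subgroup G := normalizer (D : Set G) with hNdef
    -- the Sylow subgroup of `N`
    let S : Sylow p N :=
      ((P.2.to_le (inf_le_left : (P : Subgroup G) ⊓ N ≤ _)).comap_subtype (K := N)).toSylow hQ.1
    have hS : ((S : Subgroup N)).map N.subtype = (P : Subgroup G) ⊓ N := by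
      show (((P : Subgroup G) ⊓ N).subgroupOf N).map N.subtype = _
      rw [subgroupOf_map_subtype, inf_eq_left.mpr inf_le_right]
    have hDS : Nat.card D < Nat.card ↥((P : Subgroup G) ⊓ N) :=
      CfsgLib.Transfer.card_lt_card_of_lt (CfsgLib.Transfer.lt_inf_normalizer P.isPGroup' hDP)
    -- elements of `N` normalizing the Sylow subgroup of `N`
    have hy : ∀ y : N, y ∈ normalizer ((S : Subgroup N) : Set N) → ∀ b ∈ D, b * ((y : G)⁻¹ * b⁻¹ * y) ∈ R := by
      intro y hy b hb
      have hb' : b ∈ (P : Subgroup G) ⊓ N := ⟨hDP.le hb, le_normalizer hb⟩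
      refine ih (Nat.card G - Nat.card ↥((P : Subgroup G) ⊓ N)) ?_ ((P : Subgroup G) ⊓ N) y ?_ inf_le_left ?_ b hb'
      · have := card_le_card_group ((P : Subgroup G) ⊓ N)
        omega
      · have := card_le_card_group ((P : Subgroup G) ⊓ N)
        omega
      · intro c hc
        have hc' : (⟨c, hc.2⟩ : N) ∈ (S : Subgroup N) := mem_subgroupOf.mpr hc
        have := (mem_normalizer_iff''.mp hy _).mp hc'
        exact (mem_subgroupOf.mp this).1
    -- the subgroup generated by the `p`-elements of `N`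
    set X : Subgroup N := closure {y : N | ∃ k : ℕ, orderOf y = p ^ k} with hX
    have hXn : X.Normal := by
      refine ⟨fun y hy z => ?_⟩
      have : X.map (MulAut.conj z).toMonoidHom ≤ X := by
        rw [hX, MonoidHom.map_closure]
        refine closure_mono ?_
        rintro _ ⟨w, ⟨k, hk⟩, rfl⟩
        exact ⟨k, by rw [MulEquiv.toMonoidHom_eq_coe, MonoidHom.coe_coe, MulEquiv.orderOf_eq, hk]⟩
      exact this ⟨y, hy, rfl⟩
    have hSX : (S : Subgroup N) ≤ X := fun y hy => subset_closure (by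
      obtain ⟨k, hk⟩ := IsPGroup.iff_orderOf.mp S.isPGroup' ⟨y, hy⟩
      exact ⟨k, by rwa [orderOf_mk] at hk⟩)
    have hsup : normalizer ((S : Subgroup N) : Set N) ⊔ X = ⊤ := Sylow.normalizer_sup_eq_top' S hSX
    obtain ⟨y, hyS, u, hu, hyu⟩ := mem_sup_of_normal_right.mp
      (hsup ▸ mem_top (⟨x, hx⟩ : N) : (⟨x, hx⟩ : N) ∈ normalizer ((S : Subgroup N) : Set N) ⊔ X)
    -- elements of `X` move `D` inside `R`
    have hXR : ∀ w ∈ X, ∀ b ∈ D, b * ((w : G)⁻¹ * b⁻¹ * w) ∈ R := by
      intro w hw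
      induction hw using closure_induction with
      | mem w hw =>
        intro b hb
        obtain ⟨k, hk⟩ := hw
        refine hloc Q hQ (w : G) w.2 ⟨k, by rw [orderOf_coe, hk]⟩ ?_
        have := commutator_mem_commutator hb (inv_mem (mem_zpowers (w : G)))
        simpa [commutatorElement_def, mul_assoc] using this
      | one => intro b _; simp
      | mul v w _ _ h1 h2 =>
        intro b hb
        have hb' : (v : G)⁻¹ * b * v ∈ D := (mem_normalizer_iff''.mp v.2 b).mp hb
        have := mul_mem (h1 b hb) (h2 _ hb')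
        simpa [mul_assoc] using this
      | inv v _ h1 =>
        intro b hb
        have hb' : (v : G) * b * (v : G)⁻¹ ∈ D := (mem_normalizer_iff.mp v.2 b).mp hb
        have := inv_mem (h1 _ hb')
        simpa [mul_assoc] using this
    have hxe : x = (y : G) * (u : G) := (congrArg Subtype.val hyu).symm
    have ha' : (y : G)⁻¹ * a * y ∈ D := (mem_normalizer_iff''.mp y.2 a).mp ha
    have := mul_mem (hy y hyS a ha) (hXR u hu _ ha')
    rw [hxe]
    simpa [mul_assoc] using this
  have chain : ∀ (A : Set G) (k : G), CfsgLib.Transfer.FusionChain P A k →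
      ∀ V : Subgroup G, Nat.card U ≤ Nat.card V → (V : Set G) = A → ∀ a ∈ A, a * (k⁻¹ * a⁻¹ * k) ∈ R := by
    intro A k hc
    induction hc with
    | nil A => intro V _ _ a _; simp
    | @cons A k Q x hxN hP hQ hA _ ih2 =>
      intro V hV hVA a ha
      have hcard : Nat.card U ≤ Nat.card ↥((P : Subgroup G) ⊓ (Q : Subgroup G)) :=
        hV.trans (card_le_of_le fun v hv => hA (hVA ▸ hv))
      have h1 := step Q ⟨hP, hQ⟩ hcard x hxN a (hA ha)
      have h2 := ih2 (V.map (MulAut.conj x⁻¹).toMonoidHom) (hV.trans (le_of_eq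
          (Nat.card_congr (V.equivMapOfInjective _ (MulAut.conj x⁻¹).injective).toEquiv)))
        (by
          rw [coe_map, hVA]
          ext; simp)
        _ ⟨a, ha, rfl⟩
      have := mul_mem h1 h2
      simpa [mul_assoc] using this
  exact chain _ g (CfsgLib.Transfer.fusionChain P (A := (U : Set G)) (fun a ha => hU ha) hg) U le_rfl rfl

/-- If for nontrivial tame intersections the automizer is a `p`-group, then `P` controls the
fusion of its elements. -/
theorem conj_in_sylow_of_tame (P : Sylow p G)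
    (h : ∀ Q : Sylow p G, (P : Subgroup G) ⊓ (Q : Subgroup G) ≠ ⊥ → IsTame P Q →
      IsPGroup p (normalizer (((P : Subgroup G) ⊓ (Q : Subgroup G) : Subgroup G) : Set G) ⧸
        (centralizer (((P : Subgroup G) ⊓ (Q : Subgroup G) : Subgroup G) : Set G)).subgroupOf
          (normalizer (((P : Subgroup G) ⊓ (Q : Subgroup G) : Subgroup G) : Set G)))) :
    ∀ x ∈ (P : Subgroup G), ∀ g : G, g * x * g⁻¹ ∈ (P : Subgroup G) →
      ∃ k ∈ (P : Subgroup G), k * x * k⁻¹ = g * x * g⁻¹ := by
  have key : ∀ (A : Set G) (g : G), CfsgLib.Transfer.FusionChain P A g →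
      ∀ a ∈ A, ∃ k ∈ (P : Subgroup G), k⁻¹ * a * k = g⁻¹ * a * g := by
    intro A g hc
    induction hc with
    | nil A => exact fun a _ => ⟨1, one_mem _, rfl⟩
    | @cons A g Q x hxN hP hQ hA _ ih =>
      intro a ha
      obtain ⟨k, hk, hk'⟩ := ih _ ⟨a, ha, rfl⟩
      set D : Subgroup G := (P : Subgroup G) ⊓ (Q : Subgroup G) with hD
      by_cases hbot : D = ⊥
      · have h1 : a = 1 := mem_bot.mp (hbot ▸ hA ha)
        exact ⟨1, one_mem _, by simp [h1]⟩
      let N : Subgroup G := normalizer (D : Set G)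
      let C : Subgroup N := (centralizer (D : Set G)).subgroupOf N
      let S : Sylow p N :=
        ((P.2.to_le (inf_le_left : (P : Subgroup G) ⊓ N ≤ _)).comap_subtype (K := N)).toSylow hP
      obtain ⟨e, he⟩ := IsPGroup.iff_card.mp (h Q hbot ⟨hP, hQ⟩)
      have htop : (S : Subgroup N) ⊔ C = ⊤ := by
        refine index_eq_one.mp (Nat.eq_one_of_dvd_coprimes ?_ (index_dvd_of_le le_sup_left)
          ((index_dvd_of_le (le_sup_right (a := (S : Subgroup N)))).trans (dvd_of_eq he)))
        exact Nat.Coprime.pow_right e ((hp.out.coprime_iff_not_dvd.mpr S.not_dvd_index).symm)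
      obtain ⟨u, hu, c, hc, huc⟩ := mem_sup_of_normal_right.mp
        (htop ▸ mem_top (⟨x, hxN⟩ : N) : (⟨x, hxN⟩ : N) ∈ (S : Subgroup N) ⊔ C)
      have huP : (u : G) ∈ (P : Subgroup G) := (mem_subgroupOf.mp hu).1
      have hau : (u : G)⁻¹ * a * u ∈ D := (mem_normalizer_iff''.mp u.2 a).mp (hA ha)
      have hcomm := (mem_subgroupOf.mp hc) _ hau
      have hxu : x⁻¹ * a * x = (u : G)⁻¹ * a * u := by
        have hxe : x = (u : G) * (c : G) := (congrArg Subtype.val huc).symm
        calc x⁻¹ * a * x = (c : G)⁻¹ * (((u : G)⁻¹ * a * u) * c) := by rw [hxe]; group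
          _ = (c : G)⁻¹ * (c * ((u : G)⁻¹ * a * u)) := by rw [hcomm]
          _ = _ := by group
      refine ⟨u * k, mul_mem huP hk, ?_⟩
      calc ((u : G) * k)⁻¹ * a * (u * k) = k⁻¹ * ((u : G)⁻¹ * a * u) * k := by group
        _ = k⁻¹ * (x⁻¹ * a * x) * k := by rw [hxu]
        _ = g⁻¹ * (x⁻¹ * a * x) * g := hk'
        _ = _ := by group
  intro x hx g hg
  obtain ⟨k, hk, hk'⟩ := key _ _
    (CfsgLib.Transfer.fusionChain P (A := {x}) (g := g⁻¹) (Set.singleton_subset_iff.mpr hx)
      (fun a ha => by rw [Set.mem_singleton_iff] at ha; rw [ha, inv_inv]; exact hg)) x rfl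
  exact ⟨k⁻¹, inv_mem hk, by simpa using hk'⟩

end CfsgLib.FgsC
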