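/-
An element whose commutator space on an elementary abelian 2-group is a four-group, inside a
`{3, p}`-group: the conjugates of the four-group under a normal `p`-subgroup.
-/
import Mathlib

set_option autoImplicit false

namespace CfsgLib.FgsC.FourComm

open Subgroup
open scoped commutatorElement

variable {S M : Type*} [Group S] [CommGroup M]

/-- `m ↦ [s, m]` -/
def cf (ψ : S →* MulAut M) (s : S) : M →* M where
  toFun m := ψ s m * m⁻¹
  map_one' := by simp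
  map_mul' a b := by rw [map_mul, mul_inv]; exact mul_mul_mul_comm _ _ _ _

/-- the commutator space of `s` -/
def W (ψ : S →* MulAut M) (s : S) : Subgroup M := (cf ψ s).range

/-- `s` maps `U` to itself -/
def Inv (ψ : S →* MulAut M) (U : Subgroup M) : Subgroup S where
  carrier := {s | ∀ u, ψ s u ∈ U ↔ u ∈ U}
  one_mem' := fun u => by simp
  mul_mem' := fun {a b} ha hb u => by rw [map_mul, MulAut.mul_apply, ha, hb]
  inv_mem' := fun {a} ha u => by
    rw [map_inv, ← ha ((ψ a)⁻¹ u), MulAut.apply_inv_self]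

variable {ψ : S →* MulAut M}

lemma cf_apply (s : S) (m : M) : cf ψ s m = ψ s m * m⁻¹ := rfl

lemma mem_W {s : S} {w : M} : w ∈ W ψ s ↔ ∃ m, ψ s m * m⁻¹ = w := Iff.rfl

lemma cf_mem_W (s : S) (m : M) : ψ s m * m⁻¹ ∈ W ψ s := ⟨m, rfl⟩

lemma psi_inv_self (s : S) (m : M) : ψ s⁻¹ (ψ s m) = m := by
  rw [map_inv, MulAut.inv_apply_self]

lemma psi_self_inv (s : S) (m : M) : ψ s (ψ s⁻¹ m) = m := by
  rw [map_inv, MulAut.apply_inv_self]

lemma psi_comp (s t : S) (m : M) : ψ (s * t) m = ψ s (ψ t m) := by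
  rw [map_mul, MulAut.mul_apply]

lemma W_conj (t s : S) : W ψ (t * s * t⁻¹) = (W ψ s).map (ψ t).toMonoidHom := by
  ext w
  rw [Subgroup.mem_map, mem_W]
  constructor
  · rintro ⟨m, rfl⟩
    refine ⟨_, cf_mem_W s (ψ t⁻¹ m), ?_⟩
    simp [map_mul, MulAut.mul_apply, MulAut.apply_inv_self]
  · rintro ⟨_, ⟨m, rfl⟩, rfl⟩
    refine ⟨ψ t m, ?_⟩
    simp [cf_apply, map_mul, MulAut.mul_apply, psi_inv_self]

lemma W_congr {s t : S} (h : ψ s = ψ t) : W ψ s = W ψ t := by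
  ext w; rw [mem_W, mem_W, h]

lemma map_eq_iff_inv [Finite M] {U : Subgroup M} {s : S} :
    U.map (ψ s).toMonoidHom = U ↔ s ∈ Inv ψ U := by
  constructor
  · intro h u
    conv_lhs => rw [← h]
    exact Subgroup.mem_map_iff_mem (K := U) (ψ s).injective
  · intro h
    ext u
    rw [Subgroup.mem_map]
    constructor
    · rintro ⟨v, hv, rfl⟩; exact (h v).2 hv
    · intro hu
      refine ⟨(ψ s)⁻¹ u, ?_, MulAut.apply_inv_self _ _ _⟩
      rw [← h, MulAut.apply_inv_self]; exact hu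

lemma mem_inv_of_le [Finite M] {U : Subgroup M} {s : S} (h : ∀ u ∈ U, ψ s u ∈ U) :
    s ∈ Inv ψ U := by
  rw [← map_eq_iff_inv]
  refine Subgroup.eq_of_le_of_card_ge ?_ ?_
  · rintro _ ⟨u, hu, rfl⟩; exact h u hu
  · exact (Nat.card_congr (U.equivMapOfInjective _ (ψ s).injective).toEquiv).le

lemma mem_inv_of_W_le [Finite M] {U : Subgroup M} {s : S} (h : W ψ s ≤ U) : s ∈ Inv ψ U :=
  mem_inv_of_le fun u hu => by
    have := mul_mem (h (cf_mem_W s u)) hu
    rwa [inv_mul_cancel_right] at this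

variable [Finite S] [Finite M] (he : ∀ m : M, m * m = 1) {q : S} (hq3 : ψ q ^ 3 = 1)
  (hW4 : Nat.card (W ψ q) = 4)
include he hq3

lemma q_fpf {w : M} (hw : w ∈ W ψ q) (hf : ψ q w = w) : w = 1 := by
  obtain ⟨m, rfl⟩ := hw
  rw [cf_apply] at hf ⊢
  set w := ψ q m * m⁻¹ with hwdef
  have e1 : ψ q m = w * m := by rw [hwdef, inv_mul_cancel_right]
  have e3 : (ψ q ^ 3) m = w * (w * (w * m)) := by
    simp only [pow_succ, pow_zero, one_mul, MulAut.mul_apply, e1, map_mul, hf]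
  rw [hq3, MulAut.one_apply, ← mul_assoc w w, he, one_mul, eq_comm, mul_eq_right] at e3
  exact e3

include hW4

lemma sub_W {L : Subgroup M} (hL : L ≤ W ψ q) (hi : ∀ u ∈ L, ψ q u ∈ L) : L = ⊥ ∨ L = W ψ q := by
  have hd : Nat.card L ∣ 4 := hW4 ▸ Subgroup.card_dvd_of_le hL
  have hle : Nat.card L ≤ 4 := Nat.le_of_dvd (by norm_num) hd
  have h0 : 0 < Nat.card L := Nat.card_pos
  interval_cases hc : Nat.card L
  · exact Or.inl (Subgroup.eq_bot_of_card_eq L hc)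
  · exfalso
    haveI : Nontrivial L := Finite.one_lt_card_iff_nontrivial.1 (by omega)
    obtain ⟨⟨l, hlL⟩, hl⟩ := exists_ne (1 : L)
    have hl1 : l ≠ 1 := fun h => hl (Subtype.ext h)
    have : ψ q l = l := by
      haveI := Fintype.ofFinite L
      classical
      by_contra hne
      have h1 : ({⟨1, one_mem L⟩, ⟨l, hlL⟩, ⟨ψ q l, hi l hlL⟩} : Finset L).card = 3 := by
        rw [Finset.card_insert_of_notMem, Finset.card_insert_of_notMem, Finset.card_singleton]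
        · simpa [Subtype.ext_iff] using fun h => hne h.symm
        · simp only [Finset.mem_insert, Finset.mem_singleton, Subtype.mk.injEq, not_or]
          exact ⟨fun h => hl1 h.symm, fun h => hl1 ((ψ q).injective (by rw [← h, map_one]))⟩
      have := Finset.card_le_univ ({⟨1, one_mem L⟩, ⟨l, hlL⟩, ⟨ψ q l, hi l hlL⟩} : Finset L)
      rw [h1, ← Nat.card_eq_fintype_card, hc] at this
      omega
    exact hl1 (q_fpf he hq3 (hL hlL) this)
  · norm_num at hd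
  · exact Or.inr (Subgroup.eq_of_le_of_card_ge hL (by rw [hc, hW4]))

omit he hq3 hW4 in
lemma q_mem_inv_W : q ∈ Inv ψ (W ψ q) := mem_inv_of_W_le le_rfl

/-- if `q` moves no point of a conjugate four-space to another one, it centralises it -/
lemma centralizes_other {U : Subgroup M} (hU : q ∈ Inv ψ U) (hc : Nat.card U = 4)
    (hne : U ≠ W ψ q) : ∀ u ∈ U, ψ q u = u := by
  intro u hu
  rcases sub_W he hq3 hW4 (L := W ψ q ⊓ U) inf_le_left
    (fun v hv => ⟨((q_mem_inv_W (ψ := ψ) (q := q)) v).2 hv.1, (hU v).2 hv.2⟩) with h | h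
  · have : ψ q u * u⁻¹ ∈ W ψ q ⊓ U :=
      Subgroup.mem_inf.2 ⟨cf_mem_W q u, mul_mem ((hU u).2 hu) (inv_mem hu)⟩
    rw [h, Subgroup.mem_bot, mul_inv_eq_one] at this
    exact this
  · exact absurd (Subgroup.eq_of_le_of_card_ge (h ▸ inf_le_right) (by rw [hc, hW4])).symm hne

lemma card_map_W (t : S) : Nat.card ((W ψ q).map (ψ t).toMonoidHom) = 4 := by
  rw [Subgroup.card_map_of_injective (ψ t).injective, hW4]

/-- the `3`-rank case -/
theorem normal_abelian_le_inv {P A : Subgroup S} (hP : IsPGroup 3 P) (hqP : q ∈ P) (hAP : A ≤ P)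
    (hAn : ∀ g ∈ P, ∀ a ∈ A, g * a * g⁻¹ ∈ A) (hAc : ∀ a ∈ A, ∀ b ∈ A, a * b = b * a)
    (hA3 : ∀ a ∈ A, a ^ 3 = 1) : A ≤ Inv ψ (W ψ q) := by
  haveI : Fact (Nat.Prime 3) := ⟨Nat.prime_three⟩
  by_contra hno
  set N := Inv ψ (W ψ q) with hN
  haveI := hP.isNilpotent
  set γ := (⊤ : Subgroup ↥P).lowerCentralSeries with hγ
  obtain ⟨n, hn⟩ := Subgroup.nilpotent_iff_lowerCentralSeries.mp ‹Group.IsNilpotent ↥P›
  obtain ⟨a, ha, haN, hstep⟩ : ∃ a ∈ A, a ∉ N ∧ q * a * q⁻¹ * a⁻¹ ∈ N := by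
    by_contra! hall
    obtain ⟨a₀, ha₀, ha₀N⟩ := SetLike.not_le_iff_exists.1 hno
    have : ∀ i, ∃ a : ↥P, a ∈ γ i ∧ (a : S) ∈ A ∧ (a : S) ∉ N := by
      intro i
      induction i with
      | zero => exact ⟨⟨a₀, hAP ha₀⟩, by simp [hγ], ha₀, ha₀N⟩
      | succ i ih =>
        obtain ⟨a, hai, haA, haN⟩ := ih
        refine ⟨⁅(⟨q, hqP⟩ : ↥P), a⁆, ?_, ?_, ?_⟩
        · rw [← commutatorElement_inv]
          exact inv_mem (commutator_mem_commutator hai (Subgroup.mem_top _))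
        · simpa [commutatorElement_def] using mul_mem (hAn q hqP _ haA) (inv_mem haA)
        · simpa [commutatorElement_def] using hall _ haA haN
    obtain ⟨a, ha, -, haN⟩ := this n
    rw [hγ, hn, Subgroup.mem_bot] at ha
    exact haN (by rw [ha]; exact one_mem N)
  set c := q * a * q⁻¹ * a⁻¹ with hc
  have hcA : c ∈ A := mul_mem (hAn q hqP a ha) (inv_mem ha)
  have hWc : (W ψ q).map (ψ c).toMonoidHom = W ψ q := map_eq_iff_inv.2 hstep
  have moved : ∀ b ∈ ({a, a⁻¹} : Set S), ∀ u ∈ (W ψ q).map (ψ b).toMonoidHom, ψ q u = u := by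
    intro b hb
    have hbA : b ∈ A := by rcases hb with rfl | rfl; exacts [ha, inv_mem ha]
    have hbN : b ∉ N := by rcases hb with rfl | rfl; exacts [haN, fun h => haN (inv_mem_iff.1 h)]
    have hcb : q * b * q⁻¹ * b⁻¹ ∈ N := by
      rcases hb with rfl | rfl
      · exact hstep
      · have hcom : q * a * q⁻¹ * a⁻¹ = a⁻¹ * (q * a * q⁻¹) :=
          hAc _ (hAn q hqP a ha) _ (inv_mem ha)
        rw [show q * a⁻¹ * q⁻¹ * a⁻¹⁻¹ = (a⁻¹ * (q * a * q⁻¹))⁻¹ by group, ← hcom]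
        exact inv_mem hstep
    refine centralizes_other he hq3 hW4 ?_ (card_map_W he hq3 hW4 b) fun h => hbN (map_eq_iff_inv.1 h)
    refine mem_inv_of_le ?_
    rintro _ ⟨w, hw, rfl⟩
    have e : q * b = b * ((q * b * q⁻¹ * b⁻¹) * q) := by
      rw [← mul_assoc b, hAc b hbA _ (mul_mem (hAn q hqP b hbA) (inv_mem hbA))]; group
    refine ⟨ψ ((q * b * q⁻¹ * b⁻¹) * q) w, ((mul_mem hcb q_mem_inv_W) w).2 hw, ?_⟩
    show ψ b (ψ _ w) = ψ q (ψ b w)
    rw [← psi_comp, ← psi_comp, ← e]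
  have ha3 : a * a = a⁻¹ := by
    rw [eq_inv_iff_mul_eq_one, ← pow_three', hA3 a ha]
  -- `a q a⁻¹` centralises the space and its image under `a⁻¹`
  have y1 : ∀ w ∈ W ψ q, ψ (a * q * a⁻¹) w = w := by
    intro w hw
    have hm : ψ q (ψ a⁻¹ w) = ψ a⁻¹ w := moved a⁻¹ (by simp) _ ⟨w, hw, rfl⟩
    rw [map_mul, map_mul, MulAut.mul_apply, MulAut.mul_apply, hm, map_inv,
      MulAut.apply_inv_self]
  have y2 : ∀ w ∈ W ψ q, ψ (a * q * a⁻¹) (ψ a⁻¹ w) = ψ a⁻¹ w := by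
    intro w hw
    have e2 : ψ a⁻¹ (ψ a⁻¹ w) = ψ a w := by
      rw [← MulAut.mul_apply, ← map_mul, ← ha3, show a * a * (a * a) = a ^ 3 * a by rw [pow_three']; group, hA3 a ha,
        one_mul]
    have hm : ψ q (ψ a w) = ψ a w := moved a (by simp) _ ⟨w, hw, rfl⟩
    rw [map_mul, map_mul, MulAut.mul_apply, MulAut.mul_apply, e2, hm,
      ← e2, psi_self_inv]
  have hce : c = q * (a * q * a⁻¹)⁻¹ := by rw [hc]; group
  have c2 : ∀ w ∈ W ψ q, ψ c (ψ a⁻¹ w) = ψ a⁻¹ w := by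
    intro w hw
    rw [hce, map_mul, MulAut.mul_apply]
    nth_rw 1 [← y2 w hw]
    have hm : ψ q (ψ a⁻¹ w) = ψ a⁻¹ w := moved a⁻¹ (by simp) _ ⟨w, hw, rfl⟩
    rw [psi_inv_self, hm]
  have c1 : ∀ w ∈ W ψ q, ψ c w = w := by
    intro w hw
    have h := congrArg (ψ a) (c2 w hw)
    rw [← psi_comp, hAc a ha c hcA, psi_comp, psi_self_inv] at h
    exact h
  haveI : Nontrivial (W ψ q) := Finite.one_lt_card_iff_nontrivial.1 (by omega)
  obtain ⟨⟨w, hw⟩, hwne⟩ := exists_ne (1 : W ψ q)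
  refine hwne (Subtype.ext (q_fpf he hq3 hw ?_))
  have := c1 w hw
  rw [hce, map_mul, MulAut.mul_apply] at this
  nth_rw 1 [← y1 w hw] at this
  rwa [psi_inv_self] at this

end CfsgLib.FgsC.FourComm
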