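/-
The conjugates of a commutator four-group under a `p`-group normalised by the element, `p ≥ 5`:
at most `p` of them.
-/
import Cfsg.Agent.Lib.FgsC.FourCommutator

set_option autoImplicit false

namespace CfsgLib.FgsC.FourComm

open Subgroup
open scoped commutatorElement

variable {S M : Type*} [Group S] [CommGroup M]

/-- `s` acts trivially on `M / U` and maps `U` to itself -/
def Triv (ψ : S →* MulAut M) (U : Subgroup M) : Subgroup S where
  carrier := {s | s ∈ Inv ψ U ∧ ∀ m, ψ s m * m⁻¹ ∈ U}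
  one_mem' := ⟨one_mem _, fun m => by simp⟩
  mul_mem' := fun {a b} ha hb => ⟨mul_mem ha.1 hb.1, fun m => by
    have h1 := mul_mem ((ha.1 _).2 (hb.2 m)) (ha.2 m)
    rw [map_mul (ψ a), map_inv (ψ a), ← mul_assoc, inv_mul_cancel_right, ← psi_comp] at h1
    exact h1⟩
  inv_mem' := fun {a} ha => ⟨inv_mem ha.1, fun m => by
    have h1 := inv_mem (ha.2 (ψ a⁻¹ m))
    rwa [psi_self_inv, mul_inv_rev, inv_inv] at h1⟩

/-- the action on an invariant subgroup -/
def res (ψ : S →* MulAut M) (U : Subgroup M) : ↥(Inv ψ U) →* MulAut ↥U where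
  toFun s :=
    { toFun := fun u => ⟨ψ s u, (s.2 u).2 u.2⟩
      invFun := fun u => ⟨ψ (s : S)⁻¹ u, ((inv_mem s.2 : (s : S)⁻¹ ∈ Inv ψ U) u).2 u.2⟩
      left_inv := fun u => Subtype.ext (psi_inv_self _ _)
      right_inv := fun u => Subtype.ext (psi_self_inv _ _)
      map_mul' := fun u v => Subtype.ext (map_mul (ψ (s : S)) (u : M) v) }
  map_one' := MulEquiv.ext fun u => Subtype.ext (by simp)
  map_mul' s t := MulEquiv.ext fun u => Subtype.ext (psi_comp _ _ _)

lemma card_sup_mul [Finite M] (A B : Subgroup M) :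
    Nat.card ↥(A ⊔ B) * Nat.card ↥(A ⊓ B) = Nat.card A * Nat.card B := by
  have h1 := Subgroup.relIndex_mul_relIndex ⊥ A (A ⊔ B) bot_le le_sup_left
  have h2 := Subgroup.relIndex_mul_relIndex ⊥ (A ⊓ B) B bot_le inf_le_right
  have h3 : A.relIndex (A ⊔ B) = A.relIndex B := by
    rw [sup_comm]; exact Subgroup.relIndex_sup_right _ _
  rw [Subgroup.relIndex_bot_left, Subgroup.relIndex_bot_left, h3] at h1
  rw [Subgroup.relIndex_bot_left, Subgroup.relIndex_bot_left, Subgroup.inf_relIndex_right] at h2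
  rw [← h1, ← h2]; ring

lemma mul_mem_of_relIndex_le_two [Finite M] {R U : Subgroup M} (hRU : R.relIndex U ≤ 2)
    {a b : M} (ha : a ∈ U) (hb : b ∈ U) (haR : a ∉ R) (hbR : b ∉ R) : a * b ∈ R := by
  have h0 : R.relIndex U ≠ 0 := Subgroup.index_ne_zero_of_finite
  have h1 : R.relIndex U ≠ 1 := fun h => haR (Subgroup.relIndex_eq_one.1 h ha)
  have h2 : (R.subgroupOf U).index = 2 := by
    have : R.relIndex U = 2 := by omega
    exact this
  have h := (Subgroup.mul_mem_iff_of_index_two h2 (a := ⟨a, ha⟩) (b := ⟨b, hb⟩)).2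
    (iff_of_false (fun h => haR (Subgroup.mem_subgroupOf.1 h))
      fun h => hbR (Subgroup.mem_subgroupOf.1 h))
  exact Subgroup.mem_subgroupOf.1 h

lemma sizes_arith {p i j : ℕ} (hp : p < 17) (hi : i < 5) (hj : j < 5) (h5 : 5 ≤ p)
    (h2 : p % 2 = 1) (h3 : p % 3 ≠ 0) (hlt : 2 ^ j < 2 ^ i) (hd : p ∣ 2 ^ i - 2 ^ j) :
    (p = 7 ∧ 2 ^ i = 8 * 2 ^ j) ∨ (p = 5 ∧ 2 ^ i = 16 * 2 ^ j) := by
  have hji : j < i := (Nat.pow_lt_pow_iff_right (by norm_num)).1 hlt
  interval_cases i <;> interval_cases j <;> interval_cases p <;> omega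

variable {ψ : S →* MulAut M} [Finite S] [Finite M] (he : ∀ m : M, m * m = 1)

include he in
lemma W_le_of_index_two {y : S} (hy3 : ψ y ^ 3 = 1) {R U : Subgroup M} (hR : y ∈ Inv ψ R)
    (hU : y ∈ Inv ψ U) (hRU : R.relIndex U ≤ 2) (hWU : W ψ y ≤ U) : W ψ y ≤ R := by
  have hsurj : ∀ w ∈ W ψ y, ∃ v ∈ W ψ y, ψ y v * v⁻¹ = w := by
    intro w hw
    have hinj : Function.Injective fun v : ↥(W ψ y) =>
        (⟨ψ y v * (v : M)⁻¹, cf_mem_W (ψ := ψ) y v⟩ : ↥(W ψ y)) := by
      intro v v' e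
      have e' : cf ψ y (v : M) = cf ψ y (v' : M) := congrArg Subtype.val e
      have h1 : cf ψ y ((v : M) * (v' : M)⁻¹) = 1 := by rw [map_mul, map_inv, e', mul_inv_cancel]
      rw [cf_apply, mul_inv_eq_one] at h1
      exact Subtype.ext (mul_inv_eq_one.1
        (q_fpf he hy3 (mul_mem v.2 (inv_mem v'.2)) h1))
    obtain ⟨v, hv⟩ := (Finite.injective_iff_surjective.1 hinj) ⟨w, hw⟩
    exact ⟨v, v.2, congrArg Subtype.val hv⟩
  intro w hw
  obtain ⟨v, hv, rfl⟩ := hsurj w hw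
  by_cases hvR : v ∈ R
  · exact mul_mem ((hR v).2 hvR) (inv_mem hvR)
  · exact mul_mem_of_relIndex_le_two hRU ((hU v).2 (hWU hv)) (inv_mem (hWU hv))
      (fun h => hvR ((hR v).1 h)) (fun h => hvR (inv_mem_iff.1 h))

variable {q : S} (hq3 : ψ q ^ 3 = 1) (hW4 : Nat.card (W ψ q) = 4)
  {p : ℕ} [hp : Fact p.Prime] (hp5 : 5 ≤ p) {T : Subgroup S} (hT : IsPGroup p T)
  (hqT : ∀ t ∈ T, q * t * q⁻¹ ∈ T)
include he hq3 hW4 hp5 hT hqT

theorem pair {t : S} (ht : t ∈ T) (hne : (W ψ q).map (ψ t).toMonoidHom ≠ W ψ q) :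
    p = 7 ∧ W ψ q ⊓ (W ψ q).map (ψ t).toMonoidHom ≠ ⊥ := by
  classical
  set y := t * q * t⁻¹ with hy
  have hWt : W ψ y = (W ψ q).map (ψ t).toMonoidHom := W_conj t q
  rw [← hWt] at hne ⊢
  have hy3 : ψ y ^ 3 = 1 := by
    rw [hy, map_mul, map_mul, map_inv, conj_pow, hq3, mul_one, mul_inv_cancel]
  have hy4 : Nat.card (W ψ y) = 4 := by rw [hWt]; exact card_map_W he hq3 hW4 t
  set U := W ψ q ⊔ W ψ y with hU
  have hqU : q ∈ Inv ψ U := mem_inv_of_W_le le_sup_left
  have hyU : y ∈ Inv ψ U := mem_inv_of_W_le le_sup_right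
  set e := y * q⁻¹ with he'
  have heT : e ∈ T := by
    rw [he', hy, show t * q * t⁻¹ * q⁻¹ = t * (q * t⁻¹ * q⁻¹) by group]
    exact mul_mem ht (hqT _ (inv_mem ht))
  have heU : e ∈ Inv ψ U := mul_mem hyU (inv_mem hqU)
  have hTriv : e ∈ Triv ψ U := mul_mem ⟨hyU, fun m => le_sup_right (a := W ψ q) (cf_mem_W y m)⟩
    (inv_mem (show q ∈ Triv ψ U from ⟨hqU, fun m => le_sup_left (b := W ψ y) (cf_mem_W q m)⟩))
  -- faithful on `U`
  have faith : ∀ k : S, k ∈ T → k ∈ Triv ψ U → (∀ u ∈ U, ψ k u = u) → ψ k = 1 := by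
    intro k hkT hk hfix
    have h2 : ψ k ^ 2 = 1 := MulEquiv.ext fun m => by
      have hu := hk.2 m
      have e1 : ψ k m = (ψ k m * m⁻¹) * m := by rw [inv_mul_cancel_right]
      rw [pow_two, MulAut.mul_apply, MulAut.one_apply]
      nth_rw 1 [e1]
      rw [map_mul, hfix _ hu]
      nth_rw 2 [e1]
      rw [← mul_assoc, he, one_mul]
    obtain ⟨a, ha⟩ := hT ⟨k, hkT⟩
    have hka : ψ k ^ p ^ a = 1 := by
      rw [← map_pow, show k ^ p ^ a = 1 from congrArg Subtype.val ha, map_one]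
    have hcop : Nat.Coprime 2 (p ^ a) :=
      Nat.Coprime.pow_right _ ((Nat.coprime_primes Nat.prime_two hp.out).2 (by omega))
    have := pow_gcd_eq_one.2 ⟨h2, hka⟩
    rwa [hcop.gcd_eq_one, pow_one] at this
  -- the image group
  let ρ : ↥(T ⊓ Inv ψ U) →* MulAut ↥U := (res ψ U).comp (Subgroup.inclusion inf_le_right)
  let e0 : ↥(T ⊓ Inv ψ U) := ⟨e, heT, heU⟩
  have hρe : ρ e0 ≠ 1 := by
    intro h
    refine hne (W_congr ?_)
    have h1 : ψ e = 1 := faith e heT hTriv fun u hu => by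
      have h' := congrArg Subtype.val (DFunLike.congr_fun h (⟨u, hu⟩ : ↥U))
      exact h'
    rw [he', map_mul, map_inv, mul_inv_eq_one] at h1
    exact h1
  set B := ρ.range with hB
  have hBp : IsPGroup p B :=
    (hT.to_le (H := T ⊓ Inv ψ U) inf_le_left).of_surjective ρ.rangeRestrict
      ρ.rangeRestrict_surjective
  let Fix : MulAut ↥U → Subgroup ↥U := fun β => β.toMonoidHom.eqLocus (MonoidHom.id _)
  have hn16 : Nat.card U ∣ 16 :=
    ⟨Nat.card ↥(W ψ q ⊓ W ψ y), by rw [card_sup_mul, hW4, hy4]⟩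
  -- the sizes of the fixed subgroups
  have sizes : ∀ β ∈ B, β ≠ 1 → (p = 7 ∧ Nat.card U = 8 * Nat.card (Fix β)) ∨
      (p = 5 ∧ Nat.card U = 16 * Nat.card (Fix β)) := by
    intro β hβ hβ1
    have hz : IsPGroup p (Subgroup.zpowers β) :=
      hBp.to_le (Subgroup.zpowers_le.2 hβ)
    have hmod : Nat.card U ≡ Nat.card (Fix β) [MOD p] := by
      have h := hz.card_modEq_card_fixedPoints (α := ↥U)
      have hfix : MulAction.fixedPoints (Subgroup.zpowers β) ↥U = (Fix β : Set ↥U) := by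
        ext u
        rw [MulAction.mem_fixedPoints]
        constructor
        · intro h; exact h ⟨β, Subgroup.mem_zpowers β⟩
        · rintro hu ⟨g, hg⟩
          have : Subgroup.zpowers β ≤ MulAction.stabilizer (MulAut ↥U) u :=
            Subgroup.zpowers_le.2 hu
          exact this hg
      rwa [hfix] at h
    have hlt : Nat.card (Fix β) < Nat.card U := by
      refine lt_of_le_of_ne (Nat.le_of_dvd Nat.card_pos (Subgroup.card_subgroup_dvd_card _))
        fun h => hβ1 ?_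
      have := Subgroup.eq_top_of_card_eq _ h
      exact MulEquiv.ext fun u => (this ▸ Subgroup.mem_top u : u ∈ Fix β)
    obtain ⟨i, hi, hni⟩ := (Nat.dvd_prime_pow Nat.prime_two).1
      (show Nat.card U ∣ 2 ^ 4 from hn16)
    obtain ⟨j, hj, hnj⟩ := (Nat.dvd_prime_pow Nat.prime_two).1
      ((Subgroup.card_subgroup_dvd_card (Fix β)).trans hn16 : _ ∣ 2 ^ 4)
    rw [hni, hnj] at hmod hlt ⊢
    have hd : p ∣ 2 ^ i - 2 ^ j := (Nat.modEq_iff_dvd' hlt.le).1 hmod.symm
    have hle : p ≤ 16 := (Nat.le_of_dvd (Nat.sub_pos_of_lt hlt) hd).trans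
      ((Nat.sub_le _ _).trans ((Nat.pow_le_pow_right (by norm_num) hi).trans (by norm_num)))
    refine sizes_arith (by omega) (by omega) (by omega) hp5 (hp.out.eq_two_or_odd.resolve_left (by omega))
      (fun h => ?_) hlt hd
    have := (Nat.prime_dvd_prime_iff_eq Nat.prime_three hp.out).1 (Nat.dvd_of_mod_eq_zero h)
    omega
  -- the image has order `p`
  haveI : Nontrivial B := ⟨⟨⟨ρ e0, e0, rfl⟩, 1, fun h => hρe (congrArg Subtype.val h)⟩⟩
  haveI : Nontrivial (Subgroup.center ↥B) := hBp.center_nontrivial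
  obtain ⟨⟨⟨z, hzB⟩, hzc⟩, hz1⟩ := exists_ne (1 : Subgroup.center ↥B)
  have hz1' : z ≠ 1 := fun h => hz1 (Subtype.ext (Subtype.ext h))
  have hcz : Nat.card (Fix z) ≤ 2 := by
    have := Nat.le_of_dvd (by norm_num) hn16
    rcases sizes z hzB hz1' with ⟨-, h⟩ | ⟨-, h⟩ <;> omega
  have fixC : ∀ β ∈ B, β ≠ 1 → Fix β = Fix z := by
    intro β hβ hβ1
    refine (Subgroup.eq_of_le_of_card_ge ?_ ?_).symm
    · intro u hu
      have hzu : z u = u := hu
      have hbu : z (β u) = β u := by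
        have hc := congrArg Subtype.val (Subgroup.mem_center_iff.1 hzc ⟨β, hβ⟩)
        have := DFunLike.congr_fun hc u
        simp only [Subgroup.coe_mul, MulAut.mul_apply] at this
        rw [← this, hzu]
      show β u = u
      by_contra hne'
      have hu1 : u ≠ 1 := fun h => hne' (by rw [h, map_one])
      haveI := Fintype.ofFinite ↥(Fix z)
      have h3 : ({1, ⟨u, hu⟩, ⟨β u, hbu⟩} : Finset ↥(Fix z)).card = 3 := by
        rw [Finset.card_insert_of_notMem, Finset.card_insert_of_notMem, Finset.card_singleton]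
        · rw [Finset.mem_singleton]
          exact fun h => hne' (congrArg Subtype.val h).symm
        · rw [Finset.mem_insert, Finset.mem_singleton, not_or]
          exact ⟨fun h => hu1 (congrArg Subtype.val h).symm,
            fun h => hu1 (β.injective ((congrArg Subtype.val h).symm.trans (map_one β).symm))⟩
      have := Finset.card_le_univ ({1, ⟨u, hu⟩, ⟨β u, hbu⟩} : Finset ↥(Fix z))
      rw [h3, ← Nat.card_eq_fintype_card] at this
      omega
    · rcases sizes z hzB hz1' with ⟨rfl, h1⟩ | ⟨rfl, h1⟩ <;>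
        rcases sizes β hβ hβ1 with ⟨h, h2⟩ | ⟨h, h2⟩ <;> omega
  obtain ⟨u0, hu0⟩ : ∃ u0 : ↥U, u0 ∉ Fix z := by
    by_contra! h
    exact hz1' (MulEquiv.ext fun u => h u)
  have hBcard : Nat.card B = p := by
    have hinj : Function.Injective fun b : ↥B => (⟨(b : MulAut ↥U) u0, fun hm => hu0 (by
        have h : z ((b : MulAut ↥U) u0) = (b : MulAut ↥U) u0 := hm
        have hc := DFunLike.congr_fun
          (congrArg Subtype.val (Subgroup.mem_center_iff.1 hzc b)) u0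
        simp only [Subgroup.coe_mul, MulAut.mul_apply] at hc
        exact (b : MulAut ↥U).injective (hc.trans h))⟩ : ((Fix z : Set ↥U)ᶜ : Set ↥U)) := by
      intro b b' hbb
      have h : (b : MulAut ↥U) u0 = (b' : MulAut ↥U) u0 := congrArg Subtype.val hbb
      by_contra hne'
      refine hu0 ?_
      rw [← fixC ((b'⁻¹ * b : ↥B) : MulAut ↥U) (b'⁻¹ * b).2
        fun h1 => hne' (inv_mul_eq_one.1 (Subtype.ext h1)).symm]
      show ((b'⁻¹ * b : ↥B) : MulAut ↥U) u0 = u0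
      rw [Subgroup.coe_mul, MulAut.mul_apply, h, Subgroup.coe_inv, MulAut.inv_apply_self]
    have h1 := Nat.card_le_card_of_injective _ hinj
    have hlt : Nat.card ((Fix z : Set ↥U)ᶜ : Set ↥U) < 16 := by
      rw [Nat.card_coe_set_eq]
      have := Set.ncard_add_ncard_compl (Fix z : Set ↥U)
      have h0 : 0 < (Fix z : Set ↥U).ncard := (Set.ncard_pos (Set.toFinite _)).2 ⟨1, one_mem (Fix z)⟩
      have := Nat.le_of_dvd (by norm_num) hn16
      omega
    obtain ⟨a, ha⟩ := hBp.exists_card_eq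
    have h1' : 1 < Nat.card B := Finite.one_lt_card_iff_nontrivial.2 inferInstance
    rcases a with _ | _ | a
    · rw [ha] at h1'; simp at h1'
    · rw [ha, pow_one]
    · exfalso
      have : 5 ^ 2 ≤ p ^ (a + 1 + 1) :=
        (Nat.pow_le_pow_left hp5 2).trans (Nat.pow_le_pow_right hp.out.pos (by omega))
      have h3 := lt_of_le_of_lt h1 hlt
      rw [ha] at h3
      omega
  -- the conjugation by `q`
  have hqe : q * e * q⁻¹ ∈ T ⊓ Inv ψ U :=
    Subgroup.mem_inf.2 ⟨hqT e heT, mul_mem (mul_mem hqU heU) (inv_mem hqU)⟩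
  obtain ⟨i, hi⟩ : ∃ i : ℕ, ψ (q * e * q⁻¹) = ψ e ^ i := by
    have hmem : ρ ⟨_, hqe⟩ ∈ Subgroup.zpowers (ρ e0) := by
      have : Subgroup.zpowers (ρ e0) = B := by
        refine Subgroup.eq_of_le_of_card_ge (Subgroup.zpowers_le.2 ⟨e0, rfl⟩) ?_
        rw [hBcard, Nat.card_zpowers]
        obtain ⟨a, ha⟩ := IsPGroup.iff_orderOf.1 hBp ⟨ρ e0, e0, rfl⟩
        rw [← Subgroup.orderOf_coe] at ha
        rw [ha]
        exact Nat.le_self_pow (fun h0 => hρe (orderOf_eq_one_iff.1 (by rw [ha, h0, pow_zero]))) p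
      rw [this]; exact ⟨_, rfl⟩
    rw [← mem_powers_iff_mem_zpowers, Submonoid.mem_powers_iff] at hmem
    obtain ⟨i, hi⟩ := hmem
    refine ⟨i, ?_⟩
    have hk : ψ (q * e * q⁻¹ * (e ^ i)⁻¹) = 1 := by
      refine faith _ (mul_mem (hqT e heT) (inv_mem (pow_mem heT i))) ?_ fun u hu => ?_
      · refine mul_mem ⟨hqe.2, fun m => ?_⟩ (inv_mem (pow_mem hTriv i))
        have h1 := (hqU _).2 (hTriv.2 (ψ q⁻¹ m))
        rw [map_mul (ψ q), map_inv (ψ q), psi_self_inv, ← psi_comp, ← psi_comp] at h1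
        exact h1
      · rw [← map_pow] at hi
        have h := DFunLike.congr_fun hi (⟨ψ (e ^ i)⁻¹ u,
          ((inv_mem (pow_mem heU i) : (e ^ i)⁻¹ ∈ Inv ψ U) u).2 hu⟩ : ↥U)
        have h' : ψ (e ^ i) (ψ (e ^ i)⁻¹ u) = ψ (q * e * q⁻¹) (ψ (e ^ i)⁻¹ u) := congrArg Subtype.val h
        rw [psi_self_inv, ← psi_comp] at h'
        exact h'.symm
    rwa [map_mul, map_inv, mul_inv_eq_one, map_pow] at hk
  have hEp : ψ e ^ p = 1 := by
    rw [← map_pow]
    refine faith _ (pow_mem heT p) (pow_mem hTriv p) fun u hu => ?_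
    have h := pow_card_eq_one' (G := ↥B) (x := ⟨ρ e0, e0, rfl⟩)
    rw [hBcard] at h
    have h' : ρ (e0 ^ p) = 1 := by rw [map_pow]; exact congrArg Subtype.val h
    exact congrArg Subtype.val (DFunLike.congr_fun h' ⟨u, hu⟩)
  have hE1 : ψ e ≠ 1 := fun h => hρe (MulEquiv.ext fun u =>
    Subtype.ext (show ψ e u = (u : M) by rw [h]; rfl))
  set Q := ψ q with hQ
  set E := ψ e with hE
  have hconj : Q * E * Q⁻¹ = E ^ i := by rw [← hi, map_mul, map_mul, map_inv]
  rcases sizes (ρ e0) ⟨e0, rfl⟩ hρe with ⟨h7, hcard⟩ | ⟨h5, hcard⟩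
  swap
  · exfalso
    have h2 : ∀ j : ℕ, Q * E ^ j * Q⁻¹ = E ^ (i * j) := fun j => by
      rw [← conj_pow, hconj, ← pow_mul]
    have hi3 : E ^ (i * (i * i)) = E := by
      calc E ^ (i * (i * i)) = Q * (Q * (Q * E * Q⁻¹) * Q⁻¹) * Q⁻¹ := by rw [hconj, h2, h2]
        _ = Q ^ 3 * E * (Q ^ 3)⁻¹ := by simp [pow_succ, mul_assoc]
        _ = E := by rw [hq3, one_mul, inv_one, mul_one]
    have hord : orderOf E = 5 := by
      rw [← h5]; exact orderOf_eq_prime hEp hE1
    rw [← pow_one E] at hi3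
    rw [← pow_mul, one_mul, pow_eq_pow_iff_modEq, hord] at hi3
    have hi1 : i ≡ 1 [MOD 5] := by
      rw [← ZMod.natCast_eq_natCast_iff] at hi3 ⊢
      push_cast at hi3 ⊢
      revert hi3; generalize (i : ZMod 5) = x; revert x; decide
    have hcomm : Commute Q E := by
      have : E ^ i = E := by
        conv_rhs => rw [← pow_one E]
        rw [pow_eq_pow_iff_modEq, hord]
        exact hi1
      rw [this] at hconj
      exact mul_inv_eq_iff_eq_mul.1 hconj
    have hy' : (E * Q) ^ 3 = 1 := by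
      rw [hE, hQ, ← map_mul, he', inv_mul_cancel_right]
      exact hy3
    rw [hcomm.symm.mul_pow, hq3, mul_one] at hy'
    have := orderOf_dvd_of_pow_eq_one hy'
    rw [hord] at this
    omega
  refine ⟨h7, fun hbot => ?_⟩
  set R := U.map (cf ψ e) with hR
  have hRmem : ∀ j : ℕ, ∀ u ∈ U, (E ^ j) u * u⁻¹ ∈ R := by
    intro j
    induction j with
    | zero => intro u _; simp
    | succ j ih =>
      intro u hu
      have h1 : (E ^ j) (E u) * (E u)⁻¹ * (E u * u⁻¹) ∈ R :=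
        mul_mem (ih _ ((heU u).2 hu)) ⟨u, hu, rfl⟩
      rw [pow_succ, MulAut.mul_apply]
      rwa [← mul_assoc, inv_mul_cancel_right] at h1
  have hRe : e ∈ Inv ψ R := mem_inv_of_le (by
    rintro _ ⟨u, hu, rfl⟩
    exact ⟨E u, (heU u).2 hu, by simp [cf_apply, hE]⟩)
  have hRq : q ∈ Inv ψ R := mem_inv_of_le (by
    rintro _ ⟨u, hu, rfl⟩
    have h1 := hRmem i (Q u) ((hqU u).2 hu)
    rw [← hconj] at h1
    simpa [cf_apply, hE, hQ, MulAut.mul_apply] using h1)
  have hker : Nat.card R = 8 := by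
    have h0 : ((cf ψ e).ker ⊓ U).relIndex U = Nat.card R := by
      rw [Subgroup.inf_relIndex_right, hR, Subgroup.relIndex_ker]
    have h1 := Subgroup.relIndex_mul_relIndex ⊥ ((cf ψ e).ker ⊓ U) U bot_le inf_le_right
    rw [Subgroup.relIndex_bot_left, Subgroup.relIndex_bot_left, h0] at h1
    have h2 : Nat.card ↥((cf ψ e).ker ⊓ U) = Nat.card (Fix (ρ e0)) := by
      rw [← Subgroup.card_map_of_injective (K := Fix (ρ e0)) U.subtype_injective]
      refine congrArg (fun K : Subgroup M => Nat.card K) ?_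
      ext u
      constructor
      · rintro ⟨hk, hu⟩
        exact ⟨⟨u, hu⟩, Subtype.ext (mul_inv_eq_one.1 hk), rfl⟩
      · rintro ⟨v, hv, rfl⟩
        exact ⟨mul_inv_eq_one.2 (congrArg Subtype.val hv), v.2⟩
    rw [h2, hcard, mul_comm 8] at h1
    exact Nat.eq_of_mul_eq_mul_left Nat.card_pos h1
  have hRU : R ≤ U := by
    rintro _ ⟨u, hu, rfl⟩
    exact mul_mem ((heU u).2 hu) (inv_mem hu)
  have hidx : R.relIndex U ≤ 2 := by
    have h1 := Subgroup.relIndex_mul_relIndex ⊥ R U bot_le hRU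
    rw [Subgroup.relIndex_bot_left, Subgroup.relIndex_bot_left, hker] at h1
    have := Nat.le_of_dvd (by norm_num) hn16
    omega
  have hyR : y ∈ Inv ψ R := by
    have := mul_mem hRe hRq
    rwa [he', inv_mul_cancel_right] at this
  have hle : U ≤ R := sup_le
    (W_le_of_index_two he hq3 hRq hqU hidx le_sup_left)
    (W_le_of_index_two he hy3 hyR hyU hidx le_sup_right)
  have h16 := card_sup_mul (W ψ q) (W ψ y)
  rw [← hU, hbot, Subgroup.card_bot, mul_one, hW4, hy4] at h16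
  have := Subgroup.card_le_of_le hle
  rw [hker] at this
  omega

theorem relIndex_inv_le : (T ⊓ Inv ψ (W ψ q)).relIndex T ≤ p := by
  classical
  set O : S → Subgroup M := fun t => (W ψ q).map (ψ t).toMonoidHom with hO
  have hOmem : ∀ t w, w ∈ W ψ q → ψ t w ∈ O t := fun t w hw => ⟨w, hw, rfl⟩
  have hOmul : ∀ t t', (O t').map (ψ t).toMonoidHom = O (t * t') := fun t t' => by
    simp only [hO, Subgroup.map_map]
    congr 1
    exact MonoidHom.ext fun m => (psi_comp t t' m).symm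
  by_cases hall : ∀ t ∈ T, O t = W ψ q
  · have : T ⊓ Inv ψ (W ψ q) = T := inf_eq_left.2 fun t ht => map_eq_iff_inv.1 (hall t ht)
    rw [this, Subgroup.relIndex_self]
    omega
  push Not at hall
  obtain ⟨t₁, ht₁, hne₁⟩ := hall
  obtain ⟨h7, hint₁⟩ := pair he hq3 hW4 hp5 hT hqT ht₁ hne₁
  have hc : ∀ t, Nat.card (O t) = 4 := fun t => card_map_W he hq3 hW4 t
  -- two members meet
  have meet : ∀ t ∈ T, ∀ t' ∈ T, O t ≠ O t' → O t ⊓ O t' ≠ ⊥ := by
    intro t ht t' ht' hne hbot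
    have e1 : O t = (W ψ q).map (ψ t).toMonoidHom := rfl
    have e2 : O t' = (O (t⁻¹ * t')).map (ψ t).toMonoidHom := by rw [hOmul, mul_inv_cancel_left]
    have hne' : O (t⁻¹ * t') ≠ W ψ q := fun h => hne (by rw [e2, h])
    refine (pair he hq3 hW4 hp5 hT hqT (mul_mem (inv_mem ht) ht') hne').2 ?_
    rw [e2, e1, ← Subgroup.map_inf _ _ _ (ψ t).injective] at hbot
    exact (Subgroup.map_eq_bot_iff_of_injective _ (ψ t).injective).1 hbot
  haveI : Nontrivial ↥(W ψ q ⊓ O t₁) := (Subgroup.nontrivial_iff_ne_bot _).2 hint₁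
  obtain ⟨⟨l, hl⟩, hl1⟩ := exists_ne (1 : ↥(W ψ q ⊓ O t₁))
  rw [Subgroup.mem_inf] at hl
  have hl1' : l ≠ 1 := fun h => hl1 (Subtype.ext h)
  have inter : ∀ a b : Subgroup M, Nat.card a = 4 → Nat.card b = 4 → a ≠ b →
      ∀ x y, x ∈ a → x ∈ b → y ∈ a → y ∈ b → x ≠ 1 → y ≠ 1 → x = y := by
    intro a b ha hb hab x y xa xb ya yb hx hy
    by_contra hxy
    haveI := Fintype.ofFinite ↥(a ⊓ b)
    have hcard : Nat.card ↥(a ⊓ b) ≤ 2 := by
      have hd : Nat.card ↥(a ⊓ b) ∣ 4 := ha ▸ Subgroup.card_dvd_of_le inf_le_left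
      have hle : Nat.card ↥(a ⊓ b) ≤ 4 := Nat.le_of_dvd (by norm_num) hd
      by_contra! h
      interval_cases hk : Nat.card ↥(a ⊓ b)
      · norm_num at hd
      · exact hab ((Subgroup.eq_of_le_of_card_ge inf_le_left (by rw [hk, ha])).symm.trans
          (Subgroup.eq_of_le_of_card_ge inf_le_right (by rw [hk, hb])))
    have h3 : ({1, ⟨x, xa, xb⟩, ⟨y, ya, yb⟩} : Finset ↥(a ⊓ b)).card = 3 := by
      rw [Finset.card_insert_of_notMem, Finset.card_insert_of_notMem, Finset.card_singleton]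
      · rw [Finset.mem_singleton]; exact fun h => hxy (congrArg Subtype.val h)
      · rw [Finset.mem_insert, Finset.mem_singleton, not_or]
        exact ⟨fun h => hx (congrArg Subtype.val h).symm, fun h => hy (congrArg Subtype.val h).symm⟩
    have := Finset.card_le_univ ({1, ⟨x, xa, xb⟩, ⟨y, ya, yb⟩} : Finset ↥(a ⊓ b))
    rw [h3, ← Nat.card_eq_fintype_card] at this
    omega
  -- some member avoids `l`
  obtain ⟨t₂, ht₂, hl₂⟩ : ∃ t ∈ T, l ∉ O t := by
    by_contra! hall2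
    have hql : ∀ t ∈ T, ψ q l ∈ O t := by
      intro t ht
      have htq : q⁻¹ * t * q ∈ T := by
        have hmap : T.map (MulAut.conj q).toMonoidHom = T := by
          refine Subgroup.eq_of_le_of_card_ge ?_ ?_
          · rintro _ ⟨s, hs, rfl⟩; exact hqT s hs
          · exact (Nat.card_congr (T.equivMapOfInjective _ (MulAut.conj q).injective).toEquiv).le
        obtain ⟨s, hs, e⟩ := hmap.symm ▸ ht
        rw [show q⁻¹ * t * q = s by rw [← e]; simp [mul_assoc]]
        exact hs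
      obtain ⟨w, hw, hwl⟩ := hall2 _ htq
      refine ⟨ψ q w, (q_mem_inv_W w).2 hw, ?_⟩
      show ψ t (ψ q w) = ψ q l
      rw [← hwl]
      show _ = ψ q (ψ (q⁻¹ * t * q) w)
      rw [← psi_comp, ← psi_comp]
      congr 2
      group
    have hfix : ψ q l = l :=
      inter _ _ hW4 (hc t₁) (Ne.symm hne₁) _ _ ((q_mem_inv_W l).2 hl.1) (hql t₁ ht₁) hl.1 hl.2
        (fun h => hl1' ((ψ q).injective (by rw [h, map_one]))) hl1'
    exact hl1' (q_fpf he hq3 hl.1 hfix)
  set V := W ψ q ⊔ O t₁ with hV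
  have hVcard : Nat.card V ≤ 8 := by
    have h := card_sup_mul (W ψ q) (O t₁)
    rw [hW4, hc t₁] at h
    have : 1 < Nat.card ↥(W ψ q ⊓ O t₁) := Finite.one_lt_card_iff_nontrivial.2 inferInstance
    rw [hV]
    have h2 := Nat.mul_le_mul_left (Nat.card ↥(W ψ q ⊔ O t₁)) this
    omega
  -- a member is generated by two of its points
  have gen : ∀ t, ∀ x y : M, x ∈ O t → y ∈ O t → x ≠ 1 → y ≠ 1 → x ≠ y → x ∈ V → y ∈ V →
      O t ≤ V := by
    intro t x y hx hy hx1 hy1 hxy hxV hyV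
    haveI := Fintype.ofFinite ↥(O t ⊓ V)
    have h3 : ({1, ⟨x, hx, hxV⟩, ⟨y, hy, hyV⟩} : Finset ↥(O t ⊓ V)).card = 3 := by
      rw [Finset.card_insert_of_notMem, Finset.card_insert_of_notMem, Finset.card_singleton]
      · rw [Finset.mem_singleton]; exact fun h => hxy (congrArg Subtype.val h)
      · rw [Finset.mem_insert, Finset.mem_singleton, not_or]
        exact ⟨fun h => hx1 (congrArg Subtype.val h).symm, fun h => hy1 (congrArg Subtype.val h).symm⟩
    have h4 := Finset.card_le_univ ({1, ⟨x, hx, hxV⟩, ⟨y, hy, hyV⟩} : Finset ↥(O t ⊓ V))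
    rw [h3, ← Nat.card_eq_fintype_card] at h4
    have hd : Nat.card ↥(O t ⊓ V) ∣ 4 := hc t ▸ Subgroup.card_dvd_of_le inf_le_left
    have h5 := Nat.le_of_dvd (by norm_num) hd
    have : Nat.card ↥(O t ⊓ V) ≠ 3 := fun h => by rw [h] at hd; norm_num at hd
    exact inf_eq_left.1 (Subgroup.eq_of_le_of_card_ge inf_le_left (by rw [hc t]; omega))
  have pick : ∀ a b : Subgroup M, a ⊓ b ≠ ⊥ → ∃ x ∈ a, x ∈ b ∧ x ≠ 1 := by
    intro a b h
    by_contra! hno
    exact h (eq_bot_iff.2 fun x hx => Subgroup.mem_bot.2 (hno x hx.1 hx.2))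
  have hO1 : O 1 = W ψ q := by
    show Subgroup.map _ _ = _
    rw [map_one]
    exact Subgroup.map_id _
  have h2V : O t₂ ≤ V := by
    have n0 : O t₂ ≠ O 1 := fun h => hl₂ (by rw [h, hO1]; exact hl.1)
    have n1 : O t₂ ≠ O t₁ := fun h => hl₂ (h ▸ hl.2)
    obtain ⟨x, hx, hxW, hx1⟩ := pick _ _ (meet _ ht₂ 1 (one_mem T) n0)
    obtain ⟨y, hy, hyW, hy1⟩ := pick _ _ (meet _ ht₂ t₁ ht₁ n1)
    rw [hO1] at hxW
    refine gen t₂ x y hx hy hx1 hy1 (fun e => ?_) (Subgroup.mem_sup_left hxW)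
      (Subgroup.mem_sup_right hyW)
    subst e
    exact hl₂ (inter _ _ hW4 (hc t₁) (Ne.symm hne₁) _ _ hxW hyW hl.1 hl.2 hx1 hl1' ▸ hx)
  have allV : ∀ t ∈ T, O t ≤ V := by
    intro t ht
    by_cases hlt : l ∈ O t
    · by_cases h : O t = O t₂
      · rw [h]; exact h2V
      obtain ⟨x, hx, hx2, hx1⟩ := pick _ _ (meet _ ht t₂ ht₂ h)
      exact gen t l x hlt hx hl1' hx1 (fun e => hl₂ (e ▸ hx2)) (Subgroup.mem_sup_left hl.1) (h2V hx2)
    · have n0 : O t ≠ O 1 := fun h => hlt (by rw [h, hO1]; exact hl.1)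
      have n1 : O t ≠ O t₁ := fun h => hlt (h ▸ hl.2)
      obtain ⟨x, hx, hxW, hx1⟩ := pick _ _ (meet _ ht 1 (one_mem T) n0)
      obtain ⟨y, hy, hyW, hy1⟩ := pick _ _ (meet _ ht t₁ ht₁ n1)
      rw [hO1] at hxW
      refine gen t x y hx hy hx1 hy1 (fun e => ?_) (Subgroup.mem_sup_left hxW)
        (Subgroup.mem_sup_right hyW)
      subst e
      exact hlt (inter _ _ hW4 (hc t₁) (Ne.symm hne₁) _ _ hxW hyW hl.1 hl.2 hx1 hl1' ▸ hx)
  have hTV : T ≤ Inv ψ V := by
    intro t ht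
    have h1 : O t ≤ V := allV t ht
    have h2 : O (t * t₁) ≤ V := allV _ (mul_mem ht ht₁)
    rw [← map_eq_iff_inv]
    refine Subgroup.eq_of_le_of_card_ge ?_
      (Nat.card_congr (V.equivMapOfInjective _ (ψ t).injective).toEquiv).le
    rw [hV, Subgroup.map_sup, hOmul]
    exact sup_le h1 h2
  let ρ : ↥T →* Equiv.Perm ↥V :=
    (MulAut.toPerm ↥V).comp ((res ψ V).comp (Subgroup.inclusion hTV))
  have hker : ρ.ker ≤ (T ⊓ Inv ψ (W ψ q)).subgroupOf T := by
    intro t ht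
    refine Subgroup.mem_subgroupOf.2 (Subgroup.mem_inf.2 ⟨t.2, ?_⟩)
    refine mem_inv_of_le fun w hw => ?_
    have h := Equiv.ext_iff.1 ht (⟨w, Subgroup.mem_sup_left hw⟩ : ↥V)
    have h' : ψ (t : S) w = w := congrArg Subtype.val h
    rwa [h']
  have hrange : Nat.card ρ.range ≤ p := by
    obtain ⟨a, ha⟩ := (hT.of_surjective ρ.rangeRestrict ρ.rangeRestrict_surjective).exists_card_eq
    have hd : p ^ a ∣ (Nat.card V).factorial := ha ▸ Nat.card_perm (α := ↥V) ▸
      Subgroup.card_subgroup_dvd_card ρ.range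
    have hd' : p ^ a ∣ (8 : ℕ).factorial := hd.trans (Nat.factorial_dvd_factorial hVcard)
    rw [ha]
    rcases a with _ | _ | a
    · simpa using hp.out.one_lt.le
    · simp
    · exfalso
      subst h7
      exact absurd ((pow_dvd_pow 7 (show 2 ≤ a + 1 + 1 by omega)).trans hd') (by decide +kernel)
  calc (T ⊓ Inv ψ (W ψ q)).relIndex T
      ≤ ρ.ker.index := Nat.le_of_dvd (Nat.pos_of_ne_zero Subgroup.index_ne_zero_of_finite)
        (Subgroup.index_dvd_of_le hker)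
    _ = Nat.card ρ.range := Subgroup.index_ker ρ
    _ ≤ p := hrange

end CfsgLib.FgsC.FourComm
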