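/-
An elementary abelian subgroup of order `r ^ 3` in which a commutator four-group has a noncyclic
centraliser.
-/
import Cfsg.Agent.Lib.FgsC.FourCommutatorPrime
import Cfsg.Agent.Lib.PGroups.InvariantCritical
import Cfsg.Agent.Lib.PGroups.Omega
import Cfsg.Agent.Lib.Base.Rank
import Cfsg.Agent.Lib.Base.MinimalNormal
import Cfsg.Agent.Lib.Base.Cores
import Cfsg.Agent.Lib.Coprime.Hall

set_option autoImplicit false

namespace CfsgLib.FgsC.FourComm

open Cfsg Subgroup
open scoped commutatorElement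

/-- a maximal normal elementary abelian subgroup controls the elements of order `p` -/
lemma exists_omega {G : Type*} [Group G] [Finite G] {p : ℕ} [Fact p.Prime] (hp : p ≠ 2)
    (hG : IsPGroup p G) : ∃ (V : Subgroup G) (m : ℕ), V.Normal ∧ IsElementaryAbelian p V ∧
      Nat.card V = p ^ m ∧ (centralizer (V : Set G)).index ≤ p ^ m.choose 2 ∧
      ∀ x ∈ centralizer (V : Set G), x ^ p = 1 → x ∈ V := by
  obtain ⟨V, hV⟩ := Set.Finite.exists_maximal
    (s := {A : Subgroup G | A.Normal ∧ IsMulCommutative A ∧ ∀ a ∈ A, a ^ p ^ 1 = 1}) (Set.toFinite _)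
    ⟨⊥, inferInstance, inferInstance, by simp⟩
  obtain ⟨hVn, hVab, hVe⟩ := hV.1
  haveI := hVn
  obtain ⟨m, hm⟩ := PGroups.card_subgroup_eq_pow hG V
  refine ⟨V, m, hVn, ⟨hVab, fun a ha => by simpa using hVe a ha⟩, hm,
    PGroups.index_centralizer_le hG m hm, fun x hx hxp => ?_⟩
  exact PGroups.mem_of_maximal_abelian_exponent hG (n := 1) (by rwa [pow_one]) hVab hVe
    (fun B h1 h2 h3 h4 => le_antisymm (hV.2 ⟨h1, h2, h3⟩ h4) h4) hx (by rwa [pow_one])

theorem exists_normal_cube {G : Type*} [Group G] [Finite G] {p : ℕ} [hp : Fact p.Prime]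
    (hp2 : p ≠ 2) (hG : IsPGroup p G) {E : Subgroup G} (hE : IsElementaryAbelian p E)
    (hE3 : Nat.card E = p ^ 3) :
    ∃ A : Subgroup G, A.Normal ∧ IsElementaryAbelian p A ∧ Nat.card A = p ^ 3 := by
  obtain ⟨V, m, hVn, hVe, hm, hidx, homega⟩ := exists_omega hp2 hG
  haveI := hVn
  have hm3 : 3 ≤ m := by
    by_contra hlt
    obtain ⟨hEc, hEp⟩ := Base.isElementaryAbelian_iff.1 hE
    have h2 : E ⊓ centralizer (V : Set G) ≤ V := fun e he => homega e he.2 (hEp e he.1)
    have h4 := relIndex_mul_relIndex ⊥ (E ⊓ centralizer (V : Set G)) E bot_le inf_le_left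
    rw [relIndex_bot_left, relIndex_bot_left, inf_relIndex_left, hE3] at h4
    have h5 : (centralizer (V : Set G)).relIndex E ≤ p :=
      (Nat.le_of_dvd (Nat.pos_of_ne_zero index_ne_zero_of_finite)
        (relIndex_dvd_index_of_normal _ _)).trans (hidx.trans
          ((Nat.pow_le_pow_right hp.out.pos ((Nat.choose_le_choose 2 (show m ≤ 2 by omega)).trans
            (by norm_num))).trans (pow_one p).le))
    have h6 : p ^ 3 ≤ p ^ m * p := h4 ▸ Nat.mul_le_mul ((card_le_of_le h2).trans hm.le) h5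
    rw [← pow_succ] at h6
    have h7 := (Nat.pow_le_pow_iff_right hp.out.one_lt).1 h6
    -- then `V ≤ E`, so `E` centralises `V`
    obtain rfl : m = 2 := by omega
    have hEC : E ⊓ centralizer (V : Set G) = V := by
      refine eq_of_le_of_card_ge h2 ?_
      have h8 := Nat.mul_le_mul_left (Nat.card ↥(E ⊓ centralizer (V : Set G))) h5
      rw [h4] at h8
      rw [hm]
      exact Nat.le_of_mul_le_mul_right (by rw [← pow_succ]; exact h8) hp.out.pos
    have hEV : E ≤ V := fun e he => homega e (mem_centralizer_iff.2 fun v hv =>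
      hEc v (hEC.ge hv).1 e he) (hEp e he)
    have h9 := card_le_of_le hEV
    rw [hE3, hm] at h9
    exact absurd ((Nat.pow_le_pow_iff_right hp.out.one_lt).1 h9) (by norm_num)
  obtain ⟨K, hK, -, hKV, hKc⟩ := PGroups.exists_normal_card_eq hG (bot_le : ⊥ ≤ V) (k := 3)
    (by rw [Subgroup.card_bot]; exact Nat.one_le_pow _ _ hp.out.pos)
    (by rw [hm]; exact Nat.pow_le_pow_right hp.out.pos hm3)
  exact ⟨K, hK, Base.isElementaryAbelian_le hKV hVe, hKc⟩

/-- no elementary abelian subgroup of order `27` -/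
def No27 (G : Type*) [Group G] : Prop :=
  ∀ A : Subgroup G, IsElementaryAbelian 3 A → Nat.card A ≠ 27

lemma no27_of_injective {G H : Type*} [Group G] [Group H] (f : G →* H)
    (hf : Function.Injective f) (h : No27 H) : No27 G := fun A hA hA3 =>
  h (A.map f) (Base.isElementaryAbelian_map f hA) (by rw [card_map_of_injective hf, hA3])

lemma card_le_27 {D : Type*} [Group D] [Finite D] (hexp : ∀ d : D, d ^ 3 = 1) (hno : No27 D) :
    Nat.card D ∣ 27 := by
  haveI : Fact (Nat.Prime 3) := ⟨Nat.prime_three⟩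
  have hD : IsPGroup 3 D := fun d => ⟨1, by rw [pow_one, hexp]⟩
  obtain ⟨V, m, hVn, hVe, hm, hidx, homega⟩ := exists_omega (by norm_num) hD
  haveI := hVn
  have hm2 : m ≤ 2 := by
    by_contra h
    obtain ⟨K, -, -, hKV, hKc⟩ := PGroups.exists_normal_card_eq hD (bot_le : ⊥ ≤ V) (k := 3)
      (by rw [Subgroup.card_bot]; norm_num)
      (by rw [hm]; exact Nat.pow_le_pow_right (by norm_num) (by omega))
    exact hno K (Base.isElementaryAbelian_le hKV hVe) (by rw [hKc]; norm_num)
  have hc : centralizer (V : Set D) ≤ V := fun x hx => homega x hx (hexp x)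
  have h1 := Subgroup.card_mul_index (centralizer (V : Set D))
  obtain ⟨n, hn⟩ := hD.exists_card_eq
  have h2 : Nat.card D ≤ 27 := by
    rw [← h1]
    calc _ ≤ 3 ^ 2 * 3 ^ 1 := Nat.mul_le_mul
          ((card_le_of_le hc).trans (hm ▸ Nat.pow_le_pow_right (by norm_num) hm2))
          (hidx.trans (Nat.pow_le_pow_right (by norm_num)
            ((Nat.choose_le_choose 2 hm2).trans (by norm_num))))
      _ = 27 := by norm_num
  rw [hn] at h2 ⊢
  have : n ≤ 3 := (Nat.pow_le_pow_iff_right (show 1 < 3 by norm_num)).1 (h2.trans (by norm_num))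
  exact (pow_dvd_pow 3 this).trans (by norm_num)

lemma fix_card_cases : ∀ {p a b : ℕ}, p.Prime → 5 ≤ p → a ∣ 27 → b ∣ a → b < a → p ∣ a - b →
    a = 27 ∧ b = 1 := by
  intro p a b hpp hp ha hb hlt hd
  have h1 : a ≤ 27 := Nat.le_of_dvd (by norm_num) ha
  have h2 : p ≤ a - b := Nat.le_of_dvd (by omega) hd
  have h3 : b ∣ 27 := hb.trans ha
  obtain ⟨i, hi, rfl⟩ := (Nat.dvd_prime_pow Nat.prime_three).1 (show a ∣ 3 ^ 3 from ha)
  obtain ⟨j, hj, rfl⟩ := (Nat.dvd_prime_pow Nat.prime_three).1 (show b ∣ 3 ^ 3 from h3)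
  interval_cases i <;> interval_cases j <;>
    first | omega | (norm_num; done) | ((have hp26 : p ≤ 26 := by omega) <;> interval_cases p <;> first | omega | norm_num at *)

/-- the fixed points of a `p`-automorphism -/
lemma fix_modEq {D : Type*} [Group D] [Finite D] {p : ℕ} [Fact p.Prime] (α : MulAut D) {k : ℕ}
    (hα : orderOf α = p ^ k) :
    Nat.card D ≡ Nat.card (α.toMonoidHom.eqLocus (MonoidHom.id D)) [MOD p] := by
  have hz : IsPGroup p (Subgroup.zpowers α) := IsPGroup.of_card (n := k) (by rw [Nat.card_zpowers, hα])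
  have h := hz.card_modEq_card_fixedPoints (α := D)
  have hfix : MulAction.fixedPoints (Subgroup.zpowers α) D =
      (α.toMonoidHom.eqLocus (MonoidHom.id D) : Set D) := by
    ext u
    rw [MulAction.mem_fixedPoints]
    constructor
    · intro h; exact h ⟨α, Subgroup.mem_zpowers α⟩
    · rintro hu ⟨g, hg⟩
      have : Subgroup.zpowers α ≤ MulAction.stabilizer (MulAut D) u := Subgroup.zpowers_le.2 hu
      exact this hg
  rwa [hfix] at h

lemma fix_small {D : Type*} [Group D] [Finite D] (hexp : ∀ d : D, d ^ 3 = 1) (hno : No27 D)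
    {p : ℕ} [hp : Fact p.Prime] (hp5 : 5 ≤ p) (α : MulAut D) {k : ℕ} (hα : orderOf α = p ^ k) :
    α = 1 := by
  have hd := card_le_27 hexp hno
  set C := α.toMonoidHom.eqLocus (MonoidHom.id D) with hC
  by_contra hne
  have hlt : Nat.card C < Nat.card D := by
    refine lt_of_le_of_ne (Subgroup.card_le_card_group C) fun h => hne ?_
    exact MulEquiv.ext fun u => ((Subgroup.eq_top_of_card_eq C h) ▸ Subgroup.mem_top u : u ∈ C)
  obtain ⟨hD, hC1⟩ := fix_card_cases hp.out hp5 hd (Subgroup.card_subgroup_dvd_card C) hlt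
    ((Nat.modEq_iff_dvd' hlt.le).1 (fix_modEq α hα).symm)
  -- the centre is not fixed pointwise, and is too small to be moved
  haveI : Fact (Nat.Prime 3) := ⟨Nat.prime_three⟩
  haveI : Nontrivial D := Finite.one_lt_card_iff_nontrivial.1 (by omega)
  have hD3 : IsPGroup 3 D := fun d => ⟨1, by rw [pow_one, hexp]⟩
  haveI := hD3.center_nontrivial
  have hZ : Nat.card (center D) < 27 := by
    refine lt_of_le_of_ne (hD ▸ Subgroup.card_le_card_group _) fun h => ?_
    refine hno ⊤ (Base.isElementaryAbelian_iff.2 ⟨fun a _ b _ => ?_, fun a _ => hexp a⟩)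
      (by rw [Subgroup.card_top, hD])
    have := Subgroup.eq_top_of_card_eq (center D) (h.trans hD.symm)
    exact (Subgroup.mem_center_iff.1 (this ▸ Subgroup.mem_top b : b ∈ center D) a)
  have hmap : ∀ z ∈ center D, α z ∈ center D := fun z hz => by
    rw [Subgroup.mem_center_iff]
    intro g
    have := congrArg α (Subgroup.mem_center_iff.1 hz (α⁻¹ g))
    rwa [map_mul, map_mul, MulAut.apply_inv_self] at this
  let β : MulAut (center D) := MulEquiv.ofBijective
    ({ toFun := fun z => ⟨α z, hmap z z.2⟩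
       map_one' := Subtype.ext (map_one α)
       map_mul' := fun a b => Subtype.ext (map_mul α (a : D) b) } : center D →* center D)
    (Finite.injective_iff_bijective.1 fun a b e =>
      Subtype.ext (α.injective (congrArg Subtype.val e)))
  have hpow : ∀ (n : ℕ) (z : center D), ((β ^ n) z : D) = (α ^ n) (z : D) := by
    intro n
    induction n with
    | zero => intro z; simp
    | succ n ih => intro z; rw [pow_succ, pow_succ, MulAut.mul_apply, MulAut.mul_apply, ih]; rfl
  obtain ⟨k', -, hk'⟩ := (Nat.dvd_prime_pow hp.out).1 (hα ▸ orderOf_dvd_of_pow_eq_one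
    (MulEquiv.ext fun z => Subtype.ext (by rw [hpow, pow_orderOf_eq_one]; rfl) :
      β ^ orderOf α = 1))
  set C' := β.toMonoidHom.eqLocus (MonoidHom.id _) with hC'
  have hzd : Nat.card (center D) ∣ 27 := hD ▸ Subgroup.card_subgroup_dvd_card _
  have h1 : 1 < Nat.card (center D) := Finite.one_lt_card_iff_nontrivial.2 inferInstance
  have hC'1 : Nat.card C' = 1 := by
    refine le_antisymm ?_ Nat.card_pos
    rw [← hC1]
    refine Nat.card_le_card_of_injective (fun z : ↥C' => (⟨((z : center D) : D),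
      congrArg Subtype.val z.2⟩ : ↥C)) fun a b e => ?_
    exact Subtype.ext (Subtype.ext (congrArg Subtype.val e :))
  obtain ⟨h27, -⟩ := fix_card_cases hp.out hp5 hzd (Subgroup.card_subgroup_dvd_card C') (by omega)
    ((Nat.modEq_iff_dvd' (by omega)).1 (fix_modEq β hk').symm)
  omega

theorem centralize_no27 {R : Type*} [Group R] [Finite R] (hR : IsPGroup 3 R) (hno : No27 R)
    {p : ℕ} [hp : Fact p.Prime] (hp5 : 5 ≤ p) {α : MulAut R} {k : ℕ} (hα : orderOf α = p ^ k) :
    α = 1 := by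
  haveI : Fact (Nat.Prime 3) := ⟨Nat.prime_three⟩
  set G := Cfsg.Inn R ⊔ Subgroup.zpowers α with hG
  obtain ⟨D, hDi, -, hDexp, -, hdet, -⟩ := PGroups.InvariantCritical.main (G := G) hR le_sup_left
  have hαG : α ∈ G := Subgroup.mem_sup_right (Subgroup.mem_zpowers α)
  have hcop : (orderOf α).Coprime 3 := by
    rw [hα]
    exact Nat.Coprime.pow_left _ ((Nat.coprime_primes hp.out Nat.prime_three).2 (by omega))
  refine hdet α hαG hcop fun d hd => ?_
  let β : MulAut D := (α.subgroupMap D).trans (MulEquiv.subgroupCongr (hDi α hαG))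
  have hpow : ∀ (n : ℕ) (z : D), ((β ^ n) z : R) = (α ^ n) (z : R) := by
    intro n
    induction n with
    | zero => intro z; simp
    | succ n ih => intro z; rw [pow_succ, pow_succ, MulAut.mul_apply, MulAut.mul_apply, ih]; rfl
  obtain ⟨k', -, hk'⟩ := (Nat.dvd_prime_pow hp.out).1 (hα ▸ orderOf_dvd_of_pow_eq_one
    (MulEquiv.ext fun z => Subtype.ext (by rw [hpow, pow_orderOf_eq_one]; rfl) :
      β ^ orderOf α = 1))
  have hβ := fix_small (D := D) (fun x => Subtype.ext
    ((hDexp x x.2).resolve_right fun h => by norm_num at h))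
    (no27_of_injective D.subtype D.subtype_injective hno) hp5 β hk'
  exact congrArg Subtype.val (DFunLike.congr_fun hβ ⟨d, hd⟩)

/-- in a `{3, p}`-group without elementary subgroups of order `27` the `p`-elements form `O_p` -/
theorem le_pCore_of_no27 {H : Type*} [Group H] [Finite H] [Group.IsSolvable H] {p : ℕ}
    [hp : Fact p.Prime] (hp5 : 5 ≤ p) (hord : ∀ l : ℕ, l.Prime → l ∣ Nat.card H → l = 3 ∨ l = p)
    (hno : No27 H) (x : H) {k : ℕ} (hx : x ^ p ^ k = 1) : x ∈ pCore p H := by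
  haveI : Fact (Nat.Prime 3) := ⟨Nat.prime_three⟩
  set N := pCore p H with hN
  haveI : N.Normal := inferInstance
  rw [← QuotientGroup.eq_one_iff (N := N)]
  have hpN : IsPGroup p N := Base.isPGroup_pCore p H
  have hno' : No27 (H ⧸ N) := by
    intro A hA hA3
    set A' := A.comap (QuotientGroup.mk' N) with hA'
    have hNA : N ≤ A' := fun n hn => by
      rw [hA', Subgroup.mem_comap, QuotientGroup.mk'_apply, (QuotientGroup.eq_one_iff n).2 hn]
      exact one_mem A
    obtain ⟨P⟩ := (inferInstance : Nonempty (Sylow 3 ↥A'))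
    let π : ↥(P : Subgroup ↥A') →* ↥A :=
      (((QuotientGroup.mk' N).comp A'.subtype).comp (P : Subgroup ↥A').subtype).codRestrict A
        fun y => (y : ↥A').2
    have hπ : Function.Injective π := by
      rw [injective_iff_map_eq_one]
      intro y hy
      have hyN : ((y : ↥A') : H) ∈ N := by
        rw [← QuotientGroup.eq_one_iff]; exact congrArg Subtype.val hy
      obtain ⟨a, ha⟩ := P.2 y
      obtain ⟨b, hb⟩ := hpN ⟨_, hyN⟩
      have h3 : ((y : ↥A') : H) ^ 3 ^ a = 1 := congrArg (fun z : ↥(P : Subgroup ↥A') => ((z : ↥A') : H)) ha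
      have hp' : ((y : ↥A') : H) ^ p ^ b = 1 := congrArg Subtype.val hb
      have := pow_gcd_eq_one.2 ⟨h3, hp'⟩
      rw [Nat.Coprime.gcd_eq_one (Nat.Coprime.pow _ _
        ((Nat.coprime_primes Nat.prime_three hp.out).2 (by omega))), pow_one] at this
      exact Subtype.ext (Subtype.ext this)
    have hP27 : 27 ∣ Nat.card (P : Subgroup ↥A') := by
      have hd : 27 ∣ Nat.card ↥A' := by
        have h := Subgroup.card_mul_index (N.subgroupOf A')
        have h2 : (N.subgroupOf A').index = 27 := by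
          let f : ↥A' →* ↥A := ((QuotientGroup.mk' N).comp A'.subtype).codRestrict A fun y => y.2
          have hker : f.ker = N.subgroupOf A' := by
            ext y
            rw [MonoidHom.mem_ker, Subgroup.mem_subgroupOf, ← QuotientGroup.eq_one_iff]
            exact ⟨fun h => congrArg Subtype.val h, fun h => Subtype.ext h⟩
          have hsurj : Function.Surjective f := fun a => by
            obtain ⟨y, hy⟩ := QuotientGroup.mk'_surjective N (a : H ⧸ N)
            exact ⟨⟨y, by rw [hA', Subgroup.mem_comap, hy]; exact a.2⟩, Subtype.ext hy⟩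
          rw [← hker, Subgroup.index_ker, MonoidHom.range_eq_top.2 hsurj, Subgroup.card_top, hA3]
        exact ⟨_, by rw [← h, h2, mul_comm]⟩
      obtain ⟨a, ha⟩ := P.2.exists_card_eq
      rw [ha]
      have := (Nat.Prime.pow_dvd_iff_le_factorization Nat.prime_three Nat.card_pos.ne').1
        (show 3 ^ 3 ∣ Nat.card ↥A' from hd)
      rw [P.card_eq_multiplicity] at ha
      have ha' := Nat.pow_right_injective (le_refl 2 |>.trans (by norm_num : 2 ≤ 3)) ha
      exact pow_dvd_pow 3 (ha' ▸ this)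
    have hPcard : Nat.card (P : Subgroup ↥A') = 27 := by
      refine le_antisymm ?_ (Nat.le_of_dvd Nat.card_pos hP27)
      rw [← hA3]
      exact Nat.card_le_card_of_injective _ hπ
    have hPel : IsElementaryAbelian 3 (⊤ : Subgroup ↥(P : Subgroup ↥A')) := by
      obtain ⟨hc, he⟩ := Base.isElementaryAbelian_iff.1 hA
      exact Base.isElementaryAbelian_iff.2
        ⟨fun a _ b _ => hπ (Subtype.ext (by rw [map_mul, map_mul]; exact hc _ (π a).2 _ (π b).2)),
         fun a _ => hπ (Subtype.ext (by rw [map_pow, map_one]; exact he _ (π a).2))⟩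
    refine no27_of_injective (A'.subtype.comp (P : Subgroup ↥A').subtype)
      (A'.subtype_injective.comp (P : Subgroup ↥A').subtype_injective) hno ⊤ hPel ?_
    rw [Subgroup.card_top, hPcard]
  haveI : Group.IsSolvable (H ⧸ N) := inferInstance
  set Hb := H ⧸ N
  have hOp : pCore p Hb = ⊥ := Base.pCore_quotient_pCore p H
  have hpp : pPrimeCore 3 Hb = ⊥ := by
    rw [eq_bot_iff, ← hOp]
    refine Base.le_pCore ?_
    obtain ⟨n, hn⟩ : ∃ n, Nat.card (pPrimeCore 3 Hb) = p ^ n := by
      refine ⟨_, Nat.eq_prime_pow_of_unique_prime_dvd Nat.card_pos.ne' fun {l} hl hld => ?_⟩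
      rcases hord l hl ((hld.trans (Subgroup.card_subgroup_dvd_card _)).trans
        (Subgroup.card_quotient_dvd_card N)) with rfl | rfl
      · exact absurd hld (Base.not_dvd_card_pPrimeCore 3 Hb)
      · rfl
    exact IsPGroup.of_card hn
  have hcen : centralizer (pCore 3 Hb : Set Hb) ≤ pCore 3 Hb := by
    rw [← Base.fittingSubgroup_eq_pCore_of_pPrimeCore_eq_bot hpp]
    exact Base.centralizer_fittingSubgroup_le
  set xb : Hb := (x : H ⧸ N) with hxb
  have hxp : xb ^ p ^ k = 1 := by rw [hxb, ← QuotientGroup.mk_pow, hx]; rfl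
  have hα : (MulAut.conjNormal xb : MulAut ↥(pCore 3 Hb)) ^ p ^ k = 1 := by
    rw [← map_pow, hxp, map_one]
  obtain ⟨k', -, hk'⟩ := (Nat.dvd_prime_pow hp.out).1 (orderOf_dvd_of_pow_eq_one hα)
  have h1 := centralize_no27 (Base.isPGroup_pCore 3 Hb)
    (no27_of_injective (pCore 3 Hb).subtype (pCore 3 Hb).subtype_injective hno') hp5 hk'
  have hxC : xb ∈ centralizer (pCore 3 Hb : Set Hb) := mem_centralizer_iff.2 fun r hr => by
    have h := congrArg Subtype.val (DFunLike.congr_fun h1 ⟨r, hr⟩)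
    simp only [MulAut.conjNormal_apply, MulAut.one_apply] at h
    exact (mul_inv_eq_iff_eq_mul.1 h).symm
  obtain ⟨a, ha⟩ := Base.isPGroup_pCore 3 Hb ⟨xb, hcen hxC⟩
  have := pow_gcd_eq_one.2 ⟨(congrArg Subtype.val ha : xb ^ 3 ^ a = 1), hxp⟩
  rwa [Nat.Coprime.gcd_eq_one (Nat.Coprime.pow _ _
    ((Nat.coprime_primes Nat.prime_three hp.out).2 (by omega))), pow_one] at this

/-- elements of `F` fixing the four-group pointwise -/
lemma card_fix {S M : Type*} [Group S] [CommGroup M] [Finite S] [Finite M] {ψ : S →* MulAut M}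
    {W₀ : Subgroup M} (hW : Nat.card W₀ = 4) {r : ℕ} [hr : Fact r.Prime] (hr2 : r ≠ 2)
    {F : Subgroup S} (hF : IsPGroup r F) (hFW : F ≤ Inv ψ W₀) :
    ∃ C : Subgroup S, C ≤ F ∧ (∀ s ∈ C, ∀ w ∈ W₀, ψ s w = w) ∧
      Nat.card F ≤ Nat.card C * r ∧ (r ≠ 3 → C = F) := by
  let ρ : ↥F →* Equiv.Perm ↥W₀ :=
    (MulAut.toPerm ↥W₀).comp ((res ψ W₀).comp (Subgroup.inclusion hFW))
  refine ⟨ρ.ker.map F.subtype, Subgroup.map_subtype_le _, ?_, ?_, ?_⟩
  · rintro _ ⟨s, hs, rfl⟩ w hw
    have h := Equiv.ext_iff.1 hs (⟨w, hw⟩ : ↥W₀)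
    exact congrArg Subtype.val h
  all_goals
    obtain ⟨a, ha⟩ := (hF.of_surjective ρ.rangeRestrict ρ.rangeRestrict_surjective).exists_card_eq
    have hd : r ^ a ∣ 24 := by
      rw [← ha]
      refine (Subgroup.card_subgroup_dvd_card ρ.range).trans ?_
      rw [Nat.card_perm, hW]
      decide
    have h5 : 3 ≤ r := by have := hr.out.two_le; omega
  · rw [Subgroup.card_map_of_injective F.subtype_injective, ← Subgroup.card_mul_index ρ.ker,
      Subgroup.index_ker, ha]
    refine Nat.mul_le_mul_left _ ((Nat.pow_le_pow_right hr.out.pos (?_ : a ≤ 1)).trans (pow_one r).le)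
    by_contra ha2
    have h9 : r ^ 2 ∣ 24 := (pow_dvd_pow r (by omega)).trans hd
    have hle : r ^ 2 ≤ 24 := Nat.le_of_dvd (by norm_num) h9
    have : r ≤ 4 := by nlinarith
    interval_cases r <;> norm_num at h9
  · intro h3
    have h0 : a = 0 := by
      by_contra ha0
      have h9 : r ∣ 24 := (dvd_pow_self r ha0).trans hd
      have hle : r ≤ 24 := Nat.le_of_dvd (by norm_num) h9
      have hp' := hr.out
      interval_cases r <;> first | omega | (norm_num at h9; done) | (norm_num at hp'; done)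
    have htop : ρ.ker = ⊤ := by
      rw [← Subgroup.index_eq_one, Subgroup.index_ker, ha, h0, pow_zero]
    rw [htop, ← MonoidHom.range_eq_map, Subgroup.range_subtype]

lemma not_isCyclic {S : Type*} [Group S] [Finite S] {r : ℕ} (hr : r.Prime) {C : Subgroup S}
    (hexp : ∀ c ∈ C, c ^ r = 1) (hcard : r ^ 2 ≤ Nat.card C) : ¬ IsCyclic C := by
  intro h
  obtain ⟨g, hg⟩ := IsCyclic.exists_ofOrder_eq_natCard (α := ↥C)
  have h1 : orderOf g ≤ r :=
    orderOf_le_of_pow_eq_one hr.pos (Subtype.ext (by simpa using hexp g g.2))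
  have : r * 2 ≤ r ^ 2 := by rw [pow_two]; exact Nat.mul_le_mul_left r hr.two_le
  have := hr.pos
  omega

theorem main {S : Type*} [Group S] [Finite S] [Group.IsSolvable S] (M : Subgroup S) [M.Normal]
    (hM : IsElementaryAbelian 2 M) (p : ℕ) (hp : p.Prime) (hp2 : p ≠ 2) (E : Subgroup S)
    (hE : IsElementaryAbelian p E) (hE3 : Nat.card ↥E = p ^ 3)
    (Q : Subgroup S) (hQc : IsCyclic ↥Q) (hQ3 : IsPGroup 3 ↥Q)
    (hQ1 : ∀ x ∈ Q, x ^ 3 ∈ Subgroup.centralizer (M : Set S)) (hQM : Nat.card ↥⁅Q, M⁆ = 4) :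
    ∃ (r : ℕ) (F : Subgroup S), r.Prime ∧ r ≠ 2 ∧ IsElementaryAbelian r F ∧ Nat.card ↥F = r ^ 3 ∧
      ¬ IsCyclic ↥(F ⊓ Subgroup.centralizer ((⁅Q, M⁆ : Subgroup S) : Set S)) := by
  haveI : Fact (Nat.Prime 3) := ⟨Nat.prime_three⟩
  haveI : Fact p.Prime := ⟨hp⟩
  obtain ⟨hMc, hM2⟩ := Base.isElementaryAbelian_iff.1 hM
  letI : CommGroup ↥M :=
    { (inferInstance : Group ↥M) with mul_comm := fun a b => Subtype.ext (hMc _ a.2 _ b.2) }
  have he : ∀ m : ↥M, m * m = 1 := fun m => Subtype.ext (by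
    simpa [pow_two] using hM2 m m.2)
  set ψ : S →* MulAut ↥M := MulAut.conjNormal with hψ
  obtain ⟨⟨q, hqQ⟩, hq⟩ := IsCyclic.exists_generator (α := ↥Q)
  have hgen : ∀ s ∈ Q, s ∈ Subgroup.zpowers q := by
    intro s hs
    obtain ⟨i, hi⟩ := hq ⟨s, hs⟩
    exact ⟨i, congrArg Subtype.val hi⟩
  have hq3 : ψ q ^ 3 = 1 := by
    rw [← map_pow]
    refine MulEquiv.ext fun m => Subtype.ext ?_
    rw [hψ, MulAut.conjNormal_apply, MulAut.one_apply,
      ← Subgroup.mem_centralizer_iff.1 (hQ1 q hqQ) m m.2, mul_inv_cancel_right]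
  have hWeq : ⁅Q, M⁆ = (W ψ q).map M.subtype := by
    refine le_antisymm ?_ ?_
    · rw [Subgroup.commutator_le]
      intro s hs m hm
      have hqT : q ∈ Triv ψ (W ψ q) := ⟨mem_inv_of_W_le le_rfl, fun m => cf_mem_W q m⟩
      have := ((Subgroup.zpowers_le.2 hqT) (hgen s hs)).2 ⟨m, hm⟩
      exact ⟨_, this, by simp [hψ, commutatorElement_def]⟩
    · rintro _ ⟨_, ⟨m, rfl⟩, rfl⟩
      have : ((cf ψ q m : ↥M) : S) = ⁅q, (m : S)⁆ := by
        simp [cf_apply, hψ, commutatorElement_def]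
      show ((cf ψ q m : ↥M) : S) ∈ _
      rw [this]
      exact Subgroup.commutator_mem_commutator hqQ m.2
  have hW4 : Nat.card (W ψ q) = 4 := by
    rw [← hQM, hWeq, Subgroup.card_map_of_injective M.subtype_injective]
  have finish : ∀ {r : ℕ} {F : Subgroup S}, r.Prime → r ≠ 2 → IsElementaryAbelian r F →
      Nat.card F = r ^ 3 → ∀ C : Subgroup S, C ≤ F → (∀ s ∈ C, ∀ w ∈ W ψ q, ψ s w = w) →
      r ^ 2 ≤ Nat.card C → ¬ IsCyclic ↥(F ⊓ Subgroup.centralizer ((⁅Q, M⁆ : Subgroup S) : Set S)) := by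
    intro r F hr hr2 hF hF3 C hCF hC hcard
    refine not_isCyclic hr (fun c hc => (Base.isElementaryAbelian_iff.1 hF).2 c hc.1)
      (hcard.trans (Subgroup.card_le_of_le (le_inf hCF ?_)))
    intro c hc
    rw [Subgroup.mem_centralizer_iff, hWeq]
    rintro _ ⟨w, hw, rfl⟩
    have h := congrArg Subtype.val (hC c hc w hw)
    rw [hψ, MulAut.conjNormal_apply, mul_inv_eq_iff_eq_mul] at h
    exact h.symm
  by_cases h27 : ∃ A : Subgroup S, IsElementaryAbelian 3 A ∧ Nat.card A = 27
  · obtain ⟨A, hA, hA27⟩ := h27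
    obtain ⟨P, hP⟩ := hQ3.exists_le_sylow
    obtain ⟨P', hP'⟩ := (IsPGroup.of_card (p := 3) (n := 3) (G := ↥A)
      (by rw [hA27]; norm_num)).exists_le_sylow
    obtain ⟨g, hg⟩ := MulAction.exists_smul_eq S P' P
    set A' := A.map (MulAut.conj g).toMonoidHom with hA'
    have hA'P : A' ≤ (P : Subgroup S) := by
      rintro _ ⟨a, ha, rfl⟩
      rw [← hg]
      exact ⟨a, hP' ha, rfl⟩
    obtain ⟨A₁, hA₁n, hA₁e, hA₁c⟩ := exists_normal_cube (G := ↥(P : Subgroup S)) (by norm_num) P.2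
      (Base.isElementaryAbelian_subgroupOf (Base.isElementaryAbelian_map _ hA) _ :
        IsElementaryAbelian 3 (A'.subgroupOf (P : Subgroup S)))
      (by rw [Nat.card_congr (Subgroup.subgroupOfEquivOfLe hA'P).toEquiv, hA',
        Subgroup.card_map_of_injective (MulAut.conj g).injective, hA27]; norm_num)
    set F := A₁.map (P : Subgroup S).subtype with hFdef
    have hFe : IsElementaryAbelian 3 F := Base.isElementaryAbelian_map _ hA₁e
    have hF3 : Nat.card F = 3 ^ 3 := by
      rw [hFdef, Subgroup.card_map_of_injective (P : Subgroup S).subtype_injective, hA₁c]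
    obtain ⟨hFc, hF1⟩ := Base.isElementaryAbelian_iff.1 hFe
    have hinv : F ≤ Inv ψ (W ψ q) :=
      normal_abelian_le_inv he hq3 hW4 P.2 (hP hqQ) (Subgroup.map_subtype_le A₁)
        (by
          rintro x hx _ ⟨a, ha, rfl⟩
          exact ⟨⟨x, hx⟩ * a * ⟨x, hx⟩⁻¹, hA₁n.conj_mem a ha _, rfl⟩) hFc hF1
    obtain ⟨C, hCF, hC, hcard, -⟩ := card_fix hW4 (r := 3) (by norm_num)
      (P.2.to_le (Subgroup.map_subtype_le A₁) : IsPGroup 3 F) hinv
    refine ⟨3, F, Nat.prime_three, by norm_num, hFe, hF3,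
      finish Nat.prime_three (by norm_num) hFe hF3 C hCF hC ?_⟩
    rw [hF3] at hcard
    omega
  have hno : No27 S := fun A hA h => h27 ⟨A, hA, h⟩
  have hp5 : 5 ≤ p := by
    rcases Nat.lt_or_ge p 5 with h | h
    · exfalso
      interval_cases p
      · exact Nat.not_prime_zero hp
      · exact Nat.not_prime_one hp
      · exact hp2 rfl
      · exact hno E hE (by rw [hE3]; norm_num)
      · norm_num at hp
    · exact h
  have hπ := Coprime.hallD_of_solvable (G := S) ({3, p} : Set ℕ)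
  have hQπ : IsPiSubgroup ({3, p} : Set ℕ) Q := by
    intro l hl hd
    obtain ⟨n, hn⟩ := hQ3.exists_card_eq
    rw [hn] at hd
    exact Or.inl ((Nat.prime_dvd_prime_iff_eq hl Nat.prime_three).1 (hl.dvd_of_dvd_pow hd))
  obtain ⟨H, hH, hQH⟩ := hπ.exists_le hQπ
  obtain ⟨g, hg⟩ := hπ.conj_le (U := E) (fun l hl hd => by
    rw [hE3] at hd
    exact Or.inr ((Nat.prime_dvd_prime_iff_eq hl hp).1 (hl.dvd_of_dvd_pow hd))) hH
  set E' := E.map (MulAut.conj g).toMonoidHom with hE'def
  have hE'H : E' ≤ H := by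
    rintro _ ⟨x, hx, rfl⟩
    exact hg ⟨x, hx, rfl⟩
  have hE'e : IsElementaryAbelian p E' := Base.isElementaryAbelian_map _ hE
  have hE'3 : Nat.card E' = p ^ 3 := by
    rw [hE'def, Subgroup.card_map_of_injective (MulAut.conj g).injective, hE3]
  set T := (pCore p ↥H).map H.subtype with hT
  have hE'T : E' ≤ T := by
    intro x hx
    refine ⟨⟨x, hE'H hx⟩, ?_, rfl⟩
    refine le_pCore_of_no27 hp5 (fun l hl hd => ?_) (no27_of_injective H.subtype H.subtype_injective hno)
      ⟨x, hE'H hx⟩ (k := 1) (Subtype.ext (by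
        simpa using (Base.isElementaryAbelian_iff.1 hE'e).2 x hx))
    rcases hH.1 l hl hd with h | h
    · exact Or.inl h
    · exact Or.inr h
  have hqT : ∀ t ∈ T, q * t * q⁻¹ ∈ T := by
    rintro _ ⟨t, ht, rfl⟩
    exact ⟨⟨q, hQH hqQ⟩ * t * ⟨q, hQH hqQ⟩⁻¹,
      (inferInstance : (pCore p ↥H).Normal).conj_mem t ht _, rfl⟩
  have hTp : IsPGroup p T := Base.isPGroup_map_pCore p H
  have hidx := relIndex_inv_le he hq3 hW4 hp5 hTp hqT
  set K := E' ⊓ Inv ψ (W ψ q) with hK
  have hrel : K.relIndex E' ≤ p := by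
    refine le_trans (le_of_eq ?_) ((Subgroup.relIndex_le_of_le_right hE'T
      Subgroup.index_ne_zero_of_finite).trans hidx)
    rw [← Subgroup.inf_relIndex_right K E', ← Subgroup.inf_relIndex_right (T ⊓ _) E', hK]
    congr 1
    rw [inf_comm (E' ⊓ _) E', ← inf_assoc, inf_idem, inf_comm (T ⊓ _) E', ← inf_assoc,
      inf_eq_left.2 hE'T]
  obtain ⟨C, hCK, hC, hcard, hCeq⟩ := card_fix hW4 (r := p) hp2
    (hTp.to_le ((inf_le_left : K ≤ E').trans hE'T)) (inf_le_right : K ≤ _)
  have hCK' := hCeq (by omega)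
  refine ⟨p, E', hp, hp2, hE'e, hE'3,
    finish hp hp2 hE'e hE'3 C (hCK.trans inf_le_left) hC ?_⟩
  rw [hCK']
  have h1 := Subgroup.relIndex_mul_relIndex ⊥ K E' bot_le inf_le_left
  rw [Subgroup.relIndex_bot_left, Subgroup.relIndex_bot_left, hE'3] at h1
  refine Nat.le_of_mul_le_mul_right ?_ hp.pos
  calc p ^ 2 * p = Nat.card K * K.relIndex E' := by rw [h1, pow_succ p 2]
    _ ≤ Nat.card K * p := Nat.mul_le_mul_left _ hrel

end CfsgLib.FgsC.FourComm
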