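import Mathlib

/-!
# An automorphism of order three without fixed points

A finite group with such an automorphism and order prime to three has class at most two
(Neumann): each element commutes with its conjugates, so the group is 2-Engel.
-/

set_option autoImplicit false

open scoped commutatorElement

namespace CfsgLib.FgsC.FpfOrderThree

variable {L : Type*} [Group L]

/-- If every element commutes with its conjugates, the cube of a triple commutator is trivial. -/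
theorem cube_eq_one (hconj : ∀ x y : L, Commute x (y * x * y⁻¹)) (x y z : L) :
    ⁅⁅x, y⁆, z⁆ ^ 3 = 1 := by
  have hcc : ∀ a g k : L, Commute (g * a * g⁻¹) (k * a * k⁻¹) := fun a g k => by
    have h := (hconj a (g⁻¹ * k)).map (MulAut.conj g).toMonoidHom
    simp only [MulEquiv.coe_toMonoidHom, MulAut.conj_apply] at h
    rwa [show g * (g⁻¹ * k * a * (g⁻¹ * k)⁻¹) * g⁻¹ = k * a * k⁻¹ by group] at h
  -- a commutator commutes with the conjugates of its entries
  have hl : ∀ a b g k : L, Commute (g * ⁅a, b⁆ * g⁻¹) (k * a * k⁻¹) := fun a b g k => by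
    rw [show g * ⁅a, b⁆ * g⁻¹ = g * a * g⁻¹ * (g * b * a * (g * b)⁻¹)⁻¹ by
      rw [commutatorElement_def]; group]
    exact (hcc a g k).mul_left (hcc a (g * b) k).inv_left
  have hr : ∀ a b g k : L, Commute (g * ⁅a, b⁆ * g⁻¹) (k * b * k⁻¹) := fun a b g k => by
    rw [show g * ⁅a, b⁆ * g⁻¹ = g * a * b * (g * a)⁻¹ * (g * b * g⁻¹)⁻¹ by
      rw [commutatorElement_def]; group]
    exact (hcc b (g * a) k).mul_left (hcc b g k).inv_left
  have hl1 : ∀ a b : L, Commute ⁅a, b⁆ a := fun a b => by simpa using hl a b 1 1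
  have hr1 : ∀ a b : L, Commute ⁅a, b⁆ b := fun a b => by simpa using hr a b 1 1
  -- the triple commutators
  have htl : ∀ a b c : L, Commute ⁅⁅a, b⁆, c⁆ a := fun a b c => by
    rw [show ⁅⁅a, b⁆, c⁆ = 1 * ⁅a, b⁆ * 1⁻¹ * (c * ⁅a, b⁆ * c⁻¹)⁻¹ by
      rw [commutatorElement_def ⁅a, b⁆]; group]
    exact ((by simpa using hl a b 1 1 : Commute (1 * ⁅a, b⁆ * 1⁻¹) a)).mul_left
      (by simpa using (hl a b c 1).inv_left)
  have htr : ∀ a b c : L, Commute ⁅⁅a, b⁆, c⁆ b := fun a b c => by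
    rw [show ⁅⁅a, b⁆, c⁆ = 1 * ⁅a, b⁆ * 1⁻¹ * (c * ⁅a, b⁆ * c⁻¹)⁻¹ by
      rw [commutatorElement_def ⁅a, b⁆]; group]
    exact ((by simpa using hr a b 1 1 : Commute (1 * ⁅a, b⁆ * 1⁻¹) b)).mul_left
      (by simpa using (hr a b c 1).inv_left)
  have htc : ∀ a b c : L, Commute ⁅⁅a, b⁆, c⁆ c := fun a b c => hr1 _ c
  have hswap : ∀ a b c : L, ⁅⁅b, a⁆, c⁆ = ⁅⁅a, b⁆, c⁆⁻¹ := fun a b c => by
    rw [← commutatorElement_inv a b, show ⁅⁅a, b⁆⁻¹, c⁆ = ⁅a, b⁆⁻¹ * ⁅⁅a, b⁆, c⁆⁻¹ * ⁅a, b⁆ by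
      simp only [commutatorElement_def]; group,
      mul_assoc, ((hl1 ⁅a, b⁆ c).inv_left).eq, inv_mul_cancel_left]
  -- the last two entries anticommute
  have hanti : ∀ a b c : L, ⁅⁅a, c⁆, b⁆ = ⁅⁅a, b⁆, c⁆⁻¹ := fun a b c => by
    set u := ⁅a, b⁆ with hu
    set w := ⁅a, c⁆ with hw
    set t := ⁅u, c⁆ with ht
    set t' := ⁅w, b⁆ with ht'
    have hab : ⁅a, b * c⁆ = u * (t'⁻¹ * w) := by
      rw [hu, ht', hw, commutatorElement_def ⁅a, c⁆]
      simp only [commutatorElement_def]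
      group
    have h := (hr1 a (b * c)).eq
    rw [hab] at h
    have huu : ∀ g : L, Commute (g * u * g⁻¹) w := fun g => by
      rw [hw, show ⁅a, c⁆ = 1 * a * 1⁻¹ * (c * a * c⁻¹)⁻¹ by rw [commutatorElement_def]; group]
      exact (hl a b g 1).mul_right (hl a b g c).inv_right
    have hut' : Commute u t' := by
      rw [ht', commutatorElement_def, show w * b * w⁻¹ * b⁻¹ = w * (b * w * b⁻¹)⁻¹ by group]
      refine (by simpa using huu 1 : Commute u w).mul_right (Commute.inv_right ?_)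
      have h1 := (huu b⁻¹).map (MulAut.conj b).toMonoidHom
      simp only [MulEquiv.coe_toMonoidHom, MulAut.conj_apply] at h1
      rwa [show b * (b⁻¹ * u * b⁻¹⁻¹) * b⁻¹ = u by group] at h1
    -- conjugation by `b * c`
    have h1 : b * c * (u * (t'⁻¹ * w)) * (b * c)⁻¹ = u * (t'⁻¹ * w) := by
      rw [← h, mul_inv_cancel_right]
    have e1 : c * u * c⁻¹ = t⁻¹ * u := by
      rw [ht, commutatorElement_inv, commutatorElement_def, inv_mul_cancel_right]
    have e2 : c * t' * c⁻¹ = t' := by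
      rw [← (htr a c b).eq, mul_inv_cancel_right]
    have e3 : c * w * c⁻¹ = w := by
      rw [← (hr1 a c).eq, mul_inv_cancel_right]
    have e4 : b * t * b⁻¹ = t := by
      rw [← (htr a b c).eq, mul_inv_cancel_right]
    have e5 : b * u * b⁻¹ = u := by
      rw [← (hr1 a b).eq, mul_inv_cancel_right]
    have e6 : b * t' * b⁻¹ = t' := by
      rw [← (hr1 w b).eq, mul_inv_cancel_right]
    have e7 : b * w * b⁻¹ = t'⁻¹ * w := by
      rw [ht', commutatorElement_inv, commutatorElement_def, inv_mul_cancel_right]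
    rw [show b * c * (u * (t'⁻¹ * w)) * (b * c)⁻¹
        = b * ((c * u * c⁻¹) * ((c * t' * c⁻¹)⁻¹ * (c * w * c⁻¹))) * b⁻¹ by group, e1, e2, e3,
      show b * (t⁻¹ * u * (t'⁻¹ * w)) * b⁻¹
        = (b * t * b⁻¹)⁻¹ * (b * u * b⁻¹) * ((b * t' * b⁻¹)⁻¹ * (b * w * b⁻¹)) by group,
      e4, e5, e6, e7] at h1
    have h2 : t⁻¹ * t'⁻¹ * (u * (t'⁻¹ * w)) = 1 * (u * (t'⁻¹ * w)) := by
      rw [one_mul]
      conv_rhs => rw [← h1]
      simp only [mul_assoc]
      rw [← mul_assoc t'⁻¹ u, ← (hut'.inv_right).eq, mul_assoc]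
    have h3 := mul_right_cancel h2
    rw [← mul_inv_rev, inv_eq_one] at h3
    exact eq_inv_of_mul_eq_one_left h3
  have hcyc : ∀ a b c : L, ⁅⁅b, c⁆, a⁆ = ⁅⁅a, b⁆, c⁆ := fun a b c => by
    rw [hanti b a c, hswap a b c, inv_inv]
  have hconjc : ∀ a b c : L, ⁅⁅a, b⁆, b * c * b⁻¹⁆ = ⁅⁅a, b⁆, c⁆ := fun a b c => by
    have e : b * ⁅a, b⁆ * b⁻¹ = ⁅a, b⁆ := by rw [← (hr1 a b).eq, mul_inv_cancel_right]
    conv_lhs => rw [← e]
    rw [← MulAut.conj_apply, ← MulAut.conj_apply, ← MulEquiv.coe_toMonoidHom, ← map_commutatorElement,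
      MulEquiv.coe_toMonoidHom, MulAut.conj_apply, ← (htr a b c).eq, mul_inv_cancel_right]
  have hHW : ⁅⁅x, y⁆, y * z * y⁻¹⁆ * ⁅⁅y, z⁆, z * x * z⁻¹⁆ * ⁅⁅z, x⁆, x * y * x⁻¹⁆ = 1 := by
    simp only [commutatorElement_def]; group
  rw [hconjc, hconjc, hconjc, hcyc x y z, hcyc y z x, hcyc x y z] at hHW
  rwa [pow_succ, pow_succ, pow_one]

variable [Finite L]

/-- An automorphism of order three without fixed points: commutators are central. -/
theorem commute_commutator (φ : MulAut L) (hφ : ∀ x, φ x = x → x = 1) (h3 : φ ^ 3 = 1)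
    (hc : (Nat.card L).Coprime 3) (a b c : L) : Commute c ⁅a, b⁆ := by
  have hφ3 : ∀ x, φ (φ (φ x)) = x := fun x => by
    have := DFunLike.congr_fun h3 x
    simpa [pow_succ, MulAut.mul_apply] using this
  -- the norms vanish
  have hnorm : ∀ x, x * φ x * φ (φ x) = 1 := by
    intro x
    have hsurj : Function.Surjective fun y => y⁻¹ * φ y := Finite.injective_iff_surjective.mp
      fun y w hyw => by
        refine mul_inv_eq_one.mp (hφ _ ?_)
        simp only [map_mul, map_inv]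
        rw [show φ y = y * (w⁻¹ * φ w) from eq_mul_of_inv_mul_eq hyw]
        group
    obtain ⟨y, rfl⟩ := hsurj x
    simp only [map_mul, map_inv, hφ3]
    group
  have hsq : ∀ x, φ (φ x) = (x * φ x)⁻¹ := fun x => eq_inv_of_mul_eq_one_right (hnorm x)
  -- `x` and `φ x` commute
  have hnorm' : ∀ x, x * φ (φ x) * φ x = 1 := by
    intro x
    have hsurj : Function.Surjective fun y => y⁻¹ * φ (φ y) := Finite.injective_iff_surjective.mp
      fun y w hyw => by
        have h : φ (φ (y * w⁻¹)) = y * w⁻¹ := by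
          simp only [map_mul, map_inv]
          rw [show φ (φ y) = y * (w⁻¹ * φ (φ w)) from eq_mul_of_inv_mul_eq hyw]
          group
        exact mul_inv_eq_one.mp (hφ _ (by conv_rhs => rw [← hφ3 (y * w⁻¹), h]))
    obtain ⟨y, rfl⟩ := hsurj x
    simp only [map_mul, map_inv, hφ3]
    group
  have hx : ∀ x, Commute x (φ x) := fun x => by
    have h1 := hnorm' x
    rw [hsq, mul_inv_rev, show x * ((φ x)⁻¹ * x⁻¹) * φ x = x * (φ x)⁻¹ * x⁻¹ * φ x by group] at h1
    have h2 : x * (φ x)⁻¹ * x⁻¹ = (φ x)⁻¹ := eq_inv_of_mul_eq_one_left h1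
    exact Commute.inv_right_iff.mp (mul_inv_eq_iff_eq_mul.mp h2)
  have hconj : ∀ x y : L, Commute x (y * x * y⁻¹) := by
    have key : ∀ x y : L, φ y * x * φ x * (φ y)⁻¹ = y⁻¹ * x * y * φ x := fun x y => by
      have h1 := hsq (x * y)
      rw [map_mul, map_mul, hsq, hsq, ← mul_inv_rev, inv_inj] at h1
      calc φ y * x * φ x * (φ y)⁻¹ = y⁻¹ * (y * φ y * (x * φ x)) * (φ y)⁻¹ := by group
        _ = y⁻¹ * (x * y * (φ x * φ y)) * (φ y)⁻¹ := by rw [h1]
        _ = y⁻¹ * x * y * φ x := by group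
    intro x y
    have h1 := key x y⁻¹
    have h2 := key x (y⁻¹ * x)
    rw [map_mul, mul_inv_rev] at h2
    have e : φ y⁻¹ * φ x * x * φ x * ((φ x)⁻¹ * (φ y⁻¹)⁻¹) = φ y⁻¹ * x * φ x * (φ y⁻¹)⁻¹ := by
      rw [mul_assoc (φ y⁻¹) x, (hx x).eq]
      group
    rw [e, h1, mul_inv_rev, inv_inv] at h2
    have h3 : y * x * y⁻¹ = x⁻¹ * (y * x * y⁻¹) * x := by
      refine mul_right_cancel (b := φ x) (h2.trans ?_)
      group
    show x * (y * x * y⁻¹) = y * x * y⁻¹ * x
    conv_lhs => rw [h3]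
    group
  have h1 := cube_eq_one hconj a b c
  have h2 : ⁅⁅a, b⁆, c⁆ = 1 := orderOf_eq_one_iff.mp (Nat.eq_one_of_dvd_coprimes hc
    (orderOf_dvd_natCard _) (orderOf_dvd_of_pow_eq_one h1))
  exact (commutatorElement_eq_one_iff_mul_comm.mp h2).symm

end CfsgLib.FgsC.FpfOrderThree
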