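import Cfsg.Agent.Lib.FgsC.NormalElement

/-!
# Free modules for a group acting without fixed points

If `H` normalises a finite nilpotent group `M` of order invertible in `k` without fixed points and
`M` fixes no nonzero vector, then `H` acts freely: `V` is the direct sum of the `h • W`.
-/

set_option autoImplicit false
set_option linter.style.haveILetI false

open scoped commutatorElement

namespace CfsgLib.FgsC.FreeModule

variable {k : Type*} [Field k] {A : Type*} [Group A] {V : Type*} [AddCommGroup V] [Module k V]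

/-- `U` is the direct sum of the `ρ h Wp`, `h ∈ H`. -/
def FreeOn (ρ : Representation k A V) (H : Subgroup A) [Fintype H] (U : Submodule k V) : Prop :=
  ∃ Wp : Submodule k V,
    (∀ f : H → V, (∀ h, f h ∈ Wp) → ∑ h : H, ρ (h : A) (f h) = 0 → f = 0) ∧
    (∀ f : H → V, (∀ h, f h ∈ Wp) → ∑ h : H, ρ (h : A) (f h) ∈ U) ∧
    ∀ u ∈ U, ∃ f : H → V, (∀ h, f h ∈ Wp) ∧ ∑ h : H, ρ (h : A) (f h) = u

/-- The commutative case. -/
theorem free_of_commute [FiniteDimensional k V] (σ : Representation k A V) (Z H : Subgroup A)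
    [Fintype Z] [Fintype H] (hHZ : ∀ h ∈ H, ∀ z ∈ Z, h * z * h⁻¹ ∈ Z)
    (hcomm : ∀ y ∈ Z, ∀ z ∈ Z, σ y * σ z = σ z * σ y) (hZk : (Nat.card Z : k) ≠ 0)
    (hsum : ∑ z : Z, σ (z : A) = 0)
    (hfpf : ∀ h ∈ H, h ≠ 1 → ∀ z ∈ Z, h * z * h⁻¹ = z → z = 1) :
    FreeOn σ H ⊤ := by
  classical
  let R : Subalgebra k (Module.End k V) := Algebra.adjoin k (Set.range fun z : Z => σ (z : A))
  have hgenR : ∀ z : Z, σ (z : A) ∈ R := fun z => Algebra.subset_adjoin ⟨z, rfl⟩
  have hc1 : ∀ r ∈ R, ∀ z : Z, Commute r (σ (z : A)) := by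
    intro r hr z
    induction hr using Algebra.adjoin_induction with
    | mem x hx =>
      obtain ⟨y, rfl⟩ := hx
      exact hcomm y y.2 z z.2
    | algebraMap c => exact Algebra.commutes c _
    | add x y _ _ hx hy => exact hx.add_left hy
    | mul x y _ _ hx hy => exact hx.mul_left hy
  have hc2 : ∀ r ∈ R, ∀ r' ∈ R, Commute r r' := by
    intro r hr r' hr'
    induction hr' using Algebra.adjoin_induction with
    | mem x hx =>
      obtain ⟨y, rfl⟩ := hx
      exact hc1 r hr y
    | algebraMap c => exact (Algebra.commutes c _).symm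
    | add x y _ _ hx hy => exact hx.add_right hy
    | mul x y _ _ hx hy => exact hx.mul_right hy
  letI : CommRing R :=
    { (inferInstance : Ring R) with mul_comm := fun a b => Subtype.ext (hc2 a a.2 b b.2) }
  haveI : IsArtinianRing R := IsArtinianRing.of_finite k R
  have hone : ∀ a : A, σ a * σ a⁻¹ = 1 := fun a => by rw [← map_mul, mul_inv_cancel, map_one]
  have hone' : ∀ a : A, σ a⁻¹ * σ a = 1 := fun a => by rw [← map_mul, inv_mul_cancel, map_one]
  -- `H` acts on `R`
  have hclosed : ∀ h : H, ∀ r ∈ R, σ (h : A) * r * σ (h : A)⁻¹ ∈ R := by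
    intro h r hr
    induction hr using Algebra.adjoin_induction with
    | mem x hx =>
      obtain ⟨y, rfl⟩ := hx
      rw [← map_mul, ← map_mul]
      exact hgenR ⟨_, hHZ h h.2 y y.2⟩
    | algebraMap c =>
      rw [← Algebra.commutes c, mul_assoc, hone, mul_one]
      exact R.algebraMap_mem c
    | add x y _ _ hx hy =>
      rw [mul_add, add_mul]
      exact R.add_mem hx hy
    | mul x y _ _ hx hy =>
      have := R.mul_mem hx hy
      rwa [show σ (h : A) * x * σ (h : A)⁻¹ * (σ (h : A) * y * σ (h : A)⁻¹) =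
        σ (h : A) * x * (σ (h : A)⁻¹ * σ (h : A)) * y * σ (h : A)⁻¹ by simp only [mul_assoc],
        hone', mul_one, mul_assoc (σ (h : A)) x y] at this
  letI : MulSemiringAction H R :=
    { smul := fun h r => ⟨σ (h : A) * r * σ (h : A)⁻¹, hclosed h r r.2⟩
      one_smul := fun r => Subtype.ext (by
        show σ ((1 : H) : A) * r * σ ((1 : H) : A)⁻¹ = r
        rw [OneMemClass.coe_one, inv_one, map_one, one_mul, mul_one])
      mul_smul := fun g h r => Subtype.ext (by
        show σ ((g * h : H) : A) * r * σ ((g * h : H) : A)⁻¹ =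
          σ (g : A) * (σ (h : A) * r * σ (h : A)⁻¹) * σ (g : A)⁻¹
        rw [Subgroup.coe_mul, mul_inv_rev, map_mul, map_mul]
        simp only [mul_assoc])
      smul_zero := fun h => Subtype.ext (by
        show σ (h : A) * 0 * σ (h : A)⁻¹ = 0
        rw [mul_zero, zero_mul])
      smul_add := fun h r s => Subtype.ext (by
        show σ (h : A) * (r + s : Module.End k V) * σ (h : A)⁻¹ = _
        rw [mul_add, add_mul]
        rfl)
      smul_one := fun h => Subtype.ext (by
        show σ (h : A) * 1 * σ (h : A)⁻¹ = 1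
        rw [mul_one, hone])
      smul_mul := fun h r s => Subtype.ext (by
        show σ (h : A) * (r * s : Module.End k V) * σ (h : A)⁻¹ =
          σ (h : A) * r * σ (h : A)⁻¹ * (σ (h : A) * s * σ (h : A)⁻¹)
        rw [show σ (h : A) * r * σ (h : A)⁻¹ * (σ (h : A) * s * σ (h : A)⁻¹) =
          σ (h : A) * r * (σ (h : A)⁻¹ * σ (h : A)) * s * σ (h : A)⁻¹ by simp only [mul_assoc],
          hone', mul_one, mul_assoc (σ (h : A)) (r : Module.End k V) s]) }
  have hsmul : ∀ (h : H) (r : R),
      ((h • r : R) : Module.End k V) = σ (h : A) * r * σ (h : A)⁻¹ := fun _ _ => rfl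
  have hfree : ∀ m : Ideal R, m.IsMaximal → ∀ h : H, h ≠ 1 → ∃ x : R, h • x - x ∉ m := by
    intro m hm h hh
    by_contra hall
    push Not at hall
    have hsurj : Function.Surjective (fun y : Z =>
        (⟨(h : A) * y * (h : A)⁻¹ * (y : A)⁻¹,
          Z.mul_mem (hHZ h h.2 y y.2) (Z.inv_mem y.2)⟩ : Z)) := by
      refine Finite.surjective_of_injective fun y y' hyy => ?_
      have he : (h : A) * y * (h : A)⁻¹ = (h : A) * y' * (h : A)⁻¹ * (y' : A)⁻¹ * y :=
        mul_inv_eq_iff_eq_mul.1 (congrArg Subtype.val hyy)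
      have h1 := hfpf h h.2 (fun e => hh (Subtype.ext e)) ((y' : A)⁻¹ * y)
        (Z.mul_mem (Z.inv_mem y'.2) y.2) (by
          calc (h : A) * ((y' : A)⁻¹ * y) * (h : A)⁻¹
              = (h : A) * (y' : A)⁻¹ * (h : A)⁻¹ * ((h : A) * y * (h : A)⁻¹) := by group
            _ = _ := by rw [he]; group)
      exact (Subtype.ext (inv_mul_eq_one.1 h1)).symm
    let ψ : Z → R := fun z => ⟨σ (z : A), hgenR z⟩
    have hψm : ∀ z, ψ z - 1 ∈ m := by
      intro z
      obtain ⟨y, rfl⟩ := hsurj z
      have := m.mul_mem_right (ψ y⁻¹) (hall (ψ y))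
      convert this using 1
      apply Subtype.ext
      show σ ((h : A) * y * (h : A)⁻¹ * (y : A)⁻¹) - 1 =
        (σ (h : A) * σ (y : A) * σ (h : A)⁻¹ - σ (y : A)) * σ ((y⁻¹ : Z) : A)
      rw [sub_mul, InvMemClass.coe_inv, hone, map_mul, map_mul, map_mul]
    have h1 : ∑ z : Z, ψ z = 0 := Subtype.ext (by
      rw [AddSubmonoidClass.coe_finsetSum, ZeroMemClass.coe_zero]
      exact hsum)
    have h2 : ((Nat.card Z : ℕ) : R) ∈ m := by
      have h3 := m.sum_mem (t := Finset.univ) (f := fun z : Z => ψ z - 1) fun z _ => hψm z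
      rw [Finset.sum_sub_distrib, h1, Finset.sum_const, Finset.card_univ, zero_sub,
        nsmul_eq_mul, mul_one] at h3
      rw [Nat.card_eq_fintype_card]
      exact m.neg_mem_iff.1 h3
    refine hm.ne_top (Ideal.eq_top_of_isUnit_mem _ h2 ?_)
    rw [← map_natCast (algebraMap k R)]
    exact (IsUnit.mk0 _ hZk).map _
  obtain ⟨θ, hθ⟩ := CfsgLib.FgsC.NormalElement.exists_normal_element hfree
  set Q : Matrix H H R := Matrix.of fun g h : H => (g * h) • θ with hQ
  obtain ⟨u, hu⟩ := hθ
  set P : Matrix H H R := (u⁻¹ : (Matrix H H R)ˣ).1 with hP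
  have hPQ : P * Q = 1 := by rw [hP, ← hu, Units.inv_mul]
  have hQP : Q * P = 1 := by rw [hP, ← hu, Units.mul_inv]
  let op : Matrix H H R → (H → V) → (H → V) := fun M f g => ∑ h : H, (M g h : Module.End k V) (f h)
  have hop : ∀ M N f, op M (op N f) = op (M * N) f := by
    intro M N f
    funext g
    simp only [op, map_sum, Matrix.mul_apply, AddSubmonoidClass.coe_finsetSum, MulMemClass.coe_mul,
      LinearMap.sum_apply, Module.End.mul_apply]
    exact Finset.sum_comm
  have hop1 : ∀ f, op 1 f = f := by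
    intro f
    funext g
    simp only [op, Matrix.one_apply]
    rw [Finset.sum_eq_single g]
    · simp
    · intro b _ hb
      simp [Ne.symm hb]
    · simp
  let VH : Submodule k V :=
    { carrier := {v | ∀ h : H, σ (h : A) v = v}
      add_mem' := fun {a b} ha hb h => by rw [map_add, ha h, hb h]
      zero_mem' := fun h => map_zero _
      smul_mem' := fun c v hv h => by rw [map_smul, hv h] }
  have hinv : ∀ (x : A) (v : V), σ x (σ x⁻¹ v) = v := fun x v => by
    rw [← Module.End.mul_apply, hone, Module.End.one_apply]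
  have hkey : ∀ f : H → V, (∀ h, f h ∈ VH) → ∀ g : H,
      op Q f g = σ (g : A) (∑ h : H, σ (h : A) ((θ : Module.End k V) (f h))) := by
    intro f hf g
    rw [map_sum]
    refine Finset.sum_congr rfl fun h _ => ?_
    simp only [hQ, Matrix.of_apply, hsmul, Module.End.mul_apply, Subgroup.coe_mul, map_mul]
    rw [show σ ((g : A) * h)⁻¹ (f h) = f h from ?_]
    have := hf h (g * h)⁻¹
    rwa [InvMemClass.coe_inv, Subgroup.coe_mul] at this
  refine ⟨VH.map (θ : Module.End k V), fun f hf hzero => ?_, fun _ _ => trivial, fun w _ => ?_⟩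
  · choose g hg hgf using fun h => Submodule.mem_map.1 (hf h)
    have h0 : op Q g = 0 := by
      funext a
      rw [hkey g hg a, Pi.zero_apply]
      simp only [hgf, hzero, map_zero]
    have hg0 : g = 0 := by
      rw [← hop1 g, ← hPQ, ← hop, h0]
      funext a
      simp [op]
    funext h
    rw [← hgf h, hg0, Pi.zero_apply, map_zero]
  · set g := op P fun a => σ (a : A) w with hgdef
    have hg : ∀ a, op Q g a = σ (a : A) w := fun a => by rw [hgdef, hop, hQP, hop1]
    have hgV : ∀ h, g h ∈ VH := by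
      intro h x
      have heq : op Q (fun b => σ (x : A) (g b)) = op Q g := by
        funext a
        have h1 := congrArg (σ (x : A)) (hg (x⁻¹ * a))
        rw [hg a, show σ (a : A) w = σ (x : A) (σ ((x⁻¹ * a : H) : A) w) by
          rw [← Module.End.mul_apply, ← map_mul, Subgroup.coe_mul, InvMemClass.coe_inv,
            mul_inv_cancel_left], ← h1]
        simp only [op, map_sum]
        refine Finset.sum_congr rfl fun b _ => ?_
        simp only [hQ, Matrix.of_apply]
        rw [show (a * b) • θ = x • ((x⁻¹ * a * b) • θ) by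
          rw [smul_smul, ← mul_assoc, mul_inv_cancel_left], hsmul x, Module.End.mul_apply,
          Module.End.mul_apply, ← Module.End.mul_apply (σ (x : A)⁻¹) (σ (x : A)), hone',
          Module.End.one_apply]
      have h2 := congrArg (op P) heq
      rw [hop, hop, hPQ, hop1, hop1] at h2
      exact congrFun h2 h
    refine ⟨fun h => (θ : Module.End k V) (g h), fun h => Submodule.mem_map_of_mem (hgV h), ?_⟩
    have := (hkey g hgV 1).symm.trans (hg 1)
    simpa using this

/-- Direct sums. -/
theorem FreeOn.sup {ρ : Representation k A V} {H : Subgroup A} [Fintype H] {U₁ U₂ : Submodule k V}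
    (h₁ : FreeOn ρ H U₁) (h₂ : FreeOn ρ H U₂) (hd : Disjoint U₁ U₂) : FreeOn ρ H (U₁ ⊔ U₂) := by
  obtain ⟨W₁, hi₁, hm₁, hs₁⟩ := h₁
  obtain ⟨W₂, hi₂, hm₂, hs₂⟩ := h₂
  refine ⟨W₁ ⊔ W₂, fun f hf h0 => ?_, fun f hf => ?_, fun u hu => ?_⟩
  · choose a ha b hb hab using fun h => Submodule.mem_sup.1 (hf h)
    simp only [← hab, map_add, Finset.sum_add_distrib] at h0
    have e2 := eq_neg_of_add_eq_zero_left h0
    have ha0 : ∑ h : H, ρ (h : A) (a h) = 0 := Submodule.disjoint_def.1 hd _ (hm₁ a ha)
      (e2 ▸ U₂.neg_mem (hm₂ b hb))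
    rw [ha0, zero_add] at h0
    funext h
    rw [← hab h, congrFun (hi₁ a ha ha0) h, congrFun (hi₂ b hb h0) h]
    simp
  · choose a ha b hb hab using fun h => Submodule.mem_sup.1 (hf h)
    simp only [← hab, map_add, Finset.sum_add_distrib]
    exact Submodule.add_mem_sup (hm₁ a ha) (hm₂ b hb)
  · obtain ⟨u₁, hu₁, u₂, hu₂, rfl⟩ := Submodule.mem_sup.1 hu
    obtain ⟨a, ha, rfl⟩ := hs₁ u₁ hu₁
    obtain ⟨b, hb, rfl⟩ := hs₂ u₂ hu₂
    exact ⟨fun h => a h + b h, fun h => Submodule.add_mem_sup (ha h) (hb h), by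
      simp only [map_add, Finset.sum_add_distrib]⟩

/-- The nilpotent case. -/
theorem free_of_nilpotent [FiniteDimensional k V] [Finite A] (ρ : Representation k A V)
    (M H : Subgroup A) [M.Normal] [Fintype H] (hnil : Group.IsNilpotent M)
    (hMk : (Nat.card M : k) ≠ 0)
    (hfpf : ∀ h ∈ H, h ≠ 1 → ∀ z ∈ M, h * z * h⁻¹ = z → z = 1)
    (hfix : ∀ v : V, (∀ m ∈ M, ρ m v = v) → v = 0) : FreeOn ρ H ⊤ := by
  classical
  let Zs : ℕ → Subgroup A := fun i => (Subgroup.upperCentralSeries M i).map M.subtype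
  have hZn : ∀ i, (Zs i).Normal := fun i => inferInstance
  have hZM : ∀ i, Zs i ≤ M := fun i => Subgroup.map_subtype_le _
  let U : ℕ → Submodule k V := fun i =>
    { carrier := {v | ∀ z ∈ Zs i, ρ z v = v}
      add_mem' := fun {a b} ha hb z hz => by rw [map_add, ha z hz, hb z hz]
      zero_mem' := fun z hz => map_zero _
      smul_mem' := fun c v hv z hz => by rw [map_smul, hv z hz] }
  have hUinv : ∀ i (a : A), ∀ v ∈ U i, ρ a v ∈ U i := by
    intro i a v hv z hz
    have : a⁻¹ * z * a ∈ Zs i := by simpa using (hZn i).conj_mem z hz a⁻¹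
    rw [← Module.End.mul_apply, ← map_mul, show z * a = a * (a⁻¹ * z * a) by group, map_mul,
      Module.End.mul_apply, hv _ this]
  suffices key : ∀ j, FreeOn ρ H (U (Group.nilpotencyClass M - j)) by
    have := key (Group.nilpotencyClass M)
    rw [Nat.sub_self] at this
    convert this
    symm
    rw [eq_top_iff]
    intro v _ z hz
    rw [show z = 1 by simpa [Zs] using hz, map_one, Module.End.one_apply]
  intro j
  induction j with
  | zero =>
    refine ⟨⊥, fun f hf _ => funext fun h => (Submodule.mem_bot k).1 (hf h), fun f hf => ?_,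
      fun u hu => ⟨0, fun _ => zero_mem _, ?_⟩⟩
    · rw [Finset.sum_eq_zero fun h _ => by rw [(Submodule.mem_bot k).1 (hf h), map_zero]]
      exact zero_mem _
    · rw [hfix u fun m hm => hu m (by
        rw [show Zs (Group.nilpotencyClass M - 0) = (⊤ : Subgroup M).map M.subtype by simp [Zs],
          ← MonoidHom.range_eq_map, Subgroup.range_subtype]
        exact hm)]
      simp
  | succ j ih =>
    rcases Nat.lt_or_ge j (Group.nilpotencyClass M) with hj | hj
    swap
    · rwa [show Group.nilpotencyClass M - (j + 1) = Group.nilpotencyClass M - j by omega]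
    set i := Group.nilpotencyClass M - (j + 1) with hi
    rw [show Group.nilpotencyClass M - j = i + 1 by omega] at ih
    have hle : Zs i ≤ Zs (i + 1) := Subgroup.map_mono (Subgroup.upperCentralSeries_mono M (Nat.le_succ i))
    have hcard : (Nat.card (Zs (i + 1)) : k) ≠ 0 := by
      obtain ⟨c, hc⟩ := Subgroup.card_dvd_of_le (hZM (i + 1))
      intro h
      exact hMk (by rw [hc, Nat.cast_mul, h, zero_mul])
    haveI := Fintype.ofFinite (Zs (i + 1))
    let N : Module.End k V := ∑ z : Zs (i + 1), ρ (z : A)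
    have hNU : ∀ v, N v ∈ U (i + 1) := by
      intro v z hz
      simp only [N, LinearMap.sum_apply, map_sum, ← Module.End.mul_apply, ← map_mul]
      exact Fintype.sum_equiv (Equiv.mulLeft (⟨z, hz⟩ : Zs (i + 1))) _ _ fun y => rfl
    have hNfix : ∀ v ∈ U (i + 1), N v = (Nat.card (Zs (i + 1)) : k) • v := by
      intro v hv
      simp only [N, LinearMap.sum_apply]
      rw [Finset.sum_congr rfl fun (z : Zs (i + 1)) _ => hv z z.2, Finset.sum_const,
        Finset.card_univ, Nat.card_eq_fintype_card, Nat.cast_smul_eq_nsmul]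
    have hU1 : U (i + 1) ≤ U i := fun v hv z hz => hv z (hle hz)
    set K := U i ⊓ LinearMap.ker N with hK
    have hsplit : U i = U (i + 1) ⊔ K := by
      refine le_antisymm (fun v hv => ?_) (sup_le hU1 inf_le_left)
      set u := (Nat.card (Zs (i + 1)) : k)⁻¹ • N v with hu
      have huU : u ∈ U (i + 1) := Submodule.smul_mem _ _ (hNU v)
      refine Submodule.mem_sup.2 ⟨u, huU, v - u, ⟨Submodule.sub_mem _ hv (hU1 huU), ?_⟩,
        add_sub_cancel _ _⟩
      rw [SetLike.mem_coe, LinearMap.mem_ker, map_sub, hNfix u huU, hu, smul_inv_smul₀ hcard,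
        sub_self]
    rw [hsplit]
    refine ih.sup ?_ ?_
    swap
    · rw [Submodule.disjoint_def]
      intro v hv hvK
      have h := hNfix v hv
      rw [LinearMap.mem_ker.1 hvK.2, eq_comm, smul_eq_zero] at h
      exact h.resolve_left hcard
    have hKinv : ∀ a : A, ∀ v ∈ K, ρ a v ∈ K := by
      rintro a v ⟨hv, hvN⟩
      refine ⟨hUinv i a v hv, ?_⟩
      rw [SetLike.mem_coe, LinearMap.mem_ker] at hvN ⊢
      have hz : ∑ z : Zs (i + 1), ρ (z : A) (ρ a v) = ρ a (N v) := by
        simp only [N, LinearMap.sum_apply, map_sum, ← Module.End.mul_apply, ← map_mul]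
        refine Fintype.sum_equiv ((MulAut.conjNormal (H := Zs (i + 1)) a⁻¹).toEquiv) _ _ fun z => ?_
        simp only [MulEquiv.toEquiv_eq_coe, EquivLike.coe_coe, MulAut.conjNormal_apply]
        group
      rw [hvN, map_zero] at hz
      simpa [N] using hz
    let σ : Representation k A K :=
      { toFun := fun a => (ρ a).restrict (hKinv a)
        map_one' := LinearMap.ext fun v => Subtype.ext (by simp)
        map_mul' := fun a b => LinearMap.ext fun v => Subtype.ext (by simp) }
    have hσ : ∀ a (v : K), (σ a v : V) = ρ a v := fun a v => rfl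
    obtain ⟨Wp, hWi, -, hWs⟩ := free_of_commute σ (Zs (i + 1)) H
      (fun h _ z hz => (hZn (i + 1)).conj_mem z hz h)
      (fun y hy z hz => by
        obtain ⟨y', hy', rfl⟩ := hy
        obtain ⟨z', hz', rfl⟩ := hz
        refine LinearMap.ext fun v => Subtype.ext ?_
        rw [Module.End.mul_apply, Module.End.mul_apply, hσ, hσ, hσ, hσ, ← Module.End.mul_apply,
          ← Module.End.mul_apply, ← map_mul ρ, ← map_mul ρ]
        have hc : ⁅y', z'⁆ ∈ Subgroup.upperCentralSeries M i :=
          Subgroup.mem_upperCentralSeries_succ_iff.1 hy' z'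
        rw [show M.subtype y' * M.subtype z' =
          M.subtype ⁅y', z'⁆ * (M.subtype z' * M.subtype y') by
            rw [← map_mul, ← map_mul, ← map_mul, commutatorElement_def]; congr 1; group,
          map_mul (ρ) (M.subtype ⁅y', z'⁆), Module.End.mul_apply]
        exact (hUinv i _ _ v.2.1) _ (Subgroup.mem_map_of_mem _ hc))
      hcard
      (LinearMap.ext fun v => Subtype.ext (by
        simp only [LinearMap.sum_apply, AddSubmonoidClass.coe_finsetSum, hσ, LinearMap.zero_apply,
          ZeroMemClass.coe_zero]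
        simpa [N] using LinearMap.mem_ker.1 v.2.2))
      (fun h hh h1 z hz he => hfpf h hh h1 z (hZM _ hz) he)
    refine ⟨Wp.map K.subtype, fun f hf h0 => ?_, fun f hf => ?_, fun u hu => ?_⟩
    · choose g hg hgf using fun h => Submodule.mem_map.1 (hf h)
      have hg0 := hWi g hg (Subtype.ext (by
        simp only [AddSubmonoidClass.coe_finsetSum, hσ, ZeroMemClass.coe_zero]
        simpa [← hgf] using h0))
      funext h
      rw [← hgf h, hg0]
      rfl
    · refine Submodule.sum_mem _ fun h _ => ?_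
      obtain ⟨g, -, hgf⟩ := Submodule.mem_map.1 (hf h)
      rw [← hgf]
      exact hKinv _ _ g.2
    · obtain ⟨g, hg, hgu⟩ := hWs ⟨u, hu⟩ trivial
      refine ⟨fun h => (g h : V), fun h => Submodule.mem_map_of_mem (hg h), ?_⟩
      have := congrArg Subtype.val hgu
      simpa only [AddSubmonoidClass.coe_finsetSum, hσ] using this

end CfsgLib.FgsC.FreeModule
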