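import Cfsg.Agent.Lib.FgsC.FrobeniusFitting
import Cfsg.Agent.Lib.FgsC.FittingReduction

/-!
# A group generated by `z` of order `p` and `h` of order `q` as operators
-/

set_option linter.style.haveILetI false
set_option autoImplicit false

namespace CfsgLib.FgsC.FrobeniusAction

open Cfsg

universe u v w

/-- Generators of a nonabelian group of order `p q` with `q < p`. -/
theorem exists_generators {A : Type*} [Group A] [Finite A] {p q : ℕ} (hp : p.Prime) (hq : q.Prime)
    (hlt : q < p) (hA : Nat.card A = p * q) (hAna : ¬ IsMulCommutative A) :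
    ∃ z h : A, z ^ p = 1 ∧ h ^ q = 1 ∧ h * z * h⁻¹ ∈ Subgroup.zpowers z ∧
      Subgroup.zpowers z ⊔ Subgroup.zpowers h = ⊤ ∧ q ∣ p - 1 := by
  classical
  haveI := Fact.mk hp
  haveI := Fact.mk hq
  obtain ⟨z, hz⟩ := exists_prime_orderOf_dvd_card' (G := A) p (hA ▸ dvd_mul_right p q)
  obtain ⟨h, hh⟩ := exists_prime_orderOf_dvd_card' (G := A) q (hA ▸ dvd_mul_left q p)
  set Z := Subgroup.zpowers z with hZ
  have hidx : Z.index = q := by
    have h1 := Subgroup.card_mul_index Z
    rw [hZ, Nat.card_zpowers, hz, hA] at h1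
    exact Nat.eq_of_mul_eq_mul_left hp.pos h1
  have hmin : (p * q).minFac = q := by
    have h1 := Nat.minFac_prime (n := p * q) (by have := hp.two_le; have := hq.two_le; nlinarith)
    refine le_antisymm (Nat.minFac_le_of_dvd hq.two_le (dvd_mul_left q p)) ?_
    rcases (Nat.Prime.dvd_mul h1).mp (Nat.minFac_dvd (p * q)) with h2 | h2
    · rw [(Nat.prime_dvd_prime_iff_eq h1 hp).mp h2]; exact hlt.le
    · rw [(Nat.prime_dvd_prime_iff_eq h1 hq).mp h2]
  haveI hZn : Z.Normal := Subgroup.normal_of_index_eq_minFac_card (by rw [hidx, hA, hmin])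
  have hgen : Z ⊔ Subgroup.zpowers h = ⊤ := by
    refine Subgroup.eq_top_of_card_eq _ (Nat.dvd_antisymm (Subgroup.card_subgroup_dvd_card _) ?_)
    rw [hA]
    refine Nat.Coprime.mul_dvd_of_dvd_of_dvd ((Nat.coprime_primes hp hq).mpr hlt.ne') ?_ ?_
    · exact hz ▸ Subgroup.orderOf_dvd_natCard _ (Subgroup.mem_sup_left (Subgroup.mem_zpowers z))
    · exact hh ▸ Subgroup.orderOf_dvd_natCard _ (Subgroup.mem_sup_right (Subgroup.mem_zpowers h))
  have hzp : z ^ p = 1 := hz ▸ pow_orderOf_eq_one z
  have hhq : h ^ q = 1 := hh ▸ pow_orderOf_eq_one h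
  have hconj : h * z * h⁻¹ ∈ Z := hZn.conj_mem z (Subgroup.mem_zpowers z) h
  refine ⟨z, h, hzp, hhq, hconj, hgen, ?_⟩
  obtain ⟨k, hk⟩ := mem_powers_iff_mem_zpowers.mpr hconj
  dsimp only at hk
  have hpowk : ∀ n : ℕ, h ^ n * z * (h ^ n)⁻¹ = z ^ k ^ n := by
    intro n
    induction n with
    | zero => simp
    | succ n ih =>
      rw [pow_succ' h n, show h * h ^ n * z * (h * h ^ n)⁻¹ = h * (h ^ n * z * (h ^ n)⁻¹) * h⁻¹ by
        group, ih, ← conj_pow, ← hk, ← pow_mul, pow_succ' k n]
  have hkq : (k : ZMod p) ^ q = 1 := by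
    have h1 := hpowk q
    rw [hhq, one_mul, inv_one, mul_one] at h1
    have h2 : z ^ 1 = z ^ k ^ q := by rwa [pow_one]
    rw [pow_eq_pow_iff_modEq, hz, ← ZMod.natCast_eq_natCast_iff, Nat.cast_one, Nat.cast_pow] at h2
    exact h2.symm
  have hk1 : (k : ZMod p) ≠ 1 := by
    intro h1
    refine hAna ⟨⟨fun a b => ?_⟩⟩
    have hzz : z ^ k = z ^ 1 := by
      rw [pow_eq_pow_iff_modEq, hz, ← ZMod.natCast_eq_natCast_iff, Nat.cast_one]
      exact h1
    rw [pow_one] at hzz
    rw [hzz, eq_comm] at hk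
    have hc : Commute h z := mul_inv_eq_iff_eq_mul.mp hk
    have hz' : (⊤ : Subgroup A) ≤ Subgroup.center A := by
      rw [← hgen]
      refine sup_le (Subgroup.zpowers_le.mpr ?_) (Subgroup.zpowers_le.mpr ?_)
      · refine Subgroup.mem_center_iff.mpr fun g => ?_
        have hle : (⊤ : Subgroup A) ≤ Subgroup.centralizer ({z} : Set A) := hgen ▸ sup_le
          (Subgroup.zpowers_le.mpr (Subgroup.mem_centralizer_singleton_iff.mpr rfl))
          (Subgroup.zpowers_le.mpr (Subgroup.mem_centralizer_singleton_iff.mpr hc.eq))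
        exact Subgroup.mem_centralizer_singleton_iff.mp (hle (Subgroup.mem_top g))
      · refine Subgroup.mem_center_iff.mpr fun g => ?_
        have hle : (⊤ : Subgroup A) ≤ Subgroup.centralizer ({h} : Set A) := hgen ▸ sup_le
          (Subgroup.zpowers_le.mpr (Subgroup.mem_centralizer_singleton_iff.mpr hc.symm.eq))
          (Subgroup.zpowers_le.mpr (Subgroup.mem_centralizer_singleton_iff.mpr rfl))
        exact Subgroup.mem_centralizer_singleton_iff.mp (hle (Subgroup.mem_top g))
    exact (Subgroup.mem_center_iff.mp (hz' (Subgroup.mem_top a)) b).symm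
  have hk0 : (k : ZMod p) ≠ 0 := fun h0 => by
    rw [h0, zero_pow hq.ne_zero] at hkq
    exact zero_ne_one hkq
  rw [← orderOf_eq_prime hkq hk1]
  exact ZMod.orderOf_dvd_card_sub_one hk0

/-- A group generated by `z` and an element normalising `⟨z⟩` is solvable. -/
theorem isSolvable_of_generators {A : Type*} [Group A] [Finite A] {z h : A}
    (hzh : h * z * h⁻¹ ∈ Subgroup.zpowers z)
    (hgen : Subgroup.zpowers z ⊔ Subgroup.zpowers h = ⊤) : Group.IsSolvable A := by
  haveI : (Subgroup.zpowers z).Normal := Subgroup.normalizer_eq_top_iff.mp (top_le_iff.mp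
    (hgen ▸ sup_le Subgroup.le_normalizer (Subgroup.zpowers_le.mpr
      (FrobeniusConfig.mem_normalizer_zpowers hzh))))
  refine (Group.isSolvable_iff_subgroup_quotient (Subgroup.zpowers z)).mpr
    ⟨FrobeniusFitting.isSolvable_zpowers z, ?_⟩
  haveI := FrobeniusFitting.isSolvable_zpowers h
  refine Group.isSolvable_of_surjective
    (f := (QuotientGroup.mk' (Subgroup.zpowers z)).comp (Subgroup.zpowers h).subtype) ?_
  rw [← MonoidHom.range_eq_top, MonoidHom.range_comp, Subgroup.range_subtype]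
  have hb : (Subgroup.zpowers z).map (QuotientGroup.mk' (Subgroup.zpowers z)) = ⊥ := by
    rw [Subgroup.map_eq_bot_iff, QuotientGroup.ker_mk']
  have h1 := Subgroup.map_top_of_surjective (QuotientGroup.mk' (Subgroup.zpowers z))
    (QuotientGroup.mk'_surjective _)
  rw [← hgen, Subgroup.map_sup, hb, bot_sup_eq] at h1
  exact h1

/-- The linear step: the nilpotency. -/
theorem isNilpotent_of_action {A : Type w} [Group A] [Finite A] {Γ : Type u} [Group Γ] [Finite Γ]
    {V : Type v} [CommGroup V] [Finite V] [Nontrivial V] (φ : Γ →* MulAut V) (ι : A →* Γ)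
    (L : Subgroup Γ) {p q : ℕ} (hp : p.Prime) (hq : q.Prime) (hA : Nat.card A = p * q)
    (hAs : Group.IsSolvable A) (hqp : q ∣ p - 1) {z h : A} (hzp : z ^ p = 1) (hhq : h ^ q = 1)
    (hzh : h * z * h⁻¹ ∈ Subgroup.zpowers z) (hgen : Subgroup.zpowers z ⊔ Subgroup.zpowers h = ⊤)
    (hexp : ∃ r, r.Prime ∧ ∀ v : V, v ^ r = 1) (hAL : ι.range ≤ Subgroup.normalizer (L : Set Γ))
    (hL : Group.IsSolvable L) (hLA : (Nat.card L).Coprime (Nat.card A))
    (hVA : (Nat.card V).Coprime (Nat.card A)) (hinj : ∀ x ∈ L, φ x = 1 → x = 1)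
    (hfpfV : ∀ v : V, (∀ a, φ (ι a) v = v) → v = 1)
    (hfpfL : ∀ x ∈ L, (∀ a, ι a * x = x * ι a) → x = 1)
    (hirr : ∀ W : Subgroup V, (∀ g, g ∈ ι.range ∨ g ∈ L → ∀ v ∈ W, φ g v ∈ W) → W = ⊥ ∨ W = ⊤) :
    Group.IsNilpotent L := by
  obtain ⟨r, hr, hexp⟩ := hexp
  rw [hA] at hLA hVA
  have hrange : ι.range = Subgroup.zpowers (ι z) ⊔ Subgroup.zpowers (ι h) := by
    rw [MonoidHom.range_eq_map, ← hgen, Subgroup.map_sup, MonoidHom.map_zpowers,
      MonoidHom.map_zpowers]
  refine FrobeniusFitting.isNilpotent_linear φ hp hq hr (z := ι z) (h := ι h)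
    (by rw [← map_pow, hzp, map_one]) (by rw [← map_pow, hhq, map_one]) ?_ ι.range L hrange
    (hA ▸ Subgroup.card_range_dvd ι)
    (Group.isSolvable_of_surjective (f := ι.rangeRestrict) (MonoidHom.rangeRestrict_surjective _))
    hAL hL hLA ?_ hexp hVA hinj ?_ ?_ ?_
  · obtain ⟨i, hi⟩ := hzh
    exact ⟨i, by
      show ι z ^ i = _
      rw [← map_zpow, show z ^ i = h * z * h⁻¹ from hi, map_mul, map_mul, map_inv]⟩
  · rintro w hw hwL ⟨b, hb, hpb⟩
    have h1 : q ∣ w ^ b := by rwa [hpb, Nat.add_sub_cancel] at hqp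
    have h2 : q = w := (Nat.prime_dvd_prime_iff_eq hq hw).mp (hq.dvd_of_dvd_pow h1)
    exact hq.ne_one (Nat.eq_one_of_dvd_coprimes hLA (h2 ▸ hwL) (dvd_mul_left q p))
  · intro v hvz hvh
    refine hfpfV v fun a => ?_
    let F : Subgroup A :=
      { carrier := {a | φ (ι a) v = v}
        mul_mem' := fun {a b} ha hb => by
          show φ (ι (a * b)) v = v
          rw [map_mul, map_mul, MulAut.mul_apply, show φ (ι b) v = v from hb]
          exact ha
        one_mem' := by show φ (ι 1) v = v; rw [map_one, map_one]; rfl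
        inv_mem' := fun {a} ha => by
          show φ (ι a⁻¹) v = v
          conv_lhs => rw [← show φ (ι a) v = v from ha]
          rw [← MulAut.mul_apply, ← map_mul, ← map_mul, inv_mul_cancel, map_one, map_one]
          rfl }
    exact ((hgen ▸ sup_le (Subgroup.zpowers_le.mpr hvz) (Subgroup.zpowers_le.mpr hvh)) :
      (⊤ : Subgroup A) ≤ F) (Subgroup.mem_top a)
  · intro x hx hxz hxh
    refine hfpfL x hx fun a => ?_
    have hle : ι.range ≤ Subgroup.centralizer ({x} : Set Γ) := hrange ▸ sup_le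
      (Subgroup.zpowers_le.mpr (Subgroup.mem_centralizer_singleton_iff.mpr hxz.symm.eq))
      (Subgroup.zpowers_le.mpr (Subgroup.mem_centralizer_singleton_iff.mpr hxh.symm.eq))
    exact Subgroup.mem_centralizer_singleton_iff.mp (hle ⟨a, rfl⟩)
  · intro W hW
    refine hirr W fun g hg => ?_
    rcases hg with hg | hg
    · let F : Subgroup Γ :=
        { carrier := {g | W.map (φ g).toMonoidHom = W}
          mul_mem' := fun {g g'} hg hg' => by
            show W.map (φ (g * g')).toMonoidHom = W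
            rw [map_mul]
            conv_rhs => rw [← show W.map (φ g).toMonoidHom = W from hg,
              ← show W.map (φ g').toMonoidHom = W from hg', Subgroup.map_map]
            rfl
          one_mem' := by
            show W.map (φ 1).toMonoidHom = W
            rw [map_one]
            exact Subgroup.map_id W
          inv_mem' := fun {g} hg => by
            show W.map (φ g⁻¹).toMonoidHom = W
            conv_lhs => rw [← show W.map (φ g).toMonoidHom = W from hg]
            rw [Subgroup.map_map]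
            convert Subgroup.map_id W
            refine MonoidHom.ext fun v => ?_
            show φ g⁻¹ (φ g v) = v
            rw [← MulAut.mul_apply, ← map_mul, inv_mul_cancel, map_one, MulAut.one_apply] }
      have hmem : ∀ g, g = ι z ∨ g = ι h → g ∈ F := fun g hg =>
        Subgroup.eq_of_le_of_card_ge (by
          rintro _ ⟨v, hv, rfl⟩
          exact hW g (hg.elim Or.inl fun e => Or.inr (Or.inl e)) v hv)
          (Subgroup.card_map_of_injective (φ g).injective).ge
      have hle : ι.range ≤ F := hrange ▸ sup_le (Subgroup.zpowers_le.mpr (hmem _ (Or.inl rfl)))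
        (Subgroup.zpowers_le.mpr (hmem _ (Or.inr rfl)))
      exact fun v hv => (show W.map (φ g).toMonoidHom = W from hle hg).le
        (Subgroup.mem_map_of_mem _ hv)
    · exact hW g (Or.inr (Or.inr hg))

end CfsgLib.FgsC.FrobeniusAction
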