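import Mathlib
import Cfsg.Agent.Lib.CharsMore.Frobenius
import Cfsg.Agent.Lib.FgsC.Fpf

/-!
# Frobenius kernels inverted by an involution of the complement
-/

set_option autoImplicit false

open scoped Pointwise

namespace CfsgLib.FgsC

variable {L : Type*} [Group L] [Finite L]

/-- The kernel as a subgroup, with the free action of the complement. -/
theorem exists_kernel (H : Subgroup L) (hH : Cfsg.IsFrobeniusComplement H) :
    ∃ N : Subgroup L, N.Normal ∧ Nat.card (Cfsg.frobeniusKernel H) = Nat.card N ∧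
      Nat.card N = H.index ∧ N ≠ ⊥ ∧
      ∀ h ∈ H, h ≠ 1 → ∀ n ∈ N, h * n * h⁻¹ = n → n = 1 := by
  obtain ⟨N, hNset, hN, hc⟩ := CfsgLib.CharsMore.exists_frobenius_kernel_of_complement H hH
  refine ⟨N, hN, by rw [← hNset]; rfl, ((Subgroup.IsComplement'.index_eq_card hc)).symm, ?_, ?_⟩
  · intro e
    rw [e] at hc
    exact hH.2.1 (Subgroup.isComplement'_bot_left.mp hc)
  · intro h hh hne n hn hfix
    by_contra hn1
    have hnH : n ∈ H := by
      by_contra hnot
      have hm : h ∈ H ⊓ MulAut.conj n • H := by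
        refine Subgroup.mem_inf.mpr ⟨hh, ?_⟩
        rw [Subgroup.mem_pointwise_smul_iff_inv_smul_mem, ← map_inv, MulAut.smul_def, MulAut.conj_apply, inv_inv]
        have e : n⁻¹ * h * n = h := by
          rw [mul_inv_eq_iff_eq_mul] at hfix
          rw [mul_assoc, hfix, inv_mul_cancel_left]
        rw [e]; exact hh
      rw [hH.2.2 n hnot, Subgroup.mem_bot] at hm
      exact hne hm
    exact hn1 (Subgroup.disjoint_def.mp hc.disjoint hn hnH)

/-- An involution of the complement inverts the kernel, which is abelian of odd order. -/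
theorem kernel_of_involution (H : Subgroup L) {z : L} (hz : z ∈ H) (hz2 : z ^ 2 = 1) (hz1 : z ≠ 1)
    (N : Subgroup L) [N.Normal]
    (hfpf : ∀ h ∈ H, h ≠ 1 → ∀ n ∈ N, h * n * h⁻¹ = n → n = 1) :
    (∀ a ∈ N, ∀ b ∈ N, a * b = b * a) ∧ Odd (Nat.card N) ∧ ∀ n ∈ N, z * n * z⁻¹ = n⁻¹ := by
  let φ : MulAut N := MulAut.conjNormal z
  have hzz : z * z = 1 := by rw [← pow_two, hz2]
  have hinv : Function.Involutive φ := fun n => Subtype.ext (by
    show z * (z * (n : L) * z⁻¹) * z⁻¹ = n
    have : z⁻¹ = z := inv_eq_of_mul_eq_one_right hzz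
    rw [this]
    simp only [mul_assoc, hzz, mul_one]
    rw [← mul_assoc, hzz, one_mul])
  have hf : MonoidHom.FixedPointFree φ := fun n hn =>
    Subtype.ext (hfpf z hz hz1 n n.2 (congrArg Subtype.val hn))
  refine ⟨fun a ha b hb => congrArg Subtype.val (hf.commute_all_of_involutive hinv ⟨a, ha⟩ ⟨b, hb⟩).eq,
    ?_, fun n hn => congrArg Subtype.val (congrFun (hf.coe_eq_inv_of_involutive hinv) ⟨n, hn⟩)⟩
  exact hf.odd_card_of_involutive hinv

/-- Two elements of the complement with commutator an involution force a square kernel. -/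
theorem isSquare_of_pair (H : Subgroup L) (N : Subgroup L) [N.Normal]
    (hfpf : ∀ h ∈ H, h ≠ 1 → ∀ n ∈ N, h * n * h⁻¹ = n → n = 1)
    {u v w : L} (hw : w ∈ H) (hw2 : w ^ 2 = 1) (hw1 : w ≠ 1) (huv : u * v = v * u * w) :
    Odd (Nat.card N) ∧ IsSquare (Nat.card N) := by
  obtain ⟨hcomm, hodd, hinv⟩ := kernel_of_involution H hw hw2 hw1 N hfpf
  let _ : CommGroup N :=
    { (inferInstance : Group N) with mul_comm := fun a b => Subtype.ext (hcomm a a.2 b b.2) }
  refine ⟨hodd, isSquare_card_of_commutator_eq_inv (Nat.card N) N rfl hodd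
    (MulAut.conjNormal u) (MulAut.conjNormal v) fun x => Subtype.ext ?_⟩
  show u * (v * (x : L) * v⁻¹) * u⁻¹ = v * (u * (x : L)⁻¹ * u⁻¹) * v⁻¹
  calc u * (v * (x : L) * v⁻¹) * u⁻¹ = (u * v) * x * (u * v)⁻¹ := by group
    _ = v * u * (w * x * w⁻¹) * u⁻¹ * v⁻¹ := by rw [huv]; group
    _ = _ := by rw [hinv x x.2]; group

end CfsgLib.FgsC
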