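import Cfsg.Agent.Lib.FgsC.FrobeniusConfig
import Cfsg.Agent.Lib.Ward.Criterion
import Cfsg.Agent.Lib.Ward.Fitting
import Cfsg.Agent.Lib.PGroups.Basic
import Cfsg.Agent.Lib.Base.Cores

/-!
# A nonabelian group of order `p q` of operators: the linear case
-/

set_option linter.style.haveILetI false
set_option autoImplicit false

namespace CfsgLib.FgsC.FrobeniusFitting

open Cfsg
open scoped commutatorElement

universe u v

variable {Γ : Type u} {V : Type v} [Group Γ] [Finite Γ] [CommGroup V] [Finite V]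

omit [Finite Γ] [Finite V] in
theorem isSolvable_zpowers (z : Γ) : Group.IsSolvable (Subgroup.zpowers z) :=
  Group.isSolvable_of_comm fun a b => by
    obtain ⟨a, i, rfl⟩ := a
    obtain ⟨b, j, rfl⟩ := b
    exact Subtype.ext ((Commute.refl z).zpow_zpow i j)

omit [Finite V] in
/-- Fixed points in the image lift. -/
theorem exists_lift (ψ : Γ →* MulAut V) {B X : Subgroup Γ} (hB : Group.IsSolvable B)
    (hBX : B ≤ Subgroup.normalizer (X : Set Γ)) (hcop : (Nat.card B).Coprime (Nat.card X))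
    {x : Γ} (hx : x ∈ X) (hfix : ∀ b ∈ B, Commute (ψ x) (ψ b)) :
    ∃ c ∈ X, (∀ b ∈ B, Commute c b) ∧ ψ c = ψ x := by
  set N := X ⊓ ψ.ker with hN
  have hBN : B ≤ Subgroup.normalizer (N : Set Γ) :=
    CfsgLib.Coprime.le_normalizer_inf_inf hBX (le_top.trans_eq (Subgroup.normalizer_eq_top ψ.ker).symm)
  obtain ⟨c, hc, hxc⟩ := CfsgLib.Coprime.exists_centralizing_in_coset hBN
    (hcop.coprime_dvd_right (Subgroup.card_dvd_of_le inf_le_left)) (Or.inl hB) (k := x)
    (fun b hb => ⟨X.mul_mem (X.inv_mem hx) ((Subgroup.mem_normalizer_iff.mp (hBX hb) x).mp hx), by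
      show ψ (x⁻¹ * (b * x * b⁻¹)) = 1
      rw [map_mul, map_mul, map_mul, ← (hfix b hb).eq, map_inv, map_inv, mul_inv_cancel_right,
        inv_mul_cancel]⟩)
  refine ⟨c, ?_, fun b hb => (Subgroup.mem_centralizer_iff.mp hc b hb).symm, ?_⟩
  · have := X.mul_mem hx hxc.1
    rwa [mul_inv_cancel_left] at this
  · have h : ψ (x⁻¹ * c) = 1 := hxc.2
    rw [map_mul, map_inv, inv_mul_eq_one] at h
    exact h.symm

/-- A solvable group with a Frobenius group of order `p q` of operators, acting faithfully and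
irreducibly (with the operators) without common fixed points, is nilpotent, unless `p = u ^ b + 1`. -/
theorem isNilpotent_linear (φ : Γ →* MulAut V) {p q r : ℕ} (hp : p.Prime) (hq : q.Prime)
    (hr : r.Prime) {z h : Γ} (hzp : z ^ p = 1) (hhq : h ^ q = 1)
    (hzh : h * z * h⁻¹ ∈ Subgroup.zpowers z) (A L : Subgroup Γ)
    (hA : A = Subgroup.zpowers z ⊔ Subgroup.zpowers h) (hAcard : Nat.card A ∣ p * q)
    (hAs : Group.IsSolvable A) (hAL : A ≤ Subgroup.normalizer (L : Set Γ))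
    (hL : Group.IsSolvable L) (hLpq : (Nat.card L).Coprime (p * q))
    (hpow : ∀ w : ℕ, w.Prime → w ∣ Nat.card L → ¬ ∃ b, 1 ≤ b ∧ p = w ^ b + 1)
    [Nontrivial V] (hexp : ∀ v : V, v ^ r = 1) (hVpq : (Nat.card V).Coprime (p * q))
    (hinj : ∀ x ∈ L, φ x = 1 → x = 1)
    (hfpfV : ∀ v : V, φ z v = v → φ h v = v → v = 1)
    (hfpfL : ∀ x ∈ L, Commute x z → Commute x h → x = 1)
    (hirr : ∀ W : Subgroup V, (∀ g, g = z ∨ g = h ∨ g ∈ L → ∀ v ∈ W, φ g v ∈ W) → W = ⊥ ∨ W = ⊤) :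
    Group.IsNilpotent L := by
  classical
  haveI := Fintype.ofFinite Γ
  haveI := Fact.mk hp
  haveI := Fact.mk hq
  haveI := Fact.mk hr
  haveI := hL
  have hcompose : ∀ (a b : Γ) (v : V), φ a (φ b v) = φ (a * b) v := fun a b v => by
    rw [map_mul, MulAut.mul_apply]
  have hzA : z ∈ A := hA ▸ Subgroup.mem_sup_left (Subgroup.mem_zpowers z)
  have hhA : h ∈ A := hA ▸ Subgroup.mem_sup_right (Subgroup.mem_zpowers h)
  have hLp : (Nat.card L).Coprime p := hLpq.coprime_dvd_right (dvd_mul_right p q)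
  have hLq : (Nat.card L).Coprime q := hLpq.coprime_dvd_right (dvd_mul_left q p)
  have hV : IsPGroup r V := fun v => ⟨1, by rw [pow_one, hexp]⟩
  have hrV : r ∣ Nat.card V := by
    obtain ⟨k, hk⟩ := IsPGroup.iff_card.mp hV
    rcases k with _ | k
    · have := Finite.one_lt_card (α := V)
      rw [hk, pow_zero] at this
      exact absurd this (lt_irrefl 1)
    · rw [hk]; exact dvd_pow_self r k.succ_ne_zero
  have hpr : p ≠ r := fun e => hp.ne_one (Nat.eq_one_of_dvd_coprimes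
    (hVpq.coprime_dvd_right (dvd_mul_right p q)) (e ▸ hrV) dvd_rfl)
  have hqr : q ≠ r := fun e => hq.ne_one (Nat.eq_one_of_dvd_coprimes
    (hVpq.coprime_dvd_right (dvd_mul_left q p)) (e ▸ hrV) dvd_rfl)
  -- `h` normalises the centraliser of `z`
  have hhCz : h ∈ Subgroup.normalizer ((Subgroup.centralizer ({z} : Set Γ) : Subgroup Γ) : Set Γ) := by
    rw [← Subgroup.centralizer_closure ({z} : Set Γ), ← Subgroup.zpowers_eq_closure]
    exact CfsgLib.Coprime.le_normalizer_centralizer (A := Subgroup.zpowers h)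
      (B := Subgroup.zpowers z) (Subgroup.zpowers_le.mpr (FrobeniusConfig.mem_normalizer_zpowers hzh))
      (Subgroup.mem_zpowers h)
  have hAC : A ≤ Subgroup.normalizer
      ((Subgroup.centralizer ({z} : Set Γ) : Subgroup Γ) : Set Γ) := by
    rw [hA]
    exact sup_le (Subgroup.zpowers_le.mpr (Subgroup.le_normalizer
      (Subgroup.mem_centralizer_singleton_iff.mpr rfl))) (Subgroup.zpowers_le.mpr hhCz)
  -- the normal `r`-subgroup of `L` is trivial
  have hcoreA : ∀ w : ℕ, A ≤ Subgroup.normalizer (((pCore w L).map L.subtype : Subgroup Γ) : Set Γ) :=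
    fun w => hAL.trans (CfsgLib.Base.normalizer_le_normalizer_map_subtype L (pCore w L))
  have hcoreL : ∀ w : ℕ, L ≤ Subgroup.normalizer (((pCore w L).map L.subtype : Subgroup Γ) : Set Γ) :=
    fun w => Subgroup.le_normalizer.trans (CfsgLib.Base.normalizer_le_normalizer_map_subtype L (pCore w L))
  have hOr : pCore r L = ⊥ := by
    set R := (pCore r L).map L.subtype with hR
    have hRp : IsPGroup r R := CfsgLib.Base.isPGroup_map_pCore r L
    letI : MulAction R V :=
      { smul := fun a v => φ (a : Γ) v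
        one_smul := fun v => by
          show φ ((1 : R) : Γ) v = v
          rw [OneMemClass.coe_one, map_one, MulAut.one_apply]
        mul_smul := fun a b v => (hcompose a b v).symm }
    obtain ⟨v, hv, hv1⟩ := hRp.exists_fixed_point_of_prime_dvd_card_of_fixed_point V hrV
      (a := (1 : V)) (fun a => map_one (φ (a : Γ)))
    let F : Subgroup V :=
      { carrier := {v | ∀ g ∈ R, φ g v = v}
        mul_mem' := fun {u w} hu hw g hg => by rw [map_mul, hu g hg, hw g hg]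
        one_mem' := fun g _ => map_one _
        inv_mem' := fun {u} hu g hg => by rw [map_inv, hu g hg] }
    rcases hirr F (fun g hg w hw x hx => by
      have hgN : g ∈ Subgroup.normalizer (R : Set Γ) := by
        rcases hg with e | e | e
        exacts [e ▸ hcoreA r hzA, e ▸ hcoreA r hhA, hcoreL r e]
      have hmem : g⁻¹ * x * g ∈ R := by
        simpa using (Subgroup.mem_normalizer_iff.mp (inv_mem hgN) x).mp hx
      rw [hcompose, show x * g = g * (g⁻¹ * x * g) by group, ← hcompose, hw _ hmem]) with h | h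
    · have hvF : v ∈ F := fun g hg => hv ⟨g, hg⟩
      rw [h, Subgroup.mem_bot] at hvF
      exact absurd hvF.symm hv1
    · rw [eq_bot_iff]
      intro x hx
      refine Subgroup.mem_bot.mpr (Subtype.ext (hinj x x.2 (MulEquiv.ext fun w => ?_)))
      have hwF : w ∈ F := h ▸ Subgroup.mem_top w
      exact hwF x ⟨x, hx, rfl⟩
  refine CfsgLib.Ward.isNilpotent_of_centralizes_cores fun s u hs hu hus x hx => ?_
  by_contra hxC
  haveI := Fact.mk hs
  haveI := Fact.mk hu
  set Ou := (pCore u L).map L.subtype with hOu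
  have hOune : pCore u L ≠ ⊥ := by
    intro h
    apply hxC
    rw [h, Subgroup.mem_centralizer_iff]
    intro w hw
    rw [SetLike.mem_coe, Subgroup.mem_bot] at hw
    rw [hw, one_mul, mul_one]
  have hur : u ≠ r := fun h => hOune (by rw [h]; exact hOr)
  have hOup : IsPGroup u Ou := CfsgLib.Base.isPGroup_map_pCore u L
  have hudvd : u ∣ Nat.card L := by
    obtain ⟨k, hk⟩ := IsPGroup.iff_card.mp (CfsgLib.Base.isPGroup_pCore u L)
    rcases k with _ | k
    · exact absurd (Subgroup.eq_bot_of_card_eq _ (by rw [hk, pow_zero])) hOune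
    · exact (dvd_pow_self u k.succ_ne_zero).trans (hk ▸ Subgroup.card_subgroup_dvd_card _)
  have hpu : p ≠ u := fun h => hp.ne_one (Nat.eq_one_of_dvd_coprimes hLp (h ▸ hudvd) dvd_rfl)
  have hqu : q ≠ u := fun h => hq.ne_one (Nat.eq_one_of_dvd_coprimes hLq (h ▸ hudvd) dvd_rfl)
  have hcopA : ∀ K : Subgroup Γ, K ≤ L → (Nat.card A).Coprime (Nat.card K) := fun K hK =>
    ((hLpq.symm.coprime_dvd_left hAcard).coprime_dvd_right (Subgroup.card_dvd_of_le hK))
  -- an invariant Sylow subgroup moving `Ou`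
  obtain ⟨P, hP⟩ := CfsgLib.Coprime.exists_invariant_sylow (p := s) hAL (hcopA L le_rfl) (Or.inl hAs)
  set S := (P : Subgroup L).map L.subtype with hS
  have hPC : ¬ (P : Subgroup L) ≤ Subgroup.centralizer (pCore u L : Set L) := by
    intro hle
    apply hxC
    obtain ⟨k, hk⟩ := hx
    have hxp : IsPGroup s (Subgroup.zpowers x) := IsPGroup.iff_card.mpr ⟨k, by rw [Nat.card_zpowers, hk]⟩
    obtain ⟨P', hP'⟩ := hxp.exists_le_sylow
    obtain ⟨g, hg⟩ := MulAction.exists_smul_eq L P P'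
    have hx' := hP' (Subgroup.mem_zpowers x)
    rw [← hg] at hx'
    obtain ⟨y, hy, rfl⟩ := hx'
    haveI : (pCore u L).Normal := pCore_normal u L
    exact (inferInstance : (Subgroup.centralizer (pCore u L : Set L)).Normal).conj_mem y (hle hy) g
  have hsdvd : s ∣ Nat.card L := by
    obtain ⟨k, hk⟩ := IsPGroup.iff_card.mp P.isPGroup'
    rcases k with _ | k
    · exact absurd ((Subgroup.eq_bot_of_card_eq _ (by rw [hk, pow_zero])).le.trans bot_le) hPC
    · exact (dvd_pow_self s k.succ_ne_zero).trans (hk ▸ Subgroup.card_subgroup_dvd_card _)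
  have hps : p ≠ s := fun h => hp.ne_one (Nat.eq_one_of_dvd_coprimes hLp (h ▸ hsdvd) dvd_rfl)
  have hSC : ¬ S ≤ Subgroup.centralizer (Ou : Set Γ) := by
    intro hle
    apply hPC
    intro y hy
    rw [Subgroup.mem_centralizer_iff]
    intro w hw
    exact Subtype.ext (Subgroup.mem_centralizer_iff.mp (hle ⟨y, hy, rfl⟩) w ⟨w, hw, rfl⟩)
  -- a minimal invariant subgroup moving `Ou`
  obtain ⟨T, ⟨hTS, hAT, hTne⟩, hTmin⟩ := Set.exists_min_image
    {U : Subgroup Γ | U ≤ S ∧ A ≤ Subgroup.normalizer (U : Set Γ) ∧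
      ¬ U ≤ Subgroup.centralizer (Ou : Set Γ)} (fun U => Nat.card U) (Set.toFinite _)
    ⟨S, le_rfl, hP, hSC⟩
  have hTsmall : ∀ U : Subgroup Γ, U ≤ T → A ≤ Subgroup.normalizer (U : Set Γ) → U ≠ T →
      U ≤ Subgroup.centralizer (Ou : Set Γ) := fun U h1 h2 h3 => by
    by_contra h4
    exact h3 (Subgroup.eq_of_le_of_card_ge h1 (hTmin U ⟨h1.trans hTS, h2, h4⟩))
  have hTL : T ≤ L := hTS.trans (Subgroup.map_subtype_le _)
  have hTs : IsPGroup s T := (P.isPGroup'.map _).to_le hTS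
  have hT'Ou : (⁅T, T⁆ : Subgroup Γ) ≤ Subgroup.centralizer (Ou : Set Γ) := by
    haveI := hTs.isNilpotent
    have hlt : ⁅T, T⁆ < T := CfsgLib.Base.commutator_self_lt_of_isSolvable
      (fun e => hTne (e ▸ bot_le)) inferInstance
    exact hTsmall _ hlt.le (FrobeniusConfig.le_normalizer_commutator hAT hAT) hlt.ne
  -- a minimal moved invariant subgroup
  obtain ⟨Q, ⟨hQle, hQA, hQS, hQne⟩, hQmin⟩ := Set.exists_min_image
    {U : Subgroup Γ | U ≤ Ou ∧ A ≤ Subgroup.normalizer (U : Set Γ) ∧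
      T ≤ Subgroup.normalizer (U : Set Γ) ∧ ⁅U, T⁆ ≠ ⊥} (fun U => Nat.card U) (Set.toFinite _)
    ⟨Ou, le_rfl, hcoreA u, hTL.trans (hcoreL u), fun h => hTne
      ((CfsgLib.Base.le_centralizer_comm).mp (Subgroup.commutator_eq_bot_iff_le_centralizer.mp h))⟩
  have hQproper : ∀ U : Subgroup Γ, U ≤ Q → A ≤ Subgroup.normalizer (U : Set Γ) →
      T ≤ Subgroup.normalizer (U : Set Γ) → ⁅U, T⁆ ≠ ⊥ → U = Q := fun U h1 h2 h3 h4 =>
    Subgroup.eq_of_le_of_card_ge h1 (hQmin U ⟨h1.trans hQle, h2, h3, h4⟩)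
  have hQL : Q ≤ L := hQle.trans (Subgroup.map_subtype_le _)
  have hQp : IsPGroup u Q := hOup.to_le hQle
  obtain ⟨mT, hmT⟩ := IsPGroup.iff_card.mp hTs
  obtain ⟨mQ, hmQ⟩ := IsPGroup.iff_card.mp hQp
  have hTQc : (Nat.card T).Coprime (Nat.card Q) := by
    rw [hmT, hmQ]; exact Nat.Coprime.pow mT mQ ((Nat.coprime_primes hs hu).mpr (Ne.symm hus))
  have hQTQ : ⁅Q, T⁆ ≤ Q := CfsgLib.Coprime.commutator_le_of_le_normalizer hQS
  have hQeq : ⁅Q, T⁆ = Q := by
    refine hQproper _ hQTQ (FrobeniusConfig.le_normalizer_commutator hQA hAT)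
      (Subgroup.normalizer_commutator_ge_right Q T) ?_
    rw [CfsgLib.Coprime.commutator_commutator_eq hQS hTQc (Or.inl (haveI := hTs.isNilpotent; inferInstance))]
    exact hQne
  -- the derived subgroup of `Q` is central
  haveI := hQp.isNilpotent
  have hQne' : Q ≠ ⊥ := fun h => hQne (by rw [h, Subgroup.commutator_bot_left])
  have hlt : ⁅Q, Q⁆ < Q := CfsgLib.Base.commutator_self_lt_of_isSolvable hQne' inferInstance
  have hnormQQ : Subgroup.normalizer (Q : Set Γ) ≤ Subgroup.normalizer ((⁅Q, Q⁆ : Subgroup Γ) : Set Γ) :=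
    FrobeniusConfig.le_normalizer_commutator le_rfl le_rfl
  have hQ'T : ⁅⁅Q, Q⁆, T⁆ = ⊥ := by
    by_contra h
    exact hlt.ne (hQproper _ hlt.le (hQA.trans hnormQQ) (hQS.trans hnormQQ) h)
  have hQ'Q : ⁅Q, ⁅Q, Q⁆⁆ = ⊥ := by
    have h1 : ⁅⁅Q, T⁆, ⁅Q, Q⁆⁆ = ⊥ := by
      refine Subgroup.commutator_commutator_eq_bot_of_rotate ?_ ?_
      · rw [Subgroup.commutator_comm T, hQ'T, Subgroup.commutator_bot_left]
      · exact le_bot_iff.mp ((Subgroup.commutator_mono (CfsgLib.Coprime.commutator_le_of_le_normalizer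
          (Subgroup.le_normalizer.trans hnormQQ)) le_rfl).trans_eq hQ'T)
    rwa [hQeq] at h1
  have hQ'S : ∀ w ∈ ⁅Q, Q⁆, ∀ y, y ∈ Q ∨ y ∈ T → Commute w y := by
    intro w hw y hy
    rcases hy with hy | hy
    · exact (Subgroup.mem_centralizer_iff.mp
        ((Subgroup.commutator_eq_bot_iff_le_centralizer.mp hQ'Q) hy) w hw)
    · exact (Subgroup.mem_centralizer_iff.mp
        ((Subgroup.commutator_eq_bot_iff_le_centralizer.mp hQ'T) hw) y hy).symm
  have hQT'c : ∀ t ∈ T, ∀ t' ∈ T, ∀ a ∈ Q, Commute a ⁅t, t'⁆ := fun t ht t' ht' a ha =>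
    Subgroup.mem_centralizer_iff.mp (hT'Ou (Subgroup.commutator_mem_commutator ht ht')) a (hQle ha)
  -- `u`-th powers commute with `T`
  have hQu : ∀ w ∈ Q, ∀ t ∈ T, Commute (w ^ u) t := by
    haveI : Nontrivial Q := (Subgroup.nontrivial_iff_ne_bot Q).mpr hQne'
    set U := (frattini Q).map Q.subtype with hU
    have hUlt : U ≠ Q := fun e => CfsgLib.PGroups.frattini_ne_top (G := Q)
      (Subgroup.map_injective Q.subtype_injective
        (e.trans (by rw [← MonoidHom.range_eq_map, Subgroup.range_subtype])))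
    have hUb : ⁅U, T⁆ = ⊥ := by
      by_contra h
      exact hUlt (hQproper U (Subgroup.map_subtype_le _)
        (hQA.trans (CfsgLib.Base.normalizer_le_normalizer_map_subtype Q _))
        (hQS.trans (CfsgLib.Base.normalizer_le_normalizer_map_subtype Q _)) h)
    intro w hw t ht
    exact (Subgroup.mem_centralizer_iff.mp ((Subgroup.commutator_eq_bot_iff_le_centralizer.mp hUb)
      ⟨(⟨w, hw⟩ : Q) ^ u, CfsgLib.PGroups.pow_mem_frattini hQp _, rfl⟩) t ht).symm
  -- the centralizer of `z` in `L` is nilpotent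
  have hCnil : ∀ y w : Γ, y ∈ L → w ∈ L → Commute y z → Commute w z →
      (orderOf y).Coprime (orderOf w) → y * w = w * y := by
    intro y w hy hw hyz hwz hcop
    set C := L ⊓ Subgroup.centralizer ({z} : Set Γ) with hC
    have hmap : C.map (MulAut.conj h).toMonoidHom = C := CfsgLib.Base.map_conj_eq_self_iff.2
      ((CfsgLib.Coprime.le_normalizer_inf_inf hAL hAC) hhA)
    have hnil : Group.IsNilpotent C := by
      refine CfsgLib.Base.isNilpotent_of_fixedPointFree
        (CfsgLib.Base.FPFAut.restrict (MulAut.conj h) hmap) ?_ hq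
        (CfsgLib.Base.FPFAut.restrict_pow_eq_one hmap (by rw [← map_pow, hhq, map_one]))
      intro w hw
      have hbw : h * (w : Γ) * h⁻¹ = w := congrArg Subtype.val hw
      exact Subtype.ext (hfpfL w w.2.1 (Subgroup.mem_centralizer_singleton_iff.mp w.2.2)
        (mul_inv_eq_iff_eq_mul.mp hbw).symm)
    have h := CfsgLib.OddOrder.commute_of_coprime_aux (N := C)
      (a := ⟨y, hy, Subgroup.mem_centralizer_singleton_iff.mpr hyz.eq⟩)
      (b := ⟨w, hw, Subgroup.mem_centralizer_singleton_iff.mpr hwz.eq⟩)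
      (by rw [← Subgroup.orderOf_coe, ← Subgroup.orderOf_coe]; exact hcop)
    exact congrArg Subtype.val h.eq
  -- the two cases
  have hcase : ((∀ t ∈ T, Commute t z) ∧ ∀ w ∈ Q, Commute w z → ∀ t ∈ T, Commute w t) ∨
      ∀ t ∈ T, Commute t z → ∀ a ∈ Q, Commute a t := by
    by_cases hTz : T ⊓ Subgroup.centralizer ({z} : Set Γ) = T
    · have hTz' : ∀ t ∈ T, Commute t z := fun t ht =>
        Subgroup.mem_centralizer_singleton_iff.mp ((hTz.symm ▸ ht : t ∈ T ⊓ _)).2
      refine Or.inl ⟨hTz', fun w hw hwz t ht => hCnil w t (hQL hw) (hTL ht) hwz (hTz' t ht) ?_⟩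
      exact (hTQc.symm.coprime_dvd_left (Subgroup.orderOf_dvd_natCard Q hw)).coprime_dvd_right
        (Subgroup.orderOf_dvd_natCard T ht)
    · refine Or.inr fun t ht htz a ha => ?_
      exact Subgroup.mem_centralizer_iff.mp (hTsmall _ inf_le_left
        (CfsgLib.Coprime.le_normalizer_inf_inf hAT hAC) hTz
        (⟨ht, Subgroup.mem_centralizer_singleton_iff.mpr htz⟩ :
          t ∈ T ⊓ Subgroup.centralizer ({z} : Set Γ))) a (hQle ha)
  -- a minimal submodule moved by `Q`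
  obtain ⟨y₀, hy₀, hy₀1⟩ := (Subgroup.bot_or_exists_ne_one Q).resolve_left hQne'
  obtain ⟨W, ⟨hWinv, hWne⟩, hWmin⟩ := Set.exists_min_image
    {W : Subgroup V | (∀ g, g = z ∨ g = h ∨ g ∈ Q ∨ g ∈ T → ∀ v ∈ W, φ g v ∈ W) ∧
      ∃ y ∈ Q, ∃ v ∈ W, φ y v ≠ v} (fun W => Nat.card W) (Set.toFinite _)
    ⟨⊤, fun g _ v _ => Subgroup.mem_top _, y₀, hy₀, by
      by_contra h
      push Not at h
      exact hy₀1 (hinj y₀ (hQL hy₀) (MulEquiv.ext fun v => h v (Subgroup.mem_top v)))⟩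
  have hVu : (Nat.card V).Coprime u := by
    obtain ⟨k, hk⟩ := IsPGroup.iff_card.mp hV
    rw [hk]
    exact Nat.Coprime.pow_left k ((Nat.coprime_primes hr hu).mpr (Ne.symm hur))
  have hgQ : ∀ g, g = z ∨ g = h ∨ g ∈ Q ∨ g ∈ T → g ∈ Subgroup.normalizer (Q : Set Γ) := by
    rintro g (e | e | e | e)
    exacts [e ▸ hQA hzA, e ▸ hQA hhA, Subgroup.le_normalizer e, hQS e]
  have hWfree : ∀ v ∈ W, (∀ y ∈ Q, φ y v = v) → v = 1 := by
    let N : V →* V :=
      { toFun := fun v => ∏ y : Q, φ (y : Γ) v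
        map_one' := by simp
        map_mul' := fun u w => by simp [map_mul, Finset.prod_mul_distrib] }
    have hNfix : ∀ v, ∀ y ∈ Q, φ y (N v) = N v := fun v y hy => by
      show φ y (∏ w : Q, φ (w : Γ) v) = _
      rw [map_prod]
      exact Fintype.prod_equiv (Equiv.mulLeft (⟨y, hy⟩ : Q)) _ _ fun w => hcompose y (w : Γ) v
    have hN1 : ∀ v, (∀ y ∈ Q, φ y v = v) → N v = 1 → v = 1 := by
      intro v hv hNv
      have h1 : ∏ y : Q, φ (y : Γ) v = 1 := hNv
      rw [Finset.prod_congr rfl (fun (y : Q) _ => hv (y : Γ) y.2), Finset.prod_const, Finset.card_univ,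
        ← Nat.card_eq_fintype_card, hmQ] at h1
      rw [← orderOf_eq_one_iff]
      exact Nat.eq_one_of_dvd_coprimes (hVu.pow_right mQ) (orderOf_dvd_natCard v)
        (orderOf_dvd_of_pow_eq_one h1)
    have hK : W ⊓ N.ker = W := by
      by_contra hne
      have hKinv : ∀ g, g = z ∨ g = h ∨ g ∈ Q ∨ g ∈ T → ∀ v ∈ W ⊓ N.ker, φ g v ∈ W ⊓ N.ker := by
        intro g hg v hv
        refine ⟨hWinv g hg v hv.1, ?_⟩
        have hgN := hgQ g hg
        let e : Q ≃ Q :=
          { toFun := fun y => ⟨g⁻¹ * y * g, CoprimeWeights.conj_mem hgN y.2⟩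
            invFun := fun y => ⟨g * y * g⁻¹, (Subgroup.mem_normalizer_iff.mp hgN y).mp y.2⟩
            left_inv := fun y => Subtype.ext (by group)
            right_inv := fun y => Subtype.ext (by group) }
        show (∏ y : Q, φ (y : Γ) (φ g v)) = 1
        have h1 : (∏ y : Q, φ (y : Γ) (φ g v)) = φ g (∏ y : Q, φ (y : Γ) v) := by
          rw [map_prod]
          refine Fintype.prod_equiv e _ _ fun y => ?_
          show φ (y : Γ) (φ g v) = φ g (φ (g⁻¹ * (y : Γ) * g) v)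
          rw [hcompose, hcompose]
          congr 2
          group
        rw [h1, show (∏ y : Q, φ (y : Γ) v) = 1 from hv.2, map_one]
      have hfixed : ∀ v ∈ W ⊓ N.ker, ∀ y ∈ Q, φ y v = v := by
        intro v hv y hy
        by_contra hmoved
        exact hne (Subgroup.eq_of_le_of_card_ge inf_le_left
          (hWmin _ ⟨hKinv, y, hy, v, hv, hmoved⟩))
      have hinjN : Function.Injective (fun w : W => (⟨N w, by
          show (∏ y : Q, φ (y : Γ) (w : V)) ∈ W
          exact W.prod_mem fun y _ => hWinv y (Or.inr (Or.inr (Or.inl y.2))) w w.2⟩ : W)) := by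
        intro a w huw
        have h1 : N ((a : V) * (w : V)⁻¹) = 1 := by
          rw [map_mul, map_inv, mul_inv_eq_one]
          exact congrArg Subtype.val huw
        have hmem : (a : V) * (w : V)⁻¹ ∈ W ⊓ N.ker := ⟨W.mul_mem a.2 (W.inv_mem w.2), h1⟩
        exact Subtype.ext (mul_inv_eq_one.mp (hN1 _ (hfixed _ hmem) h1))
      obtain ⟨y, hy, v, hv, hmoved⟩ := hWne
      obtain ⟨a, ha⟩ := (Finite.injective_iff_surjective.mp hinjN) ⟨v, hv⟩
      have hu' : N a = v := congrArg Subtype.val ha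
      exact hmoved (hu' ▸ hNfix a y hy)
    intro v hv hfix
    have hv' : v ∈ W ⊓ N.ker := hK.symm ▸ hv
    exact hN1 v hfix hv'.2
  haveI : Nontrivial W := by
    obtain ⟨y, hy, v, hv, hne⟩ := hWne
    exact ⟨⟨⟨v, hv⟩, 1, fun e => hne (by rw [show v = 1 from congrArg Subtype.val e, map_one])⟩⟩
  -- restrict the action to `W`
  let Δ : Subgroup Γ :=
    { carrier := {g | W.map (φ g).toMonoidHom = W}
      mul_mem' := fun {g g'} hg hg' => by
        show W.map (φ (g * g')).toMonoidHom = W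
        rw [map_mul]
        conv_rhs => rw [← show W.map (φ g).toMonoidHom = W from hg,
          ← show W.map (φ g').toMonoidHom = W from hg', Subgroup.map_map]
        rfl
      one_mem' := by
        show W.map (φ 1).toMonoidHom = W
        rw [map_one]
        exact Subgroup.map_id W
      inv_mem' := fun {g} hg => by
        show W.map (φ g⁻¹).toMonoidHom = W
        conv_lhs => rw [← show W.map (φ g).toMonoidHom = W from hg]
        rw [Subgroup.map_map]
        convert Subgroup.map_id W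
        refine MonoidHom.ext fun v => ?_
        show φ g⁻¹ (φ g v) = v
        rw [hcompose, inv_mul_cancel, map_one, MulAut.one_apply] }
  have hΔmem : ∀ {g : Γ}, g ∈ Δ → ∀ v ∈ W, φ g v ∈ W := fun {g} hg v hv =>
    (show W.map (φ g).toMonoidHom = W from hg).le (Subgroup.mem_map_of_mem _ hv)
  have hmemΔ : ∀ g, g = z ∨ g = h ∨ g ∈ Q ∨ g ∈ T → g ∈ Δ := fun g hg =>
    Subgroup.eq_of_le_of_card_ge (by rintro _ ⟨v, hv, rfl⟩; exact hWinv g hg v hv)
      (Subgroup.card_map_of_injective (φ g).injective).ge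
  let ψ : Δ →* MulAut W :=
    { toFun := fun g =>
        { toFun := fun w => ⟨φ (g : Γ) w, hΔmem g.2 w w.2⟩
          invFun := fun w => ⟨φ (g : Γ)⁻¹ w, hΔmem (Δ.inv_mem g.2) w w.2⟩
          left_inv := fun w => Subtype.ext (by
            show φ (g : Γ)⁻¹ (φ (g : Γ) w) = w
            rw [hcompose, inv_mul_cancel, map_one, MulAut.one_apply])
          right_inv := fun w => Subtype.ext (by
            show φ (g : Γ) (φ (g : Γ)⁻¹ w) = w
            rw [hcompose, mul_inv_cancel, map_one, MulAut.one_apply])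
          map_mul' := fun a w => Subtype.ext (map_mul (φ (g : Γ)) _ _) }
      map_one' := MulEquiv.ext fun w => Subtype.ext (by
        show φ ((1 : Δ) : Γ) w = w
        rw [OneMemClass.coe_one, map_one, MulAut.one_apply])
      map_mul' := fun g g' => MulEquiv.ext fun w => Subtype.ext (hcompose g g' w).symm }
  have hAΔ : A ≤ Δ := hA ▸ sup_le (Subgroup.zpowers_le.mpr (hmemΔ z (Or.inl rfl)))
    (Subgroup.zpowers_le.mpr (hmemΔ h (Or.inr (Or.inl rfl))))
  have hQΔ : Q ≤ Δ := fun g e => hmemΔ g (Or.inr (Or.inr (Or.inl e)))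
  have hTΔ : T ≤ Δ := fun g e => hmemΔ g (Or.inr (Or.inr (Or.inr e)))
  let z₁ : Δ := ⟨z, hAΔ hzA⟩
  let h₁ : Δ := ⟨h, hAΔ hhA⟩
  set Q₁ := Q.subgroupOf Δ with hQ₁
  set T₁ := T.subgroupOf Δ with hT₁
  have hnorm : ∀ {g : Δ} {Y : Subgroup Γ}, (g : Γ) ∈ Subgroup.normalizer (Y : Set Γ) →
      g ∈ Subgroup.normalizer ((Y.subgroupOf Δ : Subgroup Δ) : Set Δ) := fun {g Y} hg =>
    Subgroup.mem_normalizer_iff.mpr fun w => Subgroup.mem_normalizer_iff.mp hg (w : Γ)
  have hnormI : ∀ {g : Δ} {Y : Subgroup Δ}, g ∈ Subgroup.normalizer (Y : Set Δ) →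
      ψ g ∈ Subgroup.normalizer ((Y.map ψ : Subgroup (MulAut W)) : Set (MulAut W)) := fun hg =>
    Subgroup.le_normalizer_map ψ ⟨_, hg, rfl⟩
  have hcardΔ : ∀ {X : Subgroup Γ}, X ≤ Δ → Nat.card (X.subgroupOf Δ) = Nat.card X :=
    fun h => CfsgLib.Base.card_subgroupOf h
  have hcommΔ : ∀ {X Y : Subgroup Γ}, X ≤ Δ → Y ≤ Δ →
      (⁅X.subgroupOf Δ, Y.subgroupOf Δ⁆).map Δ.subtype = ⁅X, Y⁆ := by
    intro X Y hX hY
    rw [Subgroup.map_commutator, Subgroup.map_subgroupOf_eq_of_le hX,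
      Subgroup.map_subgroupOf_eq_of_le hY]
  -- fixed points lift
  have hliftz : ∀ {X : Subgroup Γ}, X ≤ L → X ≤ Δ → z ∈ Subgroup.normalizer (X : Set Γ) →
      ∀ {w : Δ}, (w : Γ) ∈ X → Commute (ψ w) (ψ z₁) →
      ∃ c : Δ, (c : Γ) ∈ X ∧ Commute (c : Γ) z ∧ ψ c = ψ w := by
    intro X hXL hXΔ hzX w hw hc
    obtain ⟨c, hc1, hc2, hc3⟩ := exists_lift ψ (B := Subgroup.zpowers z₁) (X := X.subgroupOf Δ)
      (isSolvable_zpowers z₁) (Subgroup.zpowers_le.mpr (hnorm hzX)) (by
        rw [hcardΔ hXΔ, Nat.card_zpowers, ← Subgroup.orderOf_coe]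
        exact ((hLp.symm).coprime_dvd_left (orderOf_dvd_of_pow_eq_one hzp)).coprime_dvd_right
          (Subgroup.card_dvd_of_le hXL)) (x := w) hw (fun b hb => by
        obtain ⟨i, rfl⟩ := hb
        rw [map_zpow]
        exact hc.zpow_right i)
    exact ⟨c, hc1, congrArg Subtype.val (hc2 z₁ (Subgroup.mem_zpowers z₁)).eq, hc3⟩
  have hliftA : ∀ {X : Subgroup Γ}, X ≤ L → X ≤ Δ → A ≤ Subgroup.normalizer (X : Set Γ) →
      ∀ {w : Δ}, (w : Γ) ∈ X → Commute (ψ w) (ψ z₁) → Commute (ψ w) (ψ h₁) → ψ w = 1 := by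
    intro X hXL hXΔ hAX w hw hcz hch
    obtain ⟨c, hc1, hc2, hc3⟩ := exists_lift ψ (B := A.subgroupOf Δ) (X := X.subgroupOf Δ)
      (Group.isSolvable_of_surjective (f := (Subgroup.subgroupOfEquivOfLe hAΔ).symm.toMonoidHom)
        (Subgroup.subgroupOfEquivOfLe hAΔ).symm.surjective)
      (fun g hg => hnorm (hAX hg)) (by rw [hcardΔ hXΔ, hcardΔ hAΔ]; exact hcopA X hXL) (x := w) hw
      (fun b hb => by
        let F := (Subgroup.centralizer ({ψ w} : Set (MulAut W))).comap ψ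
        have hle : A.subgroupOf Δ ≤ F := by
          rw [← Subgroup.map_le_map_iff_of_injective Δ.subtype_injective,
            Subgroup.map_subgroupOf_eq_of_le hAΔ, hA]
          exact sup_le (Subgroup.zpowers_le.mpr ⟨z₁, Subgroup.mem_centralizer_singleton_iff.mpr
            hcz.symm.eq, rfl⟩) (Subgroup.zpowers_le.mpr ⟨h₁,
            Subgroup.mem_centralizer_singleton_iff.mpr hch.symm.eq, rfl⟩)
        exact (Subgroup.mem_centralizer_singleton_iff.mp (hle hb)).symm)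
    have h1 : (c : Γ) = 1 := hfpfL c (hXL hc1) (congrArg Subtype.val (hc2 z₁ hzA).eq)
      (congrArg Subtype.val (hc2 h₁ hhA).eq)
    rw [← hc3, show c = 1 from Subtype.ext h1, map_one]
  refine FrobeniusConfig.no_configuration (V := W) (p := p) (q := q) (r := r) (u := u) (s := s)
    (z := ψ z₁) (h := ψ h₁) (Q := Q₁.map ψ) (T := T₁.map ψ)
    (fun w => Subtype.ext (hexp w)) hpr hqr hur hpu hqu hps (Ne.symm hus.symm) (hpow u hu hudvd)
    (by rw [← map_pow, show z₁ ^ p = 1 from Subtype.ext hzp, map_one])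
    (by rw [← map_pow, show h₁ ^ q = 1 from Subtype.ext hhq, map_one])
    ?_ (fun w hwz hwh => Subtype.ext
      (hfpfV w (congrArg Subtype.val hwz) (congrArg Subtype.val hwh)))
    ((hQp.of_equiv (Subgroup.subgroupOfEquivOfLe hQΔ).symm).map ψ)
    ((hTs.of_equiv (Subgroup.subgroupOfEquivOfLe hTΔ).symm).map ψ)
    (hnormI (hnorm (hQA hzA))) (hnormI (hnorm (hQA hhA)))
    (hnormI (hnorm (hAT hzA))) (hnormI (hnorm (hAT hhA)))
    ?_ ?_ ?_ ?_ ?_ ?_ ?_ ?_ ?_ ?_
  · obtain ⟨i, hi⟩ := hzh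
    exact ⟨i, by
      show ψ z₁ ^ i = _
      rw [← map_zpow, ← map_inv, ← map_mul, ← map_mul]
      exact congrArg ψ (Subtype.ext hi)⟩
  · rintro _ ⟨t, ht, rfl⟩
    exact hnormI (hnorm (hQS ht))
  · rintro _ ⟨w, hw, rfl⟩ hcz hch
    exact hliftA hQL hQΔ hQA hw hcz hch
  · rintro _ ⟨w, hw, rfl⟩ hcz hch
    exact hliftA hTL hTΔ hAT hw hcz hch
  · rw [← Subgroup.map_commutator]
    congr 1
    apply Subgroup.map_injective Δ.subtype_injective
    rw [hcommΔ hQΔ hTΔ, hQeq, Subgroup.map_subgroupOf_eq_of_le hQΔ]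
  · intro hbot
    obtain ⟨y, hy, v, hv, hne⟩ := hWne
    have hmem : ψ ⟨y, hQΔ hy⟩ ∈ Q₁.map ψ := ⟨_, hy, rfl⟩
    rw [hbot, Subgroup.mem_bot] at hmem
    exact hne (congrArg Subtype.val (DFunLike.congr_fun hmem (⟨v, hv⟩ : W)))
  · rw [← Subgroup.map_commutator]
    rintro _ ⟨a, ha, rfl⟩ y hy
    have ha' : (a : Γ) ∈ ⁅Q, Q⁆ := (hcommΔ hQΔ hQΔ).le (Subgroup.mem_map_of_mem _ ha)
    rcases hy with ⟨b, hb, rfl⟩ | ⟨b, hb, rfl⟩
    · exact Commute.map (Subtype.ext (hQ'S a ha' b (Or.inl hb)).eq : Commute a b) ψ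
    · exact Commute.map (Subtype.ext (hQ'S a ha' b (Or.inr hb)).eq : Commute a b) ψ
  · rintro _ ⟨t, ht, rfl⟩ _ ⟨t', ht', rfl⟩ _ ⟨a, ha, rfl⟩
    rw [← map_commutatorElement]
    exact Commute.map (Subtype.ext (hQT'c t ht t' ht' a ha).eq : Commute a ⁅t, t'⁆) ψ
  · rintro _ ⟨a, ha, rfl⟩ _ ⟨t, ht, rfl⟩
    rw [← map_pow]
    exact Commute.map (Subtype.ext (hQu a ha t ht).eq : Commute (a ^ u) t) ψ
  · rcases hcase with ⟨hTz, hA'⟩ | hB
    · refine Or.inl ⟨?_, ?_⟩
      · rintro _ ⟨t, ht, rfl⟩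
        exact Commute.map (Subtype.ext (hTz t ht).eq : Commute t z₁) ψ
      · rintro _ ⟨a, ha, rfl⟩ hc _ ⟨t, ht, rfl⟩
        obtain ⟨c, hc1, hc2, hc3⟩ := hliftz hQL hQΔ (hQA hzA) ha hc
        rw [← hc3]
        exact Commute.map (Subtype.ext (hA' c hc1 hc2 t ht).eq : Commute c t) ψ
    · refine Or.inr ?_
      rintro _ ⟨t, ht, rfl⟩ hc _ ⟨a, ha, rfl⟩
      obtain ⟨c, hc1, hc2, hc3⟩ := hliftz hTL hTΔ (hAT hzA) ht hc
      rw [← hc3]
      exact Commute.map (Subtype.ext (hB c hc1 hc2 a ha).eq : Commute a c) ψ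
  · intro U hU
    have hinv : ∀ g, g = z ∨ g = h ∨ g ∈ Q ∨ g ∈ T → ∀ v ∈ U.map W.subtype,
        φ g v ∈ U.map W.subtype := by
      rintro g hg _ ⟨a, ha, rfl⟩
      refine ⟨ψ ⟨g, hmemΔ g hg⟩ a, hU _ ?_ a ha, rfl⟩
      rcases hg with e | e | e | e
      · left; exact congrArg ψ (Subtype.ext e)
      · right; left; exact congrArg ψ (Subtype.ext e)
      · right; right; left; exact ⟨_, e, rfl⟩
      · right; right; right; exact ⟨_, e, rfl⟩
    by_cases hfix : ∀ v ∈ U.map W.subtype, ∀ y ∈ Q, φ y v = v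
    · left
      rw [eq_bot_iff]
      intro a ha
      exact Subgroup.mem_bot.mpr (Subtype.ext (hWfree a a.2 (hfix a ⟨a, ha, rfl⟩)))
    · right
      push Not at hfix
      obtain ⟨v, hv, y, hy, hne⟩ := hfix
      have h := Subgroup.eq_of_le_of_card_ge (Subgroup.map_subtype_le U)
        (hWmin _ ⟨hinv, y, hy, v, hv, hne⟩)
      rw [eq_top_iff]
      intro a _
      have hu' : (a : V) ∈ U.map W.subtype := h.symm ▸ a.2
      obtain ⟨u', hu', e⟩ := hu'
      rwa [← Subtype.ext (e : (u' : V) = a)]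

end CfsgLib.FgsC.FrobeniusFitting
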