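import Cfsg.Agent.Lib.FgsC.FrobeniusConfig
import Cfsg.Agent.Lib.FgsC.FpfOrderThree

/-!
# The symmetric group of degree three acting on a nilpotent irreducible linear group
-/

set_option linter.style.haveILetI false
set_option autoImplicit false

universe v

namespace CfsgLib.FgsC.FrobeniusSym

open CfsgLib.FgsC.CoprimeWeights CfsgLib.FgsC.FrobeniusConfig
open scoped commutatorElement

/-- A nilpotent irreducible linear group with such operators is abelian. -/
theorem commute_of_nilpotent {V : Type v} [CommGroup V] [Finite V] [Nontrivial V] {r : ℕ}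
    [hr : Fact r.Prime] (hexp : ∀ v : V, v ^ r = 1) (hV6 : (Nat.card V).Coprime 6)
    {L : Subgroup (MulAut V)} [Group.IsNilpotent L] (hL6 : (Nat.card L).Coprime 6) {z h : MulAut V}
    (hz3 : z ^ 3 = 1) (hh2 : h ^ 2 = 1) (hzh : h * z * h⁻¹ = z⁻¹)
    (hzL : z ∈ Subgroup.normalizer (L : Set (MulAut V)))
    (hhL : h ∈ Subgroup.normalizer (L : Set (MulAut V)))
    (hfpfV : ∀ v, z v = v → h v = v → v = 1)
    (hfpfL : ∀ x ∈ L, Commute x z → Commute x h → x = 1)
    (hirr : ∀ W : Subgroup V, (∀ g, g = z ∨ g = h ∨ g ∈ L → ∀ v ∈ W, g v ∈ W) → W = ⊥ ∨ W = ⊤) :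
    ∀ a ∈ L, ∀ b ∈ L, Commute a b := by
  classical
  haveI : Finite (MulAut V) := Finite.of_injective (fun β : MulAut V => (β : V → V))
    DFunLike.coe_injective
  haveI : Fact (Nat.Prime 2) := ⟨Nat.prime_two⟩
  haveI : Fact (Nat.Prime 3) := ⟨Nat.prime_three⟩
  have hhz : h * z * h⁻¹ ∈ Subgroup.zpowers z := by
    rw [hzh]; exact (Subgroup.zpowers z).inv_mem (Subgroup.mem_zpowers z)
  have hV : IsPGroup r V := fun v => ⟨1, by rw [pow_one, hexp]⟩
  have hrV : r ∣ Nat.card V := by
    obtain ⟨k, hk⟩ := IsPGroup.iff_card.mp hV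
    rcases k with _ | k
    · have := Finite.one_lt_card (α := V)
      rw [hk, pow_zero] at this
      exact absurd this (lt_irrefl 1)
    · rw [hk]; exact dvd_pow_self r k.succ_ne_zero
  have hr' : ∀ m, m.Prime → m ∣ 6 → m ≠ r := fun m hm hm6 e => hm.ne_one
    (Nat.eq_one_of_dvd_coprimes hV6 (e ▸ hrV) hm6)
  -- fixed vectors of invariant subgroups
  have hfixed : ∀ X : Subgroup (MulAut V), (∀ g, g = z ∨ g = h ∨ g ∈ L →
      g ∈ Subgroup.normalizer (X : Set (MulAut V))) → (∃ v, (∀ a ∈ X, a v = v) ∧ v ≠ 1) →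
      X = ⊥ := by
    rintro X hX ⟨v, hv, hv1⟩
    let F : Subgroup V :=
      { carrier := {w | ∀ a ∈ X, a w = w}
        mul_mem' := fun {a b} ha hb g hg => by rw [map_mul, ha g hg, hb g hg]
        one_mem' := fun g _ => map_one g
        inv_mem' := fun {a} ha g hg => by rw [map_inv, ha g hg] }
    rcases hirr F (fun g hg w hw a ha => by
      have h1 := hw _ (conj_mem (hX g hg) ha)
      have h2 := congrArg g h1
      rwa [← MulAut.mul_apply, show g * (g⁻¹ * a * g) = a * g by group, MulAut.mul_apply] at h2)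
      with h' | h'
    · exact absurd (Subgroup.mem_bot.mp (h' ▸ (hv : v ∈ F))) hv1
    · refine (Subgroup.eq_bot_iff_forall X).mpr fun a ha => MulEquiv.ext fun w => ?_
      exact (h'.symm ▸ Subgroup.mem_top w : w ∈ F) a ha
  have hnormL : ∀ g, g = z ∨ g = h ∨ g ∈ L → g ∈ Subgroup.normalizer (L : Set (MulAut V)) := by
    rintro g (e | e | e)
    exacts [e ▸ hzL, e ▸ hhL, Subgroup.le_normalizer e]
  have hcore : ∀ (Y : Subgroup L) [Y.Characteristic], ∀ g, g = z ∨ g = h ∨ g ∈ L →
      g ∈ Subgroup.normalizer ((Y.map L.subtype : Subgroup (MulAut V)) : Set (MulAut V)) :=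
    fun Y _ g hg => CfsgLib.Base.normalizer_le_normalizer_map_subtype L Y (hnormL g hg)
  have hsylc : ∀ (w : ℕ) [Fact w.Prime] (W : Sylow w L), (W : Subgroup L).Characteristic :=
    fun w _ W => Sylow.characteristic_of_normal W
      (((Group.isNilpotent_of_finite_tfae (G := L)).out 0 3 rfl rfl).mp inferInstance w inferInstance W)
  -- the orders are coprime
  have hLr : ¬ r ∣ Nat.card L := by
    intro hdvd
    obtain ⟨W⟩ : Nonempty (Sylow r L) := inferInstance
    haveI := hsylc r W
    set R := (W : Subgroup L).map L.subtype with hR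
    have hRp : IsPGroup r R := W.isPGroup'.map _
    obtain ⟨v, hv, hv1⟩ := hRp.exists_fixed_point_of_prime_dvd_card_of_fixed_point V hrV
      (a := (1 : V)) (fun a => map_one (a : MulAut V))
    have h0 := hfixed R (hcore _) ⟨v, fun a ha => hv ⟨a, ha⟩, hv1.symm⟩
    exact W.ne_bot_of_dvd_card hdvd
      ((Subgroup.map_eq_bot_iff_of_injective _ L.subtype_injective).mp h0)
  have hLV : (Nat.card L).Coprime (Nat.card V) := by
    obtain ⟨k, hk⟩ := IsPGroup.iff_card.mp hV
    rw [hk]
    exact Nat.Coprime.pow_right k (hr.out.coprime_iff_not_dvd.mpr hLr).symm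
  obtain ⟨W, _, _, _, ρ, hρinj, hρfix, hρinv, hρzero, -, -, -, hρsum⟩ := exists_rep hexp
  let K := AlgebraicClosure (ZMod r)
  haveI : CharP K r := charP_of_injective_algebraMap (algebraMap (ZMod r) K).injective r
  have hprimeK : ∀ {m : ℕ}, m.Prime → m ∣ 6 → (m : K) ≠ 0 := fun {m} hm hm6 h0 =>
    hr' m hm hm6 ((Nat.prime_dvd_prime_iff_eq hr.out hm).mp ((CharP.cast_eq_zero_iff K r m).mp h0)).symm
  have hLK : ∀ Y : Subgroup (MulAut V), Y ≤ L → (Nat.card Y : K) ≠ 0 := fun Y hY h0 =>
    hLr (((CharP.cast_eq_zero_iff K r _).mp h0).trans (Subgroup.card_dvd_of_le hY))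
  have hmapz : L.map (MulAut.conj z).toMonoidHom = L := CfsgLib.Base.map_conj_eq_self_iff.2 hzL
  have hmaph : L.map (MulAut.conj h).toMonoidHom = L := CfsgLib.Base.map_conj_eq_self_iff.2 hhL
  by_cases hv : ∃ v, z v = v ∧ v ≠ 1
  · obtain ⟨v₁, hv₁, hv₁1⟩ := hv
    have hfix := fixes_fixed Nat.prime_three Nat.prime_two hz3 hh2 hhz hfpfV hhL hfpfL hLV
    intro a ha b hb
    rcases subsingleton_or_nontrivial L with hs | hs
    · exact congrArg Subtype.val (Subsingleton.elim
        ((⟨a, ha⟩ : L) * ⟨b, hb⟩) (⟨b, hb⟩ * ⟨a, ha⟩))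
    set X := (Subgroup.center L).map L.subtype with hXdef
    haveI : Fintype X := Fintype.ofFinite _
    have hXL : X ≤ L := Subgroup.map_subtype_le _
    have hXne : X ≠ ⊥ := fun h0 => Group.IsNilpotent.center_ne_bot (G := L)
      ((Subgroup.map_eq_bot_iff_of_injective _ L.subtype_injective).mp h0)
    have hXc : ∀ x ∈ X, ∀ c ∈ L, Commute x c := by
      rintro _ ⟨x, hx, rfl⟩ c hc
      exact (congrArg Subtype.val (Subgroup.mem_center_iff.mp hx ⟨c, hc⟩)).symm
    have hX0 : ∀ g, g = z ∨ g = h ∨ g ∈ L → g ∈ Subgroup.normalizer (X : Set (MulAut V)) :=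
      hcore _
    have hhC : h ∈ Subgroup.normalizer
        ((Subgroup.centralizer ({z} : Set (MulAut V))) : Set (MulAut V)) := by
      rw [← Subgroup.centralizer_closure ({z} : Set (MulAut V)), ← Subgroup.zpowers_eq_closure]
      exact CfsgLib.Coprime.le_normalizer_centralizer (A := Subgroup.zpowers h)
        (B := Subgroup.zpowers z) (Subgroup.zpowers_le.mpr (mem_normalizer_zpowers hhz))
        (Subgroup.mem_zpowers h)
    have hXz : ∀ x ∈ X, z * x * z⁻¹ = x → x = 1 := by
      have hbot := hfixed (X ⊓ Subgroup.centralizer ({z} : Set (MulAut V))) (fun g hg => by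
        refine Subgroup.mem_normalizer_iff.mpr fun c => ?_
        have hgX := hX0 g hg
        rcases hg with e | e | e
        · subst e
          exact and_congr (Subgroup.mem_normalizer_iff.mp hgX c)
            (Subgroup.mem_normalizer_iff.mp (Subgroup.le_normalizer
              (Subgroup.mem_centralizer_singleton_iff.mpr rfl)) c)
        · subst e
          exact and_congr (Subgroup.mem_normalizer_iff.mp hgX c)
            (Subgroup.mem_normalizer_iff.mp hhC c)
        · constructor
          · intro hc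
            rwa [← (hXc c hc.1 g e).eq, mul_inv_cancel_right]
          · intro hc
            have h1 := hXc _ hc.1 g e
            have h2 : g⁻¹ * (g * c * g⁻¹) * g = g * c * g⁻¹ := by
              rw [mul_assoc, h1.eq, inv_mul_cancel_left]
            rw [show g⁻¹ * (g * c * g⁻¹) * g = c by group] at h2
            rwa [← h2] at hc)
        ⟨v₁, fun c hc => hfix c (hXL hc.1) (Subgroup.mem_centralizer_singleton_iff.mp hc.2) v₁ hv₁,
          hv₁1⟩
      intro x hx hxz
      exact Subgroup.mem_bot.mp (hbot ▸ (⟨hx, Subgroup.mem_centralizer_singleton_iff.mpr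
        (mul_inv_eq_iff_eq_mul.mp hxz).symm⟩ :
        x ∈ X ⊓ Subgroup.centralizer ({z} : Set (MulAut V))))
    have hsum : ∑ x : X, ρ (x : MulAut V) = 0 := hρsum X fun v => by
      by_contra hne
      refine hXne (hfixed X hX0 ⟨_, fun c hc => ?_, hne⟩)
      rw [map_prod]
      exact Fintype.prod_equiv (Equiv.mulLeft (⟨c, hc⟩ : X)) _ _ fun d => rfl
    have hfree : ∀ g ∈ L, z * g * z⁻¹ = g → g = 1 := by
      intro g hg hgz
      have hgz' : Commute g z := (mul_inv_eq_iff_eq_mul.mp hgz).symm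
      refine hρinj ((eq_one_of_commute (ρ := ρ) Nat.prime_three
        (fun x hx y hy => (hXc x hx y (hXL hy)).eq) (hLK X hXL) hsum (hX0 z (Or.inl rfl)) hz3 hXz
        (fun x hx => (hXc x hx g hg).symm.eq) ?_
        (hρfix z g 3 fun v => hfix g hg hgz' _ (Ward.norm_fixed (MonoidHom.id _) hz3 v))).trans
        (map_one ρ).symm)
      rw [← Nat.card_zpowers]
      exact hLK _ (Subgroup.zpowers_le.mpr hg)
    have hclass : ∀ x ∈ L, ∀ y ∈ L, ∀ c ∈ L, Commute c ⁅x, y⁆ := fun x hx y hy c hc =>
      congrArg Subtype.val (FpfOrderThree.commute_commutator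
        (CfsgLib.Base.FPFAut.restrict (MulAut.conj z) hmapz)
        (fun w hw => Subtype.ext (hfree w w.2 (congrArg Subtype.val hw)))
        (CfsgLib.Base.FPFAut.restrict_pow_eq_one hmapz (by rw [← map_pow, hz3, map_one]))
        (hL6.coprime_dvd_right (by norm_num)) ⟨x, hx⟩ ⟨y, hy⟩ ⟨c, hc⟩).eq
    have hinv : ρ h * normEnd ρ z 3 = - normEnd ρ z 3 := hρinv z h 3 fun v => by
      set w := ∏ i ∈ Finset.range 3, (z ^ i) v with hw
      have hzw : z w = w := Ward.norm_fixed (MonoidHom.id _) hz3 v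
      have hhh : h (h w) = w := by rw [← MulAut.mul_apply, ← sq, hh2]; rfl
      have hzhw : z (h w) = h w := by
        have e : z * h = h * z⁻¹ := by
          calc z * h = (h * z * h⁻¹)⁻¹ * h := by rw [hzh, inv_inv]
            _ = h * z⁻¹ := by group
        rw [← MulAut.mul_apply, e, MulAut.mul_apply]
        exact congrArg h (z.injective (by rw [MulAut.apply_inv_self, hzw]))
      have h1 : h w * w = 1 := hfpfV _ (by rw [map_mul, hzhw, hzw])
        (by rw [map_mul, hhh, mul_comm])
      exact eq_inv_of_mul_eq_one_left h1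
    exact commutatorElement_eq_one_iff_mul_comm.mp (hρinj ((CoprimeWeights.commutator_eq_one
      (ρ := ρ) (by exact_mod_cast hprimeK Nat.prime_two (by norm_num)) (hLK L le_rfl)
      (hL6.coprime_dvd_right (by norm_num)) hclass hzL hhL hz3 hh2 hzh hfree hinv ha hb).trans
      (map_one ρ).symm))
  · push Not at hv
    have hN : normEnd ρ z 3 = 0 := hρzero z 3 fun v =>
      hv _ (Ward.norm_fixed (MonoidHom.id (MulAut V)) hz3 v)
    have hLz : L ≤ Subgroup.centralizer ({z} : Set (MulAut V)) := by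
      suffices htop : (⊤ : Subgroup L) ≤
          (Subgroup.centralizer ({z} : Set (MulAut V))).comap L.subtype from
        fun x hx => htop (Subgroup.mem_top ⟨x, hx⟩)
      rw [← CfsgLib.Base.iSup_sylow_eq_top (G := L) fun w => default]
      refine iSup_le fun w y hy => ?_
      haveI := Fact.mk w.2
      haveI := hsylc w (default : Sylow (w : ℕ) L)
      have hdvd : ((default : Sylow (w : ℕ) L) : Subgroup L) ≠ ⊥ → (w : ℕ) ∣ Nat.card L := by
        intro hne
        obtain ⟨k, hk⟩ := IsPGroup.iff_card.mp (default : Sylow (w : ℕ) L).isPGroup'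
        rcases k with _ | k
        · exact absurd (Subgroup.eq_bot_of_card_eq _ (by rw [hk, pow_zero])) hne
        · exact (dvd_pow_self (w : ℕ) k.succ_ne_zero).trans
            (hk ▸ Subgroup.card_subgroup_dvd_card _)
      rcases eq_or_ne ((default : Sylow (w : ℕ) L) : Subgroup L) ⊥ with hb | hb
      · rw [hb, Subgroup.mem_bot] at hy
        rw [hy]
        exact one_mem _
      have hw6 : ¬ (w : ℕ) ∣ 6 := fun h6 => w.2.ne_one
        (Nat.eq_one_of_dvd_coprimes hL6 (hdvd hb) h6)
      refine Subgroup.mem_centralizer_singleton_iff.mpr (commute_of_norm_zero (p := 3) (u := w)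
        hρinj (fun e => hw6 (e ▸ by norm_num)) ?_ (hprimeK Nat.prime_three (by norm_num)) hz3 hN
        ((default : Sylow (w : ℕ) L).isPGroup'.map L.subtype) (hLK _ (Subgroup.map_subtype_le _))
        (hcore _ z (Or.inl rfl)) _ ⟨y, hy, rfl⟩).eq
      rintro ⟨b, hb1, hb3⟩
      have h2 : (w : ℕ) ^ b = 2 := by omega
      exact hw6 ((h2 ▸ dvd_pow_self (w : ℕ) (by omega) : (w : ℕ) ∣ 2).trans (by norm_num))
    intro a ha b hb
    exact congrArg Subtype.val (MonoidHom.FixedPointFree.commute_all_of_involutive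
      (φ := (CfsgLib.Base.FPFAut.restrict (MulAut.conj h) hmaph).toMonoidHom)
      (fun (x : L) hx => Subtype.ext (hfpfL (x : MulAut V) x.2 (Subgroup.mem_centralizer_singleton_iff.mp (hLz x.2))
        (mul_inv_eq_iff_eq_mul.mp (congrArg Subtype.val hx)).symm))
      (fun x => by
        have h2 := DFunLike.congr_fun (CfsgLib.Base.FPFAut.restrict_pow_eq_one hmaph
          (show MulAut.conj h ^ 2 = 1 by rw [← map_pow, hh2, map_one])) x
        simpa [sq, MulAut.mul_apply] using h2) ⟨a, ha⟩ ⟨b, hb⟩).eq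

end CfsgLib.FgsC.FrobeniusSym
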