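/-
Twisted squares and conjugacy in `SL₂(F)`, `q` odd.
-/
import Cfsg.Agent.Lib.Steinberg.RankOne

set_option autoImplicit false

namespace CfsgLib.FgsC.G2Invol

open Matrix CfsgLib.Steinberg.R1Data
open scoped MatrixGroups

variable {F : Type*} [Field F]

/-- the diagonal matrix `diag (u, u⁻¹)` -/
def hd : Fˣ →* SL(2, F) where
  toFun u := ⟨!![(u : F), 0; 0, ((u⁻¹ : Fˣ) : F)], by simp [Matrix.det_fin_two]⟩
  map_one' := by
    refine Subtype.ext ?_
    ext i j
    fin_cases i <;> fin_cases j <;> simp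
  map_mul' u v := by
    refine Subtype.ext ?_
    show !![((u * v : Fˣ) : F), 0; 0, (((u * v)⁻¹ : Fˣ) : F)] =
      !![(u : F), 0; 0, ((u⁻¹ : Fˣ) : F)] * !![(v : F), 0; 0, ((v⁻¹ : Fˣ) : F)]
    ext i j
    fin_cases i <;> fin_cases j <;>
      simp [SpecialLinearGroup.coe_mul, Matrix.mul_apply, Fin.sum_univ_two, mul_comm]

@[simp] lemma hd_val (u : Fˣ) :
    ((hd u : SL(2, F)) : Matrix (Fin 2) (Fin 2) F) = !![(u : F), 0; 0, ((u⁻¹ : Fˣ) : F)] := rfl

/-- `-1` -/
def m1 : SL(2, F) := hd (-1)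

@[simp] lemma m1_val : ((m1 : SL(2, F)) : Matrix (Fin 2) (Fin 2) F) = !![-1, 0; 0, -1] := by
  simp [m1]

/-- conjugation by `diag (k, 1)` -/
def dconj (k : Fˣ) : SL(2, F) →* SL(2, F) where
  toFun g := ⟨!![g 0 0, (k : F) * g 0 1; ((k⁻¹ : Fˣ) : F) * g 1 0, g 1 1], by
    have := det_eq g
    rw [Matrix.det_fin_two_of]
    linear_combination this - g 0 1 * g 1 0 * k.mul_inv⟩
  map_one' := by
    refine Subtype.ext ?_
    ext i j
    fin_cases i <;> fin_cases j <;> simp
  map_mul' g h := by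
    refine Subtype.ext ?_
    show !![(g * h) 0 0, (k : F) * (g * h) 0 1; ((k⁻¹ : Fˣ) : F) * (g * h) 1 0, (g * h) 1 1] =
      !![g 0 0, (k : F) * g 0 1; ((k⁻¹ : Fˣ) : F) * g 1 0, g 1 1] *
        !![h 0 0, (k : F) * h 0 1; ((k⁻¹ : Fˣ) : F) * h 1 0, h 1 1]
    ext i j
    fin_cases i <;> fin_cases j <;>
      simp [SpecialLinearGroup.coe_mul, Matrix.mul_apply, Fin.sum_univ_two] <;>
      field_simp <;> ring

@[simp] lemma dconj_val (k : Fˣ) (g : SL(2, F)) :
    ((dconj k g : SL(2, F)) : Matrix (Fin 2) (Fin 2) F) =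
      !![g 0 0, (k : F) * g 0 1; ((k⁻¹ : Fˣ) : F) * g 1 0, g 1 1] := rfl

lemma dconj_one (g : SL(2, F)) : dconj 1 g = g := by
  refine Subtype.ext ?_
  ext i j
  fin_cases i <;> fin_cases j <;> simp

lemma dconj_up (k : Fˣ) (t : F) : dconj k (up t) = up ((k : F) * t) := by
  refine Subtype.ext ?_
  ext i j
  fin_cases i <;> fin_cases j <;> simp

lemma dconj_dn (k : Fˣ) (t : F) : dconj k (dn t) = dn (((k⁻¹ : Fˣ) : F) * t) := by
  refine Subtype.ext ?_
  ext i j
  fin_cases i <;> fin_cases j <;> simp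

lemma dconj_wS (k : Fˣ) : dconj k wS = hd k * wS := by
  refine Subtype.ext ?_
  ext i j
  fin_cases i <;> fin_cases j <;>
    simp [SpecialLinearGroup.coe_mul, Matrix.mul_apply, Fin.sum_univ_two]

lemma wS_word : (wS : SL(2, F)) = up 1 * dn (-1) * up 1 := by
  refine Subtype.ext ?_
  ext i j
  fin_cases i <;> fin_cases j <;>
    simp [SpecialLinearGroup.coe_mul, Matrix.mul_apply, Fin.sum_univ_two]

lemma hd_word (u : Fˣ) : hd u =
    (up (u : F) * dn (-((u⁻¹ : Fˣ) : F)) * up (u : F)) * (up (-1) * dn 1 * up (-1)) := by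
  refine Subtype.ext ?_
  ext i j
  fin_cases i <;> fin_cases j <;>
    simp [SpecialLinearGroup.coe_mul, Matrix.mul_apply, Fin.sum_univ_two]

lemma wS_sq : (wS : SL(2, F)) * wS = m1 := by
  refine Subtype.ext ?_
  ext i j
  fin_cases i <;> fin_cases j <;>
    simp [SpecialLinearGroup.coe_mul, Matrix.mul_apply, Fin.sum_univ_two]

lemma m1_sq : (m1 : SL(2, F)) * m1 = 1 := by
  rw [m1, ← map_mul, neg_mul_neg, mul_one, map_one]

lemma m1_comm (g : SL(2, F)) : m1 * g = g * m1 := by
  refine Subtype.ext ?_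
  ext i j
  fin_cases i <;> fin_cases j <;>
    simp [SpecialLinearGroup.coe_mul, Matrix.mul_apply, Fin.sum_univ_two]

lemma wS_conj_up (t : F) : wS * up t * (wS : SL(2, F))⁻¹ = dn (-t) := by
  rw [mul_inv_eq_iff_eq_mul]
  refine Subtype.ext ?_
  ext i j
  fin_cases i <;> fin_cases j <;>
    simp [SpecialLinearGroup.coe_mul, Matrix.mul_apply, Fin.sum_univ_two]

lemma wS_conj_dn (t : F) : wS * dn t * (wS : SL(2, F))⁻¹ = up (-t) := by
  rw [mul_inv_eq_iff_eq_mul]
  refine Subtype.ext ?_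
  ext i j
  fin_cases i <;> fin_cases j <;>
    simp [SpecialLinearGroup.coe_mul, Matrix.mul_apply, Fin.sum_univ_two]

lemma wS_conj_hd (u : Fˣ) : (wS : SL(2, F)) * hd u = hd u⁻¹ * wS := by
  refine Subtype.ext ?_
  ext i j
  fin_cases i <;> fin_cases j <;>
    simp [SpecialLinearGroup.coe_mul, Matrix.mul_apply, Fin.sum_univ_two]

lemma closure_up_dn :
    Subgroup.closure (Set.range (up (F := F)) ∪ Set.range (dn (F := F))) = ⊤ := by
  rw [eq_top_iff, ← closure_gens, Subgroup.closure_le]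
  rintro g (hg | rfl)
  · exact Subgroup.subset_closure (Or.inl hg)
  · rw [wS_word]
    exact mul_mem (mul_mem (Subgroup.subset_closure (Or.inl ⟨1, rfl⟩))
      (Subgroup.subset_closure (Or.inr ⟨-1, rfl⟩))) (Subgroup.subset_closure (Or.inl ⟨1, rfl⟩))

/-- a triangular element -/
lemma eq_hd_mul_up {g : SL(2, F)} (hc : g 1 0 = 0) :
    ∃ (u : Fˣ) (s : F), g = hd u * up s := by
  have hd' := det_eq g
  rw [hc, mul_zero, sub_zero] at hd'
  have h0 : g 0 0 ≠ 0 := left_ne_zero_of_mul_eq_one hd'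
  refine ⟨Units.mk0 _ h0, g 0 1 / g 0 0, Subtype.ext ?_⟩
  ext i j
  fin_cases i <;> fin_cases j <;>
    simp [SpecialLinearGroup.coe_mul, Matrix.mul_apply, Fin.sum_univ_two, hc] <;>
    field_simp
  linear_combination hd'

/-- an element centralising `up 1` and `dn 1` up to a scalar of the root subgroups -/
lemma offdiag_zero_of_conj {g : SL(2, F)} {k : F} (h : g * up 1 * g⁻¹ = up k) : g 1 0 = 0 := by
  rw [mul_inv_eq_iff_eq_mul] at h
  have := congrArg (fun x : SL(2, F) => (x : Matrix (Fin 2) (Fin 2) F) 1 1) h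
  simp [SpecialLinearGroup.coe_mul, Matrix.mul_apply, Fin.sum_univ_two] at this
  simpa using this

lemma offdiag_zero_of_conj' {g : SL(2, F)} {k : F} (h : g * dn 1 * g⁻¹ = dn k) : g 0 1 = 0 := by
  rw [mul_inv_eq_iff_eq_mul] at h
  have := congrArg (fun x : SL(2, F) => (x : Matrix (Fin 2) (Fin 2) F) 0 0) h
  simp [SpecialLinearGroup.coe_mul, Matrix.mul_apply, Fin.sum_univ_two] at this
  simpa using this

lemma eq_one_or_m1 {g : SL(2, F)} (h1 : g * up 1 * g⁻¹ = up 1) (h2 : g * dn 1 * g⁻¹ = dn 1) :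
    g = 1 ∨ g = m1 := by
  have hc := offdiag_zero_of_conj h1
  have hb := offdiag_zero_of_conj' h2
  have hd' := det_eq g
  rw [hc, mul_zero, sub_zero] at hd'
  rw [mul_inv_eq_iff_eq_mul] at h1
  have := congrArg (fun x : SL(2, F) => (x : Matrix (Fin 2) (Fin 2) F) 0 1) h1
  simp [SpecialLinearGroup.coe_mul, Matrix.mul_apply, Fin.sum_univ_two, hb] at this
  rw [← this] at hd'
  rcases mul_self_eq_one_iff.1 hd' with e | e
  · left
    refine Subtype.ext ?_
    ext i j
    fin_cases i <;> fin_cases j <;> simp [hc, hb, e, ← this]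
  · right
    refine Subtype.ext ?_
    ext i j
    fin_cases i <;> fin_cases j <;> simp [hc, hb, e, ← this]

section odd

variable (h2 : (2 : F) ≠ 0)
include h2

lemma m1_ne_one : (m1 : SL(2, F)) ≠ 1 := fun h => h2 (by
  have := congrArg (fun x : SL(2, F) => (x : Matrix (Fin 2) (Fin 2) F) 0 0) h
  simp at this
  linear_combination -this)

lemma sq_eq_one {a : SL(2, F)} (h : a * a = 1) : a = 1 ∨ a = m1 := by
  have e : ∀ i j, ((a⁻¹ : SL(2, F)) : Matrix (Fin 2) (Fin 2) F) i j = a i j := fun i j => by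
    rw [inv_eq_of_mul_eq_one_right h]
  have h01 := e 0 1
  have h10 := e 1 0
  have h11 := e 1 1
  simp [SpecialLinearGroup.coe_inv, Matrix.adjugate_fin_two] at h01 h10 h11
  have hb : a 0 1 = 0 := by
    have : (2 : F) * a 0 1 = 0 := by linear_combination -h01
    exact (mul_eq_zero.1 this).resolve_left h2
  have hc : a 1 0 = 0 := by
    have : (2 : F) * a 1 0 = 0 := by linear_combination -h10
    exact (mul_eq_zero.1 this).resolve_left h2
  have hd' := det_eq a
  rw [hc, mul_zero, sub_zero, ← h11] at hd'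
  rcases mul_self_eq_one_iff.1 hd' with he | he
  · left
    refine Subtype.ext ?_
    ext i j
    fin_cases i <;> fin_cases j <;> simp [hc, hb, he, ← h11]
  · right
    refine Subtype.ext ?_
    ext i j
    fin_cases i <;> fin_cases j <;> simp [hc, hb, he, ← h11]

lemma trace_of_sq {a : SL(2, F)} (h : a * a = m1) :
    a 0 0 * ((1 : Fˣ) : F) + a 1 1 = 0 := by
  have hd' := det_eq a
  have e00 := congrArg (fun x : SL(2, F) => (x : Matrix (Fin 2) (Fin 2) F) 0 0) h
  have e11 := congrArg (fun x : SL(2, F) => (x : Matrix (Fin 2) (Fin 2) F) 1 1) h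
  simp [SpecialLinearGroup.coe_mul, Matrix.mul_apply, Fin.sum_univ_two] at e00 e11
  have : (a 0 0 + a 1 1) * (a 0 0 + a 1 1) = 0 := by linear_combination e00 + e11 + 2 * hd'
  rw [Units.val_one, mul_one]
  exact mul_self_eq_zero.1 this

/-- the twisted square -/
lemma outer_trace {k : Fˣ} (hk : ¬ IsSquare (k : F)) {a : SL(2, F)}
    (h : a * dconj k a * hd k = 1 ∨ a * dconj k a * hd k = m1) :
    a * dconj k a * hd k = m1 ∧ a 0 0 * (k : F) + a 1 1 = 0 := by
  have hd' := det_eq a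
  have key : ∀ ε : F, ε * ε = 1 →
      ((a * dconj k a * hd k : SL(2, F)) : Matrix (Fin 2) (Fin 2) F) = !![ε, 0; 0, ε] →
      ε = -1 ∧ a 0 0 * (k : F) + a 1 1 = 0 := by
    intro ε hε e
    have e00 := congrFun (congrFun e 0) 0
    have e01 := congrFun (congrFun e 0) 1
    have e10 := congrFun (congrFun e 1) 0
    have e11 := congrFun (congrFun e 1) 1
    simp [SpecialLinearGroup.coe_mul, Matrix.mul_apply, Fin.sum_univ_two] at e00 e01 e10 e11
    field_simp at e00 e01 e10 e11
    by_cases ht : a 0 0 * (k : F) + a 1 1 = 0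
    · refine ⟨?_, ht⟩
      have : ε + 1 = 0 := by linear_combination -e00 + a 0 0 * ht - hd'
      linear_combination this
    · have hb : a 0 1 = 0 := by
        have : (a 0 0 * (k : F) + a 1 1) * a 0 1 = 0 := by linear_combination e01
        exact (mul_eq_zero.1 this).resolve_left ht
      have hc : a 1 0 = 0 := by
        have : (a 0 0 * (k : F) + a 1 1) * a 1 0 = 0 := by linear_combination e10
        exact (mul_eq_zero.1 this).resolve_left ht
      rw [hb, zero_mul, sub_zero] at hd'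
      simp [hb, hc] at e00 e11
      rcases mul_self_eq_one_iff.1 hε with rfl | rfl
      · exact absurd ⟨a 1 1, by linear_combination -e11⟩ hk
      · exact absurd (show a 0 0 * (k : F) + a 1 1 = 0 by
          linear_combination a 1 1 * e00 - a 0 0 * (k : F) * hd') ht
  rcases h with h | h
  · exfalso
    have := (key 1 (mul_one 1) (by rw [h]; ext i j; fin_cases i <;> fin_cases j <;> simp)).1
    exact h2 (by linear_combination this)
  · exact ⟨h, (key (-1) (by ring) (by rw [h, m1_val])).2⟩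

/-- twisted conjugacy to `wS` -/
lemma exists_twist_conj [Finite F] {k : Fˣ} {a : SL(2, F)} (ht : a 0 0 * (k : F) + a 1 1 = 0) :
    ∃ g : SL(2, F), a = g * wS * dconj k g⁻¹ := by
  have hd' := det_eq a
  have hk : (k : F) ≠ 0 := k.ne_zero
  obtain ⟨p, r, hQ⟩ : ∃ p r : F, -(a 1 0) * p ^ 2 + 2 * a 0 0 * p * r
      + a 0 1 * (k : F)⁻¹ * r ^ 2 = 1 := by
    by_cases hc : a 1 0 = 0
    · have h0 : a 0 0 ≠ 0 := fun h0 => by
        rw [hc, h0, zero_mul, mul_zero, sub_zero] at hd'
        exact zero_ne_one hd'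
      refine ⟨(1 - a 0 1 * (k : F)⁻¹) / (2 * a 0 0), 1, ?_⟩
      rw [hc]
      field_simp
      ring
    · haveI := Fintype.ofFinite F
      have hodd : Fintype.card F % 2 = 1 := FiniteField.odd_card_of_char_ne_two fun e => h2 (by
        have := ringChar.Nat.cast_ringChar (R := F)
        rw [e] at this
        exact_mod_cast this)
      open Polynomial in
      obtain ⟨X', r, hr⟩ := FiniteField.exists_root_sum_quadratic
        (f := C (-(a 1 0)) * X ^ 2 + C (-1 : F))
        (g := C (-((k : F) * a 1 0)⁻¹) * X ^ 2 + C (0 : F))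
        (by rw [degree_add_C (by rw [degree_C_mul_X_pow 2 (neg_ne_zero.2 hc)]; decide),
          degree_C_mul_X_pow 2 (neg_ne_zero.2 hc)]; rfl)
        (by rw [degree_add_C (by
            rw [degree_C_mul_X_pow 2 (neg_ne_zero.2 (inv_ne_zero (mul_ne_zero hk hc)))]; decide),
          degree_C_mul_X_pow 2 (neg_ne_zero.2 (inv_ne_zero (mul_ne_zero hk hc)))]; rfl) hodd
      simp at hr
      refine ⟨X' + a 0 0 * r / a 1 0, r, ?_⟩
      field_simp at hr ⊢
      have h11 : a 1 1 = -(a 0 0 * (k : F)) := by linear_combination ht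
      rw [h11] at hd'
      linear_combination hr - r ^ 2 * hd'
  have h11 : a 1 1 = -(a 0 0 * (k : F)) := by linear_combination ht
  obtain ⟨g, hg⟩ : ∃ g : SL(2, F), (g : Matrix (Fin 2) (Fin 2) F) = !![p, -(a 0 0 * p + a 0 1 * (k : F)⁻¹ * r);
      r, -(a 1 0 * p - a 0 0 * r)] :=
    ⟨⟨_, by rw [Matrix.det_fin_two_of]; linear_combination hQ⟩, rfl⟩
  refine ⟨g, ?_⟩
  rw [map_inv, eq_mul_inv_iff_mul_eq]
  refine Subtype.ext ?_
  rw [h11] at hd'
  ext i j
  fin_cases i <;> fin_cases j <;>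
    simp [hg, SpecialLinearGroup.coe_mul, Matrix.mul_apply, Fin.sum_univ_two, h11] <;>
    field_simp <;>
    first
      | ring1
      | linear_combination r * hd'
      | linear_combination p * hd'
      | linear_combination (k : F) * p * hd'
      | linear_combination (k : F) * r * hd'

end odd

end CfsgLib.FgsC.G2Invol
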