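/-
The subgroup `SL₂(q) ∘ SL₂(q)` of `G₂(q)`.
-/
import Cfsg.Agent.Lib.FgsC.G2InvolSL2
import Cfsg.Agent.Lib.Chev.OrderTypes
import Cfsg.Agent.Lib.Chev.Types
import Cfsg.Agent.Lib.Chev.Twist.Torus
import Cfsg.Agent.Lib.Chev.Twist.Class

set_option autoImplicit false
set_option maxRecDepth 100000

namespace CfsgLib.FgsC.G2Invol

open Cfsg.Lie Matrix CfsgLib.Chev
open CfsgLib.Steinberg.R1Data (up dn wS)
open scoped MatrixGroups

variable {F : Type*} [Field F]

/-- root elements -/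
noncomputable abbrev xx (r : ℕ) (t : F) : GL chevG2.Idx F := xG stdG2.good r t

/-- torus parameters -/
def tv (x y : Fˣ) : Fin chevG2.rank → Fˣ := (![x, y] : Fin 2 → Fˣ)

lemma tv_eta (c : Fin chevG2.rank → Fˣ) : ∃ x y, c = tv x y :=
  ⟨c (0 : Fin 2), c (1 : Fin 2), funext fun (k : Fin 2) => by fin_cases k <;> rfl⟩

lemma tv_mul (x y x' y' : Fˣ) : tv x y * tv x' y' = tv (x * x') (y * y') :=
  funext fun (k : Fin 2) => by fin_cases k <;> rfl

lemma tv_one : tv (1 : Fˣ) 1 = 1 :=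
  funext fun (k : Fin 2) => by fin_cases k <;> rfl

lemma tv_inj {x y x' y' : Fˣ} (h : tv x y = tv x' y') : x = x' ∧ y = y' :=
  ⟨congrFun h (0 : Fin 2), congrFun h (1 : Fin 2)⟩

/-- the torus -/
noncomputable def TT (x y : Fˣ) : GL chevG2.Idx F := tor chevG2 auxG2 (tv x y)

lemma exists_TT (c : Fin chevG2.rank → Fˣ) : ∃ x y, tor chevG2 auxG2 c = TT x y := by
  obtain ⟨x, y, rfl⟩ := tv_eta c
  exact ⟨x, y, rfl⟩

lemma TT_mul (x y x' y' : Fˣ) : TT x y * TT x' y' = TT (x * x') (y * y') := by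
  rw [TT, TT, TT, ← map_mul, tv_mul]

lemma TT_one : TT (1 : Fˣ) 1 = 1 := by rw [TT, tv_one, map_one]

lemma TT_inv (x y : Fˣ) : (TT x y)⁻¹ = TT x⁻¹ y⁻¹ := by
  rw [inv_eq_iff_mul_eq_one, TT_mul, mul_inv_cancel, mul_inv_cancel, TT_one]

lemma TT_comm (x y x' y' : Fˣ) : TT x y * TT x' y' = TT x' y' * TT x y := by
  rw [TT_mul, TT_mul, mul_comm x, mul_comm y]

lemma tor_inj : Function.Injective
    (tor chevG2 auxG2 : (Fin chevG2.rank → Fˣ) →* GL chevG2.Idx F) := by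
  refine tor_inj_of_inv stdG2.good (N := (!![2, 3; 1, 2] : Matrix (Fin 2) (Fin 2) ℤ)) ?_
  decide +kernel

lemma TT_inj {x y x' y' : Fˣ} (h : TT x y = TT x' y') : x = x' ∧ y = y' := tv_inj (tor_inj h)

lemma chi_tv (x y : Fˣ) (s : ℕ) :
    chi chevG2 auxG2 (tv x y) s = x ^ auxG2.cart 0 s * y ^ auxG2.cart 1 s := by
  show ∏ i : Fin 2, (![x, y] : Fin 2 → Fˣ) i ^ auxG2.cart i.val s = _
  rw [Fin.prod_univ_two]
  rfl

lemma chi_eight (x y : Fˣ) : chi chevG2 auxG2 (tv x y) 8 = y * x⁻¹ := by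
  rw [chi_tv, show auxG2.cart 0 8 = -1 by decide +kernel,
    show auxG2.cart 1 8 = 1 by decide +kernel, _root_.zpow_neg_one, zpow_one, mul_comm]

lemma chi_ten (x y : Fˣ) : chi chevG2 auxG2 (tv x y) 10 = x ^ 3 * y⁻¹ := by
  rw [chi_tv, show auxG2.cart 0 10 = 3 by decide +kernel,
    show auxG2.cart 1 10 = -1 by decide +kernel, _root_.zpow_neg_one]
  rfl

/-- the central involution of the two rank one groups -/
noncomputable def z : GL chevG2.Idx F := TT (-1) (-1)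

lemma z_sq : (z : GL chevG2.Idx F) * z = 1 := by
  rw [z, TT_mul, neg_mul_neg, mul_one, TT_one]

/-- the roots fixed by `z` -/
def evenRoots : List ℕ := [1, 3, 8, 10]

lemma chi_z {s : ℕ} (hs : s < chevG2.nroots) :
    chi chevG2 auxG2 (tv (-1 : Fˣ) (-1)) s = if s ∈ evenRoots then 1 else -1 := by
  have key : ∀ r < 12, (if r ∈ evenRoots then (auxG2.cart 0 r + auxG2.cart 1 r) % 2 = 0
      else (auxG2.cart 0 r + auxG2.cart 1 r) % 2 = 1) := by decide +kernel
  have h := key s hs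
  rw [chi_tv, ← _root_.zpow_add]
  split_ifs at h ⊢ with he
  · exact Even.neg_one_zpow (Int.even_iff.2 h)
  · exact Odd.neg_one_zpow (Int.odd_iff.2 h)

/-! ### the two rank one groups -/

/-- the rank one homomorphism of a root -/
noncomputable def phiR (r : ℕ) (hr : r < chevG2.nroots) : SL(2, F) →* GL chevG2.Idx F :=
  (CfsgLib.Steinberg.exists_sl2 (F := F) stdG2.good r hr).choose

lemma phiR_spec (r : ℕ) (hr : r < chevG2.nroots) (y : SL(2, F)) (t : F) :
    ((y : Matrix (Fin 2) (Fin 2) F) = !![1, t; 0, 1] → phiR r hr y = xx r t) ∧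
    ((y : Matrix (Fin 2) (Fin 2) F) = !![1, 0; t, 1] → phiR r hr y = xx (auxG2.neg r) t) :=
  (CfsgLib.Steinberg.exists_sl2 (F := F) stdG2.good r hr).choose_spec y t

lemma phiR_up {r : ℕ} (hr : r < chevG2.nroots) (t : F) : phiR r hr (up t) = xx r t :=
  (phiR_spec r hr _ t).1 rfl

lemma phiR_dn {r : ℕ} (hr : r < chevG2.nroots) (t : F) :
    phiR r hr (dn t) = xx (auxG2.neg r) t := (phiR_spec r hr _ t).2 rfl

lemma phiR_wS {r : ℕ} (hr : r < chevG2.nroots) :
    phiR r hr (wS : SL(2, F)) = nG stdG2.good r (1 : F) := by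
  rw [wS_word, map_mul, map_mul, phiR_up, phiR_dn, nG, stdG2.good.neg_eq r hr, inv_one]

lemma phiR_hd {r : ℕ} (hr : r < chevG2.nroots) (u : Fˣ) :
    phiR r hr (hd u) = hG stdG2.good r (u : F) := by
  rw [hd_word]
  simp only [map_mul, phiR_up, phiR_dn, hG, nG, stdG2.good.neg_eq r hr,
    Units.val_inv_eq_inv_val, inv_neg, inv_one, neg_neg]

lemma lt8 : 8 < chevG2.nroots := by decide +kernel
lemma lt10 : 10 < chevG2.nroots := by decide +kernel
lemma neg8 : auxG2.neg 8 = 3 := by decide +kernel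
lemma neg10 : auxG2.neg 10 = 1 := by decide +kernel

/-- the short rank one group -/
noncomputable def phi8 : SL(2, F) →* GL chevG2.Idx F := phiR 8 lt8

/-- the long rank one group -/
noncomputable def phi10 : SL(2, F) →* GL chevG2.Idx F := phiR 10 lt10

lemma phi8_hd (u : Fˣ) : phi8 (hd u) = TT u (u ^ 3) := by
  rw [phi8, phiR_hd, hG_eq_tor stdG2.good lt8, TT]
  congr 1
  refine funext fun (k : Fin 2) => ?_
  fin_cases k
  · show u ^ auxG2.coro 8 0 = u
    rw [show auxG2.coro 8 0 = 1 by decide +kernel, zpow_one]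
  · show u ^ auxG2.coro 8 1 = u ^ 3
    rw [show auxG2.coro 8 1 = 3 by decide +kernel]
    rfl

lemma phi10_hd (u : Fˣ) : phi10 (hd u) = TT u u := by
  rw [phi10, phiR_hd, hG_eq_tor stdG2.good lt10, TT]
  congr 1
  refine funext fun (k : Fin 2) => ?_
  fin_cases k
  · show u ^ auxG2.coro 10 0 = u
    rw [show auxG2.coro 10 0 = 1 by decide +kernel, zpow_one]
  · show u ^ auxG2.coro 10 1 = u
    rw [show auxG2.coro 10 1 = 1 by decide +kernel, zpow_one]

lemma phi8_m1 : phi8 (m1 : SL(2, F)) = z := by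
  rw [m1, phi8_hd, z, show ((-1 : Fˣ)) ^ 3 = -1 from Odd.neg_one_pow (by decide)]

lemma phi10_m1 : phi10 (m1 : SL(2, F)) = z := by rw [m1, phi10_hd, z]

lemma phi_comm (g h : SL(2, F)) : Commute (phi8 g) (phi10 h) := by
  have hc : ∀ r ∈ [8, 3], ∀ s ∈ [10, 1], commPair chevG2 auxG2 r s = true := by decide +kernel
  have h1 : ∀ r ∈ [8, 3], ∀ (t : F) (g' : SL(2, F)), Commute (xx r t) (phi10 g') := by
    intro r hr t g'
    have hg' : g' ∈ (⊤ : Subgroup SL(2, F)) := Subgroup.mem_top _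
    rw [← closure_up_dn] at hg'
    induction hg' using Subgroup.closure_induction with
    | one => rw [map_one]; exact Commute.one_right _
    | mul a b _ _ ha hb => rw [map_mul]; exact ha.mul_right hb
    | inv a _ ha => rw [map_inv]; exact ha.inv_right
    | mem a ha =>
      rcases ha with ⟨u, rfl⟩ | ⟨u, rfl⟩
      · rw [phi10, phiR_up]; exact commute_xG stdG2 (hc r hr 10 (by simp)) t u
      · rw [phi10, phiR_dn, neg10]; exact commute_xG stdG2 (hc r hr 1 (by simp)) t u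
  have hg : g ∈ (⊤ : Subgroup SL(2, F)) := Subgroup.mem_top _
  rw [← closure_up_dn] at hg
  induction hg using Subgroup.closure_induction with
  | one => rw [map_one]; exact Commute.one_left _
  | mul a b _ _ ha hb => rw [map_mul]; exact ha.mul_left hb
  | inv a _ ha => rw [map_inv]; exact ha.inv_left
  | mem a ha =>
    rcases ha with ⟨u, rfl⟩ | ⟨u, rfl⟩
    · rw [phi8, phiR_up]; exact h1 8 (by simp) u h
    · rw [phi8, phiR_dn, neg8]; exact h1 3 (by simp) u h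

/-- the central product -/
noncomputable def Phi : SL(2, F) × SL(2, F) →* GL chevG2.Idx F :=
  phi8.noncommCoprod phi10 phi_comm

lemma Phi_apply (a b : SL(2, F)) : Phi (a, b) = phi8 a * phi10 b := rfl

lemma Phi_mul (a b a' b' : SL(2, F)) : Phi (a, b) * Phi (a', b') = Phi (a * a', b * b') :=
  (map_mul Phi (a, b) (a', b')).symm

lemma Phi_inv (a b : SL(2, F)) : (Phi (a, b))⁻¹ = Phi (a⁻¹, b⁻¹) := (map_inv Phi (a, b)).symm

lemma Phi_hd (u v : Fˣ) : Phi (hd u, hd v) = TT (u * v) (u ^ 3 * v) := by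
  rw [Phi_apply, phi8_hd, phi10_hd, TT_mul]

lemma torus_conj_phiR {r : ℕ} (hr : r < chevG2.nroots) (c : Fin chevG2.rank → Fˣ) (g : SL(2, F)) :
    tor chevG2 auxG2 c * phiR r hr g * (tor chevG2 auxG2 c)⁻¹ =
      phiR r hr (dconj (chi chevG2 auxG2 c r) g) := by
  have : (MulAut.conj (tor chevG2 auxG2 c)).toMonoidHom.comp (phiR r hr) =
      (phiR r hr).comp (dconj (chi chevG2 auxG2 c r)) := by
    refine MonoidHom.eq_of_eqOn_dense closure_up_dn ?_
    rintro g (⟨t, rfl⟩ | ⟨t, rfl⟩)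
    · show tor chevG2 auxG2 c * phiR r hr (up t) * (tor chevG2 auxG2 c)⁻¹ = phiR r hr (dconj _ (up t))
      rw [dconj_up, phiR_up, phiR_up, tor_conj_xG stdG2.good c hr]
    · show tor chevG2 auxG2 c * phiR r hr (dn t) * (tor chevG2 auxG2 c)⁻¹ = phiR r hr (dconj _ (dn t))
      rw [dconj_dn, phiR_dn, phiR_dn, tor_conj_xG stdG2.good c (stdG2.good.neg_lt r hr),
        chi_neg stdG2.good c hr]
  exact DFunLike.congr_fun this g

lemma TT_conj_Phi (x y : Fˣ) (a b : SL(2, F)) :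
    TT x y * Phi (a, b) * (TT x y)⁻¹ = Phi (dconj (y * x⁻¹) a, dconj (x ^ 3 * y⁻¹) b) := by
  rw [Phi_apply, Phi_apply, TT,
    show ∀ t p q : GL chevG2.Idx F, t * (p * q) * t⁻¹ = t * p * t⁻¹ * (t * q * t⁻¹) by
      intros; group]
  rw [phi8, phi10, torus_conj_phiR, torus_conj_phiR, chi_eight, chi_ten]

/-- the group `(SL₂ ∘ SL₂)·H` -/
noncomputable def C0 (F : Type*) [Field F] : Subgroup (GL chevG2.Idx F) where
  carrier := {w | ∃ a b x y, w = Phi (a, b) * TT x y}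
  one_mem' := ⟨1, 1, 1, 1, by rw [TT_one, mul_one]; exact (map_one Phi).symm⟩
  mul_mem' := by
    rintro _ _ ⟨a, b, x, y, rfl⟩ ⟨a', b', x', y', rfl⟩
    refine ⟨a * dconj (y * x⁻¹) a', b * dconj (x ^ 3 * y⁻¹) b', x * x', y * y', ?_⟩
    rw [← TT_mul, ← Phi_mul, ← TT_conj_Phi]
    group
  inv_mem' := by
    rintro _ ⟨a, b, x, y, rfl⟩
    refine ⟨dconj (y⁻¹ * x⁻¹⁻¹) a⁻¹, dconj (x⁻¹ ^ 3 * y⁻¹⁻¹) b⁻¹, x⁻¹, y⁻¹, ?_⟩
    rw [← TT_conj_Phi, ← TT_inv, ← Phi_inv]
    group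

lemma Phi_mem_C0 (a b : SL(2, F)) : Phi (a, b) ∈ C0 F := ⟨a, b, 1, 1, by rw [TT_one, mul_one]⟩

lemma range_le_C0 : (Phi (F := F)).range ≤ C0 F := by
  rintro _ ⟨⟨a, b⟩, rfl⟩
  exact Phi_mem_C0 a b

lemma TT_mem_C0 (x y : Fˣ) : TT x y ∈ C0 F :=
  ⟨1, 1, x, y, by rw [show Phi ((1 : SL(2, F)), (1 : SL(2, F))) = 1 from map_one Phi, one_mul]⟩

lemma z_mem_range : (z : GL chevG2.Idx F) ∈ (Phi (F := F)).range :=
  ⟨(m1, 1), by rw [Phi_apply, map_one, mul_one, phi8_m1]⟩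

lemma C0_le_group : C0 F ≤ chevG2.group F := by
  rintro _ ⟨a, b, x, y, rfl⟩
  have hR : ∀ r, (hr : r < chevG2.nroots) → (phiR (F := F) r hr).range ≤ chevG2.group F := by
    intro r hr
    rw [MonoidHom.range_eq_map, ← closure_up_dn, MonoidHom.map_closure, Subgroup.closure_le]
    rintro _ ⟨_, ⟨t, rfl⟩ | ⟨t, rfl⟩, rfl⟩
    · rw [phiR_up]; exact xG_mem_group stdG2.good _ _
    · rw [phiR_dn]; exact xG_mem_group stdG2.good _ _
  refine mul_mem (mul_mem (hR 8 lt8 ⟨a, rfl⟩) (hR 10 lt10 ⟨b, rfl⟩)) ?_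
  exact monomialSubgroup_le_group stdG2.good (tor_mem_monomial stdG2.good _)

lemma C0_comm_z {w : GL chevG2.Idx F} (hw : w ∈ C0 F) : Commute w z := by
  obtain ⟨a, b, x, y, rfl⟩ := hw
  refine Commute.mul_left ?_ (TT_comm x y _ _)
  rw [Phi_apply]
  refine Commute.mul_left ?_ ?_
  · rw [← phi10_m1]; exact phi_comm a m1
  · rw [← phi8_m1]; exact (phi_comm m1 b).symm

/-! ### kernel, diagonal elements -/

lemma phiR_inj {r : ℕ} (hr : r < chevG2.nroots) (hp : chevG2.IsPosRoot r)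
    (ht : ∀ u : Fˣ, phiR r hr (hd u) = 1 → u = 1) (hne : auxG2.neg r ≠ r) :
    Function.Injective (phiR (F := F) r hr) := by
  rw [injective_iff_map_eq_one]
  intro g hg
  by_cases hc : g 1 0 = 0
  · obtain ⟨u, s, rfl⟩ := eq_hd_mul_up hc
    rw [map_mul, phiR_up, phiR_hd, hG_eq_tor stdG2.good hr] at hg
    have hd1 : xx r s ∈ chevG2.diagonalSubgroup F := by
      rw [diagonalSubgroup_eq stdG2.good, eq_inv_of_mul_eq_one_right hg]
      exact inv_mem ⟨_, rfl⟩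
    have hs : xx r s = 1 := Subgroup.mem_bot.1 ((posUnipotent_inf_diagonal stdG2).le
      (Subgroup.mem_inf.2 ⟨xG_mem_posUnipotent stdG2.good hp s, hd1⟩))
    rw [hs, mul_one, ← hG_eq_tor stdG2.good hr, ← phiR_hd hr] at hg
    rw [ht u hg, xG_eq_one stdG2 hr hs, map_one, one_mul]
    exact Subtype.ext (by ext i j; fin_cases i <;> fin_cases j <;> simp)
  · exfalso
    set g' := up (-(g 0 0) / g 1 0) * g * (up (-(g 0 0) / g 1 0) : SL(2, F))⁻¹ with hg'
    have hk : phiR r hr g' = 1 := by simp [g', hg]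
    have h00 : g' 0 0 = 0 := by
      simp [g', SpecialLinearGroup.coe_mul, Matrix.mul_apply, Fin.sum_univ_two,
        SpecialLinearGroup.coe_inv, Matrix.adjugate_fin_two, Matrix.vecMul, dotProduct]
      field_simp
      ring
    have e : g' * up 1 * g'⁻¹ = dn (-(g' 1 0) ^ 2) := by
      have hd' := CfsgLib.Steinberg.R1Data.det_eq g'
      rw [h00, zero_mul, zero_sub] at hd'
      rw [mul_inv_eq_iff_eq_mul]
      refine Subtype.ext ?_
      ext i j
      fin_cases i <;> fin_cases j <;>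
        simp [SpecialLinearGroup.coe_mul, Matrix.mul_apply, Fin.sum_univ_two, h00]
      linear_combination -(g' 1 0) * hd'
    have h := congrArg (phiR r hr) e
    rw [map_mul, map_mul, map_inv, hk, one_mul, inv_one, mul_one, phiR_up, phiR_dn] at h
    exact hne (xG_inj_root stdG2.good hr (stdG2.good.neg_lt r hr) one_ne_zero h).symm

lemma phi8_inj : Function.Injective (phi8 (F := F)) :=
  phiR_inj lt8 (by decide +kernel) (fun u hu => by
    have h : TT u (u ^ 3) = TT 1 1 := by rw [TT_one]; exact (phi8_hd u).symm.trans hu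
    exact (TT_inj h).1) (by decide +kernel)

lemma phi10_inj : Function.Injective (phi10 (F := F)) :=
  phiR_inj lt10 (by decide +kernel) (fun u hu => by
    have h : TT u u = TT 1 1 := by rw [TT_one]; exact (phi10_hd u).symm.trans hu
    exact (TT_inj h).1) (by decide +kernel)

section odd

variable (h2 : (2 : F) ≠ 0)
include h2

lemma z_ne_one : (z : GL chevG2.Idx F) ≠ 1 := fun h => m1_ne_one h2
  (phi8_inj (by rw [phi8_m1, h, map_one]))

lemma Phi_eq_one {a b : SL(2, F)} (h : Phi (a, b) = 1) :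
    (a = 1 ∧ b = 1) ∨ (a = m1 ∧ b = m1) := by
  rw [Phi_apply] at h
  have h8 : ∀ g, a * g * a⁻¹ = g := fun g => phi8_inj (by
    rw [map_mul, map_mul, map_inv, eq_inv_of_mul_eq_one_left h, inv_inv,
      (phi_comm g b).symm.inv_left.eq, mul_assoc, inv_mul_cancel, mul_one])
  rcases eq_one_or_m1 (h8 _) (h8 _) with rfl | rfl
  · rw [map_one, one_mul] at h
    exact Or.inl ⟨rfl, phi10_inj (h.trans (map_one _).symm)⟩
  · refine Or.inr ⟨rfl, phi10_inj ?_⟩
    rw [phi8_m1, ← phi10_m1] at h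
    rw [eq_inv_of_mul_eq_one_right h, ← map_inv, inv_eq_of_mul_eq_one_right m1_sq]

lemma Phi_eq_iff {a b a' b' : SL(2, F)} (h : Phi (a, b) = Phi (a', b')) :
    (a = a' ∧ b = b') ∨ (a = a' * m1 ∧ b = b' * m1) := by
  have := Phi_eq_one h2 (a := a'⁻¹ * a) (b := b'⁻¹ * b) (by
    rw [← Phi_mul, ← Phi_inv, h, inv_mul_cancel])
  rcases this with ⟨e, e'⟩ | ⟨e, e'⟩
  · exact Or.inl ⟨(inv_mul_eq_one.1 e).symm, (inv_mul_eq_one.1 e').symm⟩
  · exact Or.inr ⟨by rw [← e, mul_inv_cancel_left], by rw [← e', mul_inv_cancel_left]⟩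

omit h2 in
lemma exists_hd_of_Phi_eq_TT {a b : SL(2, F)} {x y : Fˣ} (h : Phi (a, b) = TT x y) :
    ∃ u v : Fˣ, u * v = x ∧ u ^ 3 * v = y := by
  have key : ∀ g g' : SL(2, F),
      Phi (a * g * a⁻¹, b * g' * b⁻¹) = Phi (dconj (y * x⁻¹) g, dconj (x ^ 3 * y⁻¹) g') := by
    intro g g'
    rw [← TT_conj_Phi, ← h, ← Phi_mul, ← Phi_mul, Phi_inv]
  have ka : ∀ g : SL(2, F), a * g * a⁻¹ = dconj (y * x⁻¹) g := fun g => phi8_inj (by
    simpa [Phi_apply] using key g 1)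
  have kb : ∀ g : SL(2, F), b * g * b⁻¹ = dconj (x ^ 3 * y⁻¹) g := fun g => phi10_inj (by
    simpa [Phi_apply] using key 1 g)
  have tri : ∀ (w : SL(2, F)) (k : Fˣ), (∀ g, w * g * w⁻¹ = dconj k g) → ∃ u, w = hd u := by
    intro w k hw
    have hc := offdiag_zero_of_conj ((hw (up 1)).trans (dconj_up k 1))
    have hb := offdiag_zero_of_conj' ((hw (dn 1)).trans (dconj_dn k 1))
    obtain ⟨u, s, rfl⟩ := eq_hd_mul_up hc
    refine ⟨u, ?_⟩
    have hs : (u : F) * s = 0 := by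
      simpa [SpecialLinearGroup.coe_mul, Matrix.mul_apply, Fin.sum_univ_two] using hb
    rw [(mul_eq_zero.1 hs).resolve_left u.ne_zero]
    exact Subtype.ext (by
      ext i j
      fin_cases i <;> fin_cases j <;>
        simp [SpecialLinearGroup.coe_mul, Matrix.mul_apply, Fin.sum_univ_two])
  obtain ⟨u, rfl⟩ := tri a _ ka
  obtain ⟨v, rfl⟩ := tri b _ kb
  rw [Phi_hd] at h
  exact ⟨u, v, TT_inj h⟩

omit h2 in
lemma TT_mem_range_iff (x y : Fˣ) :
    TT x y ∈ (Phi (F := F)).range ↔ IsSquare (y * x⁻¹) := by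
  constructor
  · rintro ⟨⟨a, b⟩, h⟩
    obtain ⟨u, v, rfl, rfl⟩ := exists_hd_of_Phi_eq_TT h
    exact ⟨u, by rw [mul_inv_eq_iff_eq_mul, pow_succ, pow_two]; ac_rfl⟩
  · rintro ⟨u, hu⟩
    refine ⟨(hd u, hd (x * u⁻¹)), ?_⟩
    rw [Phi_hd, mul_comm x, mul_inv_cancel_left]
    congr 1
    rw [mul_inv_eq_iff_eq_mul] at hu
    rw [hu, pow_succ, pow_two, mul_assoc, mul_inv_cancel_left]

end odd

end CfsgLib.FgsC.G2Invol
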