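/-
The centraliser of the central involution of `SL₂(q) ∘ SL₂(q)` in `G₂(q)`, `q` odd.
-/
import Cfsg.Agent.Lib.FgsC.G2InvolBasic
import Cfsg.Agent.Lib.Chev.Data.WeylCheckG2
import Cfsg.Agent.Lib.Classical.Order

set_option autoImplicit false
set_option maxRecDepth 100000

namespace CfsgLib.FgsC.G2Invol

open Cfsg.Lie Matrix CfsgLib.Chev
open CfsgLib.Steinberg.R1Data (up dn wS)
open scoped MatrixGroups

variable {F : Type*} [Field F]

lemma posRoots_eq : chevG2.posRoots = [6, 7, 8, 9, 10, 11] := by decide +kernel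

lemma tor_conj_UP (c : Fin chevG2.rank → Fˣ) {P : ℕ → Prop} (hP : ∀ r, P r → r < chevG2.nroots)
    {w : GL chevG2.Idx F} (hw : w ∈ UP F stdG2.good P) :
    tor chevG2 auxG2 c * w * (tor chevG2 auxG2 c)⁻¹ ∈ UP F stdG2.good P :=
  conj_UP_le (acts_tor stdG2.good c) hP (fun _ t hr => xG_mem_UP stdG2.good hr t) hw

section odd

variable (h2 : (2 : F) ≠ 0)
include h2

lemma zfix_pos {v : GL chevG2.Idx F} (hv : v ∈ chevG2.posUnipotent F) (hz : z * v * z⁻¹ = v) :
    v ∈ (Phi (F := F)).range := by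
  rw [← UL_posRoots stdG2.good] at hv
  obtain ⟨T, rfl⟩ := exists_pw stdG2 upList_posRoots hv
  set c : Fin chevG2.rank → Fˣ := tv (-1) (-1) with hc
  have hmap : ∀ L : List ℕ, (∀ r ∈ L, r < chevG2.nroots) →
      z * pw stdG2.good L T * z⁻¹ =
        pw stdG2.good L fun r => (chi chevG2 auxG2 c r : F) * T r := by
    intro L
    induction L with
    | nil => intro _; simp [pw]
    | cons r L ih =>
      intro hL
      have h1 := ih fun s hs => hL s (List.mem_cons_of_mem _ hs)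
      simp only [pw, List.map_cons, List.prod_cons] at h1 ⊢
      rw [← h1, ← tor_conj_xG stdG2.good c (hL r (by simp))]
      rw [z, TT, ← hc]
      group
  rw [hmap _ fun r hr => (posRoots_mem.1 hr).1] at hz
  have hT := pw_inj stdG2 upList_posRoots hz
  have h0 : ∀ r ∈ [6, 7, 9, 11], T r = 0 := by
    intro r hr
    have hr' : r ∈ chevG2.posRoots ∧ r ∉ evenRoots ∧ r < chevG2.nroots := by
      revert r; decide +kernel
    have := hT r hr'.1
    rw [hc, chi_z hr'.2.2, if_neg hr'.2.1, Units.val_neg, Units.val_one] at this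
    have : (2 : F) * T r = 0 := by linear_combination -this
    exact (mul_eq_zero.1 this).resolve_left h2
  refine ⟨(up (T 8), up (T 10)), ?_⟩
  rw [Phi_apply, phi8, phi10, phiR_up, phiR_up, posRoots_eq]
  simp [pw, h0 6 (by simp), h0 7 (by simp), h0 9 (by simp), h0 11 (by simp), xG_zero]

omit h2 in
lemma word_facts : ∀ w ∈ NF weylG2 2,
    (wf auxG2 w 8 ∈ evenRoots → wf auxG2 w 8 = 8 ∨ wf auxG2 w 8 = 3) ∧
    (wf auxG2 w 10 ∈ evenRoots → wf auxG2 w 10 = 10 ∨ wf auxG2 w 10 = 1) ∧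
    (wf auxG2 w 8 = 8 → wf auxG2 w 10 = 10 → ∀ r < 12, wf auxG2 w r = r) ∧
    (wf auxG2 w 8 = 3 → wf auxG2 w 10 = 1 → ∀ r < 12, wf auxG2 w r = auxG2.neg r) := by
  decide +kernel

omit h2 in
lemma acts_facts {n : GL chevG2.Idx F} (hn : n ∈ chevG2.monomialSubgroup F) {σ : ℕ → ℕ}
    (hσ : Acts stdG2.good n σ) :
    (σ 8 ∈ evenRoots → σ 8 = 8 ∨ σ 8 = 3) ∧
    (σ 10 ∈ evenRoots → σ 10 = 10 ∨ σ 10 = 1) ∧
    (σ 8 = 8 → σ 10 = 10 → ∀ r < 12, σ r = r) ∧
    (σ 8 = 3 → σ 10 = 1 → ∀ r < 12, σ r = auxG2.neg r) := by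
  obtain ⟨w, hw, c, rfl⟩ := monomial_exists_word stdG2.good hn
  obtain ⟨w', hw', hs⟩ := exists_NF stdG2.good weylOKG2 hw
  have e : ∀ r < 12, σ r = wf auxG2 w' r := fun r hr => by
    rw [hσ.unique ((acts_tor stdG2.good c).mul (nW_acts stdG2.good hw)) hr]
    exact hs r hr
  obtain ⟨f1, f2, f3, f4⟩ := word_facts w' hw'
  rw [e 8 (by norm_num), e 10 (by norm_num)]
  refine ⟨f1, f2, fun a b r hr => ?_, fun a b r hr => ?_⟩
  · rw [e r hr]; exact f3 a b r hr
  · rw [e r hr]; exact f4 a b r hr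

omit h2 in
lemma mono_diag_of_fix {n : GL chevG2.Idx F} (hn : n ∈ chevG2.monomialSubgroup F)
    {σ : ℕ → ℕ} (hσ : Acts stdG2.good n σ) (h8 : σ 8 = 8) (h10 : σ 10 = 10) :
    ∃ x y, n = TT x y := by
  have := mem_diag_of_id stdG2 hn hσ ((acts_facts hn hσ).2.2.1 h8 h10)
  rw [diagonalSubgroup_eq stdG2.good] at this
  obtain ⟨c, rfl⟩ := this
  exact exists_TT c

omit h2 in
lemma phiR_wS_mem_monomial {r : ℕ} (hr : r < chevG2.nroots) :
    phiR r hr (wS : SL(2, F)) ∈ chevG2.monomialSubgroup F := by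
  rw [phiR_wS]
  exact (le_sup_right : _ ≤ chevG2.monomialSubgroup F)
    (Subgroup.subset_closure ⟨r, hr, nG_val stdG2.good _ _⟩)

lemma monomial_comm_z {n : GL chevG2.Idx F} (hn : n ∈ chevG2.monomialSubgroup F)
    (hz : Commute n z) : n ∈ C0 F := by
  obtain ⟨σ, hσ⟩ := exists_acts stdG2.good hn
  have heven : ∀ r < chevG2.nroots, r ∈ evenRoots → σ r ∈ evenRoots := by
    intro r hr he
    obtain ⟨k, hk, e⟩ := hσ.conj r hr
    by_contra hne
    have hz1 : z * xx r 1 * z⁻¹ = (xx r 1 : GL chevG2.Idx F) := by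
      rw [z, TT, tor_conj_xG stdG2.good _ hr, chi_z hr, if_pos he, Units.val_one, one_mul]
    have h1 : z * xx (σ r) k * z⁻¹ = xx (σ r) k := by
      have h : n * xx r 1 * n⁻¹ = xx (σ r) k := by
        have h := e 1
        rwa [mul_one] at h
      rw [← h, show z * (n * xx r 1 * n⁻¹) * z⁻¹ = (z * n) * xx r 1 * (z * n)⁻¹ by group,
        ← hz.eq, show n * z * xx r 1 * (n * z)⁻¹ = n * (z * xx r 1 * z⁻¹) * n⁻¹ by group, hz1]
    rw [z, TT, tor_conj_xG stdG2.good _ (hσ.map.1 r hr), chi_z (hσ.map.1 r hr), if_neg hne,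
      Units.val_neg, Units.val_one, neg_one_mul, ← xG_inv, inv_eq_iff_mul_eq_one, xG_add] at h1
    have := xG_eq_one stdG2 (hσ.map.1 r hr) h1
    rw [← two_mul] at this
    exact hk ((mul_eq_zero.1 this).resolve_left h2)
  obtain ⟨f8, f10, -, -⟩ := acts_facts hn hσ
  have H8 := f8 (heven 8 lt8 (by simp [evenRoots]))
  have H10 := f10 (heven 10 lt10 (by simp [evenRoots]))
  have fix8 : ∃ a : SL(2, F), phi8 a ∈ chevG2.monomialSubgroup F ∧
      ∀ t, ∃ t', phi8 a * xx (σ 8) t * (phi8 a)⁻¹ = xx 8 t' := by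
    rcases H8 with h | h
    · exact ⟨1, by rw [map_one]; exact one_mem _, fun t => ⟨t, by simp [h]⟩⟩
    · refine ⟨wS, phiR_wS_mem_monomial lt8, fun t => ⟨-t, ?_⟩⟩
      rw [h, ← neg8, phi8, ← phiR_dn lt8, ← phiR_up lt8, ← map_inv, ← map_mul, ← map_mul,
        wS_conj_dn]
  have fix10 : ∃ b : SL(2, F), phi10 b ∈ chevG2.monomialSubgroup F ∧
      ∀ t, ∃ t', phi10 b * xx (σ 10) t * (phi10 b)⁻¹ = xx 10 t' := by
    rcases H10 with h | h
    · exact ⟨1, by rw [map_one]; exact one_mem _, fun t => ⟨t, by simp [h]⟩⟩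
    · refine ⟨wS, phiR_wS_mem_monomial lt10, fun t => ⟨-t, ?_⟩⟩
      rw [h, ← neg10, phi10, ← phiR_dn lt10, ← phiR_up lt10, ← map_inv, ← map_mul, ← map_mul,
        wS_conj_dn]
  obtain ⟨a, ha, ca⟩ := fix8
  obtain ⟨b, hb, cb⟩ := fix10
  set n' := Phi (a, b) * n with hn'
  have hm : n' ∈ chevG2.monomialSubgroup F := mul_mem (mul_mem ha hb) hn
  obtain ⟨τ, hτ⟩ := exists_acts stdG2.good hm
  have t8 : τ 8 = 8 := by
    obtain ⟨k, -, e⟩ := hσ.conj 8 lt8
    obtain ⟨k', hk', e'⟩ := hτ.conj 8 lt8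
    obtain ⟨t', ht'⟩ := ca (k * 1)
    refine xG_inj_root stdG2.good (hτ.map.1 8 lt8) lt8 (t := k' * 1) (u := t') (by simpa using hk') ?_
    have hc : ∀ s, phi10 b * xx 8 s * (phi10 b)⁻¹ = xx 8 s := fun s => by
      have := (phi_comm (up s) b).symm.eq
      rw [phi8, phiR_up] at this
      rw [this, mul_inv_cancel_right]
    rw [← e', hn', Phi_apply,
      show ∀ p q m x : GL chevG2.Idx F, p * q * m * x * (p * q * m)⁻¹ =
        p * q * (m * x * m⁻¹) * q⁻¹ * p⁻¹ by intros; group, e]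
    rw [show ∀ p q x : GL chevG2.Idx F, p * q * x * q⁻¹ * p⁻¹ = (p * q) * x * (p * q)⁻¹ by
      intros; group, (phi_comm a b).eq,
      show ∀ p q x : GL chevG2.Idx F, (q * p) * x * (q * p)⁻¹ = q * (p * x * p⁻¹) * q⁻¹ by
      intros; group, ht', hc]
  have t10 : τ 10 = 10 := by
    obtain ⟨k, -, e⟩ := hσ.conj 10 lt10
    obtain ⟨k', hk', e'⟩ := hτ.conj 10 lt10
    obtain ⟨t', ht'⟩ := cb (k * 1)
    refine xG_inj_root stdG2.good (hτ.map.1 10 lt10) lt10 (t := k' * 1) (u := t')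
      (by simpa using hk') ?_
    have hc : ∀ s, phi8 a * xx 10 s * (phi8 a)⁻¹ = xx 10 s := fun s => by
      have := (phi_comm a (up s)).eq
      rw [phi10, phiR_up] at this
      rw [this, mul_inv_cancel_right]
    rw [← e', hn', Phi_apply,
      show ∀ p q m x : GL chevG2.Idx F, p * q * m * x * (p * q * m)⁻¹ =
        p * (q * (m * x * m⁻¹) * q⁻¹) * p⁻¹ by intros; group, e, ht', hc]
  obtain ⟨x, y, hxy⟩ := mono_diag_of_fix hm hτ t8 t10
  have : n = (Phi (a, b))⁻¹ * TT x y := by rw [← hxy, hn', inv_mul_cancel_left]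
  rw [this]
  exact mul_mem (inv_mem (Phi_mem_C0 a b)) (TT_mem_C0 x y)

theorem mem_C0_of_comm {w : GL chevG2.Idx F} (hw : w ∈ chevG2.group F) (hz : Commute w z) :
    w ∈ C0 F := by
  obtain ⟨b, hb, n, hn, σ, hσ, u, hu, rfl⟩ := normal_form_exists stdG2 hw
  set c : Fin chevG2.rank → Fˣ := tv (-1) (-1) with hc
  have zc : z = tor chevG2 auxG2 c := rfl
  obtain ⟨v, hv, d, rfl⟩ := (mem_borel_iff stdG2.good).1 hb
  obtain ⟨e, he⟩ := monomial_conj_tor stdG2.good hn c⁻¹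
  rw [map_inv] at he
  have hzu : z * u * z⁻¹ ∈ UP F stdG2.good (toNeg chevG2 σ) := by
    rw [zc]; exact tor_conj_UP c (fun _ h => h.1.1) hu
  have hzv : z * v * z⁻¹ ∈ chevG2.posUnipotent F := by
    rw [zc]; exact tor_conj_posUnipotent stdG2.good c hv
  set v' := z * v * z⁻¹ with hv'
  set u' := z * u * z⁻¹ with hu'
  have hb' : v' * tor chevG2 auxG2 (d * c * e) ∈ chevG2.borelSubgroup F :=
    (mem_borel_iff stdG2.good).2 ⟨v', hzv, _, rfl⟩
  have heq : v * tor chevG2 auxG2 d * n * u = v' * tor chevG2 auxG2 (d * c * e) * n * u' := by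
    have hq : z * (v * tor chevG2 auxG2 d * n * u) * z⁻¹ = v * tor chevG2 auxG2 d * n * u := by
      rw [← hz.eq, mul_inv_cancel_right]
    conv_lhs => rw [← hq]
    rw [map_mul, map_mul, ← he, ← zc, hv', hu', zc, tor_mul_comm d c]
    group
  obtain ⟨hbe, hue⟩ := normal_form_unique stdG2 hσ hb hb' hu hzu heq
  have hvv : v = v' := by
    have hd : v'⁻¹ * v = tor chevG2 auxG2 (d * c * e) * (tor chevG2 auxG2 d)⁻¹ := by
      rw [eq_mul_inv_iff_mul_eq, mul_assoc, hbe, inv_mul_cancel_left]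
    have hdg : v'⁻¹ * v ∈ chevG2.diagonalSubgroup F := by
      rw [hd, diagonalSubgroup_eq stdG2.good]
      exact mul_mem ⟨_, rfl⟩ (inv_mem ⟨_, rfl⟩)
    exact (inv_mul_eq_one.1 (Subgroup.mem_bot.1 ((posUnipotent_inf_diagonal stdG2).le
      (Subgroup.mem_inf.2 ⟨mul_mem (inv_mem hzv) hv, hdg⟩)))).symm
  rw [← hvv, mul_right_inj] at hbe
  have hce : c * e = 1 := by
    have h := tor_inj hbe
    exact mul_left_cancel (a := d) (by rw [← mul_assoc, ← h, mul_one])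
  have hzn : Commute n z := by
    have h : tor chevG2 auxG2 e = z⁻¹ := by
      rw [zc, ← map_inv, inv_eq_of_mul_eq_one_right hce]
    rw [h, ← zc, mul_inv_eq_iff_eq_mul] at he
    have : Commute n z⁻¹ := he
    simpa using this.inv_right
  exact mul_mem (mul_mem (mul_mem (range_le_C0 (zfix_pos h2 hv hvv.symm))
    (by obtain ⟨x, y, hxy⟩ := exists_TT d; rw [hxy]; exact TT_mem_C0 x y))
    (monomial_comm_z h2 hn hzn))
    (range_le_C0 (zfix_pos h2 (UP_toNeg_le stdG2.good σ hu) hue.symm))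

end odd

end CfsgLib.FgsC.G2Invol
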