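/-
`G₂(q)`, `q` odd, has one class of involutions.
-/
import Cfsg.Agent.Lib.FgsC.G2InvolCent

set_option autoImplicit false
set_option maxRecDepth 100000

namespace CfsgLib.FgsC.G2Invol

open Cfsg.Lie Matrix CfsgLib.Chev
open CfsgLib.Steinberg.R1Data (up dn wS)
open scoped MatrixGroups

variable {F : Type*} [Field F]

/-- conjugate within the group -/
def Cj (w w' : GL chevG2.Idx F) : Prop := ∃ g ∈ chevG2.group F, g * w * g⁻¹ = w'

lemma Cj.refl (w : GL chevG2.Idx F) : Cj w w := ⟨1, one_mem _, by group⟩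

lemma Cj.symm {w w' : GL chevG2.Idx F} (h : Cj w w') : Cj w' w := by
  obtain ⟨g, hg, rfl⟩ := h
  exact ⟨g⁻¹, inv_mem hg, by group⟩

lemma Cj.trans {w w' w'' : GL chevG2.Idx F} (h : Cj w w') (h' : Cj w' w'') : Cj w w'' := by
  obtain ⟨g, hg, rfl⟩ := h
  obtain ⟨g', hg', rfl⟩ := h'
  exact ⟨g' * g, mul_mem hg' hg, by group⟩

/-- the standard involution outside the centre -/
noncomputable def n0 : GL chevG2.Idx F := Phi ((wS : SL(2, F)), (wS : SL(2, F)))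

lemma n0_mem_C0 : (n0 : GL chevG2.Idx F) ∈ C0 F := Phi_mem_C0 _ _

lemma n0_mem_monomial : (n0 : GL chevG2.Idx F) ∈ chevG2.monomialSubgroup F :=
  mul_mem (phiR_wS_mem_monomial lt8) (phiR_wS_mem_monomial lt10)

lemma n0_sq : (n0 : GL chevG2.Idx F) * n0 = 1 := by
  rw [n0, Phi_mul, wS_sq, Phi_apply, phi8_m1, phi10_m1, z_sq]

lemma TT_sq (ν : Fˣ) : TT 1 ν * TT 1 ν = Phi (hd ν, hd ν⁻¹) := by
  rw [TT_mul, Phi_hd, mul_inv_cancel, one_mul, pow_succ, pow_two, mul_inv_cancel_right]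

lemma TT_nu_conj (ν : Fˣ) (a b : SL(2, F)) :
    TT 1 ν * Phi (a, b) = Phi (dconj ν a, dconj ν⁻¹ b) * TT 1 ν := by
  rw [← mul_inv_eq_iff_eq_mul, TT_conj_Phi, inv_one, mul_one, one_pow, one_mul]

section finite

variable [Finite F] (h2 : (2 : F) ≠ 0)
include h2

lemma exists_nonsquare : ∃ ν : Fˣ, ¬ IsSquare (ν : F) := by
  obtain ⟨a, ha⟩ := FiniteField.exists_nonsquare (F := F) (fun e => h2 (by
    have := ringChar.Nat.cast_ringChar (R := F)
    rw [e] at this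
    exact_mod_cast this))
  exact ⟨Units.mk0 a (fun h0 => ha (h0 ▸ IsSquare.zero)), ha⟩

omit [Finite F] h2 in
lemma isSquare_units {a : Fˣ} : IsSquare a ↔ IsSquare (a : F) := by
  constructor
  · rintro ⟨b, rfl⟩
    exact ⟨b, rfl⟩
  · rintro ⟨b, hb⟩
    have h0 : b ≠ 0 := fun h0 => a.ne_zero (by rw [hb, h0, mul_zero])
    exact ⟨Units.mk0 b h0, Units.ext hb⟩

lemma isSquare_div {a b : Fˣ} (ha : ¬ IsSquare a) (hb : ¬ IsSquare b) : IsSquare (a * b⁻¹) := by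
  haveI := Fintype.ofFinite F
  classical
  have hc : ringChar F ≠ 2 := fun e => h2 (by
    have := ringChar.Nat.cast_ringChar (R := F)
    rw [e] at this
    exact_mod_cast this)
  have hb' : ¬ IsSquare b⁻¹ := by rwa [isSquare_inv]
  rw [isSquare_units] at ha hb' ⊢
  rw [Units.val_mul, ← quadraticChar_one_iff_isSquare (mul_ne_zero a.ne_zero (b⁻¹).ne_zero), map_mul,
    (quadraticChar_neg_one_iff_not_isSquare).2 ha, (quadraticChar_neg_one_iff_not_isSquare).2 hb']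
  norm_num

variable {ν : Fˣ} (hν : ¬ IsSquare (ν : F))
include hν

omit [Finite F] h2 in
lemma TT_nu_notMem : TT 1 ν ∉ (Phi (F := F)).range := fun h => hν (by
  have := (TT_mem_range_iff 1 ν).1 h
  rw [inv_one, mul_one] at this
  exact isSquare_units.1 this)

lemma C0_split {w : GL chevG2.Idx F} (hw : w ∈ C0 F) :
    w ∈ (Phi (F := F)).range ∨ w * (TT 1 ν)⁻¹ ∈ (Phi (F := F)).range := by
  obtain ⟨a, b, x, y, rfl⟩ := hw
  by_cases hs : IsSquare (y * x⁻¹)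
  · exact Or.inl (mul_mem ⟨_, rfl⟩ ((TT_mem_range_iff x y).2 hs))
  · refine Or.inr ?_
    rw [mul_assoc, TT_inv, inv_one, TT_mul, mul_one]
    refine mul_mem ⟨_, rfl⟩ ((TT_mem_range_iff _ _).2 ?_)
    rw [mul_right_comm]
    exact isSquare_div h2 hs fun h => hν (isSquare_units.1 h)

lemma exists_form {w : GL chevG2.Idx F} (hw : w ∈ C0 F) (hn : w ∉ (Phi (F := F)).range) :
    ∃ a b, w = Phi (a, b) * TT 1 ν := by
  obtain ⟨⟨a, b⟩, e⟩ := (C0_split h2 hν hw).resolve_left hn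
  exact ⟨a, b, by rw [e, inv_mul_cancel_right]⟩

omit hν in
lemma class_inner {w : GL chevG2.Idx F} (hw : w ∈ (Phi (F := F)).range) (h1 : w ≠ 1)
    (hz : w ≠ z) (hsq : w * w = 1) : Cj n0 w := by
  obtain ⟨⟨a, b⟩, rfl⟩ := hw
  rw [Phi_mul] at hsq
  rcases Phi_eq_one h2 hsq with ⟨ea, eb⟩ | ⟨ea, eb⟩
  · exfalso
    rcases sq_eq_one h2 ea with rfl | rfl <;> rcases sq_eq_one h2 eb with rfl | rfl
    · exact h1 (map_one Phi)
    · exact hz (by rw [Phi_apply, map_one, one_mul, phi10_m1])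
    · exact hz (by rw [Phi_apply, map_one, mul_one, phi8_m1])
    · exact h1 (by rw [Phi_apply, phi8_m1, phi10_m1, z_sq])
  · obtain ⟨g, hg⟩ := exists_twist_conj h2 (k := 1) (trace_of_sq h2 ea)
    obtain ⟨h, hh⟩ := exists_twist_conj h2 (k := 1) (trace_of_sq h2 eb)
    rw [dconj_one] at hg hh
    refine ⟨Phi (g, h), C0_le_group (Phi_mem_C0 _ _), ?_⟩
    rw [n0, Phi_mul, Phi_inv, Phi_mul, ← hg, ← hh]

lemma class_outer {w : GL chevG2.Idx F} (hw : w ∈ C0 F) (hn : w ∉ (Phi (F := F)).range)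
    (hsq : w * w = 1) : Cj (n0 * TT 1 ν) w := by
  obtain ⟨a, b, rfl⟩ := exists_form h2 hν hw hn
  have e : Phi (a, b) * TT 1 ν * (Phi (a, b) * TT 1 ν) =
      Phi (a * dconj ν a * hd ν, b * dconj ν⁻¹ b * hd ν⁻¹) := by
    rw [mul_assoc, ← mul_assoc (TT 1 ν), TT_nu_conj, mul_assoc, TT_sq, ← mul_assoc, Phi_mul,
      Phi_mul]
  rw [e] at hsq
  have hν' : ¬ IsSquare ((ν⁻¹ : Fˣ) : F) := by
    rwa [Units.val_inv_eq_inv_val, isSquare_inv]
  have ha : a * dconj ν a * hd ν = 1 ∨ a * dconj ν a * hd ν = m1 :=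
    (Phi_eq_one h2 hsq).imp (fun h => h.1) (fun h => h.1)
  have hb : b * dconj ν⁻¹ b * hd ν⁻¹ = 1 ∨ b * dconj ν⁻¹ b * hd ν⁻¹ = m1 :=
    (Phi_eq_one h2 hsq).imp (fun h => h.2) (fun h => h.2)
  obtain ⟨g, hg⟩ := exists_twist_conj h2 (outer_trace h2 hν ha).2
  obtain ⟨h, hh⟩ := exists_twist_conj h2 (outer_trace h2 hν' hb).2
  refine ⟨Phi (g, h), C0_le_group (Phi_mem_C0 _ _), ?_⟩
  rw [Phi_inv, n0, mul_assoc, mul_assoc, TT_nu_conj, ← mul_assoc, ← mul_assoc, Phi_mul, Phi_mul,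
    ← hg, ← hh]

lemma class_of_C0 {w : GL chevG2.Idx F} (hw : w ∈ C0 F) (h1 : w ≠ 1) (hz : w ≠ z)
    (hsq : w * w = 1) : Cj n0 w ∨ Cj (n0 * TT 1 ν) w := by
  by_cases h : w ∈ (Phi (F := F)).range
  · exact Or.inl (class_inner h2 h h1 hz hsq)
  · exact Or.inr (class_outer h2 hν hw h hsq)

omit [Finite F] h2 hν in
lemma n0_inv_TT (x y : Fˣ) : n0 * TT x y = (TT x y)⁻¹ * n0 := by
  have e : TT x y * n0 * (TT x y)⁻¹ = TT x y * TT x y * n0 := by
    rw [n0, TT_conj_Phi, dconj_wS, dconj_wS, ← Phi_mul, Phi_hd, TT_mul]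
    congr 2 <;>
    · ext
      push_cast
      field_simp
  have e2 : n0 * (TT x y)⁻¹ = TT x y * n0 := by
    apply mul_left_cancel (a := TT x y)
    rw [← mul_assoc, e, mul_assoc]
  calc n0 * TT x y = (TT x y)⁻¹ * (TT x y * n0) * TT x y := by group
    _ = _ := by rw [← e2]; group

omit [Finite F] h2 hν in
lemma n0_TT_sq (x y : Fˣ) : n0 * TT x y * (n0 * TT x y) = 1 := by
  calc n0 * TT x y * (n0 * TT x y) = n0 * TT x y * ((TT x y)⁻¹ * n0) := by rw [← n0_inv_TT]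
    _ = n0 * n0 := by group
    _ = 1 := n0_sq

/-- the Weyl element of the short simple root -/
noncomputable def gW : GL chevG2.Idx F := nS F stdG2.good 0

omit [Finite F] h2 hν in
lemma gW_conj_TT (x y : Fˣ) : gW * TT x y * gW⁻¹ = TT (y * x⁻¹) y := by
  have h0 : (0 : ℕ) < chevG2.rank := by decide +kernel
  rw [TT, gW, nS_conj_tor stdG2.good h0, TT]
  congr 1
  refine funext fun (k : Fin 2) => ?_
  have hs : chevG2.simple 0 = 7 := by decide +kernel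
  have e : (∏ j, tv x y j ^ (-auxG2.cart j.val (chevG2.simple 0))) = x ^ (-2 : ℤ) * y := by
    show ∏ j : Fin 2, (![x, y] : Fin 2 → Fˣ) j ^ (-auxG2.cart j.val (chevG2.simple 0)) = _
    rw [Fin.prod_univ_two, hs]
    show x ^ (-auxG2.cart 0 7) * y ^ (-auxG2.cart 1 7) = _
    rw [show auxG2.cart 0 7 = 2 by decide +kernel, show auxG2.cart 1 7 = -1 by decide +kernel,
      neg_neg, zpow_one]
  rw [e]
  fin_cases k
  · show x * Pi.mulSingle (M := fun _ : Fin chevG2.rank => Fˣ) ⟨0, h0⟩ _ ⟨0, h0⟩ = y * x⁻¹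
    rw [Pi.mulSingle_eq_same]
    ext
    push_cast
    field_simp
  · show y * Pi.mulSingle (M := fun _ : Fin chevG2.rank => Fˣ) ⟨0, h0⟩ _ ⟨1, by decide +kernel⟩ = y
    rw [Pi.mulSingle_eq_of_ne (by simp [Fin.ext_iff]), mul_one]

omit [Finite F] h2 hν in
lemma n0_conj_eight (t : F) : n0 * xx 8 t * n0⁻¹ = xx 3 (-t) := by
  have e : Phi ((wS : SL(2, F)), (wS : SL(2, F))) * Phi (up t, 1) *
      (Phi ((wS : SL(2, F)), (wS : SL(2, F))))⁻¹ = Phi (dn (-t), 1) := by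
    rw [Phi_mul, Phi_inv, Phi_mul, mul_one, mul_inv_cancel, wS_conj_up]
  simpa [n0, Phi_apply, phi8, phiR_up, phiR_dn, neg8] using e

omit [Finite F] h2 hν in
lemma gW_conj_n0 : ∃ x y : Fˣ, gW * n0 * gW⁻¹ = n0 * TT x y := by
  have h0 : (0 : ℕ) < chevG2.rank := by decide +kernel
  have hgm : (gW : GL chevG2.Idx F) ∈ chevG2.monomialSubgroup F := nS_mem_monomial stdG2.good h0
  obtain ⟨σ, hσ⟩ := exists_acts stdG2.good (n0_mem_monomial (F := F))
  have hn8 := n0_conj_eight (F := F)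
  have hn10 : ∀ t : F, n0 * xx 10 t * n0⁻¹ = xx 1 (-t) := fun t => by
    have e : Phi ((wS : SL(2, F)), (wS : SL(2, F))) * Phi (1, up t) *
        (Phi ((wS : SL(2, F)), (wS : SL(2, F))))⁻¹ = Phi (1, dn (-t)) := by
      rw [Phi_mul, Phi_inv, Phi_mul, mul_one, mul_inv_cancel, wS_conj_up]
    simpa [n0, Phi_apply, phi10, phiR_up, phiR_dn, neg10] using e
  have s8 : σ 8 = 3 := by
    obtain ⟨k, hk, e⟩ := hσ.conj 8 lt8
    exact xG_inj_root stdG2.good (hσ.map.1 8 lt8) (by decide +kernel)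
      (mul_ne_zero hk one_ne_zero) ((e 1).symm.trans (hn8 1))
  have s10 : σ 10 = 1 := by
    obtain ⟨k, hk, e⟩ := hσ.conj 10 lt10
    exact xG_inj_root stdG2.good (hσ.map.1 10 lt10) (by decide +kernel)
      (mul_ne_zero hk one_ne_zero) ((e 1).symm.trans (hn10 1))
  have hneg := (acts_facts n0_mem_monomial hσ).2.2.2 s8 s10
  have hl := (acts_nS (F := F) stdG2.good h0).mul hσ
  have hr := hσ.mul (acts_nS (F := F) stdG2.good h0)
  have same : ∀ r < chevG2.nroots,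
      (auxG2.refl 0 ∘ σ) r = (σ ∘ auxG2.refl 0) r := by
    intro r hr'
    show auxG2.refl 0 (σ r) = σ (auxG2.refl 0 r)
    rw [hneg r hr', hneg _ (stdG2.good.refl_lt 0 h0 r hr'), stdG2.good.refl_neg 0 h0 r hr']
  have hm : (n0 * gW)⁻¹ * (gW * n0) ∈ chevG2.monomialSubgroup F :=
    mul_mem (inv_mem (mul_mem n0_mem_monomial hgm)) (mul_mem hgm n0_mem_monomial)
  obtain ⟨τ, hτ⟩ := exists_acts stdG2.good hm
  have hc := hr.mul hτ
  change Acts stdG2.good ((n0 * gW) * ((n0 * gW)⁻¹ * (gW * n0))) _ at hc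
  rw [mul_inv_cancel_left] at hc
  have hid : ∀ r < chevG2.nroots, τ r = r := by
    intro r hr'
    refine hr.inj (hτ.map.1 r hr') hr' ?_
    rw [← same r hr']
    exact hc.unique hl hr'
  obtain ⟨x, y, hxy⟩ := mono_diag_of_fix hm hτ (hid 8 lt8) (hid 10 lt10)
  refine ⟨y * x⁻¹, y, ?_⟩
  rw [← gW_conj_TT x y, ← hxy]
  group

lemma n0_TT_ne (x y : Fˣ) : n0 * TT x y ≠ 1 ∧ n0 * TT x y ≠ z := by
  have hn : ∀ p q : Fˣ, (n0 : GL chevG2.Idx F) ≠ TT p q := by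
    intro p q h
    have e := n0_conj_eight (F := F) 1
    rw [h, TT, tor_conj_xG stdG2.good _ lt8, mul_one] at e
    have := xG_inj_root stdG2.good lt8 (by decide +kernel) (Units.ne_zero _) e
    omega
  exact ⟨fun h => hn x⁻¹ y⁻¹ (by rw [← TT_inv]; exact eq_inv_of_mul_eq_one_left h),
    fun h => hn (-x⁻¹) (-y⁻¹) (by
      rw [eq_mul_inv_of_mul_eq h, TT_inv, z, TT_mul]; simp)⟩

omit [Finite F] h2 hν in
lemma n0_TT_mem_range_iff (x y : Fˣ) :
    n0 * TT x y ∈ (Phi (F := F)).range ↔ IsSquare (y * x⁻¹) :=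
  (Subgroup.mul_mem_cancel_left _ (show n0 ∈ (Phi (F := F)).range from ⟨_, rfl⟩)).trans
    (TT_mem_range_iff x y)

lemma n0_TT_class_sq {x y : Fˣ} (h : IsSquare (y * x⁻¹)) : Cj n0 (n0 * TT x y) :=
  class_inner h2 ((n0_TT_mem_range_iff x y).2 h) (n0_TT_ne h2 hν x y).1
    (n0_TT_ne h2 hν x y).2 (n0_TT_sq x y)

lemma n0_TT_class_nsq {x y : Fˣ} (h : ¬ IsSquare (y * x⁻¹)) :
    Cj (n0 * TT 1 ν) (n0 * TT x y) :=
  class_outer h2 hν (mul_mem n0_mem_C0 (TT_mem_C0 x y)) (fun hm => h ((n0_TT_mem_range_iff x y).1 hm))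
    (n0_TT_sq x y)

lemma n0_cj_outer : Cj n0 (n0 * TT 1 ν) := by
  obtain ⟨x, y, e⟩ := gW_conj_n0 (F := F)
  have hg : (gW : GL chevG2.Idx F) ∈ chevG2.group F := nG_mem_group stdG2.good _ _
  have img : ∀ q : Fˣ, gW * (n0 * TT 1 q) * gW⁻¹ = n0 * TT (x * q) (y * q) := by
    intro q
    calc gW * (n0 * TT 1 q) * gW⁻¹ = (gW * n0 * gW⁻¹) * (gW * TT 1 q * gW⁻¹) := by group
      _ = n0 * TT (x * q) (y * q) := by
        rw [e, gW_conj_TT, inv_one, mul_one, mul_assoc, TT_mul]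
  have src : Cj (n0 * TT 1 1) (n0 * TT (x * 1) (y * 1)) := ⟨gW, hg, img 1⟩
  have tgt : Cj (n0 * TT 1 ν) (n0 * TT (x * ν) (y * ν)) := ⟨gW, hg, img ν⟩
  rw [TT_one, mul_one] at src
  have same : y * ν * (x * ν)⁻¹ = y * 1 * (x * 1)⁻¹ := by
    ext
    push_cast
    field_simp
  by_cases hs : IsSquare (y * 1 * (x * 1)⁻¹)
  · exact (n0_TT_class_sq h2 hν (same ▸ hs)).trans tgt.symm
  · exact src.trans (n0_TT_class_nsq h2 hν hs).symm

lemma z_cj_n0 : Cj (z : GL chevG2.Idx F) n0 := by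
  have hg : (gW : GL chevG2.Idx F) ∈ chevG2.group F := nG_mem_group stdG2.good _ _
  have e : gW * z * gW⁻¹ = TT (1 : Fˣ) (-1) := by
    rw [z, gW_conj_TT]
    simp
  have h1 : TT (1 : Fˣ) (-1) ≠ 1 := fun h => h2 (by
    have := congrArg Units.val (TT_inj (h.trans TT_one.symm)).2
    simp at this
    linear_combination -this)
  have hz : TT (1 : Fˣ) (-1) ≠ z := fun h => h2 (by
    have := congrArg Units.val (TT_inj h).1
    simp at this
    linear_combination this)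
  have hsq : TT (1 : Fˣ) (-1) * TT 1 (-1) = 1 := by
    rw [TT_mul, mul_one, neg_mul_neg, mul_one, TT_one]
  refine Cj.trans ⟨gW, hg, e⟩ ?_
  rcases class_of_C0 h2 hν (TT_mem_C0 _ _) h1 hz hsq with h | h
  · exact h.symm
  · exact h.symm.trans (n0_cj_outer h2 hν).symm

lemma cj_z_of_C0 {w : GL chevG2.Idx F} (hw : w ∈ C0 F) (h1 : w ≠ 1) (hsq : w * w = 1) :
    Cj z w := by
  by_cases hz : w = z
  · rw [hz]; exact Cj.refl _
  rcases class_of_C0 h2 hν hw h1 hz hsq with h | h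
  · exact (z_cj_n0 h2 hν).trans h
  · exact ((z_cj_n0 h2 hν).trans (n0_cj_outer h2 hν)).trans h

lemma relIndex_range : (Phi (F := F)).range.relIndex (C0 F) = 2 := by
  rw [Subgroup.relIndex, Subgroup.index_eq_two_iff]
  refine ⟨⟨(TT 1 ν)⁻¹, inv_mem (TT_mem_C0 1 ν)⟩, fun w => ?_⟩
  simp only [Subgroup.mem_subgroupOf, Subgroup.coe_mul]
  by_cases hw : (w : GL chevG2.Idx F) ∈ (Phi (F := F)).range
  · refine Or.inr ⟨hw, fun h => TT_nu_notMem hν ?_⟩
    have := (Subgroup.mul_mem_cancel_left _ hw).1 h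
    simpa using this
  · exact Or.inl ⟨(C0_split h2 hν w.2).resolve_left hw, hw⟩

lemma ker_card : Nat.card (Phi (F := F)).ker = 2 := by
  have : ((Phi (F := F)).ker : Set (SL(2, F) × SL(2, F))) = {(1, 1), (m1, m1)} := by
    ext ⟨a, b⟩
    simp only [SetLike.mem_coe, MonoidHom.mem_ker, Set.mem_insert_iff, Set.mem_singleton_iff,
      Prod.mk.injEq]
    refine ⟨Phi_eq_one h2, ?_⟩
    rintro (⟨rfl, rfl⟩ | ⟨rfl, rfl⟩)
    · exact map_one Phi
    · rw [Phi_apply, phi8_m1, phi10_m1, z_sq]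
  rw [← SetLike.coe_sort_coe, Nat.card_coe_set_eq, this, Set.ncard_pair]
  intro e
  exact m1_ne_one h2 (congrArg Prod.fst e).symm

lemma card_C0 : Nat.card (C0 F) = Nat.card F ^ 2 * (Nat.card F ^ 2 - 1) ^ 2 := by
  have h1 := Subgroup.card_mul_index (Phi (F := F)).ker
  rw [Subgroup.index_ker, ker_card h2 hν, Nat.card_prod, CfsgLib.Classical.card_SL_two] at h1
  have h3 : (Phi (F := F)).range.relIndex (C0 F) * Nat.card (Phi (F := F)).range =
      Nat.card (C0 F) := by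
    rw [← Subgroup.card_mul_index ((Phi (F := F)).range.subgroupOf (C0 F)), Subgroup.relIndex,
      mul_comm, Nat.card_congr (Subgroup.subgroupOfEquivOfLe range_le_C0).toEquiv]
  rw [relIndex_range h2 hν] at h3
  rw [← h3, h1]
  ring

omit hν in
lemma card_group_odd_index : ∃ k, Odd k ∧
    Nat.card (chevG2.group F) = k * (Nat.card F ^ 2 * (Nat.card F ^ 2 - 1) ^ 2) := by
  haveI := Fintype.ofFinite F
  have h := order_formula (F := F) stdG2 weylOKG2 smithG2 poinG2 rfl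
  have hq : Odd (Fintype.card F) := by
    rw [Nat.odd_iff]
    exact FiniteField.odd_card_of_char_ne_two fun e => h2 (by
      have := ringChar.Nat.cast_ringChar (R := F)
      rw [e] at this
      exact_mod_cast this)
  rw [Nat.card_eq_fintype_card (α := F)]
  set q := Fintype.card F
  refine ⟨q ^ 4 * (q ^ 4 + q ^ 2 + 1), ?_, ?_⟩
  · refine hq.pow.mul ?_
    rw [Nat.odd_add_one, Nat.not_odd_iff_even]
    exact hq.pow.add_odd hq.pow
  · have hd : (∏ i : Fin chevG2.rank, Nat.gcd ((![1, 1] : Fin 2 → ℕ) i) (q - 1)) = 1 :=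
      Finset.prod_eq_one fun (i : Fin 2) _ => by fin_cases i <;> simp
    rw [hd, one_mul] at h
    rw [h, show chevG2.nroots / 2 = 6 by decide +kernel]
    simp only [List.map_cons, List.map_nil, List.prod_cons, List.prod_nil, mul_one]
    have h6 : q ^ 6 - 1 = (q ^ 2 - 1) * (q ^ 4 + q ^ 2 + 1) := by
      obtain ⟨m, hm⟩ : ∃ m, q ^ 2 = m + 1 := ⟨q ^ 2 - 1, by
        have : 0 < q ^ 2 := pow_pos hq.pos 2
        omega⟩
      rw [show q ^ 6 = (q ^ 2) ^ 3 by ring, show q ^ 4 = (q ^ 2) ^ 2 by ring, hm,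
        Nat.add_sub_cancel]
      have : (m + 1) ^ 3 = m * ((m + 1) ^ 2 + (m + 1) + 1) + 1 := by ring
      omega
    rw [h6]
    ring

end finite

end CfsgLib.FgsC.G2Invol
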