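/-
Involutions of `G₂(q)`, `q` odd, and their centralisers, inside the group.
-/
import Cfsg.Agent.Lib.FgsC.G2InvolClass

set_option autoImplicit false
set_option maxRecDepth 100000

namespace CfsgLib.FgsC.G2Invol

open Cfsg.Lie Matrix CfsgLib.Chev
open CfsgLib.Steinberg.R1Data (up dn wS)
open scoped MatrixGroups

variable {F : Type*} [Field F]

lemma two_ne_zero' [Fintype F] (hF : Odd (Fintype.card F)) : (2 : F) ≠ 0 := by
  intro h
  rw [Nat.odd_iff] at hF
  have hc : ringChar F = 2 := (ringChar.eq_iff).2 (CharP.ringChar_of_prime_eq_zero Nat.prime_two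
    (by exact_mod_cast h) ▸ ringChar.charP F)
  have := FiniteField.even_card_of_char_two hc
  omega

/-- `(SL₂ ∘ SL₂)·H` inside the group -/
noncomputable def Cz (F : Type*) [Field F] : Subgroup ↥(chevG2.group F) :=
  (C0 F).subgroupOf (chevG2.group F)

/-- the standard involution -/
noncomputable def zz : ↥(chevG2.group F) := ⟨z, C0_le_group (range_le_C0 z_mem_range)⟩

section odd

variable [Finite F] (h2 : (2 : F) ≠ 0)
include h2

lemma exists_conj_Cz {s : ↥(chevG2.group F)} (hs : orderOf s = 2) :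
    ∃ g : ↥(chevG2.group F), g⁻¹ * s * g ∈ Cz F := by
  obtain ⟨ν, hν⟩ := exists_nonsquare h2
  obtain ⟨k, hk, hG⟩ := card_group_odd_index (F := F) h2
  have hC : Nat.card (Cz F) = Nat.card F ^ 2 * (Nat.card F ^ 2 - 1) ^ 2 :=
    (Nat.card_congr (Subgroup.subgroupOfEquivOfLe C0_le_group).toEquiv).trans (card_C0 h2 hν)
  have hi : (Cz F).index = k := by
    have h := Subgroup.card_mul_index (Cz F)
    rw [hG, mul_comm k, hC] at h
    refine Nat.eq_of_mul_eq_mul_left ?_ h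
    rw [← hC]
    exact Nat.card_pos
  have hp : IsPGroup 2 (Subgroup.zpowers s) :=
    IsPGroup.of_card (n := 1) (by rw [Nat.card_zpowers, hs, pow_one])
  haveI : Fact (Nat.Prime 2) := ⟨Nat.prime_two⟩
  obtain ⟨c, hc⟩ := hp.nonempty_fixed_point_of_prime_not_dvd_card
    (↥(chevG2.group F) ⧸ Cz F) (by
      rw [← Subgroup.index, hi]
      exact fun h => (Nat.not_even_iff_odd.2 hk) (even_iff_two_dvd.2 h))
  induction c using QuotientGroup.induction_on with
  | _ g =>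
    refine ⟨g, ?_⟩
    have h : QuotientGroup.mk (s * g) = (QuotientGroup.mk g : ↥(chevG2.group F) ⧸ Cz F) :=
      hc ⟨s, Subgroup.mem_zpowers s⟩
    rw [mul_assoc]
    exact (QuotientGroup.eq).1 h.symm

theorem isConj_zz {s : ↥(chevG2.group F)} (hs : orderOf s = 2) :
    ∃ g : ↥(chevG2.group F), g * zz * g⁻¹ = s := by
  obtain ⟨ν, hν⟩ := exists_nonsquare h2
  obtain ⟨g, hg⟩ := exists_conj_Cz h2 hs
  set w := g⁻¹ * s * g with hw
  have ho : orderOf w = 2 := by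
    rw [show w = MulAut.conj g⁻¹ s by simp [w, MulAut.conj_apply], MulEquiv.orderOf_eq, hs]
  have hsq : (w : GL chevG2.Idx F) * w = 1 := by
    have := pow_orderOf_eq_one w
    rw [ho, pow_two] at this
    exact congrArg Subtype.val this
  have h1 : (w : GL chevG2.Idx F) ≠ 1 := fun h => by
    rw [show w = 1 from Subtype.ext h, orderOf_one] at ho
    norm_num at ho
  obtain ⟨x, hx, e⟩ := cj_z_of_C0 h2 hν hg h1 hsq
  refine ⟨g * ⟨x, hx⟩, ?_⟩
  have e' : (⟨x, hx⟩ : ↥(chevG2.group F)) * zz * ⟨x, hx⟩⁻¹ = w := Subtype.ext e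
  rw [show g * ⟨x, hx⟩ * zz * (g * ⟨x, hx⟩)⁻¹ = g * ((⟨x, hx⟩ : ↥(chevG2.group F)) * zz * ⟨x, hx⟩⁻¹) * g⁻¹ by
    group, e', hw]
  group

lemma centralizer_zz : Subgroup.centralizer ({zz} : Set ↥(chevG2.group F)) = Cz F := by
  ext w
  rw [Subgroup.mem_centralizer_singleton_iff, Cz, Subgroup.mem_subgroupOf]
  exact ⟨fun h => mem_C0_of_comm h2 w.2 (congrArg Subtype.val h),
    fun h => Subtype.ext (C0_comm_z h).eq⟩

theorem centralizer_zz_data :
    Nat.card (Cz F) = Nat.card F ^ 2 * (Nat.card F ^ 2 - 1) ^ 2 ∧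
    ∃ L₁ L₂ : Subgroup ↥(chevG2.group F),
      Nonempty (L₁ ≃* Matrix.SpecialLinearGroup (Fin 2) F) ∧
      Nonempty (L₂ ≃* Matrix.SpecialLinearGroup (Fin 2) F) ∧
      (∀ x ∈ L₁, ∀ y ∈ L₂, x * y = y * x) ∧
      L₁ ⊓ L₂ = Subgroup.zpowers zz ∧
      L₁ ⊔ L₂ ≤ Cz F ∧ (L₁ ⊔ L₂).relIndex (Cz F) = 2 := by
  obtain ⟨ν, hν⟩ := exists_nonsquare h2
  refine ⟨(Nat.card_congr (Subgroup.subgroupOfEquivOfLe C0_le_group).toEquiv).trans
    (card_C0 h2 hν), ?_⟩
  have m8 : ∀ a : SL(2, F), phi8 a ∈ chevG2.group F := fun a =>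
    C0_le_group (range_le_C0 ⟨(a, 1), by rw [Phi_apply, map_one, mul_one]⟩)
  have m10 : ∀ a : SL(2, F), phi10 a ∈ chevG2.group F := fun a =>
    C0_le_group (range_le_C0 ⟨(1, a), by rw [Phi_apply, map_one, one_mul]⟩)
  set p8 := (phi8 (F := F)).codRestrict (chevG2.group F) m8 with hp8
  set p10 := (phi10 (F := F)).codRestrict (chevG2.group F) m10 with hp10
  have i8 : Function.Injective p8 := fun a b e => phi8_inj (congrArg Subtype.val e)
  have i10 : Function.Injective p10 := fun a b e => phi10_inj (congrArg Subtype.val e)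
  have hsup : p8.range ⊔ p10.range = (Phi (F := F)).range.subgroupOf (chevG2.group F) := by
    refine le_antisymm (sup_le ?_ ?_) ?_
    · rintro _ ⟨a, rfl⟩
      exact Subgroup.mem_subgroupOf.2 ⟨(a, 1), by rw [Phi_apply, map_one, mul_one]; rfl⟩
    · rintro _ ⟨a, rfl⟩
      exact Subgroup.mem_subgroupOf.2 ⟨(1, a), by rw [Phi_apply, map_one, one_mul]; rfl⟩
    · rintro w hw
      obtain ⟨⟨a, b⟩, e⟩ := Subgroup.mem_subgroupOf.1 hw
      rw [show w = p8 a * p10 b from Subtype.ext e.symm]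
      exact Subgroup.mul_mem_sup ⟨a, rfl⟩ ⟨b, rfl⟩
  refine ⟨p8.range, p10.range, ⟨(MonoidHom.ofInjective i8).symm⟩,
    ⟨(MonoidHom.ofInjective i10).symm⟩, ?_, ?_, ?_, ?_⟩
  · rintro _ ⟨a, rfl⟩ _ ⟨b, rfl⟩
    exact Subtype.ext (phi_comm a b).eq
  · refine le_antisymm ?_ (Subgroup.zpowers_le.2 (Subgroup.mem_inf.2
      ⟨⟨m1, Subtype.ext phi8_m1⟩, ⟨m1, Subtype.ext phi10_m1⟩⟩))
    rintro _ ⟨⟨a, rfl⟩, ⟨b, hb⟩⟩
    have e : Phi (a, b⁻¹) = 1 := by
      rw [Phi_apply, map_inv, mul_inv_eq_one]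
      exact (congrArg Subtype.val hb).symm
    rcases Phi_eq_one h2 e with ⟨rfl, -⟩ | ⟨rfl, -⟩
    · rw [map_one]; exact one_mem _
    · rw [show p8 m1 = zz from Subtype.ext phi8_m1]; exact Subgroup.mem_zpowers _
  · rw [hsup]
    intro w hw
    exact range_le_C0 hw
  · rw [hsup, Cz, Subgroup.relIndex_subgroupOf C0_le_group]
    exact relIndex_range h2 hν

end odd

end CfsgLib.FgsC.G2Invol
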