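import Mathlib
import Cfsg.Agent.Lib.Coprime.Gaschutz

/-!
# Gaschütz: complements of abelian normal subgroups from complements over several subgroups
-/

set_option autoImplicit false

namespace CfsgLib.FgsC

variable {G : Type*} [Group G]

/-- Crossed maps to `K` restricting to the `m`-th power on `K`. -/
def HasCrossedPow (K : Subgroup G) (m : ℤ) : Prop :=
  ∃ δ : G → G, (∀ g, δ g ∈ K) ∧ (∀ g h, δ (g * h) = δ g * (g * δ h * g⁻¹)) ∧ ∀ k ∈ K, δ k = k ^ m

open scoped IsMulCommutative in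
theorem hasCrossedPow_index [Finite G] (K U : Subgroup G) [K.Normal] [IsMulCommutative K]
    (hKU : K ≤ U) (A : Subgroup G) (hAU : A ≤ U) (hAK : A ⊓ K = ⊥) (hKA : K ⊔ A = U) :
    HasCrossedPow K U.index := by
  classical
  -- the crossed homomorphism on `U` killing `A`
  have hex : ∀ u : U, ∃ k : K, (k : G)⁻¹ * u ∈ A := by
    intro u
    have hu : (u : G) ∈ K ⊔ A := hKA.symm ▸ u.2
    obtain ⟨k, hk, a, ha, hka⟩ := Subgroup.mem_sup_of_normal_left.mp hu
    exact ⟨⟨k, hk⟩, by simpa [← hka, mul_assoc] using ha⟩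
  choose δ₀ hδ₀ using hex
  have huniq : ∀ (u : U) (k : K), (k : G)⁻¹ * u ∈ A → δ₀ u = k := by
    intro u k hk
    have h1 : (δ₀ u : G)⁻¹ * k ∈ A := by
      have h := A.mul_mem (hδ₀ u) (A.inv_mem hk)
      have e : (δ₀ u : G)⁻¹ * (u : G) * ((k : G)⁻¹ * (u : G))⁻¹ = (δ₀ u : G)⁻¹ * k := by group
      rwa [e] at h
    have h2 : (δ₀ u : G)⁻¹ * k ∈ A ⊓ K := ⟨h1, K.mul_mem (K.inv_mem (δ₀ u).2) k.2⟩
    rw [hAK, Subgroup.mem_bot, inv_mul_eq_one] at h2
    exact Subtype.ext h2
  let act : G → K → K := fun g k => ⟨g * k * g⁻¹, ‹K.Normal›.conj_mem k k.2 g⟩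
  have hact_mul : ∀ g h k, act (g * h) k = act g (act h k) := fun g h k =>
    Subtype.ext (by simp [act, mul_assoc])
  have hact_hom : ∀ g k l, act g (k * l) = act g k * act g l := fun g k l =>
    Subtype.ext (by simp [act, mul_assoc])
  have hcocycle : ∀ u v : U, δ₀ (u * v) = δ₀ u * act (u : G) (δ₀ v) := by
    intro u v
    apply huniq
    have h := A.mul_mem (hδ₀ u) (hδ₀ v)
    rw [mul_comm (δ₀ u) (act _ _)]
    simpa [act, mul_assoc] using h
  -- transfer it to `G`
  let : Fintype (G ⧸ U) := Fintype.ofFinite _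
  let t : G ⧸ U → G := Quotient.out
  have ht : ∀ i : G ⧸ U, ((t i : G) : G ⧸ U) = i := fun i => QuotientGroup.out_eq' i
  let u : G → G ⧸ U → U := fun g i => ⟨(t (g • i))⁻¹ * (g * t i),
    QuotientGroup.eq.mp ((ht _).trans
      (by rw [← smul_eq_mul, ← MulAction.Quotient.smul_coe, ht]))⟩
  let δ : G → K := fun g => ∏ i : G ⧸ U, act (t (g • i)) (δ₀ (u g i))
  have hδmul : ∀ g h, δ (g * h) = δ g * act g (δ h) := by
    intro g h
    have hφ : act g (δ h) = ∏ i : G ⧸ U, act g (act (t (h • i)) (δ₀ (u h i))) :=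
      map_prod (MonoidHom.mk' (act g) (hact_hom g)) _ _
    have hφ' : δ g = ∏ i : G ⧸ U, act (t (g • h • i)) (δ₀ (u g (h • i))) :=
      (Equiv.prod_comp (MulAction.toPerm h : Equiv.Perm (G ⧸ U))
        fun i => act (t (g • i)) (δ₀ (u g i))).symm
    rw [hφ, hφ', ← Finset.prod_mul_distrib]
    refine Finset.prod_congr rfl fun i _ => ?_
    have hu : u (g * h) i = u g (h • i) * u h i := by
      apply Subtype.ext
      simp [u, mul_smul, mul_assoc]
    have e : t (g • h • i) * (u g (h • i) : G) = g * t (h • i) := by simp [u]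
    rw [mul_smul, hu, hcocycle, hact_hom, ← hact_mul, e, hact_mul]
  have hδK : ∀ k : K, δ k = k ^ U.index := by
    intro k
    have : ∀ i : G ⧸ U, act (t ((k : G) • i)) (δ₀ (u (k : G) i)) = k := by
      intro i
      have hi : (k : G) • i = i := by
        rw [← ht i, MulAction.Quotient.smul_coe, smul_eq_mul, QuotientGroup.eq]
        simpa [mul_assoc] using U.inv_mem (hKU (‹K.Normal›.conj_mem k k.2 (t i)⁻¹))
      have hd : δ₀ (u (k : G) i) = act (t i)⁻¹ k := by
        apply huniq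
        simp [u, act, hi, mul_assoc]
      rw [hi, hd, ← hact_mul]
      exact Subtype.ext (by simp [act])
    simp only [δ, this, Finset.prod_const, Finset.card_univ]
    rw [← Nat.card_eq_fintype_card, ← Subgroup.index_eq_card]
  exact ⟨fun g => δ g, fun g => (δ g).2, fun g h => congrArg Subtype.val (hδmul g h),
    fun k hk => by rw [zpow_natCast]; exact congrArg Subtype.val (hδK ⟨k, hk⟩)⟩

open scoped IsMulCommutative in
theorem isComplement_of_hasCrossedPow_one [Finite G] {K : Subgroup G} (h : HasCrossedPow K 1) :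
    ∃ H : Subgroup G, H.IsComplement' K := by
  obtain ⟨δ, hK, hmul, hpow⟩ := h
  have hone : δ 1 = 1 := by simpa using hpow 1 K.one_mem
  let H : Subgroup G :=
    { carrier := {g | δ g = 1}
      one_mem' := hone
      mul_mem' := fun {a b} ha hb => by
        simp only [Set.mem_ofPred_eq] at ha hb ⊢
        rw [hmul, ha, hb]; simp
      inv_mem' := fun {a} ha => by
        simp only [Set.mem_ofPred_eq] at ha ⊢
        have h := hmul a⁻¹ a
        rw [inv_mul_cancel, hone, ha] at h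
        simpa using h.symm }
  refine ⟨H, Subgroup.IsComplement'.symm (Subgroup.isComplement'_of_disjoint_and_mul_eq_univ ?_ ?_)⟩
  · rw [disjoint_iff, Subgroup.eq_bot_iff_forall]
    rintro x ⟨hxK, hxH⟩
    exact (by simpa using hpow x hxK : δ x = x).symm.trans hxH
  · refine Set.eq_univ_of_forall fun g => Set.mem_mul.mpr ⟨δ g, hK g, (δ g)⁻¹ * g, ?_, mul_inv_cancel_left _ _⟩
    show δ ((δ g)⁻¹ * g) = 1
    rw [hmul, hpow _ (K.inv_mem (hK g))]
    simp

open scoped IsMulCommutative in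
/-- The exponents `m` form a subgroup of `ℤ` containing `|K|`. -/
theorem hasCrossedPow_gcd [Finite G] (K : Subgroup G) [K.Normal] [IsMulCommutative K]
    (h : ∀ p : ℕ, p.Prime → p ∣ Nat.card K → ∃ m : ℕ, ¬ p ∣ m ∧ HasCrossedPow K m) :
    HasCrossedPow K 1 := by
  have hc : ∀ a ∈ K, ∀ b ∈ K, a * b = b * a := fun a ha b hb =>
    congrArg Subtype.val (mul_comm (⟨a, ha⟩ : K) ⟨b, hb⟩)
  have hn : ∀ g a, a ∈ K → g * a * g⁻¹ ∈ K := fun g a ha => ‹K.Normal›.conj_mem a ha g
  let S : AddSubgroup ℤ :=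
    { carrier := {m | HasCrossedPow K m}
      zero_mem' := ⟨fun _ => 1, fun _ => K.one_mem, fun g h => by simp, fun k _ => by simp⟩
      add_mem' := fun {a b} ⟨d₁, h₁, m₁, p₁⟩ ⟨d₂, h₂, m₂, p₂⟩ => ⟨fun g => d₁ g * d₂ g,
        fun g => K.mul_mem (h₁ g) (h₂ g), fun g h => by
          simp only [m₁, m₂]
          calc d₁ g * (g * d₁ h * g⁻¹) * (d₂ g * (g * d₂ h * g⁻¹))
              = d₁ g * ((g * d₁ h * g⁻¹) * d₂ g) * (g * d₂ h * g⁻¹) := by group
            _ = d₁ g * (d₂ g * (g * d₁ h * g⁻¹)) * (g * d₂ h * g⁻¹) := by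
              rw [hc _ (hn g _ (h₁ h)) _ (h₂ g)]
            _ = _ := by group,
        fun k hk => by simp only [p₁ k hk, p₂ k hk, zpow_add]⟩
      neg_mem' := fun {a} ⟨d, hd, hm, hp⟩ => ⟨fun g => (d g)⁻¹, fun g => K.inv_mem (hd g),
        fun g h => by
          show (d (g * h))⁻¹ = (d g)⁻¹ * (g * (d h)⁻¹ * g⁻¹)
          rw [hm, mul_inv_rev, hc _ (K.inv_mem (hn g _ (hd h))) _ (K.inv_mem (hd g))]
          group,
        fun k hk => by simp only [hp k hk, zpow_neg]⟩ }
  have hcard : (Nat.card K : ℤ) ∈ S := ⟨fun _ => 1, fun _ => K.one_mem, fun g h => by simp,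
    fun k hk => by
      rw [zpow_natCast]
      exact (congrArg Subtype.val (pow_card_eq_one' (x := (⟨k, hk⟩ : K)))).symm⟩
  obtain ⟨d, hd⟩ := Int.subgroup_cyclic S
  have hd' : d.natAbs = 1 := by
    have hmem : ∀ n : ℕ, (n : ℤ) ∈ S → d.natAbs ∣ n := fun n hn => by
      rw [hd, AddSubgroup.mem_closure_singleton] at hn
      obtain ⟨c, hc⟩ := hn
      have := congrArg Int.natAbs hc
      rw [smul_eq_mul, Int.natAbs_mul, Int.natAbs_natCast] at this
      exact ⟨c.natAbs, by rw [← this, mul_comm]⟩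
    by_contra hne
    obtain ⟨p, hp, hpd⟩ := Nat.exists_prime_and_dvd hne
    obtain ⟨m, hm, hS⟩ := h p hp (hpd.trans (hmem _ hcard))
    exact hm (hpd.trans (hmem m hS))
  have h1 : (1 : ℤ) ∈ S := by
    rw [hd, AddSubgroup.mem_closure_singleton]
    rcases Int.natAbs_eq_iff.mp hd' with rfl | rfl
    · exact ⟨1, by simp⟩
    · exact ⟨-1, by simp⟩
  exact h1

end CfsgLib.FgsC
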