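import Mathlib
import Cfsg.Agent.Lib.PGroups.Basic

/-!
# Generating tuples of a p-group and the order of its automorphism groups
-/

set_option autoImplicit false

open Subgroup

namespace CfsgLib.FgsC

variable {P : Type*} [Group P] [Finite P]

/-- Lifts of a tuple along a quotient map are as many as the tuples of the kernel. -/
theorem card_lifts {Q : Type*} [Group Q] (f : P →* Q) (hf : Function.Surjective f) {r : ℕ}
    (v : Fin r → Q) : Nat.card {t : Fin r → P // ∀ i, f (t i) = v i} = Nat.card f.ker ^ r := by
  choose s hs using hf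
  rw [Nat.card_congr (β := Fin r → f.ker)
    { toFun := fun t i => ⟨(s (v i))⁻¹ * t.1 i, by simp [MonoidHom.mem_ker, hs, t.2 i]⟩
      invFun := fun k => ⟨fun i => s (v i) * k i, fun i => by
        simp [hs, MonoidHom.mem_ker.mp (k i).2]⟩
      left_inv := fun t => Subtype.ext (funext fun i => mul_inv_cancel_left _ _)
      right_inv := fun k => funext fun i => Subtype.ext (inv_mul_cancel_left _ _) }]
  rw [Nat.card_fun, Nat.card_fin]

/-- Automorphisms act freely on generating tuples. -/
theorem card_dvd_of_generating (A : Subgroup (MulAut P)) {r : ℕ} (T : Set (Fin r → P))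
    (hgen : ∀ t ∈ T, closure (Set.range t) = ⊤)
    (hinv : ∀ α ∈ A, ∀ t ∈ T, (fun i => α (t i)) ∈ T) : Nat.card A ∣ Nat.card T := by
  let act : MulAction A T :=
    { smul := fun α t => ⟨fun i => (α : MulAut P) (t.1 i), hinv _ α.2 _ t.2⟩
      one_smul := fun t => Subtype.ext (funext fun i => rfl)
      mul_smul := fun α β t => Subtype.ext (funext fun i => rfl) }
  have hfree : ∀ t : T, MulAction.stabilizer A t = ⊥ := by
    intro t
    rw [Subgroup.eq_bot_iff_forall]
    intro α hα
    have h1 : ∀ i, (α : MulAut P) (t.1 i) = t.1 i := fun i =>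
      congrFun (congrArg Subtype.val (MulAction.mem_stabilizer_iff.mp hα)) i
    refine Subtype.ext (MulEquiv.ext fun x => ?_)
    have h2 : (α : MulAut P).toMonoidHom = MonoidHom.id P :=
      MonoidHom.eq_of_eqOn_dense (hgen _ t.2) fun y ⟨i, hi⟩ => hi ▸ h1 i
    exact DFunLike.congr_fun h2 x
  exact ⟨_, by rw [Nat.card_congr (MulAction.selfEquivOrbitsQuotientProd hfree), Nat.card_prod, mul_comm]⟩

variable {p r : ℕ} [hp : Fact p.Prime]

theorem closure_range_eq_top_iff {t : Fin r → P} :
    closure (Set.range t) = ⊤ ↔
      closure (Set.range fun i => (QuotientGroup.mk (t i) : P ⧸ frattini P)) = ⊤ := by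
  have e : closure (Set.range fun i => (QuotientGroup.mk (t i) : P ⧸ frattini P))
      = (closure (Set.range t)).map (QuotientGroup.mk' (frattini P)) := by
    rw [MonoidHom.map_closure, ← Set.range_comp]
    rfl
  rw [e]
  constructor
  · intro h
    rw [h, map_top_of_surjective _ (QuotientGroup.mk'_surjective _)]
  · intro h
    apply frattini_nongenerating
    have h' := congrArg (comap (QuotientGroup.mk' (frattini P))) h
    rwa [comap_map_eq, QuotientGroup.ker_mk', comap_top] at h'

/-- Spanning tuples of an elementary abelian group of order `p ^ r`. -/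
theorem card_spanning {Q : Type*} [CommGroup Q] [Finite Q] (hexp : ∀ x : Q, x ^ p = 1)
    (hQ : Nat.card Q = p ^ r) :
    Nat.card {v : Fin r → Q // closure (Set.range v) = ⊤} = ∏ i ∈ Finset.range r, (p ^ r - p ^ i) := by
  classical
  let _ : Module (ZMod p) (Additive Q) := AddCommGroup.zmodModule (n := p) fun x => hexp x.toMul
  have := Fintype.ofFinite (Additive Q)
  have hfr : Module.finrank (ZMod p) (Additive Q) = r := by
    have h := Module.natCard_eq_pow_finrank (K := ZMod p) (V := Additive Q)
    rw [Nat.card_zmod, Nat.card_congr (Additive.toMul (α := Q)), hQ] at h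
    exact (Nat.pow_right_injective hp.out.two_le h).symm
  have hli := card_linearIndependent (K := ZMod p) (V := Additive Q) (k := r) hfr.ge
  rw [hfr, Fintype.card_eq_nat_card, Nat.card_zmod] at hli
  rw [Finset.prod_range, ← hli]
  refine Nat.card_congr (Equiv.subtypeEquiv (Equiv.arrowCongr (Equiv.refl _) Additive.ofMul) fun v => ?_)
  set w : Fin r → Additive Q := fun i => Additive.ofMul (v i) with hw
  show _ ↔ LinearIndependent (ZMod p) w
  have hspan : (Submodule.span (ZMod p) (Set.range w)).toAddSubgroup = AddSubgroup.closure (Set.range w) := by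
    refine le_antisymm ?_ ((AddSubgroup.closure_le _).mpr Submodule.subset_span)
    have : Submodule.span (ZMod p) (Set.range w) ≤ AddSubgroup.toZModSubmodule p (AddSubgroup.closure (Set.range w)) :=
      Submodule.span_le.mpr AddSubgroup.subset_closure
    exact this
  have himg : Subgroup.toAddSubgroup (closure (Set.range v)) = AddSubgroup.closure (Set.range w) := by
    rw [Subgroup.toAddSubgroup_closure]
    congr 1
  rw [linearIndependent_iff_card_eq_finrank_span, Fintype.card_fin, Set.finrank]
  constructor
  · intro h
    have : Submodule.span (ZMod p) (Set.range w) = ⊤ := by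
      apply Submodule.toAddSubgroup_injective
      rw [hspan, ← himg, h]
      rfl
    rw [this, finrank_top, hfr]
  · intro h
    have : Submodule.span (ZMod p) (Set.range w) = ⊤ :=
      Submodule.eq_top_of_finrank_eq (by rw [hfr, ← h])
    have h2 : AddSubgroup.closure (Set.range w) = ⊤ := by rw [← hspan, this]; rfl
    rw [← himg] at h2
    exact Subgroup.toAddSubgroup.injective (h2.trans rfl)

theorem card_generating {n : ℕ} (hP : Nat.card P = p ^ n) (hr : (frattini P).index = p ^ r) :
    Nat.card {t : Fin r → P // closure (Set.range t) = ⊤} =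
      p ^ (r * (n - r)) * ∏ i ∈ Finset.range r, (p ^ r - p ^ i) := by
  classical
  have := Fintype.ofFinite P
  have hG : IsPGroup p P := IsPGroup.of_card hP
  have hker : Nat.card (frattini P) = p ^ (n - r) := by
    have h := (frattini P).card_mul_index
    rw [hr, hP] at h
    refine Nat.eq_of_mul_eq_mul_right (pow_pos hp.out.pos r) ?_
    rw [h, ← pow_add]
    congr 1
    have : p ^ r ∣ p ^ n := ⟨_, by rw [mul_comm]; exact h.symm⟩
    have := (Nat.pow_dvd_pow_iff_le_right hp.out.one_lt).mp this
    omega
  let _ : CommGroup (P ⧸ frattini P) :=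
    { (inferInstance : Group (P ⧸ frattini P)) with
      mul_comm := fun a b => ((Subgroup.Normal.quotient_commutative_iff_commutator_le).mpr
        (CfsgLib.PGroups.commutator_le_frattini hG)).is_comm.comm a b }
  have hexp : ∀ x : P ⧸ frattini P, x ^ p = 1 := by
    intro x
    obtain ⟨y, rfl⟩ := QuotientGroup.mk_surjective x
    rw [← QuotientGroup.mk_pow, QuotientGroup.eq_one_iff]
    exact CfsgLib.PGroups.pow_mem_frattini hG y
  have hS := card_spanning (r := r) hexp (by rw [← hr]; rfl)
  let f := QuotientGroup.mk' (frattini P)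
  let e : {t : Fin r → P // closure (Set.range t) = ⊤} ≃ ((v : {v : Fin r → P ⧸ frattini P // closure (Set.range v) = ⊤}) ×
      {t : Fin r → P // ∀ i, f (t i) = v.1 i}) :=
    { toFun := fun t => ⟨⟨fun i => f (t.1 i), closure_range_eq_top_iff.mp t.2⟩, t.1, fun i => rfl⟩
      invFun := fun q => ⟨q.2.1, (closure_range_eq_top_iff (t := q.2.1)).mpr
        ((congrArg (fun w : Fin r → P ⧸ frattini P => Subgroup.closure (Set.range w))
          (show (fun i => (QuotientGroup.mk (q.2.1 i) : P ⧸ frattini P)) = q.1.1 from funext q.2.2)).trans q.1.2)⟩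
      left_inv := fun t => rfl
      right_inv := fun q => by
        obtain ⟨⟨v, hv⟩, t, ht⟩ := q
        obtain rfl : (fun i => f (t i)) = v := funext ht
        rfl }
  rw [Nat.card_congr e]
  have := Fintype.ofFinite {v : Fin r → P ⧸ frattini P // closure (Set.range v) = ⊤}
  rw [Nat.card_sigma, Finset.sum_congr rfl (fun v _ => card_lifts f (QuotientGroup.mk'_surjective _) v.1),
    Finset.sum_const, Finset.card_univ, smul_eq_mul, ← Nat.card_eq_fintype_card, hS,
    QuotientGroup.ker_mk', hker, ← pow_mul, mul_comm, mul_comm (n - r) r]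

end CfsgLib.FgsC
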