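/-
Half-transitive permutation groups with a regular normal subgroup (Wielandt).
-/
import Mathlib

set_option autoImplicit false

namespace CfsgLib.FgsC.HalfTrans

open MulAction

/-- all point stabilisers of order `s` gives divisibility -/
lemma dvd_of_stabilizer_card {L X : Type*} [Group L] [Finite L] [MulAction L X] [Finite X] {s : ℕ}
    (hs : ∀ x : X, Nat.card (stabilizer L x) = s) : Nat.card L ∣ Nat.card X * s := by
  classical
  haveI := Fintype.ofFinite X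
  haveI : Fintype (Quotient (orbitRel L X)) := Fintype.ofFinite _
  rw [Nat.card_congr (selfEquivSigmaOrbits L X), Nat.card_sigma, Finset.sum_mul]
  refine Finset.dvd_sum fun ω _ => ?_
  have h := Subgroup.card_mul_index (stabilizer L (Quotient.out ω))
  rw [index_stabilizer, hs, mul_comm] at h
  exact dvd_of_eq h.symm

variable {G Ω : Type*} [Group G] [Finite G] [MulAction G Ω] (N : Subgroup G) (a : Ω)

/-- the elements of the point stabiliser centralising `u` -/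
def K (u : G) : Subgroup G := stabilizer G a ⊓ Subgroup.centralizer {u}

lemma mem_K {u h : G} : h ∈ K a u ↔ h • a = a ∧ h * u = u * h := by
  simp [K, Subgroup.mem_centralizer_singleton_iff]

/-- A half-transitive setting -/
structure Half : Prop where
  norm : N.Normal
  inj : ∀ u ∈ N, ∀ v ∈ N, u • a = v • a → u = v
  card_eq : ∀ u ∈ N, ∀ v ∈ N, u ≠ 1 → v ≠ 1 → Nat.card (K a u) = Nat.card (K a v)
  ne_bot : ∀ u ∈ N, u ≠ 1 → K a u ≠ ⊥
  faith : ∀ h : G, h • a = a → (∀ u ∈ N, h * u = u * h) → h = 1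

variable {N a}

lemma stab_conj {h u : G} (hh : h • a = a) : h • u • a = (h * u * h⁻¹) • a := by
  have h' : h⁻¹ • a = a := inv_smul_eq_iff.2 hh.symm
  rw [mul_smul, mul_smul, h']

variable (H : Half N a)
include H

lemma Half.mem_iff {u h : G} (hu : u ∈ N) : h ∈ K a u ↔ h • a = a ∧ h • u • a = u • a := by
  rw [mem_K]
  refine and_congr_right fun hh => ⟨fun hc => ?_, fun hc => ?_⟩
  · rw [stab_conj hh, hc, mul_inv_cancel_right]
  · rw [stab_conj hh] at hc
    exact mul_inv_eq_iff_eq_mul.1 (H.inj _ (H.norm.conj_mem u hu h) _ hu hc)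

/-- the orbit counting on a set of elements permuted by a subgroup of the stabiliser -/
lemma Half.count {L : Subgroup G} (hL : L ≤ stabilizer G a) {S : Set G} (hS : S ⊆ (N : Set G))
    (hinv : ∀ h ∈ L, ∀ u ∈ S, h * u * h⁻¹ ∈ S) {s : ℕ} (hK : ∀ u ∈ S, K a u ≤ L)
    (hs : ∀ u ∈ S, Nat.card (K a u) = s) : Nat.card L ∣ Nat.card S * s := by
  letI : MulAction L S :=
    { smul := fun h u => ⟨(h : G) * u.1 * (h : G)⁻¹, hinv h h.2 u.1 u.2⟩
      one_smul := fun u => Subtype.ext (by show ((1 : L) : G) * u.1 * _ = _; simp)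
      mul_smul := fun h k u => Subtype.ext (by
        show ((h * k : L) : G) * u.1 * _ = (h : G) * ((k : G) * u.1 * (k : G)⁻¹) * _
        simp [mul_assoc]) }
  haveI : Finite S := Subtype.finite
  refine dvd_of_stabilizer_card fun u => ?_
  rw [← hs u.1 u.2]
  refine Nat.card_congr
    { toFun := fun h => ⟨h.1.1, mem_K a |>.2 ⟨hL h.1.2, ?_⟩⟩
      invFun := fun h => ⟨⟨h.1, hK u.1 u.2 h.2⟩, ?_⟩
      left_inv := fun h => rfl
      right_inv := fun h => rfl }
  · exact mul_inv_eq_iff_eq_mul.1 (congrArg Subtype.val h.2)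
  · exact Subtype.ext (mul_inv_eq_iff_eq_mul.2 ((mem_K a).1 h.2).2)

lemma Half.eq_of_le {u v : G} (hu : u ∈ N) (hv : v ∈ N) (hu1 : u ≠ 1) (hv1 : v ≠ 1)
    (h : K a u ≤ K a v) : K a u = K a v :=
  Subgroup.eq_of_le_of_card_ge h (H.card_eq u hu v hv hu1 hv1).ge

/-- the stabiliser of a set of size coprime to the orbit length fixes it -/
lemma Half.fix_of_coprime {S : Set G} (hS : S ⊆ (N : Set G)) (hS1 : (1 : G) ∉ S) {x : G} (hx : x ∈ S)
    (hclosed : ∀ h ∈ stabilizer G a, ∀ u ∈ S, h * u * h⁻¹ ∈ S → ∀ v ∈ S, h * v * h⁻¹ ∈ S)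
    {T : Subgroup G} (hT : T ≤ N) (hTinv : ∀ h ∈ stabilizer G a, ∀ u ∈ T, h * u * h⁻¹ ∈ T)
    (hdvd : Nat.card S ∣ Nat.card T) :
    ∀ u ∈ S, K a u = K a x := by
  set s := Nat.card (K a x) with hs
  have hsS : ∀ u ∈ S, Nat.card (K a u) = s := fun u hu =>
    H.card_eq u (hS hu) x (hS hx) (fun e => hS1 (e ▸ hu)) (fun e => hS1 (e ▸ hx))
  let L : Subgroup G :=
    { carrier := {h | h • a = a ∧ ∀ u ∈ S, h * u * h⁻¹ ∈ S}
      one_mem' := ⟨one_smul _ _, fun u hu => by simpa using hu⟩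
      mul_mem' := fun {h k} hh hk => ⟨by rw [mul_smul, hk.1, hh.1], fun u hu => by
        have := hh.2 _ (hk.2 u hu)
        simpa [mul_assoc] using this⟩
      inv_mem' := fun {h} hh => ⟨inv_smul_eq_iff.2 hh.1.symm, fun u hu => by
        have hmap : Set.MapsTo (fun v => h * v * h⁻¹) S S := fun v hv => hh.2 v hv
        have hbij := (Set.toFinite S).injOn_iff_bijOn_of_mapsTo hmap |>.1
          (fun v _ w _ e => mul_left_cancel (mul_right_cancel e))
        obtain ⟨v, hv, hvu⟩ := hbij.surjOn hu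
        rw [← hvu]
        simpa [mul_assoc] using hv⟩ }
  have hLH : L ≤ stabilizer G a := fun h hh => hh.1
  have hKL : ∀ u ∈ S, K a u ≤ L := fun u hu h hh => by
    obtain ⟨h1, h2⟩ := (mem_K a).1 hh
    exact ⟨h1, hclosed h (mem_stabilizer_iff.2 h1) u hu (by rw [h2, mul_inv_cancel_right]; exact hu)⟩
  have h1 : Nat.card L ∣ Nat.card T * s :=
    (H.count hLH hS (fun h hh => hh.2) hKL hsS).trans (Nat.mul_dvd_mul_right hdvd s)
  have h2 : Nat.card (stabilizer G a) ∣ (Nat.card T - 1) * s := by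
    have hc : Nat.card ↥((T : Set G) \ {1}) = Nat.card T - 1 := by
      rw [Nat.card_coe_set_eq, Set.ncard_sdiff_singleton_of_mem (one_mem T), ← Nat.card_coe_set_eq]
      rfl
    rw [← hc]
    refine H.count (S := (T : Set G) \ {1}) le_rfl (fun u hu => hT hu.1)
      (fun h hh u hu => ⟨hTinv h hh u hu.1, fun e => hu.2 ?_⟩) (fun u _ h hh => ((mem_K a).1 hh).1)
      fun u hu => H.card_eq u (hT hu.1) x (hS hx) hu.2 (fun e => hS1 (e ▸ hx))
    rw [Set.mem_singleton_iff] at e ⊢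
    exact conj_eq_one_iff.1 e
  have h3 : Nat.card L ∣ s := by
    have h4 := Nat.dvd_gcd h1 ((Subgroup.card_dvd_of_le hLH).trans h2)
    rw [Nat.gcd_mul_right] at h4
    have hg : Nat.gcd (Nat.card T) (Nat.card T - 1) = 1 := by
      have : 0 < Nat.card T := Nat.card_pos
      exact (Nat.coprime_self_sub_right (m := 1) (by omega)).mpr (Nat.coprime_one_right _)
    rwa [hg, one_mul] at h4
  intro u hu
  have e : ∀ v ∈ S, K a v = L := fun v hv =>
    Subgroup.eq_of_le_of_card_ge (hKL v hv) (by rw [hsS v hv]; exact Nat.le_of_dvd Nat.card_pos h3)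
  rw [e u hu, e x hx]

lemma Half.not_all_eq {x : G} (hx : x ∈ N) (hx1 : x ≠ 1) :
    ∃ z ∈ N, z ≠ 1 ∧ K a z ≠ K a x := by
  by_contra! h
  refine H.ne_bot x hx hx1 ((Subgroup.eq_bot_iff_forall _).2 fun g hg => ?_)
  refine H.faith g ((mem_K a).1 hg).1 fun u hu => ?_
  rcases eq_or_ne u 1 with rfl | hu1
  · simp
  · exact ((mem_K a).1 (h u hu hu1 ▸ hg)).2

/-- no proper nontrivial invariant subgroup -/
theorem Half.eq_top {M : Subgroup G} (hM : M ≤ N) (hM1 : M ≠ ⊥)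
    (hinv : ∀ h ∈ stabilizer G a, ∀ u ∈ M, h * u * h⁻¹ ∈ M) : M = N := by
  by_contra hne
  have key : ∀ x ∈ N, x ∉ M → ∀ y ∈ M, y ≠ 1 → K a x = K a y := by
    intro x hx hxM y hy hy1
    let S : Set G := {z | x⁻¹ * z ∈ M}
    have hS : S ⊆ (N : Set G) := fun z hz => by
      simpa using N.mul_mem hx (hM hz)
    have hxS : x ∈ S := by simp [S, one_mem]
    have hall := H.fix_of_coprime hS (fun h => hxM (by simpa [S] using h)) hxS ?_ hM hinv ?_
    · have hx1 : x ≠ 1 := fun e => hxM (e ▸ one_mem M)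
      refine H.eq_of_le hx (hM hy) hx1 hy1 fun h hh => ?_
      have h' : h ∈ K a (x * y) := by
        rw [hall (x * y) (by simpa [S] using hy)]; exact hh
      obtain ⟨h1, h2⟩ := (mem_K a).1 hh
      refine (mem_K a).2 ⟨h1, mul_left_cancel (a := x) ?_⟩
      rw [← mul_assoc, ← h2, mul_assoc, ((mem_K a).1 h').2, mul_assoc]
    · intro h hh u hu hu' v hv
      show x⁻¹ * (h * v * h⁻¹) ∈ M
      have h1 : h * (u⁻¹ * v) * h⁻¹ ∈ M := hinv h hh _ (by
        have : u⁻¹ * v = (x⁻¹ * u)⁻¹ * (x⁻¹ * v) := by group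
        rw [this]; exact mul_mem (inv_mem hu) hv)
      have : x⁻¹ * (h * v * h⁻¹) = x⁻¹ * (h * u * h⁻¹) * (h * (u⁻¹ * v) * h⁻¹) := by group
      rw [this]; exact mul_mem hu' h1
    · exact dvd_of_eq (Nat.card_congr
        { toFun := fun z => ⟨x⁻¹ * z.1, z.2⟩
          invFun := fun m => ⟨x * m.1, by show x⁻¹ * (x * m.1) ∈ M; simp⟩
          left_inv := fun z => Subtype.ext (mul_inv_cancel_left x z.1)
          right_inv := fun m => Subtype.ext (inv_mul_cancel_left x m.1) })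
  obtain ⟨x, hx, hxM⟩ : ∃ x ∈ N, x ∉ M :=
    SetLike.not_le_iff_exists.1 fun h => hne (le_antisymm hM h)
  obtain ⟨y, hy, hy1⟩ : ∃ y ∈ M, y ≠ (1 : G) := by
    by_contra! h
    exact hM1 ((Subgroup.eq_bot_iff_forall _).2 h)
  obtain ⟨z, hz, hz1, hzy⟩ := H.not_all_eq (hM hy) hy1
  by_cases hzM : z ∈ M
  · exact hzy ((key x hx hxM z hzM hz1).symm.trans (key x hx hxM y hy hy1))
  · exact hzy (key z hz hzM y hy hy1)

theorem Half.comm : ∀ x ∈ N, ∀ y ∈ N, x * y = y * x := by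
  have hclass : ∀ n ∈ N, ∀ u ∈ N, u ≠ 1 → K a (n * u * n⁻¹) = K a u := by
    intro n hn u hu hu1
    let S : Set G := {z | ∃ m ∈ N, z = m * u * m⁻¹}
    have hS : S ⊆ (N : Set G) := by
      rintro _ ⟨m, hm, rfl⟩; exact mul_mem (mul_mem hm hu) (inv_mem hm)
    refine H.fix_of_coprime hS ?_ (x := u) ⟨1, one_mem N, by simp⟩ ?_ le_rfl
      (fun h _ v hv => H.norm.conj_mem v hv h) ?_ _ ⟨n, hn, rfl⟩
    · rintro ⟨m, -, e⟩; exact hu1 (conj_eq_one_iff.1 e.symm)
    · rintro h - _ ⟨m, hm, rfl⟩ ⟨m₁, hm₁, e⟩ _ ⟨m₂, hm₂, rfl⟩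
      refine ⟨h * (m₂ * m⁻¹) * h⁻¹ * m₁,
        mul_mem (H.norm.conj_mem _ (mul_mem hm₂ (inv_mem hm)) h) hm₁, ?_⟩
      calc h * (m₂ * u * m₂⁻¹) * h⁻¹
          = (h * (m₂ * m⁻¹) * h⁻¹) * (h * (m * u * m⁻¹) * h⁻¹) * (h * (m₂ * m⁻¹) * h⁻¹)⁻¹ := by
            group
        _ = _ := by rw [e]; group
    · letI : MulAction N S :=
        { smul := fun k z => ⟨(k : G) * z.1 * (k : G)⁻¹, by
            obtain ⟨m, hm, e⟩ := z.2
            exact ⟨k * m, mul_mem k.2 hm, by rw [e]; group⟩⟩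
          one_smul := fun z => Subtype.ext (by show ((1 : N) : G) * z.1 * _ = _; simp)
          mul_smul := fun k l z => Subtype.ext (by
            show ((k * l : N) : G) * z.1 * _ = (k : G) * ((l : G) * z.1 * (l : G)⁻¹) * _
            simp [mul_assoc]) }
      have horb : orbit N (⟨u, 1, one_mem N, by simp⟩ : S) = Set.univ := by
        refine Set.eq_univ_of_forall ?_
        rintro ⟨_, m, hm, rfl⟩
        exact ⟨⟨m, hm⟩, rfl⟩
      have := MulAction.index_stabilizer N (⟨u, 1, one_mem N, by simp⟩ : S)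
      rw [horb, Set.ncard_univ] at this
      rw [← this]
      exact Subgroup.index_dvd_card _
  -- fixed points of `K a x`
  have hsame : ∀ x ∈ N, x ≠ 1 → ∀ w ∈ N, w ≠ 1 → (∀ h ∈ K a x, h * w = w * h) → K a w = K a x :=
    fun x hx hx1 w hw hw1 h =>
      (H.eq_of_le hx hw hx1 hw1 fun g hg => (mem_K a).2 ⟨((mem_K a).1 hg).1, h g hg⟩).symm
  have hdiff : ∀ x ∈ N, ∀ z ∈ N, x ≠ 1 → z ≠ 1 → K a z ≠ K a x → x * z = z * x := by
    intro x hx z hz hx1 hz1 hne
    by_contra hc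
    have hw : x * z * x⁻¹ * z⁻¹ ≠ 1 := fun e => hc (by
      rw [mul_inv_eq_one, mul_inv_eq_iff_eq_mul] at e; exact e)
    have hwN : x * z * x⁻¹ * z⁻¹ ∈ N := mul_mem (mul_mem (mul_mem hx hz) (inv_mem hx)) (inv_mem hz)
    refine hne ((hsame z hz hz1 _ hwN hw fun h hh => ?_).symm.trans
      (hsame x hx hx1 _ hwN hw fun h hh => ?_))
    · have h1 : h ∈ K a (x * z * x⁻¹) := (hclass x hx z hz hz1).symm ▸ hh
      have e1 : Commute h (x * z * x⁻¹) := ((mem_K a).1 h1).2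
      have e2 : Commute h z := ((mem_K a).1 hh).2
      exact (e1.mul_right e2.inv_right).eq
    · have h1 : h ∈ K a (z * x⁻¹ * z⁻¹) := by
        have := hclass z hz x⁻¹ (inv_mem hx) (by simpa using hx1)
        rw [this, ← hsame x hx hx1 x⁻¹ (inv_mem hx) (by simpa using hx1) fun g hg =>
          ((show Commute g x from ((mem_K a).1 hg).2).inv_right).eq] at *
        exact hh
      have e1 : Commute h (z * x⁻¹ * z⁻¹) := ((mem_K a).1 h1).2
      have e2 : Commute h x := ((mem_K a).1 hh).2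
      rw [show x * z * x⁻¹ * z⁻¹ = x * (z * x⁻¹ * z⁻¹) by group]
      exact (e2.mul_right e1).eq
  intro x hx y hy
  rcases eq_or_ne x 1 with rfl | hx1
  · simp
  rcases eq_or_ne y 1 with rfl | hy1
  · simp
  by_cases hxy : K a y = K a x
  swap
  · exact hdiff x hx y hy hx1 hy1 hxy
  obtain ⟨z, hz, hz1, hzx⟩ := H.not_all_eq hx hx1
  have hzy : Commute z y := hdiff z hz y hy hz1 hy1 fun e => hzx (e ▸ hxy)
  have hxz1 : x * z ≠ 1 := fun e => hzx (by
    rw [eq_inv_of_mul_eq_one_right e]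
    exact hsame x hx hx1 _ (inv_mem hx) (by simpa using hx1) fun g hg =>
      ((show Commute g x from ((mem_K a).1 hg).2).inv_right).eq)
  have hxzy : Commute (x * z) y := hdiff _ (mul_mem hx hz) y hy hxz1 hy1 fun e => hzx (by
    refine hsame x hx hx1 z hz hz1 fun g hg => ?_
    have hg' : g ∈ K a (x * z) := by rw [← e, hxy]; exact hg
    obtain ⟨-, h2⟩ := (mem_K a).1 hg
    apply mul_left_cancel (a := x)
    rw [← mul_assoc, ← h2, mul_assoc, ((mem_K a).1 hg').2, mul_assoc])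
  have := hxzy.mul_left hzy.inv_left
  rwa [mul_inv_cancel_right] at this

theorem Half.elementary (hne : N ≠ ⊥) :
    ∃ p : ℕ, p.Prime ∧ IsMulCommutative N ∧ ∀ x ∈ N, x ^ p = 1 := by
  have hc := H.comm
  obtain ⟨p, hp, hdvd⟩ := Nat.exists_prime_and_dvd (fun e => hne (Subgroup.eq_bot_of_card_eq N e) :
    Nat.card N ≠ 1)
  haveI := Fact.mk hp
  obtain ⟨u, hu⟩ := exists_prime_orderOf_dvd_card' (G := N) p hdvd
  let M : Subgroup G :=
    { carrier := {x | x ∈ N ∧ x ^ p = 1}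
      one_mem' := ⟨one_mem N, one_pow p⟩
      mul_mem' := fun {b c} hb hc' => ⟨mul_mem hb.1 hc'.1, by
        rw [(show Commute b c from hc b hb.1 c hc'.1).mul_pow, hb.2, hc'.2, one_mul]⟩
      inv_mem' := fun {b} hb => ⟨inv_mem hb.1, by rw [inv_pow, hb.2, inv_one]⟩ }
  have hMN : M = N := by
    refine H.eq_top (fun x hx => hx.1) (fun e => ?_) fun h _ x hx => ⟨H.norm.conj_mem x hx.1 h, ?_⟩
    · have hmem : (u : G) ∈ M := ⟨u.2, by
        rw [← SubmonoidClass.coe_pow, ← hu, pow_orderOf_eq_one, OneMemClass.coe_one]⟩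
      rw [e, Subgroup.mem_bot, OneMemClass.coe_eq_one] at hmem
      rw [hmem, orderOf_one] at hu
      exact hp.one_lt.ne hu
    · rw [conj_pow, hx.2, mul_one, mul_inv_cancel]
  exact ⟨p, hp, ⟨⟨fun x y => Subtype.ext (hc x.1 x.2 y.1 y.2)⟩⟩, fun x hx => (hMN ▸ hx : x ∈ M).2⟩

omit H

theorem main [FaithfulSMul G Ω] [Finite Ω] (htrans : IsPretransitive G Ω) (hne : ∀ b : Ω, stabilizer G b ≠ ⊥)
    (hhalf : ∀ a b c : Ω, b ≠ a → c ≠ a →
      Nat.card (orbit (stabilizer G a) b) = Nat.card (orbit (stabilizer G a) c))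
    (N : Subgroup G) [hN : N.Normal] (hNt : IsPretransitive N Ω) (hNr : ∀ b : Ω, stabilizer N b = ⊥)
    (hnotF : ∃ a b : Ω, a ≠ b ∧ stabilizer G a ⊓ stabilizer G b ≠ ⊥) :
    (∃ p : ℕ, p.Prime ∧ IsMulCommutative N ∧ ∀ x ∈ N, x ^ p = 1) ∧
    (∀ M : Subgroup G, M.Normal → M ≠ ⊥ → N ≤ M) := by
  obtain ⟨a, b, hab, hF⟩ := hnotF
  have hinj : ∀ u ∈ N, ∀ v ∈ N, u • a = v • a → u = v := by
    intro u hu v hv e
    have h : (⟨v⁻¹ * u, mul_mem (inv_mem hv) hu⟩ : N) ∈ stabilizer N a := by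
      show (v⁻¹ * u) • a = a
      rw [mul_smul, e, inv_smul_smul]
    rw [hNr a, Subgroup.mem_bot] at h
    exact (inv_mul_eq_one.1 (congrArg Subtype.val h)).symm
  have hfaith : ∀ h : G, h • a = a → (∀ u ∈ N, h * u = u * h) → h = 1 := by
    intro h hh hc
    refine FaithfulSMul.eq_of_smul_eq_smul fun c : Ω => ?_
    obtain ⟨⟨u, hu⟩, huc⟩ := hNt.exists_smul_eq a c
    rw [one_smul, ← huc]
    show h • u • a = u • a
    rw [← mul_smul, hc u hu, mul_smul, hh]
  have hmem : ∀ u ∈ N, ∀ h, h ∈ K a u ↔ h • a = a ∧ h • u • a = u • a := by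
    intro u hu h
    rw [mem_K]
    refine and_congr_right fun hh => ⟨fun hc => ?_, fun hc => ?_⟩
    · rw [← mul_smul, hc, mul_smul, hh]
    · rw [stab_conj hh] at hc
      exact mul_inv_eq_iff_eq_mul.1 (hinj _ (hN.conj_mem u hu h) _ hu hc)
  have hcardK : ∀ u ∈ N, u ≠ 1 →
      Nat.card (orbit (stabilizer G a) (u • a)) * Nat.card (K a u) = Nat.card (stabilizer G a) := by
    intro u hu _
    have h := Subgroup.card_mul_index (stabilizer (stabilizer G a) (u • a))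
    rw [index_stabilizer, ← Nat.card_coe_set_eq, mul_comm] at h
    rw [← h]
    congr 1
    exact Nat.card_congr
      { toFun := fun k => ⟨⟨k.1, ((hmem u hu k.1).1 k.2).1⟩, ((hmem u hu k.1).1 k.2).2⟩
        invFun := fun k => ⟨k.1.1, (hmem u hu k.1.1).2 ⟨k.1.2, k.2⟩⟩
        left_inv := fun k => rfl
        right_inv := fun k => rfl }
  have hne' : ∀ u ∈ N, u ≠ 1 → u • a ≠ a := fun u hu hu1 e =>
    hu1 (hinj u hu 1 (one_mem N) (by rw [e, one_smul]))
  have hcardeq : ∀ u ∈ N, ∀ v ∈ N, u ≠ 1 → v ≠ 1 → Nat.card (K a u) = Nat.card (K a v) := by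
    intro u hu v hv hu1 hv1
    have e1 := hcardK u hu hu1
    have e2 := hcardK v hv hv1
    rw [hhalf a (u • a) (v • a) (hne' u hu hu1) (hne' v hv hv1)] at e1
    refine Nat.eq_of_mul_eq_mul_left ?_ (e1.trans e2.symm)
    haveI : Nonempty (orbit (stabilizer G a) (v • a)) := ⟨⟨_, mem_orbit_self _⟩⟩
    exact Nat.card_pos
  obtain ⟨⟨u₀, hu₀⟩, hu₀b⟩ := hNt.exists_smul_eq a b
  have hu₀b' : u₀ • a = b := hu₀b
  have hu₀1 : u₀ ≠ 1 := fun e => hab (by rw [← hu₀b', e, one_smul])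
  have hK0 : K a u₀ ≠ ⊥ := fun e => hF ((Subgroup.eq_bot_iff_forall _).2 fun g hg => by
    have : g ∈ K a u₀ := (hmem u₀ hu₀ g).2 ⟨hg.1, hu₀b'.symm ▸ hg.2⟩
    rwa [e, Subgroup.mem_bot] at this)
  have H : Half N a := ⟨hN, hinj, hcardeq, fun u hu hu1 e => hK0 (Subgroup.card_eq_one.1
    ((hcardeq u₀ hu₀ u hu hu₀1 hu1).trans (Subgroup.card_eq_one.2 e))), hfaith⟩
  have hNbot : N ≠ ⊥ := fun e => hu₀1 (by rw [← Subgroup.mem_bot, ← e]; exact hu₀)
  refine ⟨H.elementary hNbot, fun M hM hM1 => ?_⟩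
  by_cases hMN : M ⊓ N = ⊥
  · have hcomm : ∀ m ∈ M, ∀ u ∈ N, m * u = u * m := fun m hm u hu =>
      (Subgroup.commute_of_normal_of_disjoint M N hM hN (disjoint_iff.2 hMN) m u hm hu)
    refine absurd ((Subgroup.eq_bot_iff_forall _).2 fun m hm => ?_) hM1
    obtain ⟨⟨n, hn⟩, hna⟩ := hNt.exists_smul_eq a (m • a)
    have hna' : n • a = m • a := hna
    have h1 : n⁻¹ * m = 1 := hfaith _ (by rw [mul_smul, ← hna', inv_smul_smul]) fun u hu => by
      have e1 : Commute m u := hcomm m hm u hu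
      have e2 : Commute n u := H.comm n hn u hu
      exact (e2.inv_left.mul_left e1).eq
    have : m ∈ M ⊓ N := ⟨hm, by rw [← inv_mul_eq_one.1 h1]; exact hn⟩
    rwa [hMN, Subgroup.mem_bot] at this
  · exact le_trans (H.eq_top inf_le_right hMN fun h _ u hu =>
      ⟨hM.conj_mem u hu.1 h, hN.conj_mem u hu.2 h⟩).ge inf_le_left

end CfsgLib.FgsC.HalfTrans
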