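import Cfsg.Agent.Lib.FgsC.Commutant
import Cfsg.Agent.Lib.Coprime.Action

/-!
# The critical case of Theorem B of Hall and Higman

`Q` is a normal `q`-subgroup acting irreducibly over an algebraically closed field of characteristic
`p ≠ q` and `x` has order dividing `P = p ^ n`, such that elements of `Q` commuting with a proper
power of `x` act as scalars. If `(ρ x - 1) ^ s = 0` then `s ≥ P`, or the dimension is `P - 1 = q ^ b`
and `s ≥ P - 1`.

The proof replaces character theory by the dimension of the commutant: conjugation by `x` permutes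
a basis of `End V` semiregularly.
-/

set_option autoImplicit false

open Module
open scoped commutatorElement

namespace CfsgLib.FgsC.HallHigman

/-- Vectors with distinct weights are linearly independent. -/
theorem linearIndependent_of_weights {K W : Type*} [Field K] [AddCommGroup W] [Module K W]
    {ι A : Type*} (T : A → End K W) (χ : ι → A → K) (hχ : Function.Injective χ) (v : ι → W)
    (hv : ∀ i, v i ≠ 0) (hTv : ∀ i a, T a (v i) = χ i a • v i) : LinearIndependent K v := by
  classical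
  rw [linearIndependent_iff']
  intro t
  induction t using Finset.induction_on with
  | empty => intro c _ i hi; exact absurd hi (Finset.notMem_empty i)
  | insert j t hj ih =>
    intro c hsum
    have key : ∀ a, ∑ i ∈ t, (c i * (χ i a - χ j a)) • v i = 0 := by
      intro a
      have h1 := congrArg (T a) hsum
      rw [map_sum, map_zero] at h1
      simp only [map_smul, hTv, smul_smul] at h1
      have h2 := congrArg (fun w => χ j a • w) hsum
      simp only [smul_zero, Finset.smul_sum, smul_smul] at h2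
      rw [Finset.sum_insert hj] at h1 h2
      rw [mul_comm (χ j a) (c j)] at h2
      have h3 : ∑ i ∈ t, (c i * χ i a) • v i = ∑ i ∈ t, (χ j a * c i) • v i :=
        add_left_cancel (h1.trans h2.symm)
      rw [← sub_eq_zero, ← Finset.sum_sub_distrib] at h3
      rw [← h3]
      refine Finset.sum_congr rfl fun i _ => ?_
      rw [← sub_smul]
      congr 1
      ring
    have ht : ∀ i ∈ t, c i = 0 := by
      intro i hi
      obtain ⟨a, ha⟩ : ∃ a, χ i a ≠ χ j a :=
        Function.ne_iff.mp (fun h => hj (hχ h ▸ hi))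
      exact (mul_eq_zero.mp (ih _ (key a) i hi)).resolve_right (sub_ne_zero.mpr ha)
    intro i hi
    rcases Finset.mem_insert.mp hi with rfl | hi'
    · rw [Finset.sum_insert hj, Finset.sum_eq_zero (fun i hi => by rw [ht i hi, zero_smul]),
        add_zero] at hsum
      exact (smul_eq_zero.mp hsum).resolve_right (hv _)
    · exact ht i hi'

variable {G : Type*} [Group G] {K : Type*} [Field K] {V : Type*} [AddCommGroup V] [Module K V]

/-- `ρ k` is a scalar. -/
def IsScalar (ρ : Representation K G V) (k : G) : Prop := ∃ a : K, ρ k = a • (1 : End K V)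

/-- `Q` acts irreducibly. -/
def IsIrredOn (ρ : Representation K G V) (Q : Subgroup G) : Prop :=
  ∀ W : Submodule K V, (∀ g ∈ Q, ∀ w ∈ W, ρ g w ∈ W) → W = ⊥ ∨ W = ⊤

variable {ρ : Representation K G V}

theorem rho_mul_apply (g h : G) (v : V) : ρ g (ρ h v) = ρ (g * h) v := by
  rw [map_mul, End.mul_apply]

theorem rho_inv_apply (g : G) (v : V) : ρ g (ρ g⁻¹ v) = v := by
  rw [rho_mul_apply, mul_inv_cancel, map_one, End.one_apply]

theorem rho_apply_inv (g : G) (v : V) : ρ g⁻¹ (ρ g v) = v := by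
  rw [rho_mul_apply, inv_mul_cancel, map_one, End.one_apply]

theorem rho_ne_zero {g : G} {v : V} (hv : v ≠ 0) : ρ g v ≠ 0 := fun h =>
  hv (by rw [← rho_apply_inv (ρ := ρ) g v, h, map_zero])

theorem rho_mul_left_ne_zero [Nontrivial V] (g : G) : ρ g ≠ 0 := by
  obtain ⟨v, hv⟩ := exists_ne (0 : V)
  intro h
  exact rho_ne_zero (ρ := ρ) (g := g) hv (by rw [h, LinearMap.zero_apply])

variable (ρ) in
/-- The elements of `Q` acting as scalars. -/
def scalarSubgroup (Q : Subgroup G) : Subgroup G where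
  carrier := {k | k ∈ Q ∧ IsScalar ρ k}
  mul_mem' := by
    rintro k l ⟨hk, a, ha⟩ ⟨hl, b, hb⟩
    refine ⟨Q.mul_mem hk hl, a * b, ?_⟩
    rw [map_mul, ha, hb, smul_mul_assoc, one_mul, smul_smul]
  one_mem' := ⟨Q.one_mem, 1, by rw [map_one, one_smul]⟩
  inv_mem' := by
    rintro k ⟨hk, a, ha⟩
    refine ⟨Q.inv_mem hk, a⁻¹, LinearMap.ext fun v => ?_⟩
    rcases eq_or_ne a 0 with rfl | ha0
    · have h0 : ρ k v = 0 := by rw [ha, zero_smul, LinearMap.zero_apply]
      have hv : v = 0 := by rw [← rho_apply_inv (ρ := ρ) k v, h0, map_zero]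
      simp [hv]
    · rw [LinearMap.smul_apply, End.one_apply]
      conv_rhs => rw [← rho_apply_inv (ρ := ρ) k v, ha, LinearMap.smul_apply, End.one_apply,
        map_smul, smul_smul, inv_mul_cancel₀ ha0, one_smul]

theorem mem_scalarSubgroup {Q : Subgroup G} {k : G} :
    k ∈ scalarSubgroup ρ Q ↔ k ∈ Q ∧ IsScalar ρ k := Iff.rfl

instance scalarSubgroup_normal (Q : Subgroup G) [Q.Normal] : (scalarSubgroup ρ Q).Normal :=
  ⟨fun k hk g => ⟨(inferInstance : Q.Normal).conj_mem k hk.1 g, by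
    obtain ⟨a, ha⟩ := hk.2
    refine ⟨a, ?_⟩
    rw [map_mul, map_mul, ha, mul_smul_comm, mul_one, smul_mul_assoc, ← map_mul, mul_inv_cancel,
      map_one]⟩⟩

/-- An endomorphism commuting with an irreducible group is a scalar. -/
theorem isScalar_of_commute [IsAlgClosed K] [FiniteDimensional K V] [Nontrivial V]
    {Q : Subgroup G} (hirr : IsIrredOn ρ Q) {f : End K V} (hf : ∀ g ∈ Q, ρ g * f = f * ρ g) :
    ∃ a : K, f = a • (1 : End K V) := by
  obtain ⟨a, ha⟩ := End.exists_eigenvalue f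
  refine ⟨a, ?_⟩
  rcases hirr (End.eigenspace f a) (fun g hg w hw => by
    rw [End.mem_eigenspace_iff] at hw ⊢
    rw [← End.mul_apply, ← hf g hg, End.mul_apply, hw, map_smul]) with h | h
  · exact absurd h ha
  · refine LinearMap.ext fun v => ?_
    rw [LinearMap.smul_apply, End.one_apply]
    exact End.mem_eigenspace_iff.mp (h ▸ Submodule.mem_top)

variable (ρ) in
/-- A weight space. -/
def wspace (A : Subgroup G) (χ : G → K) : Submodule K V where
  carrier := {v | ∀ a ∈ A, ρ a v = χ a • v}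
  add_mem' := fun {u v} hu hv a ha => by rw [map_add, hu a ha, hv a ha, smul_add]
  zero_mem' := fun a _ => by rw [map_zero, smul_zero]
  smul_mem' := fun c {v} hv a ha => by rw [map_smul, hv a ha, smul_comm]

theorem mem_wspace {A : Subgroup G} {χ : G → K} {v : V} :
    v ∈ wspace ρ A χ ↔ ∀ a ∈ A, ρ a v = χ a • v := Iff.rfl

theorem rho_mem_wspace {A : Subgroup G} [A.Normal] {χ : G → K} {v : V} (hv : v ∈ wspace ρ A χ)
    (g : G) : ρ g v ∈ wspace ρ A fun a => χ (g⁻¹ * a * g) := by
  intro a ha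
  have ha' : g⁻¹ * a * g ∈ A := by
    simpa using (inferInstance : A.Normal).conj_mem a ha g⁻¹
  rw [rho_mul_apply, show a * g = g * (g⁻¹ * a * g) by group, ← rho_mul_apply, hv _ ha', map_smul]

/-- A common eigenvector for an abelian group of operators. -/
theorem exists_weight [IsAlgClosed K] [FiniteDimensional K V] [Nontrivial V] (A : Subgroup G)
    (hab : ∀ a ∈ A, ∀ b ∈ A, ρ a * ρ b = ρ b * ρ a) :
    ∃ χ : G → K, wspace ρ A χ ≠ ⊥ := by
  classical
  obtain ⟨W, ⟨hW, hWA⟩, hmin⟩ := wellFounded_lt.has_min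
    {W : Submodule K V | W ≠ ⊥ ∧ ∀ a ∈ A, ∀ w ∈ W, ρ a w ∈ W}
    ⟨⊤, top_ne_bot, fun _ _ _ _ => Submodule.mem_top⟩
  haveI : Nontrivial W := (Submodule.nontrivial_iff_ne_bot).mpr hW
  have hex : ∀ a ∈ A, ∃ c : K, ∀ w ∈ W, ρ a w = c • w := by
    intro a ha
    obtain ⟨c, hc⟩ := End.exists_eigenvalue ((ρ a).restrict (hWA a ha))
    refine ⟨c, fun w hw => ?_⟩
    let E := W ⊓ End.eigenspace (ρ a) c
    have hEne : E ≠ ⊥ := by
      obtain ⟨u, hu, hu0⟩ := Submodule.exists_mem_ne_zero_of_ne_bot hc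
      intro hE
      refine hu0 (Subtype.ext ?_)
      have hmem : (u : V) ∈ E := ⟨u.2, End.mem_eigenspace_iff.mpr
        (congrArg Subtype.val (End.mem_eigenspace_iff.mp hu))⟩
      rwa [hE, Submodule.mem_bot] at hmem
    have hEA : ∀ b ∈ A, ∀ v ∈ E, ρ b v ∈ E := fun b hb v hv =>
      ⟨hWA b hb v hv.1, End.mem_eigenspace_iff.mpr (by
        rw [← End.mul_apply, hab a ha b hb, End.mul_apply, End.mem_eigenspace_iff.mp hv.2,
          map_smul])⟩
    have hEW : E = W := (eq_or_lt_of_le (inf_le_left : E ≤ W)).resolve_right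
      (hmin E ⟨hEne, hEA⟩)
    exact End.mem_eigenspace_iff.mp (hEW.symm ▸ hw : w ∈ E).2
  choose c hc using hex
  refine ⟨fun a => if ha : a ∈ A then c a ha else 0, fun h => hW (le_bot_iff.mp (h ▸ ?_))⟩
  intro w hw a ha
  show ρ a w = (if ha : a ∈ A then c a ha else 0) • w
  rw [dif_pos ha]
  exact hc a ha w hw

theorem exists_fixed_in_coset [Finite G] {p q : ℕ} [Fact p.Prime] [Fact q.Prime] (hpq : p ≠ q)
    {Q M : Subgroup G} (hQ : IsPGroup q Q) (hM : M ≤ Q) {y : G} (hy : ∃ i, orderOf y = p ^ i)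
    (hyM : y ∈ Subgroup.normalizer (M : Set G)) {k : G} (hfix : k⁻¹ * (y * k * y⁻¹) ∈ M) :
    ∃ c, Commute c y ∧ k⁻¹ * c ∈ M := by
  obtain ⟨i, hi⟩ := hy
  obtain ⟨j, hj⟩ := IsPGroup.iff_card.mp (hQ.to_le hM)
  have hzN : Subgroup.zpowers y ≤ Subgroup.normalizer (M : Set G) := Subgroup.zpowers_le.mpr hyM
  have hcop : (Nat.card (Subgroup.zpowers y)).Coprime (Nat.card M) := by
    rw [Nat.card_zpowers, hi, hj]
    exact Nat.coprime_pow_primes i j Fact.out Fact.out hpq
  -- the set of elements fixing the coset is a subgroup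
  let S : Subgroup G :=
    { carrier := {a | a ∈ Subgroup.normalizer (M : Set G) ∧ k⁻¹ * (a * k * a⁻¹) ∈ M}
      mul_mem' := by
        rintro a b ⟨ha, ha'⟩ ⟨hb, hb'⟩
        refine ⟨mul_mem ha hb, ?_⟩
        have h1 := M.mul_mem ha' ((Subgroup.mem_normalizer_iff.mp ha _).mp hb')
        rw [show k⁻¹ * (a * b * k * (a * b)⁻¹)
          = k⁻¹ * (a * k * a⁻¹) * (a * (k⁻¹ * (b * k * b⁻¹)) * a⁻¹) by group]
        exact h1
      one_mem' := ⟨one_mem _, by simp⟩
      inv_mem' := by
        rintro a ⟨ha, ha'⟩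
        refine ⟨inv_mem ha, ?_⟩
        have h1 := (Subgroup.mem_normalizer_iff.mp (inv_mem ha) _).mp (M.inv_mem ha')
        rw [show k⁻¹ * (a⁻¹ * k * a⁻¹⁻¹) = a⁻¹ * (k⁻¹ * (a * k * a⁻¹))⁻¹ * a⁻¹⁻¹ by group]
        exact h1 }
  have hsol : Group.IsSolvable (Subgroup.zpowers y) := Group.isSolvable_of_comm fun a b => by
    obtain ⟨a, i, rfl⟩ := a
    obtain ⟨b, j, rfl⟩ := b
    exact Subtype.ext ((Commute.refl y).zpow_zpow i j)
  obtain ⟨c, hc, hkc⟩ := CfsgLib.Coprime.exists_centralizing_in_coset hzN hcop (Or.inl hsol)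
    (k := k) (fun a ha => ((Subgroup.zpowers_le.mpr (show y ∈ S from ⟨hyM, hfix⟩)) ha).2)
  exact ⟨c, (Subgroup.mem_centralizer_iff.mp hc y (Subgroup.mem_zpowers y)).symm, hkc⟩

variable [Finite G] [IsAlgClosed K] [FiniteDimensional K V] [Nontrivial V]
  {p q : ℕ} [hp : Fact p.Prime] [hq : Fact q.Prime]

/-- A nonscalar abelian normal subgroup gives a regular orbit of weights, so `s ≥ p ^ n`. -/
theorem le_of_abelian {Q : Subgroup G} [Q.Normal] (hpq : p ≠ q) (hQ : IsPGroup q Q)
    (hirr : IsIrredOn ρ Q) {x : G} {n : ℕ} (hn : 0 < n) (hxP : x ^ p ^ n = 1)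
    (hfix : ∀ k ∈ Q, Commute k (x ^ p ^ (n - 1)) → IsScalar ρ k)
    {A : Subgroup G} [A.Normal]
    (hab : ∀ a ∈ A, ∀ b ∈ A, ρ a * ρ b = ρ b * ρ a) (hA : ∃ a ∈ A, ¬ IsScalar ρ a)
    {s : ℕ} (hs : (ρ x - 1) ^ s = 0) : p ^ n ≤ s := by
  classical
  set y := x ^ p ^ (n - 1) with hy
  obtain ⟨χ, hχ⟩ := exists_weight A hab
  obtain ⟨v₀, hv₀, hv₀0⟩ := Submodule.exists_mem_ne_zero_of_ne_bot hχ
  let tr : G → G → K := fun g a => χ (g⁻¹ * a * g)
  have hconj : ∀ {g a : G}, a ∈ A → g⁻¹ * a * g ∈ A := fun {g a} ha => by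
    simpa using (inferInstance : A.Normal).conj_mem a ha g⁻¹
  -- some weight is moved by `y`
  obtain ⟨k₀, hk₀, hmove⟩ : ∃ k ∈ Q, ∃ a ∈ A, tr k (y⁻¹ * a * y) ≠ tr k a := by
    by_contra hc
    push Not at hc
    let Q1 : Subgroup G :=
      { carrier := {k | k ∈ Q ∧ ∀ a ∈ A, tr k a = χ a}
        mul_mem' := by
          rintro k l ⟨hk, hk'⟩ ⟨hl, hl'⟩
          refine ⟨Q.mul_mem hk hl, fun a ha => ?_⟩
          show χ ((k * l)⁻¹ * a * (k * l)) = χ a
          rw [show (k * l)⁻¹ * a * (k * l) = l⁻¹ * (k⁻¹ * a * k) * l by group]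
          exact (hl' _ (hconj ha)).trans (hk' a ha)
        one_mem' := ⟨Q.one_mem, fun a _ => by simp [tr]⟩
        inv_mem' := by
          rintro k ⟨hk, hk'⟩
          refine ⟨Q.inv_mem hk, fun a ha => ?_⟩
          have h1 := hk' (k⁻¹⁻¹ * a * k⁻¹) (hconj ha)
          show χ (k⁻¹⁻¹ * a * k⁻¹) = χ a
          rw [← h1]
          show χ (k⁻¹ * (k⁻¹⁻¹ * a * k⁻¹) * k) = χ a
          congr 1
          group }
    have h1 : ∀ a ∈ A, χ (y⁻¹ * a * y) = χ a := fun a ha => by
      simpa [tr] using hc 1 Q.one_mem a ha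
    have h2 : ∀ a ∈ A, χ (y * a * y⁻¹) = χ a := fun a ha => by
      have h3 := h1 (y * a * y⁻¹) ((inferInstance : A.Normal).conj_mem a ha y)
      rw [show y⁻¹ * (y * a * y⁻¹) * y = a by group] at h3
      exact h3.symm
    have hyQ1 : y ∈ Subgroup.normalizer (Q1 : Set G) := by
      refine Subgroup.mem_normalizer_iff.mpr fun k => ⟨fun hk => ?_, fun hk => ?_⟩
      · refine ⟨(inferInstance : Q.Normal).conj_mem k hk.1 y, fun a ha => ?_⟩
        show χ ((y * k * y⁻¹)⁻¹ * a * (y * k * y⁻¹)) = χ a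
        rw [show (y * k * y⁻¹)⁻¹ * a * (y * k * y⁻¹)
            = y * (k⁻¹ * (y⁻¹ * a * y) * k) * y⁻¹ by group, h2 _ (hconj (hconj ha))]
        exact (hk.2 _ (hconj ha)).trans (h1 a ha)
      · refine ⟨by simpa [mul_assoc] using (inferInstance : Q.Normal).conj_mem _ hk.1 y⁻¹,
          fun a ha => ?_⟩
        have hya : y * a * y⁻¹ ∈ A := (inferInstance : A.Normal).conj_mem a ha y
        have h3 := hk.2 (y * a * y⁻¹) hya
        change χ ((y * k * y⁻¹)⁻¹ * (y * a * y⁻¹) * (y * k * y⁻¹)) = _ at h3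
        rw [show (y * k * y⁻¹)⁻¹ * (y * a * y⁻¹) * (y * k * y⁻¹)
            = y * (k⁻¹ * a * k) * y⁻¹ by group, h2 _ (hconj ha), h2 a ha] at h3
        exact h3
    have hall : ∀ k ∈ Q, k ∈ Q1 := by
      intro k hk
      have hy_ord : ∃ i, orderOf y = p ^ i := by
        obtain ⟨i, -, hi⟩ := (Nat.dvd_prime_pow hp.out).mp
          (orderOf_dvd_of_pow_eq_one (show y ^ p ^ n = 1 by
            rw [hy, ← pow_mul, mul_comm, pow_mul, hxP, one_pow]))
        exact ⟨i, hi⟩
      obtain ⟨c, hcy, hkc⟩ := exists_fixed_in_coset hpq hQ (M := Q1) (fun _ h => h.1) hy_ord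
        hyQ1 (k := k) ⟨Q.mul_mem (Q.inv_mem hk) ((inferInstance : Q.Normal).conj_mem k hk y),
          fun a ha => by
            show χ ((k⁻¹ * (y * k * y⁻¹))⁻¹ * a * (k⁻¹ * (y * k * y⁻¹))) = χ a
            have ha' : k * a * k⁻¹ ∈ A := (inferInstance : A.Normal).conj_mem a ha k
            rw [show (k⁻¹ * (y * k * y⁻¹))⁻¹ * a * (k⁻¹ * (y * k * y⁻¹))
              = y * (k⁻¹ * (y⁻¹ * (k * a * k⁻¹) * y) * k) * y⁻¹ by group,
              h2 _ (hconj (hconj ha'))]
            refine (hc k hk _ ha').trans ?_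
            show χ (k⁻¹ * (k * a * k⁻¹) * k) = χ a
            congr 1
            group⟩
      have hcQ : c ∈ Q := by
        have h4 := Q.mul_mem hk hkc.1
        rwa [mul_inv_cancel_left] at h4
      obtain ⟨b, hb⟩ := hfix c hcQ hcy
      have hcQ1 : c ∈ Q1 := by
        refine ⟨hcQ, fun a ha => ?_⟩
        have e1 := rho_mem_wspace hv₀ c a ha
        have e2 : ρ c v₀ = b • v₀ := by rw [hb, LinearMap.smul_apply, End.one_apply]
        rw [e2, map_smul, hv₀ a ha, smul_smul, smul_smul, mul_comm b] at e1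
        rcases mul_eq_mul_right_iff.mp (smul_left_injective K hv₀0 e1) with h | h
        · exact h.symm
        · exact absurd (e2.trans (by rw [h, zero_smul])) (rho_ne_zero hv₀0)
      have := Q1.mul_mem hcQ1 (Q1.inv_mem hkc)
      rwa [mul_inv_rev, inv_inv, mul_inv_cancel_left] at this
    have htop : wspace ρ A χ = ⊤ := (hirr _ (fun k hk w hw => by
      intro a ha
      rw [rho_mem_wspace hw k a ha]
      congr 1
      exact (hall k hk).2 a ha)).resolve_left hχ
    obtain ⟨a, ha, hna⟩ := hA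
    refine hna ⟨χ a, LinearMap.ext fun v => ?_⟩
    rw [LinearMap.smul_apply, End.one_apply]
    exact (htop.symm ▸ Submodule.mem_top : v ∈ wspace ρ A χ) a ha
  obtain ⟨a₁, ha₁, hmove⟩ := hmove
  set v := ρ k₀ v₀ with hv
  have hv0 : v ≠ 0 := rho_ne_zero hv₀0
  by_contra hlt
  push Not at hlt
  -- the translates of `v` have distinct weights
  let St : Subgroup G :=
    { carrier := {g | ∀ a ∈ A, tr k₀ (g⁻¹ * a * g) = tr k₀ a}
      mul_mem' := by
        intro g h hg hh a ha
        rw [show (g * h)⁻¹ * a * (g * h) = h⁻¹ * (g⁻¹ * a * g) * h by group]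
        exact (hh _ (hconj ha)).trans (hg a ha)
      one_mem' := by intro a _; simp
      inv_mem' := by
        intro g hg a ha
        have h1 := hg (g⁻¹⁻¹ * a * g⁻¹) (hconj ha)
        rw [show g⁻¹ * (g⁻¹⁻¹ * a * g⁻¹) * g = a by group] at h1
        exact h1.symm }
  let ψ : Fin (p ^ n) → A → K := fun i a => tr k₀ ((x ^ (i : ℕ))⁻¹ * a * x ^ (i : ℕ))
  have hψ : Function.Injective ψ := by
    intro i j hij
    by_contra hne
    wlog hlt' : (i : ℕ) < j generalizing i j
    · exact this hij.symm (Ne.symm hne)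
        (lt_of_le_of_ne (Nat.le_of_not_lt hlt') (fun h => hne (Fin.ext h).symm))
    have hd : x ^ ((j : ℕ) - i) ∈ St := by
      intro a ha
      have h1 := congrFun hij ⟨x ^ (i : ℕ) * a * (x ^ (i : ℕ))⁻¹,
        (inferInstance : A.Normal).conj_mem a ha _⟩
      simp only [ψ] at h1
      rw [show (x ^ (i : ℕ))⁻¹ * (x ^ (i : ℕ) * a * (x ^ (i : ℕ))⁻¹) * x ^ (i : ℕ) = a by group,
        show x ^ (j : ℕ) = x ^ (i : ℕ) * x ^ ((j : ℕ) - i) by rw [← pow_add]; congr 1; omega,
        show (x ^ (i : ℕ) * x ^ ((j : ℕ) - i))⁻¹ * (x ^ (i : ℕ) * a * (x ^ (i : ℕ))⁻¹) *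
            (x ^ (i : ℕ) * x ^ ((j : ℕ) - i))
          = (x ^ ((j : ℕ) - i))⁻¹ * a * x ^ ((j : ℕ) - i) by group] at h1
      exact h1.symm
    -- a proper power of `x` has `y` as a power
    have hy' : y ∈ Subgroup.zpowers (x ^ ((j : ℕ) - i)) := by
      set d := (j : ℕ) - i with hd'
      have hd0 : d ≠ 0 := by omega
      obtain ⟨e, he, hg⟩ := (Nat.dvd_prime_pow hp.out).mp (Nat.gcd_dvd_right d (p ^ n))
      have hen : e < n := by
        by_contra h
        push Not at h
        have h5 : Nat.gcd d (p ^ n) ≤ d := Nat.gcd_le_left _ (Nat.pos_of_ne_zero hd0)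
        rw [hg, show e = n by omega] at h5
        have := j.isLt
        omega
      have hx1 : x ^ Nat.gcd d (p ^ n) ∈ Subgroup.zpowers (x ^ d) := by
        refine ⟨Nat.gcdA d (p ^ n), ?_⟩
        show (x ^ d) ^ Nat.gcdA d (p ^ n) = _
        rw [← zpow_natCast x (Nat.gcd d (p ^ n)), Nat.gcd_eq_gcd_ab, zpow_add, zpow_mul, zpow_mul,
          zpow_natCast, zpow_natCast, hxP, one_zpow, mul_one]
      rw [hg] at hx1
      have hyeq : y = (x ^ p ^ e) ^ p ^ (n - 1 - e) := by
        rw [hy, ← pow_mul, ← pow_add]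
        congr 2
        omega
      rw [hyeq]
      exact pow_mem hx1 _
    exact hmove ((Subgroup.zpowers_le.mpr hd hy') a₁ ha₁)
  have hli := linearIndependent_of_weights (fun a : A => ρ (a : G)) ψ hψ
    (fun i => ρ (x ^ (i : ℕ)) v) (fun i => rho_ne_zero hv0)
    (fun i a => rho_mem_wspace (rho_mem_wspace hv₀ k₀) (x ^ (i : ℕ)) a a.2)
  rw [Fintype.linearIndependent_iff] at hli
  have hexp : ∑ i : Fin (p ^ n),
      (if (i : ℕ) ≤ s then ((-1 : K) ^ (s - i)) * (s.choose i : K) else 0) • ρ (x ^ (i : ℕ)) v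
        = 0 := by
    rw [Fin.sum_univ_eq_sum_range
      (fun i => (if i ≤ s then ((-1 : K) ^ (s - i)) * (s.choose i : K) else 0) • ρ (x ^ i) v),
      ← Finset.sum_subset (Finset.range_subset_range.mpr (Nat.succ_le_iff.mpr hlt))
        (fun i _ hi => by
          rw [if_neg (fun h => hi (Finset.mem_range.mpr (Nat.lt_succ_of_le h))), zero_smul])]
    have h1 : (ρ x + algebraMap K (End K V) (-1)) ^ s = 0 := by
      rw [map_neg, map_one, ← sub_eq_add_neg]; exact hs
    have hcm : Commute (ρ x) (algebraMap K (End K V) (-1)) := (Algebra.commutes (-1 : K) (ρ x)).symm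
    rw [hcm.add_pow] at h1
    have h2 := LinearMap.congr_fun h1 v
    rw [LinearMap.zero_apply, LinearMap.sum_apply] at h2
    refine Eq.trans (Finset.sum_congr rfl fun i hi => ?_) h2
    rw [if_pos (Nat.lt_succ_iff.mp (Finset.mem_range.mp hi)), ← map_pow (algebraMap K (End K V)),
      ← map_pow ρ, ← map_natCast (algebraMap K (End K V)) (s.choose i), mul_assoc, ← map_mul,
      End.mul_apply, Module.algebraMap_end_apply, map_smul]
  have := hli _ hexp ⟨s, hlt⟩
  simp at this

omit [IsAlgClosed K] [FiniteDimensional K V] [Nontrivial V] [Finite G] in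
theorem rho_commutator_scalar {k g : G} (hk : IsScalar ρ k) : ρ ⁅k, g⁆ = 1 := by
  obtain ⟨a, ha⟩ := hk
  rw [commutatorElement_def, map_mul, map_mul, map_mul, ha]
  rw [smul_mul_assoc, one_mul, smul_mul_assoc, ← LinearMap.ext_iff.mpr (fun v => (by
    simp only [LinearMap.smul_apply, End.mul_apply, map_smul] :
      (ρ g * (a • ρ k⁻¹)) v = (a • (ρ g * ρ k⁻¹)) v))]
  rw [show a • ρ k⁻¹ = (a • (1 : End K V)) * ρ k⁻¹ by rw [smul_mul_assoc, one_mul], ← ha,
    ← map_mul, mul_inv_cancel, map_one, mul_one, ← map_mul, mul_inv_cancel, map_one]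

/-- A basis of `End V` from an irreducible group with scalar commutators. -/
theorem end_basis {Q : Subgroup G} [Q.Normal] (hQ : IsPGroup q Q) (hirr : IsIrredOn ρ Q)
    (hL1 : ∀ t ∈ Q, ∀ k ∈ Q, IsScalar ρ ⁅t, k⁆) :
    LinearIndependent K
        (fun c : Q ⧸ (scalarSubgroup ρ Q).subgroupOf Q => ρ ((Quotient.out c : Q) : G)) ∧
      ⊤ ≤ Submodule.span K (Set.range
        (fun c : Q ⧸ (scalarSubgroup ρ Q).subgroupOf Q => ρ ((Quotient.out c : Q) : G))) ∧
      (∃ b, finrank K V = q ^ b) ∧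
      Nat.card (Q ⧸ (scalarSubgroup ρ Q).subgroupOf Q) = finrank K V * finrank K V ∧
      ∀ k : Q, ∃ a : K, a ≠ 0 ∧ ρ (k : G) =
        a • ρ ((Quotient.out (QuotientGroup.mk k :
          Q ⧸ (scalarSubgroup ρ Q).subgroupOf Q) : Q) : G) := by
  classical
  -- the basis of `End V`
  set S := scalarSubgroup ρ Q with hS
  set SQ := S.subgroupOf Q with hSQ
  haveI : SQ.Normal := by rw [hSQ]; infer_instance
  haveI : Fintype (Q ⧸ SQ) := Fintype.ofFinite _
  set e : Q ⧸ SQ → End K V := fun c => ρ ((Quotient.out c : Q) : G) with he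
  have hsame : ∀ k : Q, ∃ a : K, a ≠ 0 ∧ ρ (k : G) = a • e (QuotientGroup.mk k) := by
    intro k
    obtain ⟨z, hz⟩ := QuotientGroup.mk_out_eq_mul SQ k
    obtain ⟨a, ha⟩ := (mem_scalarSubgroup.mp (Subgroup.mem_subgroupOf.mp (SQ.inv_mem z.2))).2
    have h1 : ρ (k : G) = a • e (QuotientGroup.mk k) := by
      rw [he]; dsimp only
      rw [hz, Subgroup.coe_mul, map_mul]
      have hk : ρ (k : G) = ρ (k : G) * ρ ((z : Q) : G) * (a • (1 : End K V)) := by
        rw [← ha, ← map_mul, ← map_mul]; congr 1; simp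
      rw [mul_smul_comm, mul_one] at hk
      exact hk
    refine ⟨a, fun h0 => ?_, h1⟩
    rw [h0, zero_smul] at h1
    exact rho_mul_left_ne_zero (k : G) h1
  have hconjsc : ∀ t k : Q, ∃ a : K, ρ (t : G) * ρ (k : G) * ρ ((t : G)⁻¹) = a • ρ (k : G) := by
    intro t k
    obtain ⟨a, ha⟩ := hL1 t t.2 k k.2
    refine ⟨a, ?_⟩
    rw [← map_mul, ← map_mul,
      show (t : G) * k * (t : G)⁻¹ = ⁅(t : G), (k : G)⁆ * k by rw [commutatorElement_def]; group,
      map_mul, ha, smul_mul_assoc, one_mul]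
  choose lam hlam using hconjsc
  have hli : LinearIndependent K e := by
    refine linearIndependent_of_weights
      (fun t : Q => (LinearMap.mulRight K (ρ ((t : G)⁻¹))).comp (LinearMap.mulLeft K (ρ (t : G))))
      (fun c t => lam t (Quotient.out c)) ?_ e (fun c => rho_mul_left_ne_zero _)
      (fun c t => hlam t _)
    intro c d hcd
    rw [← QuotientGroup.out_eq' c, ← QuotientGroup.out_eq' d, QuotientGroup.eq]
    set k := Quotient.out c
    set l := Quotient.out d
    refine Subgroup.mem_subgroupOf.mpr ⟨(k⁻¹ * l).2, isScalar_of_commute hirr fun g hg => ?_⟩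
    have h1 := hlam ⟨g, hg⟩ k
    have h2 := hlam ⟨g, hg⟩ l
    have h3 : lam ⟨g, hg⟩ k = lam ⟨g, hg⟩ l := congrFun hcd ⟨g, hg⟩
    have hlne : lam ⟨g, hg⟩ k ≠ 0 := fun h0 => by
      rw [h0, zero_smul, ← map_mul, ← map_mul] at h1
      exact rho_mul_left_ne_zero _ h1
    simp only at h1 h2
    rw [← h3] at h2
    have h4 : ρ (g * (k : G)⁻¹ * g⁻¹) = (lam ⟨g, hg⟩ k)⁻¹ • ρ (k : G)⁻¹ := by
      have h5 : ρ (g * (k : G)⁻¹ * g⁻¹) * (lam ⟨g, hg⟩ k • ρ (k : G)) = 1 := by
        rw [← h1, ← map_mul, ← map_mul, ← map_mul, ← map_one ρ]; congr 1; group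
      rw [mul_smul_comm, ← map_mul] at h5
      have h6 := congrArg (fun f => (lam ⟨g, hg⟩ k)⁻¹ • (f * ρ (k : G)⁻¹)) h5
      simp only [smul_mul_assoc, smul_smul, inv_mul_cancel₀ hlne, one_smul, one_mul, ← map_mul,
        mul_inv_cancel_right] at h6
      exact h6
    have h7 : ρ g * ρ ((k : G)⁻¹ * l) * ρ g⁻¹ = ρ ((k : G)⁻¹ * l) := by
      calc ρ g * ρ ((k : G)⁻¹ * l) * ρ g⁻¹
          = ρ (g * (k : G)⁻¹ * g⁻¹) * (ρ g * ρ (l : G) * ρ g⁻¹) := by
            simp only [← map_mul]; congr 1; group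
        _ = ρ ((k : G)⁻¹ * l) := by
            rw [h4, h2, smul_mul_assoc, mul_smul_comm, smul_smul, inv_mul_cancel₀ hlne, one_smul,
              map_mul]
    have h8 := congrArg (· * ρ g) h7
    simp only [mul_assoc, ← map_mul ρ g⁻¹ g, inv_mul_cancel, map_one, mul_one] at h8
    simpa [Subgroup.coe_mul] using h8
  have hspan : ⊤ ≤ Submodule.span K (Set.range e) := by
    let M : Submonoid (End K V) := (Q.toSubmonoid).map ρ
    let R : Subalgebra K (End K V) := Algebra.adjoin K (M : Set (End K V))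
    have hsimple : IsSimpleModule R V := by
      refine isSimpleModule_iff_toSpanSingleton_surjective.mpr ⟨inferInstance, fun u hu => ?_⟩
      rcases hirr ((LinearMap.range (LinearMap.toSpanSingleton R V u)).restrictScalars K)
        (fun g hg w hw => by
          obtain ⟨r, rfl⟩ := hw
          exact ⟨⟨ρ g, Algebra.subset_adjoin ⟨g, hg, rfl⟩⟩ * r, by
            simp only [LinearMap.toSpanSingleton_apply, mul_smul]; rfl⟩) with h | h
      · refine absurd ?_ hu
        have : u ∈ (LinearMap.range (LinearMap.toSpanSingleton R V u)).restrictScalars K :=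
          ⟨1, one_smul R u⟩
        rwa [h, Submodule.mem_bot] at this
      · intro w
        exact (h.symm ▸ Submodule.mem_top :
          w ∈ (LinearMap.range (LinearMap.toSpanSingleton R V u)).restrictScalars K)
    intro f _
    have hschur : ∀ φ : Module.End R V, ∃ a : K, ∀ w, φ w = a • w := by
      intro φ
      obtain ⟨a, ha⟩ := isScalar_of_commute hirr
        (f := (φ.restrictScalars K : End K V)) (fun g hg => LinearMap.ext fun w => by
          exact (φ.map_smul ⟨ρ g, Algebra.subset_adjoin ⟨g, hg, rfl⟩⟩ w).symm)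
      exact ⟨a, fun w => LinearMap.congr_fun ha w⟩
    let f' : Module.End (Module.End R V) V :=
      { toFun := f
        map_add' := map_add f
        map_smul' := fun φ w => by
          obtain ⟨a, ha⟩ := hschur φ
          show f (φ w) = φ (f w)
          rw [ha, ha, map_smul] }
    let bV := Module.finBasis K V
    obtain ⟨r, hr⟩ := jacobson_density f' (Finset.univ.image bV)
    have hfr : f = (r : End K V) :=
      bV.ext fun i => hr _ (Finset.mem_image_of_mem _ (Finset.mem_univ i))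
    have hR : Subalgebra.toSubmodule R ≤ Submodule.span K (Set.range e) := by
      rw [Algebra.adjoin_eq_span, Submonoid.closure_eq, Submodule.span_le]
      rintro _ ⟨g, hg, rfl⟩
      obtain ⟨a, -, ha⟩ := hsame ⟨g, hg⟩
      rw [SetLike.mem_coe, show ρ g = _ from ha]
      exact Submodule.smul_mem _ _ (Submodule.subset_span ⟨_, rfl⟩)
    rw [hfr]
    exact hR r.2
  set N := finrank K V with hN
  have hcard : Fintype.card (Q ⧸ SQ) = N * N := by
    rw [← finrank_eq_card_basis (Basis.mk hli hspan), finrank_linearMap]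
  have hNq : ∃ b, N = q ^ b := by
    obtain ⟨c, hc⟩ := IsPGroup.iff_card.mp (hQ.to_quotient SQ)
    rw [Nat.card_eq_fintype_card, hcard] at hc
    obtain ⟨b, -, hb⟩ := (Nat.dvd_prime_pow hq.out).mp ⟨N, hc.symm⟩
    exact ⟨b, hb⟩
  exact ⟨hli, hspan, hNq, by rw [Nat.card_eq_fintype_card]; exact hcard, hsame⟩

/-- Conjugation by `x` permutes a basis of `End V`: the dimensions of the commutants. -/
theorem conj_orbits {Q : Subgroup G} [Q.Normal] (hpq : p ≠ q) (hQ : IsPGroup q Q)
    (hirr : IsIrredOn ρ Q) {x : G} {n : ℕ} (hxP : x ^ p ^ n = 1)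
    (hfix : ∀ i, 0 < i → i < p ^ n → ∀ k ∈ Q, Commute k (x ^ i) → IsScalar ρ k)
    (hL1 : ∀ t ∈ Q, ∀ k ∈ Q, IsScalar ρ ⁅t, k⁆) :
    (∃ b, finrank K V = q ^ b) ∧ ∀ i, 0 < i → i ≤ p ^ n → p ^ n % i = 0 →
      ∃ r, finrank K V * finrank K V = 1 + r * (p ^ n / i) ∧
        finrank K (Commutant.commutant (ρ (x ^ i) - 1)) = 1 + r := by
  classical
  set P := p ^ n with hPdef
  -- the basis of `End V`
  set S := scalarSubgroup ρ Q with hS
  set SQ := S.subgroupOf Q with hSQ
  haveI : SQ.Normal := by rw [hSQ]; infer_instance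
  haveI : Fintype (Q ⧸ SQ) := Fintype.ofFinite _
  set e : Q ⧸ SQ → End K V := fun c => ρ ((Quotient.out c : Q) : G) with he
  obtain ⟨hli, hspan, hNq, hcard', hsame⟩ := end_basis (ρ := ρ) hQ hirr hL1
  set N := finrank K V with hN
  have hcard : Fintype.card (Q ⧸ SQ) = N * N := by rw [← Nat.card_eq_fintype_card]; exact hcard'
  -- conjugation by powers of `x`
  have hcomm : ∀ i, 0 < i → i ≤ P → P % i = 0 → ∃ r, N * N = 1 + r * (P / i) ∧
      finrank K (Commutant.commutant (ρ (x ^ i) - 1)) = 1 + r := by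
    intro i hi0 hiP hid
    set y := x ^ i with hy
    have hiP' : i * (P / i) = P := Nat.mul_div_cancel' (Nat.dvd_of_mod_eq_zero hid)
    have hyP : y ^ (P / i) = 1 := by rw [hy, ← pow_mul, hiP', hxP]
    let T : End K (End K V) := (LinearMap.mulRight K (ρ y⁻¹)).comp (LinearMap.mulLeft K (ρ y))
    have hTpow : ∀ j f, (T ^ j) f = ρ (y ^ j) * f * ρ (y ^ j)⁻¹ := by
      intro j
      induction j with
      | zero => intro f; simp
      | succ j ih =>
        intro f
        rw [pow_succ', End.mul_apply, ih]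
        show ρ y * (ρ (y ^ j) * f * ρ (y ^ j)⁻¹) * ρ y⁻¹ = _
        rw [pow_succ', mul_inv_rev, map_mul, map_mul]
        simp only [mul_assoc]
    let α : Q ≃* Q := (MulAut.conjNormal y : MulAut Q)
    have hαS : SQ.map α.toMonoidHom = SQ := by
      ext k
      constructor
      · rintro ⟨l, hl, rfl⟩
        show ((α l : Q) : G) ∈ S
        rw [MulAut.conjNormal_apply]
        exact (inferInstance : S.Normal).conj_mem _ hl y
      · intro hk
        refine ⟨α.symm k, ?_, α.apply_symm_apply k⟩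
        show ((α.symm k : Q) : G) ∈ S
        rw [MulAut.conjNormal_symm_apply]
        simpa using (inferInstance : S.Normal).conj_mem _ hk y⁻¹
    let σ' : Q ⧸ SQ ≃* Q ⧸ SQ := QuotientGroup.congr SQ SQ α hαS
    let σ : Equiv.Perm (Q ⧸ SQ) := σ'.toEquiv
    have hσpow : ∀ j (k : Q), (σ ^ j) (QuotientGroup.mk k) =
        QuotientGroup.mk ((MulAut.conjNormal (y ^ j) : MulAut Q) k) := by
      intro j
      induction j with
      | zero => intro k; simp
      | succ j ih =>
        intro k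
        rw [pow_succ', pow_succ', Equiv.Perm.mul_apply, ih, map_mul, MulAut.mul_apply]
        rfl
    obtain ⟨r, hr1, hr2⟩ := Commutant.card_orbits_fixed e hli hspan T
      (P := P / i) (Nat.div_pos hiP hi0) (LinearMap.ext fun f => by
        rw [hTpow, hyP, inv_one, map_one, one_mul, mul_one, End.one_apply])
      σ (Equiv.ext fun c => by
        obtain ⟨k, rfl⟩ := QuotientGroup.mk_surjective c
        rw [hσpow, hyP, map_one]; rfl)
      (QuotientGroup.mk 1)
      (by
        show σ' (QuotientGroup.mk 1) = _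
        rw [QuotientGroup.mk_one, map_one])
      (by
        obtain ⟨a, ha0, ha⟩ := hsame 1
        rw [OneMemClass.coe_one, map_one] at ha
        have : e (QuotientGroup.mk 1) = a⁻¹ • (1 : End K V) := by
          rw [ha, smul_smul, inv_mul_cancel₀ ha0, one_smul]
        rw [this, map_smul]
        show a⁻¹ • (ρ y * 1 * ρ y⁻¹) = _
        rw [mul_one, ← map_mul, mul_inv_cancel, map_one])
      (by
        intro j hj0 hjlt c hc
        obtain ⟨k, rfl⟩ := QuotientGroup.mk_surjective c
        rw [hσpow, eq_comm, QuotientGroup.eq] at hc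
        have hij : i * j < P := by
          rw [← hiP']; exact Nat.mul_lt_mul_of_pos_left hjlt hi0
        have hy_ord : ∃ l, orderOf (x ^ (i * j)) = p ^ l := by
          obtain ⟨l, -, hl⟩ := (Nat.dvd_prime_pow hp.out).mp
            (orderOf_dvd_of_pow_eq_one (show (x ^ (i * j)) ^ p ^ n = 1 by
              rw [← pow_mul, mul_comm (i * j), pow_mul, hxP, one_pow]))
          exact ⟨l, hl⟩
        obtain ⟨m, hm1, hm2⟩ := exists_fixed_in_coset hpq hQ (M := S) (fun _ h => h.1) hy_ord
          (by rw [Subgroup.normalizer_eq_top]; exact Subgroup.mem_top _) (k := (k : G))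
          (by
            have h1 := Subgroup.mem_subgroupOf.mp hc
            rw [Subgroup.coe_mul, Subgroup.coe_inv, MulAut.conjNormal_apply, hy, ← pow_mul] at h1
            exact h1)
        have hmQ : m ∈ Q := by
          have h4 := Q.mul_mem k.2 hm2.1
          rwa [mul_inv_cancel_left] at h4
        have hmS : m ∈ S := ⟨hmQ, hfix _ (Nat.mul_pos hi0 hj0) hij m hmQ hm1⟩
        rw [QuotientGroup.eq]
        refine Subgroup.mem_subgroupOf.mpr ?_
        have h5 := S.mul_mem hmS (S.inv_mem hm2)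
        rw [mul_inv_rev, inv_inv, mul_inv_cancel_left] at h5
        simpa using S.inv_mem h5)
      (by
        intro c
        obtain ⟨a, ha0, ha⟩ := hsame ((MulAut.conjNormal y : MulAut Q) (Quotient.out c))
        refine ⟨a, ha0, ?_⟩
        have hσc : σ c = QuotientGroup.mk ((MulAut.conjNormal y : MulAut Q) (Quotient.out c)) := by
          conv_lhs => rw [← QuotientGroup.out_eq' c]
          rfl
        rw [hσc, ← ha, MulAut.conjNormal_apply, map_mul, map_mul]
        rfl)
    refine ⟨r, by rw [← hcard, hr1], (LinearEquiv.ofEq _ _ ?_).finrank_eq.trans hr2⟩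
    · ext f
      rw [Commutant.mem_commutant, mul_sub, sub_mul, mul_one, one_mul, sub_left_inj,
        LinearMap.mem_ker, LinearMap.sub_apply, End.one_apply, sub_eq_zero]
      constructor
      · intro h
        show ρ y * f * ρ y⁻¹ = f
        rw [← h, mul_assoc, ← map_mul, mul_inv_cancel, map_one, mul_one]
      · intro h
        change ρ y * f * ρ y⁻¹ = f at h
        conv_lhs => rw [← h]
        rw [mul_assoc, ← map_mul, inv_mul_cancel, map_one, mul_one]
  exact ⟨hNq, hcomm⟩

/-- **The critical case.** -/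
theorem critical [CharP K p] {Q : Subgroup G} [Q.Normal] (hpq : p ≠ q) (hQ : IsPGroup q Q)
    (hirr : IsIrredOn ρ Q) {x : G} {n : ℕ} (hn : 0 < n) (hxP : x ^ p ^ n = 1)
    (hfix : ∀ i, 0 < i → i < p ^ n → ∀ k ∈ Q, Commute k (x ^ i) → IsScalar ρ k)
    (hns : ∃ k ∈ Q, ¬ IsScalar ρ k) {s : ℕ} (hs : (ρ x - 1) ^ s = 0) :
    p ^ n ≤ s ∨ (p ^ n - 1 ≤ s ∧ finrank K V = p ^ n - 1 ∧ (∃ b, p ^ n - 1 = q ^ b) ∧
      ∃ a ∈ Q, ∃ b ∈ Q, ρ a * ρ b ≠ ρ b * ρ a) := by
  classical
  by_cases hlt : p ^ n ≤ s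
  · exact Or.inl hlt
  push Not at hlt
  refine Or.inr ?_
  set P := p ^ n with hPdef
  have hP1 : 1 < P := Nat.one_lt_pow hn.ne' hp.out.one_lt
  have hhlt : p ^ (n - 1) < P := Nat.pow_lt_pow_right hp.out.one_lt (by omega)
  have hfixy := hfix (p ^ (n - 1)) (pow_pos hp.out.pos _) hhlt
  have hab : ∀ A : Subgroup G, A.Normal → A ≤ Q →
      (∀ a ∈ A, ∀ b ∈ A, ρ a * ρ b = ρ b * ρ a) → ∀ a ∈ A, IsScalar ρ a := by
    intro A hA hAQ hc a ha
    by_contra hna
    haveI := hA
    exact absurd (le_of_abelian hpq hQ hirr hn hxP hfixy hc ⟨a, ha, hna⟩ hs) (not_le.mpr hlt)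
  have hnab : ∃ a ∈ Q, ∃ b ∈ Q, ρ a * ρ b ≠ ρ b * ρ a := by
    by_contra hc
    push Not at hc
    obtain ⟨k, hk, hnk⟩ := hns
    exact hnk (hab Q inferInstance le_rfl hc k hk)
  -- the lower central series
  let L : ℕ → Subgroup G := fun c => Nat.rec (motive := fun _ => Subgroup G) Q (fun _ Lc => ⁅Lc, Q⁆) c
  have hL0 : L 0 = Q := rfl
  have hLs : ∀ c, L (c + 1) = ⁅L c, Q⁆ := fun c => rfl
  have hLn : ∀ c, (L c).Normal := by
    intro c
    induction c with
    | zero => exact (inferInstance : Q.Normal)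
    | succ c ih =>
      haveI := ih
      rw [hLs c]
      exact Subgroup.commutator_normal (L c) Q
  have hLQ : ∀ c, L c ≤ Q := by
    intro c
    induction c with
    | zero => exact le_of_eq hL0
    | succ c ih =>
      rw [hLs]
      haveI := hLn c
      exact le_trans (Subgroup.commutator_le_left (L c) Q) ih
  have hterm : ∃ c, L c = ⊥ := by
    have hmap : ∀ c, L c = ((⊤ : Subgroup Q).lowerCentralSeries c).map Q.subtype := by
      intro c
      induction c with
      | zero =>
        rw [Subgroup.lowerCentralSeries_zero, ← MonoidHom.range_eq_map, Subgroup.range_subtype]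
        rfl
      | succ c ih =>
        rw [Subgroup.lowerCentralSeries_succ, Subgroup.map_commutator, ← ih,
          ← MonoidHom.range_eq_map, Subgroup.range_subtype, hLs]
    haveI : Group.IsNilpotent Q := hQ.isNilpotent
    obtain ⟨c, hc⟩ := Subgroup.nilpotent_iff_lowerCentralSeries.mp ‹Group.IsNilpotent Q›
    exact ⟨c, by rw [hmap, hc, Subgroup.map_bot]⟩
  have hL1 : ∀ k ∈ L 1, IsScalar ρ k := by
    have hex : ∃ c, ∀ k ∈ L c, IsScalar ρ k := by
      obtain ⟨c, hc⟩ := hterm
      exact ⟨c, fun k hk => by rw [hc, Subgroup.mem_bot] at hk; exact ⟨1, by rw [hk, map_one, one_smul]⟩⟩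
    have hc := Nat.find_spec hex
    have hmono : ∀ a b, a ≤ b → L b ≤ L a := by
      intro a b hle
      induction hle with
      | refl => exact le_rfl
      | step h ih =>
        rw [hLs]
        haveI := fun c => hLn c
        exact le_trans (Subgroup.commutator_le_left _ _) ih
    refine Classical.byContradiction fun hnot => ?_
    have h2 : 2 ≤ Nat.find hex := by
      by_contra h
      push Not at h
      exact hnot fun k hk => hc k (hmono _ 1 (by omega) hk)
    obtain ⟨m, hm⟩ : ∃ m, Nat.find hex = m + 2 := ⟨Nat.find hex - 2, by omega⟩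
    rw [hm] at hc
    have hmin := Nat.find_min hex (m := m + 1) (by omega)
    haveI := hLn (m + 1)
    haveI := hLn (m + 3)
    refine hmin (hab (L (m + 1)) (hLn (m + 1)) (hLQ (m + 1)) fun a ha b hb => ?_)
    have hker : L (m + 3) ≤ ρ.ker := by
      show ⁅L (m + 2), Q⁆ ≤ ρ.ker
      rw [Subgroup.commutator_le]
      exact fun k hk g _ => rho_commutator_scalar (hc k hk)
    have hcomm : ⁅L (m + 1), L (m + 1)⁆ ≤ L (m + 3) := by
      refine le_trans (Subgroup.commutator_mono le_rfl (hmono 1 (m + 1) (by omega))) ?_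
      rw [show L 1 = ⁅Q, Q⁆ from rfl, Subgroup.commutator_comm]
      -- three subgroup lemma modulo `L (m + 3)`
      have hA : (⁅⁅Q, L (m + 1)⁆, Q⁆).map (QuotientGroup.mk' (L (m + 3))) = ⊥ := by
        rw [Subgroup.map_eq_bot_iff, QuotientGroup.ker_mk', Subgroup.commutator_comm Q (L (m + 1))]
      have hB : (⁅⁅L (m + 1), Q⁆, Q⁆).map (QuotientGroup.mk' (L (m + 3))) = ⊥ := by
        rw [Subgroup.map_eq_bot_iff, QuotientGroup.ker_mk']
      have h := Subgroup.commutator_commutator_eq_bot_of_rotate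
        (H₁ := Q.map (QuotientGroup.mk' (L (m + 3))))
        (H₂ := Q.map (QuotientGroup.mk' (L (m + 3))))
        (H₃ := (L (m + 1)).map (QuotientGroup.mk' (L (m + 3))))
        (by rwa [← Subgroup.map_commutator, ← Subgroup.map_commutator])
        (by rwa [← Subgroup.map_commutator, ← Subgroup.map_commutator])
      rwa [← Subgroup.map_commutator, ← Subgroup.map_commutator, Subgroup.map_eq_bot_iff,
        QuotientGroup.ker_mk'] at h
    have h1 : ρ ⁅a, b⁆ = 1 := hker (hcomm (Subgroup.commutator_mem_commutator ha hb))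
    calc ρ a * ρ b = ρ (⁅a, b⁆ * (b * a)) := by
          rw [← map_mul, commutatorElement_def]; congr 1; group
      _ = ρ b * ρ a := by rw [map_mul, h1, one_mul, map_mul]
  obtain ⟨hNq, hcomm⟩ := conj_orbits (n := n) hpq hQ hirr hxP hfix
    (fun t ht k hk => hL1 _ (Subgroup.commutator_mem_commutator ht hk))
  rw [← hPdef] at hcomm
  set N := finrank K V with hN
  obtain ⟨r, hr, hC⟩ := hcomm 1 one_pos hP1.le (Nat.mod_one P)
  rw [pow_one] at hC
  rw [Nat.div_one] at hr
  have hCS := Commutant.sq_finrank_le hs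
  rw [hC, sq] at hCS
  -- `N ≤ P - 1`
  have hN1 : 2 ≤ N := by
    by_contra h
    push Not at h
    have h1 : N = 1 := by
      have : 0 < N := finrank_pos
      omega
    obtain ⟨a, ha, b, hb, hne⟩ := hnab
    refine hne ?_
    have hsc : ∀ f : End K V, ∃ c : K, f = c • (1 : End K V) := fun f => by
      obtain ⟨v, hv⟩ := exists_ne (0 : V)
      obtain ⟨c, hc⟩ := (finrank_eq_one_iff_of_nonzero' v hv).mp h1 (f v)
      refine ⟨c, LinearMap.ext fun w => ?_⟩
      obtain ⟨d, rfl⟩ := (finrank_eq_one_iff_of_nonzero' v hv).mp h1 w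
      rw [LinearMap.smul_apply, End.one_apply, map_smul, ← hc, smul_comm]
    obtain ⟨c, hc⟩ := hsc (ρ a)
    rw [hc, smul_mul_assoc, one_mul, mul_smul_comm, mul_one]
  have hNlt : N < P := by
    have hs' : s ≤ P - 1 := by omega
    have h1 : (P - 1 + 1) = P := by omega
    by_contra h
    push Not at h
    nlinarith [Nat.mul_le_mul h h, Nat.mul_le_mul_right (1 + r) hs']
  have hNP : N + 1 = P := by
    by_cases hp2 : p = 2
    · obtain ⟨m, hm⟩ : ∃ m, n = m + 1 := ⟨n - 1, by omega⟩
      have hh : P = 2 * 2 ^ m := by rw [hPdef, hm, hp2, pow_succ, mul_comm]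
      set h := 2 ^ m with hhdef
      have hhpos : 0 < h := by positivity
      obtain ⟨r', hr', hC'⟩ := hcomm h hhpos (by omega) (by rw [hh]; exact Nat.mul_mod_left 2 h)
      rw [show P / h = 2 by rw [hh, Nat.mul_div_cancel _ hhpos]] at hr'
      have hnil : ρ (x ^ h) - 1 = (ρ x - 1) ^ h := by
        haveI : CharP (End K V) 2 := hp2 ▸ charP_of_injective_algebraMap
          (algebraMap K (End K V)).injective p
        rw [hhdef, sub_pow_char_pow_of_commute (R := End K V) 2 m (Commute.one_right (ρ x)), one_pow, map_pow]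
      rw [hnil] at hC'
      have hsq : ((ρ x - 1) ^ h) ^ 2 = 0 := by
        rw [← pow_mul]
        exact pow_eq_zero_of_le (by omega) hs
      rw [Commutant.finrank_commutant_of_sq_eq_zero hsq] at hC'
      have hrk := LinearMap.finrank_range_add_finrank_ker ((ρ x - 1) ^ h)
      have hle := Commutant.finrank_range_pow_le ⟨s, hs⟩ h
      set a := finrank K (LinearMap.range ((ρ x - 1) ^ h))
      set b := finrank K (LinearMap.ker ((ρ x - 1) ^ h))
      have hab' : a ≤ b := by
        apply Submodule.finrank_mono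
        rintro _ ⟨v, rfl⟩
        rw [LinearMap.mem_ker, ← End.mul_apply, ← sq, hsq]
        rfl
      obtain ⟨d, hd⟩ : ∃ d, b = a + d := ⟨b - a, by omega⟩
      have hd1 : d = 1 := by
        rw [show N = a + (a + d) by omega] at hr'
        rw [hd] at hC'
        nlinarith
      have hNodd : N = 2 * a + 1 := by omega
      omega
    · obtain ⟨b, hb⟩ : P ∣ (N - 1) * (N + 1) :=
        ⟨r, by rw [mul_comm, ← Nat.sq_sub_sq, one_pow, sq, hr, Nat.add_sub_cancel_left, mul_comm]⟩
      have hdvd : P ∣ N - 1 ∨ P ∣ N + 1 := by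
        rcases (Nat.Prime.dvd_mul hp.out).mp ((dvd_pow_self p hn.ne').trans ⟨b, hb⟩) with h | h
        · left
          refine Nat.Coprime.dvd_of_dvd_mul_right ?_ ⟨b, hb⟩
          refine Nat.Coprime.pow_left n (hp.out.coprime_iff_not_dvd.mpr fun h' => hp2 ?_)
          have h2 := Nat.dvd_sub h' h
          rw [show N + 1 - (N - 1) = 2 by omega] at h2
          exact (Nat.prime_dvd_prime_iff_eq hp.out Nat.prime_two).mp h2
        · right
          refine Nat.Coprime.dvd_of_dvd_mul_left ?_ ⟨b, hb⟩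
          refine Nat.Coprime.pow_left n (hp.out.coprime_iff_not_dvd.mpr fun h' => hp2 ?_)
          have h2 := Nat.dvd_sub h h'
          rw [show N + 1 - (N - 1) = 2 by omega] at h2
          exact (Nat.prime_dvd_prime_iff_eq hp.out Nat.prime_two).mp h2
      rcases hdvd with h | h
      · have := Nat.le_of_dvd (by omega) h
        omega
      · have := Nat.le_of_dvd (by omega) h
        omega
  obtain ⟨b, hb⟩ := hNq
  refine ⟨?_, by omega, ⟨b, by omega⟩, hnab⟩
  by_contra h
  push Not at h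
  have hs2 : s + 1 ≤ N := by omega
  have hr1 : r + 1 = N := by
    have : N * N = 1 + r * (N + 1) := by rw [hNP]; exact hr
    nlinarith
  nlinarith

end CfsgLib.FgsC.HallHigman
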