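import Mathlib

/-!
# Isomorphic subgroups of index `p` (Sims, Glauberman)

`P ∩ P^g` is normal of index `p` in `P^g` and `g` normalizes no nontrivial normal subgroup of `P`. Then
`P` is generated by `t` conjugates `y i` of an element of order `p`, the commutation distance `u` of the
`y i` satisfies `2 * t ≤ 3 * u`, and this gives the bound on `t` when `P` misses the center.
-/

set_option autoImplicit false

namespace FgsC.IsoSub

open Subgroup Pointwise
open scoped commutatorElement

variable {G : Type*} [Group G]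

/-- The subgroup generated by `m` consecutive terms. -/
def seg (y : ℕ → G) (i m : ℕ) : Subgroup G := closure (y '' Set.Ico i (i + m))

theorem seg_le {y : ℕ → G} {i m : ℕ} {H : Subgroup G} (h : ∀ j, i ≤ j → j < i + m → y j ∈ H) :
    seg y i m ≤ H := by
  refine (closure_le H).2 ?_
  rintro _ ⟨j, hj, rfl⟩
  exact h j hj.1 hj.2

theorem mem_seg {y : ℕ → G} {i m j : ℕ} (h1 : i ≤ j) (h2 : j < i + m) : y j ∈ seg y i m :=
  subset_closure ⟨j, ⟨h1, h2⟩, rfl⟩

theorem seg_mono {y : ℕ → G} {i m i' m' : ℕ} (h1 : i' ≤ i) (h2 : i + m ≤ i' + m') :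
    seg y i m ≤ seg y i' m' :=
  seg_le fun j hj1 hj2 => mem_seg (by omega) (by omega)

theorem seg_zero (y : ℕ → G) (i : ℕ) : seg y i 0 = ⊥ :=
  le_bot_iff.1 (seg_le fun j h1 h2 => absurd h2 (by omega))

/-- A system of generators with the shift property. -/
structure Sys (G : Type*) [Group G] (p t : ℕ) where
  y : ℕ → G
  σ : MulAut G
  hy : ∀ i, y (i + 1) = σ (y i)
  hcard : ∀ m ≤ t, Nat.card (seg y 0 m) = p ^ m

variable {p t : ℕ}

theorem Sys.y_add (S : Sys G p t) (k : ℕ) : ∀ i, S.y (k + i) = (S.σ ^ k) (S.y i) := by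
  induction k with
  | zero => simp
  | succ k ih =>
    intro i
    rw [show k + 1 + i = (k + i) + 1 by omega, S.hy, ih, pow_succ', MulAut.mul_apply]

theorem Sys.seg_shift (S : Sys G p t) (k i m : ℕ) :
    seg S.y (k + i) m = (seg S.y i m).map (S.σ ^ k).toMonoidHom := by
  rw [seg, seg, MonoidHom.map_closure]
  congr 1
  ext z
  simp only [Set.mem_image, Set.mem_Ico, MulEquiv.coe_toMonoidHom]
  constructor
  · rintro ⟨j, hj, rfl⟩
    exact ⟨S.y (j - k), ⟨j - k, by omega, rfl⟩, by rw [← S.y_add, Nat.add_sub_cancel' (by omega)]⟩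
  · rintro ⟨_, ⟨j, hj, rfl⟩, rfl⟩
    exact ⟨k + j, by omega, S.y_add k j⟩

theorem Sys.card_seg (S : Sys G p t) (i : ℕ) {m : ℕ} (hm : m ≤ t) :
    Nat.card (seg S.y i m) = p ^ m := by
  have h := S.seg_shift i 0 m
  rw [Nat.add_zero] at h
  rw [h, Subgroup.card_map_of_injective (f := (S.σ ^ i).toMonoidHom) (S.σ ^ i).injective, S.hcard m hm]

theorem Sys.commute_shift (S : Sys G p t) (i d : ℕ) :
    Commute (S.y i) (S.y (i + d)) ↔ Commute (S.y 0) (S.y d) := by
  rw [S.y_add i d, show S.y i = (S.σ ^ i) (S.y 0) by rw [← S.y_add]; rfl]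
  refine ⟨fun h => ?_, fun h => h.map (S.σ ^ i)⟩
  have := h.map (S.σ ^ i).symm
  simpa using this

/-- A subgroup of index `p` in a `p`-group is normalised by the whole group. -/
theorem le_normalizer_of_index [Fact p.Prime] [Finite G] {A H : Subgroup G} {k : ℕ} (hle : A ≤ H)
    (hH : Nat.card H = p ^ (k + 1)) (hA : Nat.card A = p ^ k) : H ≤ normalizer (A : Set G) := by
  refine (Subgroup.normal_subgroupOf_iff_le_normalizer hle).1 ?_
  refine Subgroup.normal_of_index_eq_minFac_card ?_
  rw [hH, Nat.pow_minFac (by omega), (Fact.out : p.Prime).minFac_eq]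
  have h := (A.subgroupOf H).card_mul_index
  rw [Nat.card_congr (Subgroup.subgroupOfEquivOfLe hle).toEquiv, hA, hH, pow_succ] at h
  exact Nat.eq_of_mul_eq_mul_left (pow_pos (Fact.out : p.Prime).pos k) h

/-- A subgroup between an index `p` subgroup and the whole. -/
theorem eq_or_eq_of_index [Fact p.Prime] [Finite G] {A B H : Subgroup G} {k : ℕ} (hAB : A ≤ B)
    (hBH : B ≤ H) (hH : Nat.card H = p ^ (k + 1)) (hA : Nat.card A = p ^ k) : B = A ∨ B = H := by
  have h1 := Subgroup.card_dvd_of_le hAB
  have h2 := Subgroup.card_dvd_of_le hBH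
  rw [hH] at h2
  obtain ⟨j, hj, hje⟩ := (Nat.dvd_prime_pow (Fact.out : p.Prime)).1 h2
  rw [hA, hje] at h1
  have hkj := (Nat.pow_dvd_pow_iff_le_right (Fact.out : p.Prime).one_lt).1 h1
  rcases Nat.lt_or_ge j (k + 1) with h | h
  · left
    exact (Subgroup.eq_of_le_of_card_ge hAB (by rw [hje, hA, show j = k by omega])).symm
  · right
    exact Subgroup.eq_of_le_of_card_ge hBH (by rw [hje, hH, show j = k + 1 by omega])

/-- Removing an endpoint: an element commuting with a maximal subgroup and an element outside. -/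
theorem mem_of_commute [Fact p.Prime] [Finite G] {A H : Subgroup G} {k : ℕ} (hle : A ≤ H)
    (hH : Nat.card H = p ^ (k + 1)) (hA : Nat.card A = p ^ k) {z q v : G} (hz : z ∈ H) (hv : v ∈ H)
    (hzq : Commute q z) (hAq : ∀ a ∈ A, Commute q a) (hvq : ¬ Commute q v) : z ∈ A := by
  rcases eq_or_eq_of_index (B := H ⊓ centralizer ({q} : Set G))
      (le_inf hle fun a ha => mem_centralizer_singleton_iff.2 (hAq a ha).eq.symm) inf_le_left hH hA with h | h
  · rw [← h]; exact ⟨hz, mem_centralizer_singleton_iff.2 hzq.eq.symm⟩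
  · exact absurd (mem_centralizer_singleton_iff.1 ((h.ge hv).2)).symm hvq

theorem Sys.main [Fact p.Prime] [Finite G] (S : Sys G p t) (ht : 1 ≤ t) :
    ∃ u : ℕ, 1 ≤ u ∧ u ≤ t ∧ 2 * t ≤ 3 * u ∧ (u = t ∨ ¬ Commute (S.y 0) (S.y u)) ∧
      ∀ i j : ℕ, i < j + u → j < i + u → Commute (S.y i) (S.y j) := by
  classical
  have hp : p.Prime := Fact.out
  let bad : ℕ → Prop := fun d => d = t ∨ ¬ Commute (S.y 0) (S.y d)
  have hex : ∃ d, bad d := ⟨t, Or.inl rfl⟩
  obtain ⟨u, hu, humin⟩ : ∃ u, bad u ∧ ∀ d < u, ¬ bad d :=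
    ⟨Nat.find hex, Nat.find_spec hex, fun d hd => Nat.find_min hex hd⟩
  have hut : u ≤ t := by
    by_contra h
    exact humin t (by omega) (Or.inl rfl)
  have hclose0 : ∀ d < u, Commute (S.y 0) (S.y d) := fun d hd => by
    have := humin d hd
    simp only [bad, not_or, not_not] at this
    exact this.2
  have hclose : ∀ i j : ℕ, i < j + u → j < i + u → Commute (S.y i) (S.y j) := by
    intro i j h1 h2
    rcases le_total i j with h | h
    · obtain ⟨d, rfl⟩ := Nat.exists_eq_add_of_le h
      exact (S.commute_shift i d).2 (hclose0 d (by omega))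
    · obtain ⟨d, rfl⟩ := Nat.exists_eq_add_of_le h
      exact ((S.commute_shift j d).2 (hclose0 d (by omega))).symm
  have hu1 : 1 ≤ u := by
    by_contra h
    obtain rfl : u = 0 := by omega
    rcases hu with h' | h'
    · omega
    · exact h' (Commute.refl _)
  refine ⟨u, hu1, hut, ?_, hu, hclose⟩
  rcases hu with rfl | hbad
  · omega
  by_contra hcon
  have hult : u < t := by omega
  have hfar : ∀ i, ¬ Commute (S.y i) (S.y (i + u)) := fun i h => hbad ((S.commute_shift i u).1 h)
  have hsegc : ∀ (q : G) (i m : ℕ), (∀ j, i ≤ j → j < i + m → Commute q (S.y j)) →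
      ∀ a ∈ seg S.y i m, Commute q a := fun q i m h a ha =>
    (mem_centralizer_singleton_iff.1
      (seg_le (H := centralizer ({q} : Set G))
        (fun j h1 h2 => mem_centralizer_singleton_iff.2 (h j h1 h2).eq.symm) ha)).symm
  -- centre of a segment of length at most `2u`
  have hcentre : ∀ s : ℕ, u ≤ s → s ≤ t → s ≤ 2 * u → ∀ z : G,
      (∀ j < s, Commute (S.y j) z) → ∀ a m : ℕ, a + m ≤ s → z ∈ seg S.y a m →
      z ∈ seg S.y a (u - a) ∧ z ∈ seg S.y (max a (s - u)) (a + m - max a (s - u)) := by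
    intro s hus hst hs2 z hz a m
    induction m generalizing a with
    | zero =>
      intro _ hmem
      rw [seg_zero, mem_bot] at hmem
      subst hmem
      exact ⟨one_mem _, one_mem _⟩
    | succ m ih =>
      intro hle hmem
      constructor
      · by_cases hb : a + (m + 1) ≤ u
        · exact seg_mono le_rfl (by omega) hmem
        · refine (ih a (by omega) ?_).1
          refine mem_of_commute (p := p) (k := m) (seg_mono le_rfl (by omega))
            (S.card_seg a (by omega)) (S.card_seg a (by omega)) hmem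
            (mem_seg (j := a + m) (by omega) (by omega)) (q := S.y (a + m - u)) (hz _ (by omega)) ?_ ?_
          · exact hsegc _ _ _ fun j h1 h2 => hclose _ _ (by omega) (by omega)
          · rw [show a + m = (a + m - u) + u by omega, Nat.add_sub_cancel]
            exact hfar _
      · by_cases hb : s - u ≤ a
        · exact seg_mono (by omega) (by omega) hmem
        · have hz' : z ∈ seg S.y (a + 1) m := by
            refine mem_of_commute (p := p) (k := m) (seg_mono (by omega) (by omega))
              (S.card_seg a (by omega)) (S.card_seg (a + 1) (by omega)) hmem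
              (mem_seg (j := a) le_rfl (by omega)) (q := S.y (a + u)) (hz _ (by omega)) ?_ ?_
            · exact hsegc _ _ _ fun j h1 h2 => hclose _ _ (by omega) (by omega)
            · exact fun h => hfar a h.symm
          exact seg_mono (by omega) (by omega) (ih (a + 1) (by omega) hz').2
  -- commutators of segments
  have hinter : ∀ (i m : ℕ), 1 ≤ m → m + 1 ≤ t →
      seg S.y i m ⊓ seg S.y (i + 1) m = seg S.y (i + 1) (m - 1) := by
    intro i m hm hmt
    obtain ⟨k, rfl⟩ : ∃ k, m = k + 1 := ⟨m - 1, by omega⟩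
    rw [Nat.add_sub_cancel]
    have hne : ¬ seg S.y i (k + 1) ≤ seg S.y (i + 1) (k + 1) := by
      intro h
      have h' : seg S.y i (k + 2) ≤ seg S.y (i + 1) (k + 1) := seg_le fun j h1 h2 => by
        rcases Nat.eq_or_lt_of_le h1 with rfl | h1'
        · exact h (mem_seg le_rfl (by omega))
        · exact mem_seg (by omega) (by omega)
      have := Subgroup.card_le_of_le h'
      rw [S.card_seg i (by omega), S.card_seg _ (by omega)] at this
      have := (Nat.pow_le_pow_iff_right hp.one_lt).1 this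
      omega
    rcases eq_or_eq_of_index (p := p) (k := k) (A := seg S.y (i + 1) k)
        (B := seg S.y i (k + 1) ⊓ seg S.y (i + 1) (k + 1))
        (le_inf (seg_mono (by omega) (by omega)) (seg_mono le_rfl (by omega))) inf_le_left
        (S.card_seg i (by omega)) (S.card_seg _ (by omega)) with h | h
    · exact h
    · exact absurd (inf_eq_left.1 h) hne
  have hcomm : ∀ (i m : ℕ), 1 ≤ m → m + 1 ≤ t →
      ⁅S.y i, S.y (i + m)⁆ ∈ seg S.y (i + 1) (m - 1) := by
    intro i m hm hmt
    rw [← hinter i m hm hmt]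
    have hN1 : seg S.y i (m + 1) ≤ normalizer ((seg S.y i m : Subgroup G) : Set G) :=
      le_normalizer_of_index (p := p) (k := m) (seg_mono le_rfl (by omega)) (S.card_seg i hmt) (S.card_seg i (by omega))
    have hN2 : seg S.y i (m + 1) ≤ normalizer ((seg S.y (i + 1) m : Subgroup G) : Set G) :=
      le_normalizer_of_index (p := p) (k := m) (seg_mono (by omega) (by omega)) (S.card_seg i hmt) (S.card_seg _ (by omega))
    have e1 : S.y i ∈ seg S.y i m := mem_seg le_rfl (by omega)
    have e2 : S.y (i + m) ∈ seg S.y (i + 1) m := mem_seg (by omega) (by omega)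
    have f1 : S.y i ∈ seg S.y i (m + 1) := mem_seg le_rfl (by omega)
    have f2 : S.y (i + m) ∈ seg S.y i (m + 1) := mem_seg (by omega) (by omega)
    rw [mem_inf, commutatorElement_def]
    constructor
    · rw [show S.y i * S.y (i + m) * (S.y i)⁻¹ * (S.y (i + m))⁻¹
          = S.y i * (S.y (i + m) * (S.y i)⁻¹ * (S.y (i + m))⁻¹) by group]
      exact mul_mem e1 (((mem_normalizer_iff.1 (hN1 f2)) _).1 (inv_mem e1))
    · exact mul_mem (((mem_normalizer_iff.1 (hN2 f1)) _).1 e2) (inv_mem e2)
  have hnormin : ∀ (i m : ℕ), 1 ≤ m → m + 1 ≤ t →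
      seg S.y i (m + 1) ≤ normalizer ((seg S.y (i + 1) (m - 1) : Subgroup G) : Set G) := by
    intro i m hm hmt
    rw [← hinter i m hm hmt]
    refine fun w hw => mem_normalizer_iff.2 fun v => ?_
    rw [mem_inf, mem_inf]
    have a1 := le_normalizer_of_index (p := p) (k := m) (seg_mono le_rfl (by omega))
      (S.card_seg i hmt) (S.card_seg i (show m ≤ t by omega)) hw
    have a2 := le_normalizer_of_index (p := p) (k := m) (A := seg S.y (i + 1) m)
      (seg_mono (by omega) (by omega)) (S.card_seg i hmt) (S.card_seg _ (show m ≤ t by omega)) hw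
    exact and_congr (mem_normalizer_iff.1 a1 v) (mem_normalizer_iff.1 a2 v)
  -- the basic commutators are central in segments of length at most `2u`
  have hcen : ∀ (s i : ℕ), s ≤ t → s ≤ 2 * u → i + u < s → ∀ j < s,
      Commute (S.y j) ⁅S.y i, S.y (i + u)⁆ := by
    intro s i hst hs2 hi j hj
    have hc := hcomm i u hu1 (by omega)
    rcases Nat.lt_or_ge j i with hji | hji
    · obtain ⟨e, he⟩ : ∃ e, (S.y (i + u))⁻¹ * (S.y j * S.y (i + u) * (S.y j)⁻¹) = e := ⟨_, rfl⟩
      have hemem : e ∈ seg S.y (j + 1) (i + u - j - 1) := by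
        have h0 := hcomm j (i + u - j) (by omega) (by omega)
        rw [show j + (i + u - j) = i + u by omega] at h0
        have hN := hnormin j (i + u - j) (by omega) (by omega)
        have := (mem_normalizer_iff.1 (hN (inv_mem (mem_seg (y := S.y) (i := j) (j := i + u)
          (m := i + u - j + 1) (by omega) (by omega)))) _).1 h0
        have heq : (S.y (i + u))⁻¹ * ⁅S.y j, S.y (i + u)⁆ * (S.y (i + u))⁻¹⁻¹ = e := by
          rw [← he, commutatorElement_def]; group
        rwa [heq] at this
      have hae : Commute (S.y i) e := hsegc _ _ _ (fun l h1 h2 => hclose _ _ (by omega) (by omega)) e hemem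
      have haj : Commute (S.y j) (S.y i) := hclose _ _ (by omega) (by omega)
      have hb : S.y j * S.y (i + u) * (S.y j)⁻¹ = S.y (i + u) * e := by
        rw [← he, mul_inv_cancel_left]
      have key : S.y j * ⁅S.y i, S.y (i + u)⁆ * (S.y j)⁻¹ = ⁅S.y i, S.y (i + u)⁆ := by
        rw [← MulAut.conj_apply, map_commutatorElement, MulAut.conj_apply, MulAut.conj_apply, hb,
          haj.mul_inv_cancel, commutatorElement_def, commutatorElement_def]
        calc S.y i * (S.y (i + u) * e) * (S.y i)⁻¹ * (S.y (i + u) * e)⁻¹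
            = S.y i * S.y (i + u) * (e * (S.y i)⁻¹ * e⁻¹) * (S.y (i + u))⁻¹ := by group
          _ = _ := by rw [(Commute.inv_right hae.symm).mul_inv_cancel]
      exact mul_inv_eq_iff_eq_mul.1 key
    rcases Nat.lt_or_ge (i + u) j with hju | hju
    · obtain ⟨d, hd⟩ : ∃ d, ⁅(S.y i)⁻¹, S.y j⁆ = d := ⟨_, rfl⟩
      have hdmem : d ∈ seg S.y (i + 1) (j - i - 1) := by
        have h0 := hcomm i (j - i) (by omega) (by omega)
        rw [show i + (j - i) = j by omega] at h0
        have hN := hnormin i (j - i) (by omega) (by omega)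
        have : (S.y i)⁻¹ * ⁅S.y i, S.y j⁆⁻¹ * S.y i = d := by
          rw [← hd, commutatorElement_def, commutatorElement_def]; group
        rw [← this]
        have := (mem_normalizer_iff.1 (hN (inv_mem (mem_seg (y := S.y) (i := i) (m := j - i + 1) le_rfl (by omega)))) _).1
          (inv_mem h0)
        simpa using this
      have hbd : Commute (S.y (i + u)) d :=
        hsegc _ _ _ (fun l h1 h2 => hclose _ _ (by omega) (by omega)) d hdmem
      have hbj : Commute (S.y j) (S.y (i + u)) := hclose _ _ (by omega) (by omega)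
      have ha : S.y j * S.y i * (S.y j)⁻¹ = S.y i * d := by
        rw [← hd, commutatorElement_def]; group
      have key : S.y j * ⁅S.y i, S.y (i + u)⁆ * (S.y j)⁻¹ = ⁅S.y i, S.y (i + u)⁆ := by
        rw [← MulAut.conj_apply, map_commutatorElement, MulAut.conj_apply, MulAut.conj_apply, ha,
          hbj.mul_inv_cancel, commutatorElement_def, commutatorElement_def]
        calc S.y i * d * S.y (i + u) * (S.y i * d)⁻¹ * (S.y (i + u))⁻¹
            = S.y i * (d * S.y (i + u) * d⁻¹) * (S.y i)⁻¹ * (S.y (i + u))⁻¹ := by group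
          _ = _ := by rw [hbd.symm.mul_inv_cancel]
      exact mul_inv_eq_iff_eq_mul.1 key
    · refine hsegc _ _ _ (fun l h1 h2 => hclose _ _ (by omega) (by omega)) _ hc
  have hcne : ∀ i, ⁅S.y i, S.y (i + u)⁆ ≠ 1 := fun i h =>
    hfar i (commutatorElement_eq_one_iff_commute.1 h)
  rcases Nat.lt_or_ge t (2 * u) with htu | htu
  · -- `t < 2u`
    obtain ⟨k, hk⟩ : ∃ k, t = k + u + 1 := ⟨t - u - 1, by omega⟩
    have h0 := hcomm 0 u hu1 (by omega)
    have h1 := (hcentre t (by omega) le_rfl (by omega) _ (hcen t 0 le_rfl (by omega) (by omega)) _ _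
      (by omega) h0).2
    have h2 : ⁅S.y k, S.y (k + u)⁆ ∈ seg S.y (k + (k + 1)) (u - (k + 1)) := by
      rw [S.seg_shift k (k + 1)]
      refine ⟨⁅S.y 0, S.y (0 + u)⁆, seg_mono (by omega) (by omega) h1, ?_⟩
      rw [Nat.zero_add, MulEquiv.coe_toMonoidHom, map_commutatorElement, ← S.y_add, ← S.y_add]
      rfl
    have h3 := (hcentre t (by omega) le_rfl (by omega) _ (hcen t k le_rfl (by omega) (by omega)) _ _
      (by omega) h2).1
    rw [show u - (k + (k + 1)) = 0 by omega, seg_zero, mem_bot] at h3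
    exact hcne k h3
  · -- `2u ≤ t`
    have h0 := hcomm 0 u hu1 (by omega)
    have h1 := hcentre (2 * u) (by omega) (by omega) le_rfl _
      (hcen (2 * u) 0 (by omega) le_rfl (by omega)) _ _ (by omega) h0
    have h2 := (hcentre (2 * u) (by omega) (by omega) le_rfl _
      (hcen (2 * u) 0 (by omega) le_rfl (by omega)) _ _ (by omega) h1.2).1
    rw [show u - max (0 + 1) (2 * u - u) = 0 by omega, seg_zero, mem_bot] at h2
    exact hcne 0 h2

section Setup

variable [Finite G]

theorem relIndex_mul_card' {H K : Subgroup G} (h : H ≤ K) : H.relIndex K * Nat.card H = Nat.card K := by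
  have := Subgroup.relIndex_mul_relIndex ⊥ H K bot_le h
  rw [relIndex_bot_left, relIndex_bot_left] at this
  rw [← this, mul_comm]

/-- The elements of order prime to `p` generate a subgroup fixed by the isomorphism, so `P` is a `p`-group. -/
theorem isPGroup_of_index (P : Subgroup G) (φ : MulAut G) (p : ℕ) [Fact p.Prime]
    (hN : ((P ⊓ φ • P).subgroupOf (φ • P)).Normal)
    (hidx : (P ⊓ φ • P).relIndex (φ • P) = p)
    (h1 : ∀ Q : Subgroup G, Q ≤ P → (Q.subgroupOf P).Normal → φ • Q = Q → Q = ⊥) :
    IsPGroup p P := by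
  let E : Set G := {x | x ∈ P ∧ ¬ p ∣ orderOf x}
  have hsub : φ '' E ⊆ E := by
    rintro _ ⟨x, ⟨hx, hxp⟩, rfl⟩
    refine ⟨?_, by rwa [MulEquiv.orderOf_eq]⟩
    have hφx : φ x ∈ φ • P := Subgroup.smul_mem_pointwise_smul x φ P hx
    have hp' : (φ x) ^ p ∈ P ⊓ φ • P := by
      have := Subgroup.pow_index_mem ((P ⊓ φ • P).subgroupOf (φ • P)) (⟨φ x, hφx⟩ : ↥(φ • P))
      rw [show ((P ⊓ φ • P).subgroupOf (φ • P)).index = p from hidx] at this
      exact this
    have hco : (orderOf (φ x)).Coprime p := by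
      rw [MulEquiv.orderOf_eq]
      exact ((Fact.out : p.Prime).coprime_iff_not_dvd.2 hxp).symm
    obtain ⟨m, hm⟩ := exists_pow_eq_self_of_coprime hco.symm
    rw [← hm]
    exact ((P ⊓ φ • P).pow_mem hp' m).1
  have heq : φ '' E = E := Set.eq_of_subset_of_ncard_le hsub
    (Set.ncard_image_of_injective E φ.injective).ge (Set.toFinite _)
  have hR : closure E = ⊥ := by
    refine h1 _ ((closure_le P).2 fun x hx => hx.1) ?_ ?_
    · rw [Subgroup.normal_subgroupOf_iff_le_normalizer ((closure_le P).2 fun x hx => hx.1)]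
      intro w hw
      have hfix : ∀ w ∈ P, ∀ x ∈ E, w * x * w⁻¹ ∈ E := fun w hw x hx =>
        ⟨P.mul_mem (P.mul_mem hw hx.1) (P.inv_mem hw), by
          rw [← MulAut.conj_apply, MulEquiv.orderOf_eq]; exact hx.2⟩
      rw [Subgroup.mem_normalizer_iff_map_conj_eq]
      refine le_antisymm ?_ ?_
      · rw [MonoidHom.map_closure]
        refine closure_mono ?_
        rintro _ ⟨x, hx, rfl⟩
        exact hfix w hw x hx
      · rw [MonoidHom.map_closure]
        refine closure_mono fun x hx => ⟨w⁻¹ * x * w, ?_, by simp [MulAut.conj_apply, mul_assoc]⟩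
        simpa using hfix w⁻¹ (P.inv_mem hw) x hx
    · show (closure E).map φ.toMonoidHom = closure E
      rw [MonoidHom.map_closure]
      exact congrArg Subgroup.closure heq
  intro x
  obtain ⟨k, m, hm, hx⟩ := Nat.exists_eq_pow_mul_and_not_dvd (orderOf_pos (x : G)).ne' p
    (Fact.out : p.Prime).ne_one
  refine ⟨k, Subtype.ext ?_⟩
  have hmem : (x : G) ^ (p ^ k) ∈ E := by
    refine ⟨P.pow_mem x.2 _, ?_⟩
    rw [orderOf_pow' _ (pow_ne_zero _ (Fact.out : p.Prime).ne_zero), hx, Nat.gcd_mul_right_left,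
      Nat.mul_div_cancel_left _ (pow_pos (Fact.out : p.Prime).pos k)]
    exact hm
  have := subset_closure (k := E) hmem
  rw [hR, SetLike.mem_coe, mem_bot] at this
  simpa using this

/-- The generators attached to `P` and `φ`. -/
theorem exists_sys (P : Subgroup G) (φ : MulAut G) (p : ℕ) [Fact p.Prime]
    (hN : ((P ⊓ φ • P).subgroupOf (φ • P)).Normal)
    (hidx : (P ⊓ φ • P).relIndex (φ • P) = p)
    (h1 : ∀ Q : Subgroup G, Q ≤ P → (Q.subgroupOf P).Normal → φ • Q = Q → Q = ⊥) :
    ∃ (T : ℕ) (S : Sys G p T), 1 ≤ T ∧ Nat.card P = p ^ T ∧ S.σ = φ⁻¹ ∧ seg S.y 0 T = P ∧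
      P ⊓ φ • P = seg S.y 0 (T - 1) := by
  classical
  have hp : p.Prime := Fact.out
  have hPp := isPGroup_of_index P φ p hN hidx h1
  obtain ⟨T, hT⟩ := hPp.exists_card_eq
  have hcsmul : ∀ H : Subgroup G, Nat.card ↥(φ • H) = Nat.card H := fun H =>
    (Nat.card_congr (Subgroup.equivSMul φ H).toEquiv).symm
  obtain ⟨Q, hQ0, hQs⟩ : ∃ Q : ℕ → Subgroup G, Q 0 = P ∧ ∀ k, Q (k + 1) = Q k ⊓ φ • Q k :=
    ⟨fun k => Nat.rec P (fun _ H => H ⊓ φ • H) k, rfl, fun _ => rfl⟩
  have hanti : ∀ k j, Q (k + j) ≤ Q k := by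
    intro k j
    induction j with
    | zero => exact le_rfl
    | succ j ih => exact le_trans (hQs (k + j) ▸ inf_le_left) ih
  have hne : ∀ k, Q k ≠ ⊥ → ∀ j ≤ k, Q j ≠ ⊥ := fun k hk j hj h => hk (le_bot_iff.1 (by
    have := hanti j (k - j); rwa [Nat.add_sub_cancel' hj, h] at this))
  have hψle : ∀ k, φ⁻¹ • Q (k + 1) ≤ Q k := fun k => by
    rw [hQs, Subgroup.pointwise_smul_subset_iff, inv_inv]; exact inf_le_right
  have hidx0 : Nat.card (Q 1) * p = Nat.card (Q 0) := by
    rw [hQs, hQ0, ← hidx, ← hcsmul P, mul_comm]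
    exact relIndex_mul_card' inf_le_right
  have step : ∀ k, Q k ≠ ⊥ → ∃ m, Nat.card (Q k) = p ^ (m + 1) ∧ Nat.card (Q (k + 1)) = p ^ m := by
    intro k
    induction k using Nat.strong_induction_on with
    | _ k IH =>
      intro hk
      obtain ⟨a, ha⟩ := (hPp.to_le (show Q k ≤ P by simpa [hQ0] using hanti 0 k)).exists_card_eq
      obtain ⟨b, hb⟩ := (hPp.to_le (show Q (k + 1) ≤ P by simpa [hQ0] using hanti 0 (k + 1))).exists_card_eq
      rcases k with _ | k
      · rw [ha, hb, ← pow_succ] at hidx0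
        exact ⟨b, by rw [ha, Nat.pow_right_injective hp.two_le hidx0], hb⟩
      obtain ⟨m, hm, hm1⟩ := IH k (by omega) (hne _ hk k (by omega))
      have hBH : φ • Q (k + 1) ≤ φ • Q k := Subgroup.pointwise_smul_le_pointwise_smul_iff.2 (hanti k 1)
      have hAH : Q (k + 1) ≤ φ • Q k := hQs k ▸ inf_le_right
      have hcH : Nat.card ↥(φ • Q k) = p ^ (m + 1) := by rw [hcsmul, hm]
      have hcB : Nat.card ↥(φ • Q (k + 1)) = p ^ m := by rw [hcsmul, hm1]
      have hm0 : m ≠ 0 := fun h => hk (Subgroup.eq_bot_of_card_eq _ (by rw [hm1, h, pow_zero]))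
      obtain ⟨l, rfl⟩ : ∃ l, m = l + 1 := ⟨m - 1, by omega⟩
      refine ⟨l, hm1, ?_⟩
      -- not fixed
      have hnf : φ • Q (k + 1) ≠ Q (k + 1) := by
        intro hfix
        have hnorm : ∀ j ≤ k, Q j ≤ normalizer (Q (k + 1) : Set G) := by
          intro j hj
          induction hd : k - j generalizing j with
          | zero =>
            obtain rfl : j = k := by omega
            exact le_normalizer_of_index (p := p) (k := l + 1) (hanti j 1) hm hm1
          | succ d ihd =>
            obtain ⟨q, hq, hq1⟩ := IH j (by omega) (hne _ hk j (by omega))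
            obtain ⟨q', hq', hq'1⟩ := IH (j + 1) (by omega) (hne _ hk (j + 1) (by omega))
            have hA := ihd (j + 1) (by omega) (by omega)
            have hB : φ⁻¹ • Q (j + 1) ≤ normalizer (Q (k + 1) : Set G) := by
              rw [Subgroup.pointwise_smul_subset_iff, inv_inv]
              have hmap : φ • normalizer (Q (k + 1) : Set G) = normalizer ((φ • Q (k + 1) : Subgroup G) : Set G) :=
                Subgroup.map_equiv_normalizer_eq _ φ
              rw [hfix] at hmap
              rw [hmap]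
              exact hA
            have hne' : φ⁻¹ • Q (j + 1) ≠ Q (j + 1) := by
              intro h
              have h' : φ • Q (j + 1) = Q (j + 1) := by
                conv_lhs => rw [← h, smul_inv_smul]
              have h'' : Q (j + 2) = Q (j + 1) := by rw [hQs (j + 1), h', inf_idem]
              rw [h''] at hq'1
              rw [hq'1] at hq'
              exact absurd (Nat.pow_right_injective hp.two_le hq') (by omega)
            rcases eq_or_eq_of_index (p := p) (k := q) (A := Q (j + 1))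
                (B := Q (j + 1) ⊔ φ⁻¹ • Q (j + 1)) le_sup_left (sup_le (hanti j 1) (hψle j)) hq hq1 with h | h
            · exfalso
              refine hne' (Subgroup.eq_of_le_of_card_ge (sup_eq_left.1 h) ?_)
              exact le_of_eq (Nat.card_congr (Subgroup.equivSMul φ⁻¹ (Q (j + 1))).toEquiv)
            · rw [← h]; exact sup_le hA hB
        refine hk (h1 _ (by simpa [hQ0] using hanti 0 (k + 1)) ?_ hfix)
        rw [Subgroup.normal_subgroupOf_iff_le_normalizer (by simpa [hQ0] using hanti 0 (k + 1))]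
        exact hQ0 ▸ hnorm 0 (by omega)
      have hAH' : Q (k + 1) ⊔ φ • Q (k + 1) = φ • Q k := by
        rcases eq_or_eq_of_index (p := p) (k := l + 1) (A := φ • Q (k + 1)) le_sup_right
          (sup_le hAH hBH) hcH hcB with h | h
        · exact absurd (Subgroup.eq_of_le_of_card_ge (sup_eq_right.1 h) (by rw [hcB, hm1])).symm hnf
        · exact h
      have hle := Subgroup.relIndex_le_of_le_right (H := φ • Q (k + 1)) hAH
        (by rw [← Nat.pos_iff_ne_zero]; exact Nat.pos_of_ne_zero Subgroup.index_ne_zero_of_finite)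
      have hrH : (φ • Q (k + 1)).relIndex (φ • Q k) = p := by
        have := relIndex_mul_card' hBH
        rw [hcB, hcH] at this
        rw [pow_succ _ (l + 1), mul_comm _ p] at this
        exact Nat.eq_of_mul_eq_mul_right (pow_pos hp.pos _) this
      rw [hrH] at hle
      have hmul : (φ • Q (k + 1)).relIndex (Q (k + 1)) * Nat.card (Q (k + 2)) = Nat.card (Q (k + 1)) := by
        rw [← Subgroup.inf_relIndex_right, inf_comm, ← hQs (k + 1)]
        exact relIndex_mul_card' (hanti (k + 1) 1)
      rw [hm1, hb] at hmul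
      rcases Nat.lt_or_ge b (l + 1) with hbl | hbl
      · rcases Nat.lt_or_ge b l with hbl' | hbl'
        · exfalso
          have : p ^ (l + 1) ≤ p * p ^ b := hmul ▸ Nat.mul_le_mul_right _ hle
          rw [← pow_succ'] at this
          have := (Nat.pow_le_pow_iff_right hp.one_lt).1 this
          omega
        · rw [hb, show b = l by omega]
      · exfalso
        have hle' : Q (k + 1) ≤ Q (k + 2) := by
          refine (Subgroup.eq_of_le_of_card_ge (hanti (k + 1) 1) ?_).ge
          rw [hm1, hb]; exact Nat.pow_le_pow_right hp.pos hbl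
        rw [hQs (k + 1)] at hle'
        exact hnf (Subgroup.eq_of_le_of_card_ge (hle'.trans inf_le_right) (by rw [hcB, hm1])).symm
  have hcardQ : ∀ k, k ≤ T → Nat.card (Q k) = p ^ (T - k) := by
    intro k
    induction k with
    | zero => intro _; simpa [hQ0] using hT
    | succ k ih =>
      intro hk
      have h := ih (by omega)
      obtain ⟨m, hm, hm1⟩ := step k (fun hb => by
        rw [hb, Subgroup.card_bot] at h
        have := Nat.pow_right_injective hp.two_le (show p ^ 0 = p ^ (T - k) by simpa using h)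
        omega)
      rw [hm] at h
      rw [hm1]
      have := Nat.pow_right_injective hp.two_le h
      congr 1
      omega
  have hT1 : 1 ≤ T := by
    by_contra h
    have h0 : Nat.card (Q 0) = 1 := by rw [hQ0, hT, show T = 0 by omega, pow_zero]
    have hd : p ∣ 1 := h0 ▸ hidx0 ▸ dvd_mul_left p _
    exact hp.ne_one (Nat.dvd_one.1 hd)
  obtain ⟨x, hx⟩ : ∃ x, zpowers x = Q (T - 1) := by
    have hc : Nat.card (Q (T - 1)) = p := by rw [hcardQ _ (by omega), show T - (T - 1) = 1 by omega, pow_one]
    haveI := isCyclic_of_prime_card hc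
    obtain ⟨x, hx⟩ := IsCyclic.exists_generator (α := Q (T - 1))
    refine ⟨x, le_antisymm (zpowers_le.2 x.2) fun w hw => ?_⟩
    obtain ⟨e, he⟩ := hx ⟨w, hw⟩
    exact ⟨e, congrArg Subtype.val he⟩
  obtain ⟨y, hy⟩ : ∃ y : ℕ → G, ∀ i, y i = (φ⁻¹ ^ i) x := ⟨_, fun _ => rfl⟩
  have hys : ∀ i, y (i + 1) = φ⁻¹ (y i) := fun i => by rw [hy, hy, pow_succ', MulAut.mul_apply]
  have hshift : ∀ k m, (φ⁻¹ ^ k) • seg y 0 m ≤ seg y k m := by
    intro k m
    rw [Subgroup.pointwise_smul_subset_iff]
    refine seg_le fun j _ hj => ?_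
    rw [Subgroup.mem_pointwise_smul_iff_inv_smul_mem, inv_inv, MulAut.smul_def, hy, ← MulAut.mul_apply,
      ← pow_add, ← hy]
    exact mem_seg (by omega) (by omega)
  have hseg : ∀ m, 1 ≤ m → m ≤ T → seg y 0 m = Q (T - m) := by
    intro m hm
    induction m, hm using Nat.le_induction with
    | base =>
      intro _
      rw [← hx]
      refine le_antisymm (seg_le fun j _ hj => ?_) (zpowers_le.2 ?_)
      · obtain rfl : j = 0 := by omega
        rw [hy]; exact mem_zpowers x
      · rw [show x = y 0 by rw [hy]; simp]; exact mem_seg le_rfl (by omega)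
    | succ m hm1 ih =>
      intro hmT
      have hs := ih (by omega)
      have hle : seg y 0 (m + 1) ≤ Q (T - (m + 1)) := seg_le fun j _ hj => by
        rcases Nat.eq_zero_or_pos j with rfl | hj0
        · refine hanti _ 1 ?_
          rw [show T - (m + 1) + 1 = T - m by omega, ← hs]
          exact mem_seg le_rfl (by omega)
        · refine hψle _ ?_
          rw [show T - (m + 1) + 1 = T - m by omega, ← hs, show j = (j - 1) + 1 by omega, hys]
          exact Subgroup.smul_mem_pointwise_smul _ _ _ (mem_seg (by omega) (by omega))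
      have hlow : Q (T - m) ≤ seg y 0 (m + 1) := hs ▸ seg_mono le_rfl (by omega)
      have hc1 := hcardQ (T - m) (by omega)
      have hc2 := hcardQ (T - (m + 1)) (by omega)
      rw [show T - (T - m) = m by omega] at hc1
      rw [show T - (T - (m + 1)) = m + 1 by omega] at hc2
      rcases eq_or_eq_of_index (p := p) (k := m) hlow hle hc2 hc1 with h | h
      · exfalso
        have hfix : φ⁻¹ • Q (T - m) ≤ Q (T - m) := by
          rw [← hs]
          refine le_trans (by simpa using hshift 1 m) ?_
          exact (seg_mono (Nat.zero_le 1) (by omega)).trans (h.le.trans hs.ge)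
        have hfix' : φ • Q (T - m) = Q (T - m) := by
          have := Subgroup.eq_of_le_of_card_ge hfix
            (le_of_eq (Nat.card_congr (Subgroup.equivSMul φ⁻¹ (Q (T - m))).toEquiv))
          conv_lhs => rw [← this, smul_inv_smul]
        obtain ⟨q, hq, hq1⟩ := step (T - m) (fun hb => by
          rw [hb, Subgroup.card_bot] at hc1
          have := Nat.pow_right_injective hp.two_le (show p ^ 0 = p ^ m by simpa using hc1)
          omega)
        rw [hQs, hfix', inf_idem] at hq1
        rw [hq1] at hq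
        exact absurd (Nat.pow_right_injective hp.two_le hq) (by omega)
      · exact h
  have hPseg : P = seg y 0 T := by rw [hseg T hT1 le_rfl, Nat.sub_self, hQ0]
  let S : Sys G p T :=
    { y := y
      σ := φ⁻¹
      hy := hys
      hcard := fun m hm => by
        rcases Nat.eq_zero_or_pos m with rfl | hm0
        · rw [seg_zero, Subgroup.card_bot, pow_zero]
        · rw [hseg m hm0 hm, hcardQ _ (by omega), show T - (T - m) = m by omega] }
  refine ⟨T, S, hT1, hT, rfl, hPseg.symm, ?_⟩
  rw [← hQ0, ← hQs]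
  rcases Nat.lt_or_ge 1 T with h | h
  · rw [hseg (T - 1) (by omega) (by omega), show T - (T - 1) = 0 + 1 by omega]
  · rw [show T - 1 = 0 by omega, seg_zero]
    exact Subgroup.eq_bot_of_card_eq _ (by rw [hcardQ 1 hT1, show T - 1 = 0 by omega, pow_zero])

/-- Glauberman's bound. -/
theorem bound (P : Subgroup G) (φ : MulAut G) (p : ℕ) [Fact p.Prime]
    (hN : ((P ⊓ φ • P).subgroupOf (φ • P)).Normal)
    (hidx : (P ⊓ φ • P).relIndex (φ • P) = p)
    (h1 : ∀ Q : Subgroup G, Q ≤ P → (Q.subgroupOf P).Normal → φ • Q = Q → Q = ⊥)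
    (n : ℕ) (hn : 1 ≤ n) (K : Subgroup G) (hK : K = ⨆ i ∈ Finset.range (n + 1), (φ ^ i) • P)
    (h2 : P ⊓ (Subgroup.center K).map K.subtype = ⊥) :
    ∃ t : ℕ, Nat.card P = p ^ t ∧ 1 ≤ t ∧ t ≤ 3 * n ∧ t ≠ 3 * n - 1 := by
  classical
  have hp : p.Prime := Fact.out
  obtain ⟨T, S, hT1, hT, hσ, hPseg', -⟩ := exists_sys P φ p hN hidx h1
  obtain ⟨y, hyS⟩ : ∃ y, S.y = y := ⟨_, rfl⟩
  rw [hyS] at hPseg'
  have hPseg := hPseg'.symm
  obtain ⟨x, hx⟩ : ∃ x, y 0 = x := ⟨_, rfl⟩
  have hy : ∀ i, y i = (φ⁻¹ ^ i) x := fun i => by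
    have := S.y_add i 0
    rwa [Nat.add_zero, hσ, hyS, hx] at this
  obtain ⟨u, hu1, huT, h3u, -, hclose⟩ := S.main hT1
  have h2u : 2 * u ≤ T + n := by
    by_contra hcon
    have hsplit : ∀ j, y j = (φ⁻¹ ^ n) ((φ ^ n) (y j)) := fun j => by
      rw [inv_pow, ← MulAut.mul_apply, inv_mul_cancel, MulAut.one_apply]
    have hzy : (φ ^ n) (y (u - 1)) = y (u - 1 - n) := by
      rw [hy, hy, ← MulAut.mul_apply]
      congr 1
      rw [show u - 1 = n + (u - 1 - n) by omega, pow_add, ← mul_assoc, inv_pow, mul_inv_cancel, one_mul]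
      congr 1; omega
    have hzP : (φ ^ n) (y (u - 1)) ∈ P := by
      rw [hzy, hPseg]; exact mem_seg (Nat.zero_le _) (by omega)
    have hzK : (φ ^ n) (y (u - 1)) ∈ K := by
      rw [hK]
      refine mem_iSup_of_mem 0 (mem_iSup_of_mem (by simp) ?_)
      simpa using hzP
    have hcentral : K ≤ centralizer ({(φ ^ n) (y (u - 1))} : Set G) := by
      rw [hK]
      refine iSup₂_le fun i hi => ?_
      rw [Finset.mem_range] at hi
      conv_lhs => rw [hPseg]
      rw [Subgroup.pointwise_smul_subset_iff]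
      refine seg_le fun j _ hj => ?_
      rw [Subgroup.mem_pointwise_smul_iff_inv_smul_mem, inv_inv, MulAut.smul_def,
        mem_centralizer_singleton_iff]
      have hji : (φ ^ i) (y j) = (φ ^ n) (y (n - i + j)) := by
        rw [hy, hy, ← MulAut.mul_apply, ← MulAut.mul_apply]
        congr 1
        rw [pow_add, ← mul_assoc]
        congr 1
        conv_rhs => rw [show n = i + (n - i) by omega, pow_add]
        rw [show i + (n - i) - i = n - i by omega, mul_assoc, inv_pow, mul_inv_cancel, mul_one]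
      rw [hji]
      exact ((hyS ▸ hclose _ _ (by omega) (by omega) : Commute (y (n - i + j)) (y (u - 1))).map (φ ^ n)).eq
    have hmem : (φ ^ n) (y (u - 1)) ∈ P ⊓ (Subgroup.center K).map K.subtype := by
      refine ⟨hzP, ⟨⟨_, hzK⟩, Subgroup.mem_center_iff.2 fun w => Subtype.ext ?_, rfl⟩⟩
      exact mem_centralizer_singleton_iff.1 (hcentral w.2)
    rw [h2, mem_bot] at hmem
    have hy1 : y (u - 1) = 1 := by rw [hsplit, hmem, map_one]
    have hc : Nat.card (seg y (u - 1) 1) = 1 := by
      rw [Subgroup.card_eq_one]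
      exact le_bot_iff.1 (seg_le fun j h1 h2 => by
        obtain rfl : j = u - 1 := by omega
        rw [hy1]; exact one_mem _)
    rw [← hyS, S.card_seg _ hT1, pow_one] at hc
    exact hp.ne_one hc
  exact ⟨T, hT, hT1, by omega, by omega⟩

end Setup

end FgsC.IsoSub
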