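import Cfsg.Agent.Lib.Perm.JordanCycle
import Cfsg.Agent.Lib.Spor.Sharp
import Cfsg.Agent.Lib.FgsC.AltOddAut

/-!
An `(r+1)`-transitive group of degree `kp + r`, `1 ≤ k < p`, `k < r`, `(k, r) ≠ (1, 2)`, contains
the alternating group.
-/

set_option autoImplicit false
set_option linter.style.haveILetI false
set_option linter.unusedSectionVars false

namespace CfsgLib.FgsC.KpR

open MulAction Equiv
open scoped Nat

variable {α : Type*} [Fintype α] [DecidableEq α] {G : Subgroup (Perm α)}

/-- A multiply transitive group with an element of small support. -/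
theorem le_of_small_support {j : ℕ} (hj : 3 ≤ j) (hjn : j ≤ Fintype.card α)
    (hG : IsMultiplyPretransitive G α j) {g : Perm α} (hg : g ∈ G) (hg1 : g ≠ 1)
    (hs : g.support.card < 2 * j - 2) : alternatingGroup α ≤ G := by
  obtain ⟨h, hh, hh1, hh3⟩ := CfsgLib.Perm.exists_support_le_three hj hjn hG hg hg1 hs
  haveI := hG
  have h2' : IsMultiplyPretransitive G α 2 :=
    isMultiplyPretransitive_of_le (n := j) (by omega) (by rw [Nat.card_eq_fintype_card]; exact hjn)
  have hp := isPreprimitive_of_is_two_pretransitive h2'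
  have h2 : 2 ≤ h.support.card := Perm.two_le_card_support_of_ne_one hh1
  rcases (show h.support.card = 2 ∨ h.support.card = 3 by omega) with e | e
  · rw [Perm.subgroup_eq_top_of_isPreprimitive_of_isSwap_mem hp h
      (Perm.card_support_eq_two.1 e) hh]
    exact le_top
  · exact Perm.alternatingGroup_le_of_isPreprimitive_of_isThreeCycle_mem hp
      (card_support_eq_three_iff.1 e) hh

/-- The only 4-transitive groups of degree nine contain the alternating group. -/
theorem le_of_nine (h9 : Fintype.card α = 9) (hG : IsMultiplyPretransitive G α 4) :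
    alternatingGroup α ≤ G := by
  by_contra hle
  have hsh : CfsgLib.Spor.Sharp.IsSharp G α 4 := ⟨hG, fun g s hs hfix => by
    by_contra hg
    refine hle (le_of_small_support (g := (g : Perm α)) (by norm_num) (by omega) hG g.2
      (fun e => hg (Subtype.ext e)) ?_)
    have : (g : Perm α).support ⊆ sᶜ := fun x hx => Finset.mem_compl.2 fun hxs =>
      Perm.mem_support.1 hx (hfix x hxs)
    have h5 := Finset.card_le_card this
    rw [Finset.card_compl, h9, hs] at h5
    omega⟩
  have := CfsgLib.Spor.Sharp.degree_four hsh (by omega)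
  omega

/-- The symmetric group on at least three letters has trivial centre. -/
theorem eq_one_of_central {β : Type*} [Fintype β] [DecidableEq β] (h3 : 3 ≤ Fintype.card β)
    {a : Perm β} (ha : ∀ s, s * a = a * s) : a = 1 := by
  by_contra hne
  obtain ⟨x, hx⟩ : ∃ x, a x ≠ x := by
    by_contra hall
    push Not at hall
    exact hne (Perm.ext hall)
  obtain ⟨c, hc⟩ : ∃ c, c ∉ ({x, a x} : Finset β) := by
    by_contra hall
    push Not at hall
    have := Finset.card_le_card (s := Finset.univ) (t := ({x, a x} : Finset β)) fun c _ => hall c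
    rw [Finset.card_univ, Finset.card_pair (Ne.symm hx)] at this
    omega
  simp only [Finset.mem_insert, Finset.mem_singleton, not_or] at hc
  have h := congrArg (fun f : Perm β => f x) (ha (swap (a x) c))
  simp only [Perm.mul_apply, swap_apply_left] at h
  rw [swap_apply_of_ne_of_ne (Ne.symm hx) (Ne.symm hc.1)] at h
  exact hc.2 h

/-- A commutative normal subgroup of the symmetric group on at least five letters is trivial. -/
theorem eq_bot_of_normal_comm {β : Type*} [Fintype β] [DecidableEq β] (h5 : 5 ≤ Fintype.card β)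
    (A : Subgroup (Perm β)) [A.Normal] (hA : ∀ a ∈ A, ∀ b ∈ A, a * b = b * a) : A = ⊥ := by
  by_contra hne
  haveI := (Subgroup.nontrivial_iff_ne_bot A).2 hne
  have hle := Perm.alternatingGroup_le_of_normal (α := β) (by rwa [Nat.card_eq_fintype_card])
    (N := A) inferInstance
  have hc := alternatingGroup.center_eq_bot (α := β) (by rw [Nat.card_eq_fintype_card]; omega)
  have htop : Subgroup.center (alternatingGroup β) = ⊤ := eq_top_iff.2 fun a _ =>
    Subgroup.mem_center_iff.2 fun b => Subtype.ext (hA b (hle b.2) a (hle a.2))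
  rw [hc] at htop
  haveI : Nontrivial (alternatingGroup β) :=
    alternatingGroup.nontrivial_of_three_le_card (by rw [Nat.card_eq_fintype_card]; omega)
  exact bot_ne_top htop

/-- A normal subgroup of the symmetric group consisting of commuting elements of odd prime
order `p`. -/
theorem eq_bot_of_normal_exponent {β : Type*} [Fintype β] [DecidableEq β]
    (h3 : 3 ≤ Fintype.card β) {p : ℕ} (hp : p.Prime) (hp2 : p ≠ 2)
    (A : Subgroup (Perm β)) [A.Normal] (hA : ∀ a ∈ A, ∀ b ∈ A, a * b = b * a)
    (hexp : ∀ a ∈ A, a ^ p = 1) (h33 : ¬ (p = 3 ∧ Fintype.card β = 3)) : A = ⊥ := by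
  rcases Nat.lt_or_ge (Fintype.card β) 5 with h5 | h5
  swap
  · exact eq_bot_of_normal_comm h5 A hA
  by_contra hne
  haveI := Fact.mk hp
  obtain ⟨a, ha, ha1⟩ : ∃ a ∈ A, a ≠ 1 := by
    by_contra h
    push Not at h
    exact hne ((Subgroup.eq_bot_iff_forall A).2 h)
  have hord : orderOf a = p := orderOf_eq_prime (hexp a ha) ha1
  have hdvd : p ∣ (Fintype.card β)! := by
    rw [← hord, ← Nat.card_eq_fintype_card (α := β), ← Nat.card_perm]
    exact orderOf_dvd_natCard a
  have hple := hp.dvd_factorial.1 hdvd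
  have hp3 : p = 3 := by
    have := hp.two_le
    rcases (show p = 3 ∨ p = 4 by omega) with e | e
    · exact e
    · rw [e] at hp; exact absurd hp (by norm_num)
  subst hp3
  have h4 : Fintype.card β = 4 := by
    by_contra hh
    exact h33 ⟨rfl, by omega⟩
  have hct : a.IsThreeCycle := by
    have h2 := (Perm.isCycle_of_prime_order (σ := a) (by rw [hord]; exact hp)
      (by rw [hord]; have := a.support.card_le_univ; omega))
    rw [← card_support_eq_three_iff, ← h2.orderOf, hord]
  obtain ⟨y, hy⟩ : ∃ y, a y = y := by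
    by_contra hall
    push Not at hall
    have : a.support = Finset.univ := Finset.eq_univ_iff_forall.2 fun z => Perm.mem_support.2 (hall z)
    have h := hct.card_support
    rw [this, Finset.card_univ, h4] at h
    omega
  obtain ⟨x, hx⟩ : ∃ x, a x ≠ x := by
    by_contra hall
    push Not at hall
    exact ha1 (Perm.ext hall)
  set b := swap x y * a * (swap x y)⁻¹
  have hb : b ∈ A := ‹A.Normal›.conj_mem a ha (swap x y)
  have hxy : x ≠ y := fun e => hx (e ▸ hy)
  have h := congrArg (fun f : Perm β => f x) (hA a ha b hb)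
  simp only [b, Perm.mul_apply, Perm.inv_def, symm_swap, swap_apply_left, hy, swap_apply_right] at h
  have hax : swap x y (a x) = a x := by
    refine swap_apply_of_ne_of_ne hx fun e => hxy (a.injective ?_)
    rw [e, hy]
  rw [hax] at h
  by_cases h1 : a (a x) = x
  · have h3' : (a ^ 3) x = x := by rw [hexp a ha]; rfl
    rw [pow_succ', pow_two, Perm.mul_apply, Perm.mul_apply, h1] at h3'
    exact hx h3'
  · have h2' : a (a x) ≠ y := fun e => hxy (a.injective (a.injective (by rw [e, hy, hy])))
    rw [swap_apply_of_ne_of_ne h1 h2'] at h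
    exact hx (a.injective h).symm

theorem pow_apply_congr {g u : Perm α} {a : α} (hc : g * u = u * g) (h : g a = u a) (i : ℕ) :
    (g ^ i) a = (u ^ i) a := by
  induction i with
  | zero => rfl
  | succ i ih =>
    rw [pow_succ', Perm.mul_apply, ih]
    have h' := congrArg (fun f : Perm α => f a) (Commute.pow_right hc i).eq
    simp only [Perm.mul_apply] at h'
    rw [h', h, ← Perm.mul_apply, ← pow_succ]

theorem alternatingGroup_le {k p r : ℕ} (hp : p.Prime) (hn : Fintype.card α = k * p + r)
    (hk : 1 ≤ k) (hpk : k < p) (hrk : k < r) (hex : ¬ (k = 1 ∧ r = 2))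
    (hG : IsMultiplyPretransitive G α (r + 1)) : alternatingGroup α ≤ G := by
  classical
  haveI := Fact.mk hp
  have hp2 : 2 ≤ p := hp.two_le
  have hkp : p ≤ k * p := Nat.le_mul_of_pos_left p hk
  have hr3 : 3 ≤ r := by
    by_contra h
    exact hex ⟨by omega, by omega⟩
  have hjn : r + 1 ≤ Fintype.card α := by omega
  have hprim : IsPreprimitive G α := by
    haveI := hG
    have h2' : IsMultiplyPretransitive G α 2 :=
      isMultiplyPretransitive_of_le (n := r + 1) (by omega) (by rw [Nat.card_eq_fintype_card]; exact hjn)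
    exact isPreprimitive_of_is_two_pretransitive h2'
  obtain ⟨R, -, hR⟩ := Finset.exists_subset_card_eq (s := (Finset.univ : Finset α)) (n := r)
    (by rw [Finset.card_univ]; omega)
  set GR : Subgroup (Perm α) := G ⊓ fixingSubgroup (Perm α) (R : Set α) with hGRdef
  have hGR : ∀ g, g ∈ GR ↔ g ∈ G ∧ ∀ x ∈ R, g x = x := fun g => by
    simp only [hGRdef, Subgroup.mem_inf, mem_fixingSubgroup_iff, Perm.smul_def, Finset.mem_coe]
  have htrans : ∀ a b, a ∉ R → b ∉ R → ∃ g ∈ GR, g a = b := fun a b ha hb => by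
    obtain ⟨g, hg, hfix, hgab⟩ := CfsgLib.Perm.exists_fix_move hjn hG R (by omega) ha hb
    exact ⟨g, (hGR g).2 ⟨hg, hfix⟩, hgab⟩
  obtain ⟨P₀⟩ : Nonempty (Sylow p GR) := inferInstance
  set P : Subgroup (Perm α) := (P₀ : Subgroup GR).map GR.subtype with hPdef
  have hPp : IsPGroup p P := P₀.isPGroup'.map _
  have hPle : P ≤ GR := Subgroup.map_subtype_le _
  have hPR : ∀ u ∈ P, ∀ x ∈ R, u x = x := fun u hu => ((hGR u).1 (hPle hu)).2
  -- the orbits outside `R` have length `p`
  have hRc : Rᶜ.card = k * p := by rw [Finset.card_compl, hn, hR]; omega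
  have horb : ∀ a, a ∉ R → Nat.card (orbit P a) = p := by
    intro a ha
    obtain ⟨i, hi⟩ := hPp.card_orbit a
    have hsub : orbit P a ⊆ (↑(Rᶜ) : Set α) := by
      rintro _ ⟨u, rfl⟩
      simp only [Finset.coe_compl, Set.mem_compl_iff, Finset.mem_coe]
      intro hmem
      have h := hPR u u.2 _ hmem
      exact ha ((u : Perm α).injective h ▸ hmem)
    have hle : p ^ i ≤ k * p := by
      rw [← hi, ← hRc, Nat.card_coe_set_eq, ← Set.ncard_coe_finset]
      exact Set.ncard_le_ncard hsub
    have hi1 : i ≤ 1 := by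
      by_contra h
      have h2 := (Nat.pow_le_pow_right hp.pos (by omega : 2 ≤ i)).trans hle
      nlinarith
    have hGorb : orbit GR a = (↑(Rᶜ) : Set α) := by
      ext b
      constructor
      · rintro ⟨u, rfl⟩
        simp only [Finset.coe_compl, Set.mem_compl_iff, Finset.mem_coe]
        intro hmem
        have h := ((hGR u).1 u.2).2 _ hmem
        exact ha ((u : Perm α).injective h ▸ hmem)
      · intro hb
        obtain ⟨g, hg, hgab⟩ := htrans a b ha (by simpa using hb)
        exact ⟨⟨g, hg⟩, hgab⟩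
    have hi0 : i ≠ 0 := by
      rintro rfl
      rw [pow_zero] at hi
      have hfix : (P₀ : Subgroup GR) ≤ stabilizer GR a := fun u hu => by
        rw [Nat.card_coe_set_eq, Set.ncard_eq_one] at hi
        obtain ⟨z, hz⟩ := hi
        have h1 : a ∈ orbit P a := mem_orbit_self a
        have h2 : (u : Perm α) a ∈ orbit P a := ⟨⟨u, Subgroup.mem_map_of_mem _ hu⟩, rfl⟩
        rw [hz, Set.mem_singleton_iff] at h1 h2
        exact h2.trans h1.symm
      have hdvd := Subgroup.index_dvd_of_le hfix
      rw [index_stabilizer, hGorb, Set.ncard_coe_finset, hRc] at hdvd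
      exact P₀.not_dvd_index ((Dvd.intro_left k rfl).trans hdvd)
    obtain rfl : i = 1 := by omega
    rw [hi, pow_one]
  have hmoved : ∀ a, (∀ u ∈ P, u a = a) → a ∈ R := fun a ha => by
    by_contra hR'
    have h := horb a hR'
    rw [show orbit P a = {a} from Set.eq_singleton_iff_unique_mem.2
      ⟨mem_orbit_self a, by rintro _ ⟨u, rfl⟩; exact ha u u.2⟩] at h
    simp at h
    omega
  -- restrictions of `P` to its orbits
  have hcommP : ∀ a, ∀ u ∈ P, ∀ v ∈ P, u (v a) = v (u a) := by
    intro a u hu v hv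
    by_cases ha : a ∈ R
    · rw [hPR v hv a ha, hPR u hu a ha, hPR v hv a ha]
    set ρ := MulAction.toPermHom P (orbit P a)
    have hrange : IsPGroup p ρ.range := hPp.of_surjective ρ.rangeRestrict ρ.rangeRestrict_surjective
    have hcomm : IsMulCommutative ρ.range := by
      by_contra hnc
      have := CfsgLib.FgsC.AltOddAut.sq_le_card_of_not_comm hrange hnc
      rw [← Nat.card_eq_fintype_card, horb a ha] at this
      nlinarith
    have h := congrArg (fun f : Perm (orbit P a) => ((f ⟨a, mem_orbit_self a⟩ : orbit P a) : α))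
      (congrArg Subtype.val
        (hcomm.is_comm.comm (ρ.rangeRestrict ⟨u, hu⟩) (ρ.rangeRestrict ⟨v, hv⟩)))
    exact h
  have hgen : ∀ a, a ∉ R → ∃ w ∈ P, w a ≠ a ∧ ∀ b ∈ orbit P a, ∃ i : ℕ, (w ^ i) a = b := by
    intro a ha
    obtain ⟨w, hw, hwa⟩ : ∃ w ∈ P, w a ≠ a := by
      by_contra hall
      push Not at hall
      exact ha (hmoved a hall)
    refine ⟨w, hw, hwa, ?_⟩
    have hsub : orbit (Subgroup.zpowers w) a ⊆ orbit P a := by
      rintro _ ⟨z, rfl⟩
      exact ⟨⟨(z : Perm α), Subgroup.zpowers_le.2 hw z.2⟩, rfl⟩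
    obtain ⟨i, hi⟩ := (hPp.to_le (Subgroup.zpowers_le.2 hw)).card_orbit a
    have hi0 : i ≠ 0 := by
      rintro rfl
      rw [pow_zero, Nat.card_coe_set_eq, Set.ncard_eq_one] at hi
      obtain ⟨z, hz⟩ := hi
      have h1 : a ∈ orbit (Subgroup.zpowers w) a := mem_orbit_self a
      have h2 : w a ∈ orbit (Subgroup.zpowers w) a := ⟨⟨w, Subgroup.mem_zpowers w⟩, rfl⟩
      rw [hz, Set.mem_singleton_iff] at h1 h2
      exact hwa (h2.trans h1.symm)
    have heq : orbit (Subgroup.zpowers w) a = orbit P a := by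
      refine Set.eq_of_subset_of_ncard_le hsub ?_
      rw [← Nat.card_coe_set_eq, ← Nat.card_coe_set_eq, horb a ha, hi]
      exact Nat.le_self_pow hi0 p
    intro b hb
    rw [← heq] at hb
    obtain ⟨⟨z, hz⟩, rfl⟩ := hb
    obtain ⟨n, rfl⟩ : ∃ n : ℕ, w ^ n = z := by
      obtain ⟨n, hn⟩ := mem_powers_iff_mem_zpowers.2 hz
      exact ⟨n, hn⟩
    exact ⟨n, rfl⟩
  have hexpP : ∀ u ∈ P, u ^ p = 1 := fun u hu => by
    refine Perm.ext fun a => ?_
    by_cases ha : a ∈ R
    · exact hPR _ (P.pow_mem hu p) a ha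
    obtain ⟨i, hi⟩ := (hPp.to_le (Subgroup.zpowers_le.2 hu)).card_orbit a
    have hsub : orbit (Subgroup.zpowers u) a ⊆ orbit P a := by
      rintro _ ⟨z, rfl⟩
      exact ⟨⟨(z : Perm α), Subgroup.zpowers_le.2 hu z.2⟩, rfl⟩
    have hle : p ^ i ≤ p := by
      rw [← hi, ← horb a ha, Nat.card_coe_set_eq, Nat.card_coe_set_eq]
      exact Set.ncard_le_ncard hsub
    have hstab : u ^ (p ^ i) • a = a := by
      have hh : (Subgroup.zpowers u).subtype.range = Subgroup.zpowers u := Subgroup.range_subtype _
      have hper : Function.minimalPeriod (u • ·) a = p ^ i := by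
        rw [minimalPeriod_eq_card, ← Nat.card_eq_fintype_card, hi]
      rw [← hper]
      exact pow_period_smul u a
    have hi1 : p ^ i ∣ p := by
      rcases Nat.lt_or_ge i 2 with h | h
      · exact (pow_dvd_pow p (by omega : i ≤ 1)).trans (pow_one p).dvd
      · exfalso
        have := (Nat.pow_le_pow_right hp.pos h).trans hle
        nlinarith
    obtain ⟨c, hc⟩ := hi1
    rw [hc, pow_mul]
    exact Perm.pow_apply_eq_self_of_apply_eq_self hstab c
  -- cycles of length `p`
  have hsmall : ∀ u ∈ P, u ≠ 1 → u.support.card ≤ p → alternatingGroup α ≤ G := fun u hu hu1 hus => by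
    have hord : orderOf u = p := orderOf_eq_prime (hexpP u hu) hu1
    have hcyc := Perm.isCycle_of_prime_order (σ := u) (by rw [hord]; exact hp)
      (by rw [hord]; omega)
    have hpn : p + 3 ≤ Fintype.card α := by omega
    exact CfsgLib.Perm.alternatingGroup_le_of_prime_cycle hprim hpn hcyc
      (by rw [← hcyc.orderOf, hord]) ((hGR u).1 (hPle hu)).1
  by_contra hle
  have hnocyc : ∀ u ∈ P, u ≠ 1 → p < u.support.card := fun u hu hu1 =>
    not_le.1 fun h => hle (hsmall u hu hu1 h)
  have hk2 : 2 ≤ k := by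
    by_contra h
    obtain rfl : k = 1 := by omega
    obtain ⟨a, ha⟩ : (Rᶜ : Finset α).Nonempty := Finset.card_pos.1 (by omega)
    obtain ⟨w, hw, hwa, -⟩ := hgen a (Finset.mem_compl.1 ha)
    have hs : w.support ⊆ Rᶜ := fun x hx => Finset.mem_compl.2 fun hxR =>
      Perm.mem_support.1 hx (hPR w hw x hxR)
    have := Finset.card_le_card hs
    have := hnocyc w hw (fun e => hwa (by rw [e]; rfl))
    omega
  have hp3 : p ≠ 2 := by omega
  -- the normaliser
  set N : Subgroup (Perm α) := G ⊓ Subgroup.normalizer (P : Set (Perm α)) with hNdef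
  have hconj : ∀ n ∈ N, ∀ u ∈ P, n * u * n⁻¹ ∈ P := fun n hn u hu =>
    (Subgroup.mem_normalizer_iff.1 hn.2 u).1 hu
  have hNR : ∀ n : N, ∀ x, (n : Perm α) x ∈ R ↔ x ∈ R := by
    intro n x
    constructor
    · intro h
      refine hmoved x fun u hu => (n : Perm α).injective ?_
      have := hPR _ (hconj n n.2 u hu) _ h
      simpa [Perm.mul_apply] using this
    · intro h
      refine hmoved _ fun u hu => ?_
      have := hPR _ (hconj ((n⁻¹ : N) : Perm α) (n⁻¹).2 u hu) x h
      simp only [InvMemClass.coe_inv, inv_inv, Perm.mul_apply, Perm.inv_eq_iff_eq] at this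
      exact this
  let Φ : N →* Perm {x // x ∈ R} :=
    { toFun := fun n => (n : Perm α).subtypePerm (hNR n)
      map_one' := Perm.ext fun x => Subtype.ext rfl
      map_mul' := fun a b => Perm.ext fun x => Subtype.ext rfl }
  have hΦ : Function.Surjective Φ := by
    intro σ
    obtain ⟨g, hg, hgσ⟩ := CfsgLib.Perm.exists_map_of_transitive hjn hG R (by omega)
      (Perm.ofSubtype σ) (Equiv.injective _).injOn
    have hmem : ∀ x ∈ R, g x ∈ R := fun x hx => by
      rw [hgσ x hx, Perm.ofSubtype_apply_of_mem σ hx]; exact (σ ⟨x, hx⟩).2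
    have himg : R.image g = R := Finset.eq_of_subset_of_card_le
      (Finset.image_subset_iff.2 hmem) (by rw [Finset.card_image_of_injective _ g.injective])
    have hgP : P.map (MulAut.conj g).toMonoidHom ≤ GR := by
      rintro _ ⟨u, hu, rfl⟩
      refine (hGR _).2 ⟨G.mul_mem (G.mul_mem hg ((hGR u).1 (hPle hu)).1) (G.inv_mem hg), fun x hx => ?_⟩
      rw [← himg, Finset.mem_image] at hx
      obtain ⟨y, hy, rfl⟩ := hx
      show (g * u * g⁻¹) (g y) = g y
      rw [Perm.mul_apply, Perm.mul_apply, Perm.inv_def, symm_apply_apply, hPR u hu y hy]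
    have hQp : IsPGroup p ((P.map (MulAut.conj g).toMonoidHom).subgroupOf GR) :=
      (hPp.map _).comap_of_injective GR.subtype GR.subtype_injective
    obtain ⟨Q, hQ⟩ := hQp.exists_le_sylow
    obtain ⟨h, hh⟩ := MulAction.exists_smul_eq GR Q P₀
    refine ⟨⟨(h : Perm α) * g, G.mul_mem ((hGR h).1 h.2).1 hg, ?_⟩, ?_⟩
    · have hsub : P.map (MulAut.conj ((h : Perm α) * g)).toMonoidHom ≤ P := by
        rintro _ ⟨u, hu, rfl⟩
        have h1 : (⟨g * u * g⁻¹, hgP ⟨u, hu, rfl⟩⟩ : GR) ∈ Q := hQ ⟨u, hu, rfl⟩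
        have h2 : h * ⟨g * u * g⁻¹, hgP ⟨u, hu, rfl⟩⟩ * h⁻¹ ∈ (P₀ : Subgroup GR) := by
          rw [← hh]
          exact ⟨_, h1, rfl⟩
        refine ⟨_, h2, ?_⟩
        show (h : Perm α) * (g * u * g⁻¹) * (h : Perm α)⁻¹ = (h : Perm α) * g * u * ((h : Perm α) * g)⁻¹
        rw [mul_inv_rev]; simp only [mul_assoc]
      show (h : Perm α) * g ∈ Subgroup.normalizer (P : Set (Perm α))
      rw [Subgroup.mem_normalizer_iff_map_conj_eq]
      exact Subgroup.eq_of_le_of_card_ge hsub
        (le_of_eq (Subgroup.card_map_of_injective (MulEquiv.injective _)).symm)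
    · refine Perm.ext fun x => Subtype.ext ?_
      show (h : Perm α) (g x) = _
      rw [((hGR h).1 h.2).2 _ (hmem x x.2), hgσ x x.2, Perm.ofSubtype_apply_of_mem σ x.2]
  have hcardR : Fintype.card {x // x ∈ R} = r := by rw [Fintype.card_coe, hR]
  -- `K₀` fixes every orbit
  let K₀ : Subgroup N :=
    { carrier := {n | ∀ a, (n : Perm α) a ∈ orbit P a ∨ a ∈ R}
      one_mem' := fun a => Or.inl (mem_orbit_self a)
      mul_mem' := fun {m n} hm hn a => by
        by_cases ha : a ∈ R
        · exact Or.inr ha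
        · refine Or.inl ?_
          have h1 := (hn a).resolve_right ha
          have h2 := (hm ((n : Perm α) a)).resolve_right (fun h => ha ((hNR n a).1 h))
          rwa [orbit_eq_iff.2 h1] at h2
      inv_mem' := fun {m} hm a => by
        by_cases ha : a ∈ R
        · exact Or.inr ha
        · refine Or.inl ?_
          have h1 := (hm (((m⁻¹ : N) : Perm α) a)).resolve_right fun h => ha ((hNR m⁻¹ a).1 h)
          rw [show (m : Perm α) ((((m⁻¹ : N) : Perm α)) a) = a from
            (m : Perm α).apply_symm_apply a] at h1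
          exact mem_orbit_symm.1 h1 }
  have horbconj : ∀ (n : N) a b, b ∈ orbit P a → (n : Perm α) b ∈ orbit P ((n : Perm α) a) := by
    rintro n a _ ⟨u, rfl⟩
    refine ⟨⟨_, hconj n n.2 u u.2⟩, ?_⟩
    show ((n : Perm α) * u * (n : Perm α)⁻¹) ((n : Perm α) a) = (n : Perm α) ((u : Perm α) a)
    simp [Perm.mul_apply]
  haveI hK₀n : K₀.Normal := ⟨fun m hm n a => by
    by_cases ha : a ∈ R
    · exact Or.inr ha
    · refine Or.inl ?_
      have h1 := (hm (((n⁻¹ : N) : Perm α) a)).resolve_right fun h => ha ((hNR n⁻¹ a).1 h)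
      have h2 := horbconj n _ _ h1
      rwa [show (n : Perm α) (((n⁻¹ : N) : Perm α) a) = a from (n : Perm α).apply_symm_apply a]
        at h2⟩
  let M : Subgroup N := K₀ ⊓ (Subgroup.centralizer (P : Set (Perm α))).comap N.subtype
  have hMmem : ∀ {m : N}, m ∈ M → ∀ u ∈ P, (m : Perm α) * u = u * (m : Perm α) := fun {m} hm u hu =>
    (Subgroup.mem_centralizer_iff.1 hm.2 u hu).symm
  have hMtrans : ∀ {m : N}, m ∈ M → ∀ a, a ∉ R → ∃ u ∈ P, (m : Perm α) a = u a := fun {m} hm a ha => by
    obtain ⟨u, hu⟩ := (hm.1 a).resolve_right ha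
    exact ⟨u, u.2, hu.symm⟩
  have hMp : ∀ {m : N}, m ∈ M → ∀ a, a ∉ R → ((m : Perm α) ^ p) a = a := fun {m} hm a ha => by
    obtain ⟨u, hu, hma⟩ := hMtrans hm a ha
    rw [pow_apply_congr (hMmem hm u hu) hma p, hexpP u hu, Perm.one_apply]
  have hMc : ∀ {m m' : N}, m ∈ M → m' ∈ M → ∀ a, a ∉ R →
      (m : Perm α) ((m' : Perm α) a) = (m' : Perm α) ((m : Perm α) a) := by
    intro m m' hm hm' a ha
    obtain ⟨u, hu, hma⟩ := hMtrans hm a ha
    obtain ⟨v, hv, hma'⟩ := hMtrans hm' a ha
    have e1 : (m : Perm α) (v a) = v ((m : Perm α) a) :=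
      congrArg (fun f : Perm α => f a) (hMmem hm v hv)
    have e2 : (m' : Perm α) (u a) = u ((m' : Perm α) a) :=
      congrArg (fun f : Perm α => f a) (hMmem hm' u hu)
    rw [hma', e1, hma, e2, hma']
    exact hcommP a v hv u hu
  have hout : ∀ {c : Perm α}, c ∈ G → (∀ a, a ∉ R → c a = a) → c = 1 := fun {c} hc hfix => by
    by_contra hc1
    refine hle (le_of_small_support (j := r + 1) (by omega) hjn hG hc hc1 ?_)
    have : c.support ⊆ R := fun x hx => by
      by_contra h; exact Perm.mem_support.1 hx (hfix x h)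
    have := Finset.card_le_card this
    omega
  have hMexp : ∀ a ∈ M.map Φ, a ^ p = 1 := by
    rintro _ ⟨m, hm, rfl⟩
    have h1 : (m : Perm α) ^ p = 1 := hout (G.pow_mem m.2.1 p) (hMp hm)
    rw [← map_pow, show m ^ p = 1 from Subtype.ext (by simpa using h1), map_one]
  have hMab : ∀ a ∈ M.map Φ, ∀ b ∈ M.map Φ, a * b = b * a := by
    rintro _ ⟨m, hm, rfl⟩ _ ⟨m', hm', rfl⟩
    have h1 : ((m * m') * (m' * m)⁻¹ : N) = 1 := by
      refine Subtype.ext (hout ((m * m') * (m' * m)⁻¹ : N).2.1 fun a ha => ?_)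
      set b := (((m' * m)⁻¹ : N) : Perm α) a
      have hb : b ∉ R := fun h => ha ((hNR _ a).1 h)
      show (m : Perm α) ((m' : Perm α) b) = a
      rw [hMc hm hm' b hb]
      exact ((m' * m : N) : Perm α).apply_symm_apply a
    rw [← map_mul, ← map_mul, mul_inv_eq_one.1 h1]
  haveI hMn : (M.map Φ).Normal := by
    refine Subgroup.Normal.map ?_ Φ hΦ
    refine ⟨fun m hm n => ⟨hK₀n.conj_mem m hm.1 n, ?_⟩⟩
    refine Subgroup.mem_centralizer_iff.2 fun u hu => ?_
    show u * ((n : Perm α) * m * (n : Perm α)⁻¹) = (n : Perm α) * m * (n : Perm α)⁻¹ * u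
    have h := hMmem hm ((n : Perm α)⁻¹ * u * (n : Perm α)) (by
      simpa using hconj ((n⁻¹ : N) : Perm α) (n⁻¹).2 u hu)
    have h2 := congrArg (fun z => (n : Perm α) * z * (n : Perm α)⁻¹) h
    simp only [mul_assoc, mul_inv_cancel, mul_inv_cancel_left, mul_one] at h2
    simpa [mul_assoc] using h2.symm
  have h33 : ¬ (p = 3 ∧ Fintype.card {x // x ∈ R} = 3) := by
    rintro ⟨rfl, h⟩
    rw [hcardR] at h
    subst h
    obtain rfl : k = 2 := by omega
    exact hle (le_of_nine hn (by simpa using hG))
  have hMbot : M.map Φ = ⊥ := eq_bot_of_normal_exponent (by omega) hp hp3 _ hMab hMexp h33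
  have hΦM : ∀ {m : N}, m ∈ M → Φ m = 1 := fun {m} hm =>
    Subgroup.mem_bot.1 (hMbot ▸ Subgroup.mem_map_of_mem Φ hm)
  -- how `K₀` acts on a restriction of `P`
  have hlam : ∀ (g : N), g ∈ K₀ → ∀ a, a ∉ R → ∃ l : ℕ, ∀ u ∈ P, ∀ b ∈ orbit P a,
      ((g : Perm α) * u * (g : Perm α)⁻¹) b = (u ^ l) b := by
    intro g hg a ha
    obtain ⟨w, hw, hwa, hpows⟩ := hgen a ha
    obtain ⟨l, hl⟩ := hpows (((g : Perm α) * w * (g : Perm α)⁻¹) a)
      ⟨⟨_, hconj g g.2 w hw⟩, rfl⟩
    refine ⟨l, fun u hu b hb => ?_⟩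
    obtain ⟨j, hj⟩ := hpows (u a) ⟨⟨u, hu⟩, rfl⟩
    -- two elements of `P` agreeing at `a` agree on the orbit
    have hagree : ∀ {s t : Perm α}, s ∈ P → t ∈ P → s a = t a → ∀ c ∈ orbit P a, s c = t c := by
      rintro s t hs ht hst _ ⟨z, rfl⟩
      show s ((z : Perm α) a) = t ((z : Perm α) a)
      rw [hcommP a s hs z z.2, hst, hcommP a t ht z z.2]
    have h1 : ∀ c ∈ orbit P a, ((g : Perm α) * u * (g : Perm α)⁻¹) c =
        (((g : Perm α) * w * (g : Perm α)⁻¹) ^ j) c := by
      intro c hc
      rw [conj_pow]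
      simp only [Perm.mul_apply]
      congr 1
      refine (hagree (P.pow_mem hw j) hu hj _ ?_).symm
      have h := horbconj g⁻¹ a c hc
      have ha' := (K₀.inv_mem hg a).resolve_right ha
      rw [orbit_eq_iff.2 ha'] at h
      exact h
    have hgw : ∀ c ∈ orbit P a, ((g : Perm α) * w * (g : Perm α)⁻¹) c = (w ^ l) c :=
      hagree (hconj g g.2 w hw) (P.pow_mem hw l) hl.symm
    have h2 : ∀ (i : ℕ), ∀ c ∈ orbit P a,
        (((g : Perm α) * w * (g : Perm α)⁻¹) ^ i) c = (w ^ (l * i)) c := by
      intro i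
      induction i with
      | zero => intro c _; simp
      | succ i ih =>
        intro c hc
        rw [pow_succ', Perm.mul_apply, ih c hc]
        have : (w ^ (l * i)) c ∈ orbit P a := by
          obtain ⟨z, rfl⟩ := hc
          exact ⟨⟨w ^ (l * i), P.pow_mem hw _⟩ * z, rfl⟩
        rw [hgw _ this, ← Perm.mul_apply, ← pow_add]
        ring_nf
    show _ = (u ^ l) b
    rw [h1 b hb, h2 j b hb]
    have hu' : ∀ i : ℕ, ∀ c ∈ orbit P a, (u ^ i) c = (w ^ (j * i)) c := fun i c hc => by
      refine hagree (P.pow_mem hu i) (P.pow_mem hw _) ?_ c hc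
      rw [pow_mul]
      exact pow_apply_congr (g := u) (u := w ^ j) (Perm.ext fun c => by
        by_cases hc : c ∈ orbit P a
        · exact hcommP c u hu _ (P.pow_mem hw j)
        · exact hcommP c u hu _ (P.pow_mem hw j)) hj.symm i
    rw [hu' l b hb, mul_comm]
  let T : Finset (Set α) := Rᶜ.image fun a => orbit P a
  have hTcard : T.card = k := by
    have h := Finset.card_eq_sum_card_image (fun a => orbit P a) (Rᶜ : Finset α)
    have hfib : ∀ o ∈ T, ((Rᶜ : Finset α).filter fun a => orbit P a = o).card = p := by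
      intro o ho
      obtain ⟨a, ha, rfl⟩ := Finset.mem_image.1 ho
      rw [← horb a (Finset.mem_compl.1 ha), Nat.card_coe_set_eq, ← Set.ncard_coe_finset]
      congr 1
      ext b
      simp only [Finset.coe_filter, Set.mem_ofPred_eq, Finset.mem_compl]
      refine ⟨fun h => orbit_eq_iff.1 h.2, fun h => ⟨fun hb => ?_, orbit_eq_iff.2 h⟩⟩
      obtain ⟨u, rfl⟩ := h
      have h' := hPR u u.2 _ hb
      exact Finset.mem_compl.1 ha ((u : Perm α).injective h' ▸ hb)
    rw [Finset.sum_congr rfl hfib, Finset.sum_const, smul_eq_mul, hRc] at h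
    exact (Nat.eq_of_mul_eq_mul_right hp.pos h).symm
  -- `K₀` acts trivially on `R`
  have hK₀Φ : ∀ g ∈ K₀, Φ g = 1 := by
    rcases Nat.lt_or_ge r 5 with hr5 | hr5
    · intro g hg
      have hlam' : ∃ l : ℕ, ∀ u ∈ P, (g : Perm α) * u * (g : Perm α)⁻¹ = u ^ l := by
        have hl0 : ∀ x : T, ∃ l : ℕ, ∀ u ∈ P, ∀ b ∈ (x : Set α),
            ((g : Perm α) * u * (g : Perm α)⁻¹) b = (u ^ l) b := fun x => by
          obtain ⟨a, ha, hax⟩ := Finset.mem_image.1 x.2
          rw [← hax]
          exact hlam g hg a (Finset.mem_compl.1 ha)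
        choose L hL using hl0
        have hext : ∀ l : ℕ, (∀ x : T, L x % p = l % p) →
            ∀ u ∈ P, (g : Perm α) * u * (g : Perm α)⁻¹ = u ^ l := by
          intro l hl u hu
          refine Perm.ext fun b => ?_
          by_cases hb : b ∈ R
          · rw [hPR _ (hconj g g.2 u hu) b hb, hPR _ (P.pow_mem hu l) b hb]
          · set x : T := ⟨_, Finset.mem_image_of_mem _ (Finset.mem_compl.2 hb)⟩
            rw [hL x u hu b (mem_orbit_self b)]
            rw [pow_eq_pow_mod (L x) (hexpP u hu), hl x, ← pow_eq_pow_mod l (hexpP u hu)]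
        by_contra hno
        push Not at hno
        -- some class of orbits is a single orbit
        obtain ⟨x₀, hx₀⟩ : ∃ x₀ : T, ∀ y : T, L y % p = L x₀ % p → y = x₀ := by
          by_contra hall
          push Not at hall
          have hne : T.Nonempty := Finset.card_pos.1 (by omega)
          obtain ⟨o, ho⟩ := hne
          obtain ⟨u, hu, hbad⟩ := hno (L ⟨o, ho⟩)
          obtain ⟨z, hz⟩ : ∃ z : T, L z % p ≠ L ⟨o, ho⟩ % p := by
            by_contra hc
            push Not at hc
            exact hbad (hext _ hc u hu)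
          obtain ⟨y1, hy1, hy1'⟩ := hall ⟨o, ho⟩
          obtain ⟨y2, hy2, hy2'⟩ := hall z
          have h4 : ({⟨o, ho⟩, y1, z, y2} : Finset T).card = 4 := by
            rw [Finset.card_insert_of_notMem, Finset.card_insert_of_notMem, Finset.card_pair]
            · exact fun e => hy2' e.symm
            · simp only [Finset.mem_insert, Finset.mem_singleton, not_or]
              exact ⟨fun e => hz (e ▸ hy1), fun e => hz ((e ▸ hy2).symm.trans hy1)⟩
            · simp only [Finset.mem_insert, Finset.mem_singleton, not_or]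
              exact ⟨fun e => hy1' e.symm, fun e => hz (congrArg (fun t => L t % p) e).symm,
                fun e => hz (((congrArg (fun t => L t % p) e).trans hy2).symm)⟩
          have := Finset.card_le_univ ({⟨o, ho⟩, y1, z, y2} : Finset T)
          rw [Fintype.card_coe, h4, hTcard] at this
          omega
        -- isolate that orbit
        obtain ⟨a, ha, hax⟩ := Finset.mem_image.1 x₀.2
        obtain ⟨w, hw, hwa, -⟩ := hgen a (Finset.mem_compl.1 ha)
        have key : ∀ S : Finset T, x₀ ∉ S → ∃ u ∈ P, u a ≠ a ∧ ∀ x ∈ S, ∀ b ∈ (x : Set α), u b = b := by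
          intro S
          induction S using Finset.induction with
          | empty => exact fun _ => ⟨w, hw, hwa, by simp⟩
          | insert y S hyS ih =>
            intro hx
            simp only [Finset.mem_insert, not_or] at hx
            obtain ⟨u, hu, hua, hfix⟩ := ih hx.2
            refine ⟨(g : Perm α) * u * (g : Perm α)⁻¹ * (u ^ (L y))⁻¹,
              P.mul_mem (hconj g g.2 u hu) (P.inv_mem (P.pow_mem hu _)), ?_, ?_⟩
            · intro e
              rw [Perm.mul_apply] at e
              have hmem : ((u ^ L y)⁻¹) a ∈ (x₀ : Set α) := by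
                rw [← hax]; exact ⟨⟨_, P.inv_mem (P.pow_mem hu _)⟩, rfl⟩
              rw [hL x₀ u hu _ hmem, ← Perm.mul_apply] at e
              have hne : ¬ L y % p = L x₀ % p := fun h => hx.1 (hx₀ y h).symm
              -- `u` moves `a` and has order `p`
              have h1 : ((u : Perm α) ^ (((L x₀ : ℤ) - L y))) a = a := by
                rw [zpow_sub, zpow_natCast, zpow_natCast]; exact e
              have hord : ((L x₀ : ℤ) - L y) % (p : ℤ) ≠ 0 := fun h => hne (by
                have := Int.emod_eq_emod_iff_emod_sub_eq_zero.2 h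
                exact_mod_cast this.symm)
              obtain ⟨s, t, hst⟩ : ∃ s t : ℤ, s * ((L x₀ : ℤ) - L y) + t * p = 1 := by
                refine Int.isCoprime_iff_nat_coprime.2 ?_
                rw [Int.natAbs_natCast, Nat.coprime_comm, hp.coprime_iff_not_dvd]
                intro hd
                exact hord (Int.emod_eq_zero_of_dvd (Int.natCast_dvd.2 hd))
              apply hua
              conv_lhs => rw [← zpow_one u, ← hst]
              rw [zpow_add, mul_comm t, zpow_mul _ (p : ℤ) t, zpow_natCast, hexpP u hu, one_zpow,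
                mul_one, mul_comm, zpow_mul]
              exact Perm.zpow_apply_eq_self_of_apply_eq_self h1 s
            · intro x hxS b hb
              rw [Perm.mul_apply]
              rcases Finset.mem_insert.1 hxS with rfl | hxS
              · have hmem : ((u ^ L x)⁻¹) b ∈ (x : Set α) := by
                  obtain ⟨c, -, hc⟩ := Finset.mem_image.1 x.2
                  rw [← hc] at hb ⊢
                  obtain ⟨z, rfl⟩ := hb
                  exact ⟨⟨_, P.inv_mem (P.pow_mem hu _)⟩ * z, rfl⟩
                rw [hL x u hu _ hmem, Perm.inv_def, apply_symm_apply]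
              · have hub : u b = b := hfix x hxS b hb
                rw [Perm.inv_eq_iff_eq.2 (Perm.pow_apply_eq_self_of_apply_eq_self hub _).symm,
                  hL x u hu b hb, Perm.pow_apply_eq_self_of_apply_eq_self hub]
        obtain ⟨u, hu, hua, hfix⟩ := key (Finset.univ.erase x₀) (Finset.notMem_erase _ _)
        have hs : u.support.card ≤ p := by
          rw [← horb a (Finset.mem_compl.1 ha), Nat.card_coe_set_eq, ← Set.ncard_coe_finset]
          refine Set.ncard_le_ncard fun b hb => ?_
          rw [Finset.mem_coe, Perm.mem_support] at hb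
          have hbR : b ∉ R := fun h => hb (hPR u hu b h)
          set x : T := ⟨_, Finset.mem_image_of_mem _ (Finset.mem_compl.2 hbR)⟩
          by_cases hx : x = x₀
          · rw [hax, ← hx]; exact mem_orbit_self b
          · exact absurd (hfix x (Finset.mem_erase.2 ⟨hx, Finset.mem_univ _⟩) b (mem_orbit_self b)) hb
        exact absurd hs (not_le.2 (hnocyc u hu (fun e => hua (by rw [e]; rfl))))
      obtain ⟨l, hl⟩ := hlam'
      refine eq_one_of_central (by omega) fun σ => ?_
      obtain ⟨n, rfl⟩ := hΦ σ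
      have hc : g⁻¹ * (n * g * n⁻¹) ∈ M := by
        refine ⟨K₀.mul_mem (K₀.inv_mem hg) (hK₀n.conj_mem g hg n), ?_⟩
        refine Subgroup.mem_centralizer_iff.2 fun u hu => ?_
        have hu0 : (n : Perm α)⁻¹ * u * (n : Perm α) ∈ P := by
          simpa using hconj ((n⁻¹ : N) : Perm α) (n⁻¹).2 u hu
        set A := (n : Perm α) * g * (n : Perm α)⁻¹ with hA
        have hu1 : (n : Perm α) * ((n : Perm α)⁻¹ * u * (n : Perm α)) * (n : Perm α)⁻¹ = u := by
          group
        have h1 : A * u * A⁻¹ = u ^ l := by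
          calc A * u * A⁻¹ = (n : Perm α) * ((g : Perm α) * ((n : Perm α)⁻¹ * u * (n : Perm α)) *
              (g : Perm α)⁻¹) * (n : Perm α)⁻¹ := by rw [hA]; group
            _ = (n : Perm α) * ((n : Perm α)⁻¹ * u * (n : Perm α)) ^ l * (n : Perm α)⁻¹ := by
              rw [hl _ hu0]
            _ = u ^ l := by rw [← conj_pow, hu1]
        rw [← hl u hu, mul_inv_eq_iff_eq_mul] at h1
        show u * ((g : Perm α)⁻¹ * A) = (g : Perm α)⁻¹ * A * u
        rw [mul_assoc _ A u, h1]
        group
      have := hΦM hc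
      rw [map_mul, map_mul, map_mul, map_inv, map_inv, inv_mul_eq_one, eq_mul_inv_iff_mul_eq] at this
      exact this.symm
    · have hcc : ∀ g ∈ K₀, ∀ h ∈ K₀, (h * g)⁻¹ * (g * h) ∈ M := by
        intro g hg h hh
        refine ⟨K₀.mul_mem (K₀.inv_mem (K₀.mul_mem hh hg)) (K₀.mul_mem hg hh), ?_⟩
        refine Subgroup.mem_centralizer_iff.2 fun u hu => ?_
        have key : ∀ {g h : N}, g ∈ K₀ → h ∈ K₀ → ∀ b, b ∉ R → ∀ lg lh : ℕ,
            (∀ v ∈ P, ((g : Perm α) * v * (g : Perm α)⁻¹) b = (v ^ lg) b) →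
            (∀ v ∈ P, ((h : Perm α) * v * (h : Perm α)⁻¹) b = (v ^ lh) b) →
            ((g : Perm α) * h * u * ((g : Perm α) * h)⁻¹) b = (u ^ (lg * lh)) b := by
          intro g h _ _ b _ lg lh hlg hlh
          have e : (g : Perm α) * h * u * ((g : Perm α) * h)⁻¹ =
              (g : Perm α) * ((h : Perm α) * u * (h : Perm α)⁻¹) * (g : Perm α)⁻¹ := by group
          rw [e, hlg _ (hconj h h.2 u hu), conj_pow, hlh _ (P.pow_mem hu lg), ← pow_mul]
        have heq : (g : Perm α) * h * u * ((g : Perm α) * h)⁻¹ =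
            (h : Perm α) * g * u * ((h : Perm α) * g)⁻¹ := by
          refine Perm.ext fun b => ?_
          by_cases hb : b ∈ R
          · have e1 := hPR _ (hconj (g * h : N) (g * h).2 u hu) b hb
            have e2 := hPR _ (hconj (h * g : N) (h * g).2 u hu) b hb
            simp only [Subgroup.coe_mul] at e1 e2
            exact e1.trans e2.symm
          · obtain ⟨lg, hlg⟩ := hlam g hg b hb
            obtain ⟨lh, hlh⟩ := hlam h hh b hb
            rw [key hg hh b hb lg lh (fun v hv => hlg v hv b (mem_orbit_self b))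
                (fun v hv => hlh v hv b (mem_orbit_self b)),
              key hh hg b hb lh lg (fun v hv => hlh v hv b (mem_orbit_self b))
                (fun v hv => hlg v hv b (mem_orbit_self b)), mul_comm lg lh]
        rw [mul_inv_eq_iff_eq_mul] at heq
        show u * (((h : Perm α) * g)⁻¹ * ((g : Perm α) * h)) =
          ((h : Perm α) * g)⁻¹ * ((g : Perm α) * h) * u
        rw [mul_assoc _ _ u, heq]
        group
      intro g hg
      have hbot : K₀.map Φ = ⊥ := by
        haveI := hK₀n.map Φ hΦ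
        refine eq_bot_of_normal_comm (by omega) _ ?_
        rintro _ ⟨a, ha, rfl⟩ _ ⟨b, hb, rfl⟩
        have := hΦM (hcc a ha b hb)
        rw [map_mul, map_inv, inv_mul_eq_one, map_mul, map_mul] at this
        exact this.symm
      exact Subgroup.mem_bot.1 (hbot ▸ Subgroup.mem_map_of_mem Φ hg)
  -- the orbit permutations are too few
  have himg : ∀ (n : N) (x : T), (n : Perm α) '' (x : Set α) ∈ T := by
    intro n x
    obtain ⟨a, ha, hax⟩ := Finset.mem_image.1 x.2
    refine Finset.mem_image.2 ⟨(n : Perm α) a,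
      Finset.mem_compl.2 (fun h => Finset.mem_compl.1 ha ((hNR n a).1 h)), ?_⟩
    rw [← hax]
    ext b
    constructor
    · intro hb
      refine ⟨(n : Perm α).symm b, ?_, (n : Perm α).apply_symm_apply b⟩
      have h := horbconj n⁻¹ _ b hb
      rw [show ((n⁻¹ : N) : Perm α) ((n : Perm α) a) = a from (n : Perm α).symm_apply_apply a] at h
      exact h
    · rintro ⟨c, hc, rfl⟩
      exact horbconj n a c hc
  let act : N → T → T := fun n x => ⟨_, himg n x⟩
  have hone : ∀ x, act 1 x = x := fun x => Subtype.ext (Set.image_id _)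
  have hmul : ∀ m n x, act (m * n) x = act m (act n x) := fun m n x =>
    Subtype.ext (Set.image_image (m : Perm α) (n : Perm α) (x : Set α)).symm
  letI : MulAction N T := { smul := act, one_smul := hone, mul_smul := hmul }
  set Ψ := MulAction.toPermHom N T
  have hker : Ψ.ker ≤ Φ.ker := by
    intro n hn
    refine MonoidHom.mem_ker.2 (hK₀Φ n fun a => ?_)
    by_cases ha : a ∈ R
    · exact Or.inr ha
    · refine Or.inl ?_
      have h := congrArg (fun f : Perm T => f ⟨_, Finset.mem_image_of_mem _ (Finset.mem_compl.2 ha)⟩)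
        (MonoidHom.mem_ker.1 hn)
      have h' : (n : Perm α) '' orbit P a = orbit P a := congrArg Subtype.val h
      rw [← h']
      exact ⟨a, mem_orbit_self a, rfl⟩
  have h1 : Φ.ker.index = r ! := by
    rw [Subgroup.index_ker, MonoidHom.range_eq_top.2 hΦ, Subgroup.card_top, Nat.card_perm,
      Nat.card_eq_fintype_card, hcardR]
  have h2 : Ψ.ker.index ∣ k ! := by
    rw [Subgroup.index_ker, ← hTcard, ← Fintype.card_coe, ← Nat.card_eq_fintype_card, ← Nat.card_perm]
    exact Subgroup.card_subgroup_dvd_card _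
  have h3 := (Subgroup.index_dvd_of_le hker).trans h2
  rw [h1] at h3
  exact absurd (Nat.le_of_dvd k.factorial_pos h3) (not_le.2 ((Nat.factorial_lt (by omega)).2 hrk))

end CfsgLib.FgsC.KpR
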