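import Mathlib

/-!
Cancellation of finite groups in direct products (Lovász) and the Krull–Remak–Schmidt theorem.
-/

set_option autoImplicit false
set_option linter.style.haveILetI false

namespace CfsgLib.FgsC.KrullSchmidt

universe u v

/-- Homomorphisms are injective homomorphisms out of quotients. -/
noncomputable def homEquivSigma (X : Type u) [Group X] (A : Type v) [Group A] :
    (X →* A) ≃ Σ N : {N : Subgroup X // N.Normal},
      letI := N.2
      {f : (X ⧸ N.1) →* A // Function.Injective f} where
  toFun f := ⟨⟨f.ker, inferInstance⟩, ⟨QuotientGroup.kerLift f, QuotientGroup.kerLift_injective f⟩⟩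
  invFun s := letI := s.1.2; s.2.1.comp (QuotientGroup.mk' s.1.1)
  left_inv f := MonoidHom.ext fun x => rfl
  right_inv := by
    rintro ⟨⟨N, hN⟩, f, hf⟩
    have hk : (f.comp (QuotientGroup.mk' N)).ker = N := by
      rw [← MonoidHom.comap_ker, (MonoidHom.ker_eq_bot_iff f).2 hf, MonoidHom.comap_bot, QuotientGroup.ker_mk']
    refine Sigma.ext (Subtype.ext hk) ?_
    have key : ∀ (M : Subgroup X) (hM : M.Normal) (g : (X ⧸ M) →* A) (hg : Function.Injective g),
        M = N → (∀ x : X, g x = f x) →
        HEq (⟨g, hg⟩ : {f : (X ⧸ M) →* A // Function.Injective f})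
          (⟨f, hf⟩ : {f : (X ⧸ N) →* A // Function.Injective f}) := by
      intro M hM g hg e hgf
      subst e
      refine heq_of_eq (Subtype.ext (MonoidHom.ext fun q => ?_))
      induction q using QuotientGroup.induction_on with
      | _ x => exact hgf x
    exact key _ _ _ _ hk fun x => rfl

theorem card_inj_eq {A : Type u} {B : Type v} [Group A] [Group B] [Finite A] [Finite B]
    (h : ∀ (X : Type u) [Group X] [Finite X], Nat.card (X →* A) = Nat.card (X →* B)) (n : ℕ) :
    ∀ (X : Type u) [Group X] [Finite X], Nat.card X = n →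
      Nat.card {f : X →* A // Function.Injective f} =
        Nat.card {f : X →* B // Function.Injective f} := by
  classical
  induction n using Nat.strong_induction_on with
  | _ n ih =>
  intro X _ _ hn
  have hh := h X
  haveI : Fintype {N : Subgroup X // N.Normal} := Fintype.ofFinite _
  haveI : ∀ N : {N : Subgroup X // N.Normal}, letI := N.2
      Finite ((X ⧸ N.1) →* A) := fun N => letI := N.2; Finite.of_injective _ DFunLike.coe_injective
  haveI : ∀ N : {N : Subgroup X // N.Normal}, letI := N.2
      Finite ((X ⧸ N.1) →* B) := fun N => letI := N.2; Finite.of_injective _ DFunLike.coe_injective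
  rw [Nat.card_congr (homEquivSigma X A), Nat.card_congr (homEquivSigma X B), Nat.card_sigma,
    Nat.card_sigma] at hh
  set b : {N : Subgroup X // N.Normal} := ⟨⊥, inferInstance⟩
  rw [← Finset.add_sum_erase _ _ (Finset.mem_univ b),
    ← Finset.add_sum_erase _ _ (Finset.mem_univ b)] at hh
  have hrest : ∀ N ∈ Finset.univ.erase b,
      letI := N.2
      Nat.card {f : (X ⧸ N.1) →* A // Function.Injective f} =
        Nat.card {f : (X ⧸ N.1) →* B // Function.Injective f} := by
    intro N hN
    haveI := N.2
    refine ih _ ?_ _ rfl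
    have hne : N.1 ≠ ⊥ := fun e => (Finset.mem_erase.1 hN).1 (Subtype.ext e)
    haveI := (Subgroup.nontrivial_iff_ne_bot N.1).2 hne
    rw [← hn, Subgroup.card_eq_card_quotient_mul_card_subgroup N.1]
    exact lt_mul_of_one_lt_right Nat.card_pos Finite.one_lt_card
  rw [Finset.sum_congr rfl hrest] at hh
  have hb := Nat.add_right_cancel hh
  let e : (X ⧸ (⊥ : Subgroup X)) ≃* X := QuotientGroup.quotientBot
  have eA : {f : X →* A // Function.Injective f} ≃
      {f : (X ⧸ (⊥ : Subgroup X)) →* A // Function.Injective f} :=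
    (MulEquiv.monoidHomCongrLeftEquiv e.symm).subtypeEquiv fun f =>
      ⟨fun hf => hf.comp e.injective, fun hf a b hab => by
        have h2 := @hf (e.symm a) (e.symm b) (by simpa [MulEquiv.monoidHomCongrLeftEquiv] using hab)
        exact e.symm.injective h2⟩
  have eB : {f : X →* B // Function.Injective f} ≃
      {f : (X ⧸ (⊥ : Subgroup X)) →* B // Function.Injective f} :=
    (MulEquiv.monoidHomCongrLeftEquiv e.symm).subtypeEquiv fun f =>
      ⟨fun hf => hf.comp e.injective, fun hf a b hab => by
        have h2 := @hf (e.symm a) (e.symm b) (by simpa [MulEquiv.monoidHomCongrLeftEquiv] using hab)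
        exact e.symm.injective h2⟩
  rw [Nat.card_congr eA, Nat.card_congr eB]
  exact hb

/-- Cancellation of a common factor. -/
theorem nonempty_mulEquiv_of_prod {A : Type u} {B : Type v} {C : Type*} {D : Type*} [Group A]
    [Group B] [Group C] [Group D] [Finite A] [Finite B] [Finite C] [Finite D]
    (e : A × C ≃* B × D) (f : C ≃* D) : Nonempty (A ≃* B) := by
  have h : ∀ (X : Type u) [Group X] [Finite X], Nat.card (X →* A) = Nat.card (X →* B) := by
    intro X _ _
    have e1 : Nat.card (X →* A × C) = Nat.card (X →* A) * Nat.card (X →* C) := by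
      rw [← Nat.card_prod]
      exact Nat.card_congr
        { toFun := fun g => ((MonoidHom.fst A C).comp g, (MonoidHom.snd A C).comp g)
          invFun := fun g => g.1.prod g.2
          left_inv := fun g => rfl
          right_inv := fun g => rfl }
    have e1' : Nat.card (X →* B × D) = Nat.card (X →* B) * Nat.card (X →* D) := by
      rw [← Nat.card_prod]
      exact Nat.card_congr
        { toFun := fun g => ((MonoidHom.fst B D).comp g, (MonoidHom.snd B D).comp g)
          invFun := fun g => g.1.prod g.2
          left_inv := fun g => rfl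
          right_inv := fun g => rfl }
    have e2 : Nat.card (X →* A × C) = Nat.card (X →* B × D) :=
      Nat.card_congr (MulEquiv.monoidHomCongrRightEquiv (M := X) e)
    rw [e1, e1', Nat.card_congr (MulEquiv.monoidHomCongrRightEquiv (M := X) f)] at e2
    haveI : Nonempty (X →* D) := ⟨1⟩
    haveI : Finite (X →* D) := Finite.of_injective _ DFunLike.coe_injective
    exact Nat.eq_of_mul_eq_mul_right Nat.card_pos e2
  have hc : Nat.card A = Nat.card B := by
    have := Nat.card_congr e.toEquiv
    rw [Nat.card_prod, Nat.card_prod, Nat.card_congr f.toEquiv] at this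
    exact Nat.eq_of_mul_eq_mul_right Nat.card_pos this
  have hinj := card_inj_eq h _ A rfl
  haveI : Finite (A →* A) := Finite.of_injective _ DFunLike.coe_injective
  haveI : Finite (A →* B) := Finite.of_injective _ DFunLike.coe_injective
  haveI : Nonempty {f : A →* A // Function.Injective f} :=
    ⟨⟨MonoidHom.id A, Function.injective_id⟩⟩
  obtain ⟨⟨g, hg⟩⟩ : Nonempty {f : A →* B // Function.Injective f} :=
    (Nat.card_pos_iff.1 (hinj ▸ Nat.card_pos)).1
  exact ⟨MulEquiv.ofBijective g ((Nat.bijective_iff_injective_and_card g).2 ⟨hg, hc⟩)⟩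

/-- Directly indecomposable groups. -/
def Indec (A : Type u) [Group A] : Prop :=
  Nontrivial A ∧ ∀ H K : Subgroup A, H.Normal → K.Normal → H ⊓ K = ⊥ → H ⊔ K = ⊤ → H = ⊥ ∨ K = ⊥

/-- An endomorphism commuting with inner automorphisms. -/
def IsNormalEnd {A : Type u} [Group A] (f : Monoid.End A) : Prop :=
  ∀ a x : A, f (a * x * a⁻¹) = a * f x * a⁻¹

theorem IsNormalEnd.pow {A : Type u} [Group A] {f : Monoid.End A} (h : IsNormalEnd f) (k : ℕ) :
    IsNormalEnd (f ^ k) := by
  induction k with
  | zero => intro a x; rfl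
  | succ k ih =>
    intro a x
    rw [pow_succ']
    show f ((f ^ k) (a * x * a⁻¹)) = a * f ((f ^ k) x) * a⁻¹
    rw [ih a x, h a]

/-- A normal endomorphism of an indecomposable finite group is bijective or nilpotent. -/
theorem bijective_or_nilpotent {A : Type u} [Group A] [Finite A] (hA : Indec A)
    {f : Monoid.End A} (hf : IsNormalEnd f) :
    Function.Bijective f ∨ ∃ k : ℕ, ∀ x, (f ^ k) x = 1 := by
  haveI : Finite (Monoid.End A) := Finite.of_injective _ DFunLike.coe_injective
  obtain ⟨a, b, hab, hf'⟩ : ∃ a b : ℕ, a < b ∧ f ^ a = f ^ b := by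
    obtain ⟨a, b, hne, he⟩ := Finite.exists_ne_map_eq_of_infinite fun i : ℕ => f ^ i
    rcases Nat.lt_or_gt_of_ne hne with h | h
    exacts [⟨a, b, h, he⟩, ⟨b, a, h, he.symm⟩]
  set d := b - a
  have hper : ∀ i, f ^ (a + i) = f ^ (a + i + d) := fun i => by
    rw [pow_add, hf', ← pow_add]; congr 1; omega
  set k := d * (a + 1)
  have hk0 : 0 < k := Nat.mul_pos (by omega) (by omega)
  have hak : a ≤ k := le_trans (by omega) (Nat.le_mul_of_pos_left (a + 1) (by omega))
  have hidem : f ^ k * f ^ k = f ^ k := by
    rw [← pow_add]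
    have : ∀ j, f ^ (k + d * j) = f ^ k := fun j => by
      induction j with
      | zero => rfl
      | succ j ih =>
        rw [← ih, show k + d * j = a + (k - a + d * j) by omega, hper]
        congr 1; rw [Nat.mul_succ]; omega
    exact this (a + 1)
  set e := f ^ k with he
  have hee : ∀ x, e (e x) = e x := fun x => DFunLike.congr_fun hidem x
  have hn := hf.pow k
  set H : Subgroup A := (e : A →* A).ker
  set K : Subgroup A := (e : A →* A).range
  have hK : K.Normal := ⟨fun x hx g => by
    obtain ⟨y, rfl⟩ := hx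
    exact ⟨g * y * g⁻¹, hn g y⟩⟩
  have hinf : H ⊓ K = ⊥ := by
    refine (Subgroup.eq_bot_iff_forall _).2 ?_
    rintro _ ⟨hx, y, rfl⟩
    exact (hee y).symm.trans (MonoidHom.mem_ker.1 hx)
  have hsup : H ⊔ K = ⊤ := eq_top_iff.2 fun x _ => by
    have h1 : x * (e x)⁻¹ ∈ H := by
      show e (x * (e x)⁻¹) = 1
      rw [map_mul, map_inv, hee, mul_inv_cancel]
    simpa using Subgroup.mul_mem_sup h1 (show e x ∈ K from ⟨x, rfl⟩)
  rcases hA.2 H K inferInstance hK hinf hsup with h | h
  · left
    have hinj : Function.Injective e := (MonoidHom.ker_eq_bot_iff _).1 h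
    have : Function.Injective f := by
      intro x y hxy
      obtain ⟨j, hj⟩ := Nat.exists_eq_succ_of_ne_zero hk0.ne'
      apply hinj
      rw [he, hj, pow_succ]
      show (f ^ j) (f x) = (f ^ j) (f y)
      rw [hxy]
    exact Finite.injective_iff_bijective.1 this
  · right
    exact ⟨k, fun x => by
      have : e x ∈ K := ⟨x, rfl⟩
      rwa [h, Subgroup.mem_bot] at this⟩

/-- If the product of two normal endomorphisms is bijective then one of them is. -/
theorem bijective_of_mul {A : Type u} [Group A] [Finite A] (hA : Indec A) {f g h : Monoid.End A}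
    (hf : IsNormalEnd f) (hh : IsNormalEnd h) (hb : Function.Bijective h)
    (hfg : ∀ x, h x = f x * g x) : Function.Bijective f ∨ Function.Bijective g := by
  let h' : A ≃* A := MulEquiv.ofBijective (h : A →* A) hb
  let f' : Monoid.End A := h'.symm.toMonoidHom.comp (f : A →* A)
  have hf' : IsNormalEnd f' := fun a x => by
    show h'.symm (f (a * x * a⁻¹)) = a * h'.symm (f x) * a⁻¹
    apply h'.injective
    rw [MulEquiv.apply_symm_apply, hf a x]
    show a * f x * a⁻¹ = h (a * h'.symm (f x) * a⁻¹)
    rw [hh a]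
    exact congrArg (fun z => a * z * a⁻¹) (h'.apply_symm_apply (f x)).symm
  rcases bijective_or_nilpotent hA hf' with hb' | ⟨k, hk⟩
  · exact Or.inl ((Function.Bijective.of_comp_iff' h'.symm.bijective _).1 hb')
  · refine Or.inr (Finite.injective_iff_bijective.1 fun x y hxy => ?_)
    have h1 : g (x * y⁻¹) = 1 := by rw [map_mul, map_inv, hxy, mul_inv_cancel]
    have h2 : f' (x * y⁻¹) = x * y⁻¹ := by
      apply h'.injective
      show h' (h'.symm (f (x * y⁻¹))) = h (x * y⁻¹)
      rw [MulEquiv.apply_symm_apply, hfg (x * y⁻¹), h1, mul_one]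
    have h3 : ∀ i, (f' ^ i) (x * y⁻¹) = x * y⁻¹ := fun i => by
      induction i with
      | zero => rfl
      | succ i ih =>
        rw [pow_succ']
        show f' ((f' ^ i) (x * y⁻¹)) = x * y⁻¹
        rw [ih, h2]
    exact mul_inv_eq_one.1 ((h3 k).symm.trans (hk _))

/-- An indecomposable direct factor is isomorphic to a factor of any decomposition. -/
theorem exists_factor {ι κ : Type*} [DecidableEq ι] [Fintype κ] [DecidableEq κ] {A : ι → Type u}
    {B : κ → Type v} [∀ i, Group (A i)] [∀ j, Group (B j)] (i : ι) [Finite (A i)]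
    [∀ j, Finite (B j)] (hA : Indec (A i)) (hB : ∀ j, Indec (B j))
    (e : ((i : ι) → A i) ≃* ((j : κ) → B j)) : ∃ j, Nonempty (A i ≃* B j) := by
  classical
  haveI := hA.1
  let inA : A i →* (∀ j, B j) := e.toMonoidHom.comp (MonoidHom.mulSingle A i)
  let pA : (∀ j, B j) →* A i := (Pi.evalMonoidHom A i).comp e.symm.toMonoidHom
  have hpi : ∀ a, pA (inA a) = a := fun a => by simp [pA, inA]
  let cut : Finset κ → ((∀ j, B j) →* (∀ j, B j)) := fun S =>
    { toFun := fun y j => if j ∈ S then y j else 1
      map_one' := funext fun j => by simp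
      map_mul' := fun y z => funext fun j => by by_cases hj : j ∈ S <;> simp [hj] }
  let F : Finset κ → Monoid.End (A i) := fun S => pA.comp ((cut S).comp inA)
  have hFn : ∀ S, IsNormalEnd (F S) := fun S a x => by
    show pA (cut S (inA (a * x * a⁻¹))) = a * pA (cut S (inA x)) * a⁻¹
    have hc : cut S (inA (a * x * a⁻¹)) = inA a * cut S (inA x) * (inA a)⁻¹ := by
      funext j
      rw [map_mul, map_mul, map_inv]
      by_cases hj : j ∈ S <;> simp [cut, hj]
    rw [hc, map_mul, map_mul, map_inv, hpi]
  have hone : ∀ j, Function.Bijective (F {j}) → Nonempty (A i ≃* B j) := by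
    intro j hj
    let β : A i →* B j := (Pi.evalMonoidHom B j).comp inA
    let α : B j →* A i := pA.comp (MonoidHom.mulSingle B j)
    have hab : ∀ a, α (β a) = F {j} a := fun a => by
      show pA (Pi.mulSingle j (inA a j)) = pA (cut {j} (inA a))
      congr 1
      funext k
      by_cases hk : k = j
      · subst hk; simp [cut]
      · simp [cut, hk]
    have hβinj : Function.Injective β := fun a b hh => hj.1 (by rw [← hab, ← hab, hh])
    have hrn : β.range.Normal := ⟨fun x hx g => by
      obtain ⟨a, rfl⟩ := hx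
      set y := e.symm (Pi.mulSingle j g) with hy
      refine ⟨y i * a * (y i)⁻¹, ?_⟩
      show e (Pi.mulSingle i (y i * a * (y i)⁻¹)) j = g * e (Pi.mulSingle i a) j * g⁻¹
      have h1 : Pi.mulSingle i (y i * a * (y i)⁻¹) = y * Pi.mulSingle i a * y⁻¹ := by
        funext k
        by_cases hk : k = i
        · subst hk; simp
        · simp [hk]
      rw [h1, map_mul, map_mul, map_inv, hy, MulEquiv.apply_symm_apply]
      simp⟩
    have hinf : β.range ⊓ α.ker = ⊥ := by
      refine (Subgroup.eq_bot_iff_forall _).2 ?_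
      rintro _ ⟨⟨a, rfl⟩, ha⟩
      have : F {j} a = F {j} 1 := by rw [← hab, map_one]; exact MonoidHom.mem_ker.1 ha
      rw [hj.1 this, map_one]
    have hsup : β.range ⊔ α.ker = ⊤ := eq_top_iff.2 fun x _ => by
      obtain ⟨a, ha⟩ := hj.2 (α x)
      have h1 : (β a)⁻¹ * x ∈ α.ker := by
        rw [MonoidHom.mem_ker, map_mul, map_inv, hab, ha, inv_mul_cancel]
      simpa using Subgroup.mul_mem_sup (show β a ∈ β.range from ⟨a, rfl⟩) h1
    rcases (hB j).2 _ _ hrn inferInstance hinf hsup with h | h
    · obtain ⟨a, ha⟩ := exists_ne (1 : A i)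
      refine absurd (hβinj ?_) ha
      have : β a ∈ β.range := ⟨a, rfl⟩
      rw [h, Subgroup.mem_bot] at this
      rw [this, map_one]
    · refine ⟨MulEquiv.ofBijective β ⟨hβinj, ?_⟩⟩
      rw [h, sup_bot_eq] at hsup
      exact MonoidHom.range_eq_top.1 hsup
  have main : ∀ S : Finset κ, Function.Bijective (F S) →
      ∃ j, Function.Bijective (F {j}) := by
    intro S
    induction S using Finset.induction with
    | empty =>
      intro hb
      obtain ⟨a, ha⟩ := exists_ne (1 : A i)
      have he : cut ∅ (inA a) = 1 := funext fun j => by simp [cut]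
      refine absurd (hb.1 (show pA (cut ∅ (inA a)) = F ∅ 1 from ?_)) ha
      rw [map_one, he, map_one]
    | insert j S hjS ih =>
      intro hb
      have hfg : ∀ x, F (insert j S) x = F {j} x * F S x := fun x => by
        show pA _ = pA _ * pA _
        rw [← map_mul]
        congr 1
        funext k
        by_cases hk : k = j
        · subst hk; simp [cut, hjS]
        · simp [cut, hk]
      rcases bijective_of_mul hA (hFn _) (hFn _) hb hfg with h | h
      exacts [⟨j, h⟩, ih h]
  obtain ⟨j, hj⟩ := main Finset.univ (by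
    have : ∀ a, F Finset.univ a = a := fun a => by
      show pA (cut Finset.univ (inA a)) = a
      rw [show cut Finset.univ (inA a) = inA a from funext fun j => by simp [cut], hpi]
    exact ⟨fun a b h => by rwa [this, this] at h, fun a => ⟨a, this a⟩⟩)
  exact ⟨j, hone j hj⟩

/-- Splitting off the `j`-th factor. -/
def splitAt {n : ℕ} {B : Fin (n + 1) → Type v} [∀ j, Group (B j)] (j : Fin (n + 1)) :
    ((k : Fin (n + 1)) → B k) ≃* B j × ((k : Fin n) → B (j.succAbove k)) where
  toFun f := (f j, fun k => f (j.succAbove k))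
  invFun f := Fin.insertNth j f.1 f.2
  left_inv f := by
    funext k
    rcases Fin.eq_self_or_eq_succAbove j k with rfl | ⟨k, rfl⟩ <;> simp
  right_inv f := by simp
  map_mul' f g := rfl

theorem krullSchmidt : ∀ {m n : ℕ} {A : Fin m → Type u} {B : Fin n → Type v}
    [∀ i, Group (A i)] [∀ j, Group (B j)] [∀ i, Finite (A i)] [∀ j, Finite (B j)],
    (∀ i, Indec (A i)) → (∀ j, Indec (B j)) → (((i : Fin m) → A i) ≃* ((j : Fin n) → B j)) →
    ∃ σ : Fin m ≃ Fin n, ∀ i, Nonempty (A i ≃* B (σ i)) := by
  intro m
  induction m with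
  | zero =>
    intro n A B _ _ _ _ _ hB e
    rcases n with _ | n
    · exact ⟨Equiv.refl _, fun i => i.elim0⟩
    · haveI := (hB 0).1
      obtain ⟨b, hb⟩ := exists_ne (1 : B 0)
      have h1 : e.symm (Pi.mulSingle 0 b) = e.symm 1 := Subsingleton.elim _ _
      exact absurd (by simpa using congrFun (e.symm.injective h1) 0) hb
  | succ m ih =>
    intro n A B _ _ _ _ hA hB e
    obtain ⟨j, ⟨f⟩⟩ := exists_factor 0 (hA 0) hB e
    obtain ⟨n, rfl⟩ : ∃ n', n = n' + 1 :=
      ⟨n - 1, by have := j.2; omega⟩
    obtain ⟨g⟩ := nonempty_mulEquiv_of_prod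
      ((MulEquiv.prodComm.trans ((splitAt (B := A) 0).symm.trans (e.trans (splitAt j)))).trans
        MulEquiv.prodComm) f
    obtain ⟨σ, hσ⟩ := ih (A := fun i : Fin m => A ((0 : Fin (m + 1)).succAbove i))
      (B := fun k : Fin n => B (j.succAbove k)) (fun i => hA _) (fun k => hB _) g
    refine ⟨(finSuccEquiv' 0).trans (σ.optionCongr.trans (finSuccEquiv' j).symm), fun i => ?_⟩
    rcases Fin.eq_self_or_eq_succAbove 0 i with rfl | ⟨i, rfl⟩
    · simp only [Equiv.trans_apply, finSuccEquiv'_at]
      exact ⟨f⟩
    · simp only [Equiv.trans_apply, finSuccEquiv'_succAbove]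
      exact hσ i

end CfsgLib.FgsC.KrullSchmidt
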