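import Mathlib
import Cfsg.Agent.Lib.Recog.ZsigmondyPrime

/-!
A primitive divisor of `q ^ e - 1` of size at least `3 e + 1`.
-/

set_option autoImplicit false
set_option maxRecDepth 20000

namespace Cfsg.FgsC.PrimitivePart

open Polynomial CfsgLib.Recog.ZsigmondyPrime

/-- `q` has a large primitive divisor of `q ^ e - 1`. -/
def Good (q e : ℕ) : Prop :=
  ∃ m : ℕ, m ∣ q ^ e - 1 ∧ (∀ i : ℕ, 1 ≤ i → i < e → Nat.Coprime m (q ^ i - 1)) ∧ 3 * e + 1 ≤ m

theorem cycVal_expand {n p : ℕ} (hp : p.Prime) (hd : p ∣ n) (a : ℕ) :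
    cycVal (n * p) a = cycVal n (a ^ p) := by
  rw [cycVal, cycVal, ← cyclotomic_expand_eq_cyclotomic hp hd, expand_eval]
  push_cast; rfl

theorem cycVal_expand_pow {n u : ℕ} (hu : u ≠ 0) (hd : ∀ p : ℕ, p.Prime → p ∣ u → p ∣ n) (a : ℕ) :
    cycVal (n * u) a = cycVal n (a ^ u) := by
  induction u using Nat.strong_induction_on generalizing n a with
  | _ y ih =>
    rcases eq_or_ne y 1 with rfl | hy1
    · simp
    · obtain ⟨p, hp, hpy⟩ := Nat.exists_prime_and_dvd hy1
      obtain ⟨z, rfl⟩ := hpy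
      have hz : z ≠ 0 := right_ne_zero_of_mul hu
      rw [show n * (p * z) = n * p * z by ring,
        ih z (lt_mul_left (Nat.pos_of_ne_zero hz) hp.one_lt) hz
          (fun r hr hrz => (hd r hr (hrz.mul_left p)).mul_right p) a,
        cycVal_expand hp (hd p hp (dvd_mul_right p z)), ← pow_mul, mul_comm z p]

theorem lower {n a : ℕ} (hn : 1 < n) (ha : a ≠ 1) : (a - 1) ^ n.totient < cycVal n a :=
  sub_one_pow_totient_lt_natAbs_cyclotomic_eval hn ha

theorem upper {n a : ℕ} (ha : 2 ≤ a) : cycVal n a ≤ (a + 1) ^ n.totient := by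
  have h1 : (1 : ℝ) < a := by exact_mod_cast ha
  have h := cyclotomic_eval_le_add_one_pow_totient h1 n
  have h2 : (0 : ℝ) ≤ (cyclotomic n ℝ).eval (a : ℝ) := cyclotomic_nonneg n h1.le
  have h3 : (((cyclotomic n ℤ).eval (a : ℤ) : ℤ) : ℝ) = (cyclotomic n ℝ).eval (a : ℝ) := by
    rw [← map_cyclotomic_int n ℝ, show ((a : ℕ) : ℝ) = ((a : ℤ) : ℝ) from (Int.cast_natCast a).symm,
      eval_intCast_map]
    simp
  have h4 : ((cycVal n a : ℕ) : ℝ) = (cyclotomic n ℝ).eval (a : ℝ) := by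
    rw [cycVal, Nat.cast_natAbs, Int.cast_abs, h3, abs_of_nonneg h2]
  rw [← h4] at h
  exact_mod_cast h

/-- A value at least `r (3 e + 1)`, `r` the largest prime divisor of `e`, is enough. -/
theorem good_of_large {q e r : ℕ} (hq : 2 ≤ q) (he : 3 ≤ e) [Fact r.Prime] (hre : r ∣ e)
    (hmax : ∀ s : ℕ, s.Prime → s ∣ e → s ≤ r) (hbig : r * (3 * e + 1) ≤ cycVal e q) : Good q e := by
  have hr : r.Prime := Fact.out
  set N := cycVal e q with hN
  have hNdvd : N ∣ q ^ e - 1 :=
    (dvd_mul_right N (q ^ 1 - 1)).trans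
      (cycVal_mul_dvd (by omega) (Nat.mem_properDivisors.2 ⟨one_dvd _, by omega⟩))
  set m := if r ∣ N then N / r else N with hm
  have hmN : m ∣ N := by
    rw [hm]; split_ifs with h
    · exact Nat.div_dvd_of_dvd h
    · exact dvd_rfl
  have hnr : ¬ r ∣ m := by
    rw [hm]; split_ifs with h
    · intro h2
      have hsq : r ^ 2 ∣ N := by
        rw [← Nat.div_mul_cancel h, sq]; exact mul_dvd_mul_right h2 r
      rcases hr.eq_two_or_odd' with rfl | hodd
      · obtain ⟨j, rfl⟩ : ∃ j, e = 2 * 2 ^ (j + 1) := by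
          obtain ⟨k, hk⟩ : ∃ k, e = 2 ^ k := by
            obtain ⟨k, n', hn', hk⟩ := Nat.exists_eq_pow_mul_and_not_dvd (by omega : e ≠ 0) 2 (by omega)
            refine ⟨k, ?_⟩
            rcases eq_or_ne n' 1 with rfl | h1
            · rw [hk, mul_one]
            · obtain ⟨s, hs, hsn⟩ := Nat.exists_prime_and_dvd h1
              have : s ≤ 2 := hmax s hs (hk ▸ hsn.mul_left _)
              exact absurd (le_antisymm this hs.two_le ▸ hsn) hn'
          obtain ⟨j, rfl⟩ : ∃ j, k = j + 2 := ⟨k - 2, by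
            rcases k with _ | _ | k
            · omega
            · omega
            · omega⟩
          exact ⟨j, by rw [hk, pow_succ 2 (j + 1)]; ring⟩
        rw [hN, cycVal_expand_pow (by positivity) (fun p hp hpd => by
          have := (Nat.prime_dvd_prime_iff_eq hp Nat.prime_two).1 (hp.dvd_of_dvd_pow hpd)
          rw [this]), cycVal, cyclotomic_two, eval_add, eval_X, eval_one, pow_succ 2 j, pow_mul] at hsq
        have h4 : ∀ x : ZMod 4, x ^ 2 + 1 ≠ 0 := by decide
        refine h4 ((q ^ 2 ^ j : ℕ) : ZMod 4) ?_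
        have h5 := (ZMod.natCast_eq_zero_iff _ 4).2
          (show 4 ∣ (q ^ 2 ^ j) ^ 2 + 1 by
            refine hsq.trans (dvd_of_eq ?_)
            omega)
        push_cast at h5 ⊢
        exact h5
      · exact not_sq_dvd_cycVal (by omega) hq h hre hodd hsq
    · exact h
  refine ⟨m, hmN.trans hNdvd, fun i hi1 hie => Nat.coprime_of_dvd fun s hs hsm hsi => ?_, ?_⟩
  · haveI := Fact.mk hs
    obtain ⟨k, c, hc, hkc⟩ := Nat.exists_eq_pow_mul_and_not_dvd (by omega : e ≠ 0) s hs.ne_one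
    have ho := orderOf_of_dvd (a := q) (by omega) (hsm.trans hmN) hkc hc
    have hqi : (q : ZMod s) ^ i = 1 := by
      have h1 : 1 ≤ q ^ i := Nat.one_le_pow _ _ (by omega)
      have h2 := (ZMod.natCast_eq_zero_iff _ _).2 hsi
      rw [Nat.cast_sub h1, sub_eq_zero] at h2
      push_cast at h2
      exact h2
    have hci : c ∣ i := ho ▸ orderOf_dvd_of_pow_eq_one hqi
    by_cases hse : s ∣ e
    · -- `s` is the largest prime
      have hsr : s = r := by
        by_contra hne
        have hlt : s < r := lt_of_le_of_ne (hmax s hs hse) hne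
        have hrc : r ∣ c := (hr.dvd_mul.1 (hkc ▸ hre)).resolve_left fun h =>
          hne ((Nat.prime_dvd_prime_iff_eq hr hs).1 (hr.dvd_of_dvd_pow h)).symm
        have hq0 : (q : ZMod s) ≠ 0 := by
          intro h0
          rw [h0, zero_pow (by omega)] at hqi
          exact zero_ne_one hqi
        have h1 : c ∣ s - 1 := ho ▸ ZMod.orderOf_dvd_card_sub_one hq0
        have := Nat.le_of_dvd (by have := hs.two_le; omega) (hrc.trans h1)
        omega
      exact hnr (hsr ▸ hsm)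
    · rcases Nat.eq_zero_or_pos k with rfl | hk
      · rw [pow_zero, one_mul] at hkc
        exact absurd (Nat.le_of_dvd (by omega) (hkc ▸ hci)) (not_le.2 hie)
      · exact hse (hkc ▸ (dvd_pow_self s hk.ne').mul_right c)
  · rw [hm]; split_ifs with h
    · exact (Nat.le_div_iff_mul_le hr.pos).2 (by rw [mul_comm]; exact hbig)
    · exact le_trans (Nat.le_mul_of_pos_left _ hr.pos) hbig

theorem le_mul_totient_sq (m : ℕ) : m ≤ (if 2 ∣ m then 2 else 1) * m.totient ^ 2 := by
  induction m using Nat.recOnPosPrimePosCoprime with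
  | prime_pow p n hp hn =>
    obtain ⟨k, rfl⟩ : ∃ k, n = k + 1 := ⟨n - 1, by omega⟩
    rw [Nat.totient_prime_pow hp hn, Nat.add_sub_cancel]
    rcases hp.eq_two_or_odd' with rfl | hodd
    · rw [if_pos (dvd_pow_self 2 (Nat.succ_ne_zero k))]
      simp only [Nat.add_one_sub_one, mul_one]
      rw [sq, pow_succ]
      nlinarith [Nat.one_le_two_pow (n := k)]
    · have h2 : ¬ 2 ∣ p ^ (k + 1) := fun h => by
        have h' := Nat.prime_two.dvd_of_dvd_pow h
        obtain ⟨t, rfl⟩ := hodd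
        omega
      rw [if_neg h2, one_mul, pow_succ]
      obtain ⟨d, rfl⟩ : ∃ d, p = d + 3 := ⟨p - 3, by
        obtain ⟨t, rfl⟩ := hodd
        have := hp.two_le
        omega⟩
      rw [show d + 3 - 1 = d + 2 by omega]
      have h1 : 1 ≤ (d + 3) ^ k := Nat.one_le_pow _ _ (by omega)
      have h3 : d + 3 ≤ (d + 2) ^ 2 := by nlinarith
      calc (d + 3) ^ k * (d + 3) ≤ ((d + 3) ^ k * (d + 3) ^ k) * (d + 2) ^ 2 :=
            Nat.mul_le_mul (Nat.le_mul_of_pos_left _ h1) h3
        _ = _ := by ring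
  | zero => simp
  | one => simp
  | coprime a b ha hb hab iha ihb =>
    rw [Nat.totient_mul hab, mul_pow]
    have h : (if 2 ∣ a then 2 else 1) * (if 2 ∣ b then 2 else 1) = if 2 ∣ a * b then 2 else 1 := by
      by_cases h2a : 2 ∣ a
      · have : ¬ 2 ∣ b := fun h2b => by
          have := Nat.dvd_gcd h2a h2b
          rw [hab.gcd_eq_one] at this
          omega
        rw [if_pos h2a, if_neg this, if_pos (h2a.mul_right b)]
      · by_cases h2b : 2 ∣ b
        · rw [if_neg h2a, if_pos h2b, if_pos (h2b.mul_left a)]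
        · rw [if_neg h2a, if_neg h2b, if_neg fun h => (Nat.prime_two.dvd_mul.1 h).elim h2a h2b]
    rw [← h]
    calc a * b ≤ _ := Nat.mul_le_mul iha ihb
      _ = _ := by ring

theorem le_two_totient_sq (m : ℕ) : m ≤ 2 * m.totient ^ 2 := by
  refine (le_mul_totient_sq m).trans (Nat.mul_le_mul_right _ ?_)
  split_ifs <;> omega

theorem ratio_mono {a q r : ℕ} (ha : 2 ≤ a) (hq : a ≤ q) :
    (a ^ r - 1) * (q + 1) ≤ (q ^ r - 1) * (a + 1) := by
  obtain ⟨x, rfl⟩ : ∃ x, a = x + 1 := ⟨a - 1, by omega⟩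
  obtain ⟨y, rfl⟩ : ∃ y, q = y + 1 := ⟨q - 1, by omega⟩
  have hx := geom_sum_mul_add x r
  have hy := geom_sum_mul_add y r
  have e1 : (x + 1) ^ r - 1 = (∑ i ∈ Finset.range r, (x + 1) ^ i) * x := by omega
  have e2 : (y + 1) ^ r - 1 = (∑ i ∈ Finset.range r, (y + 1) ^ i) * y := by omega
  rw [e1, e2, mul_assoc, mul_assoc]
  refine Nat.mul_le_mul (Finset.sum_le_sum fun i _ => Nat.pow_le_pow_left (by omega) i) ?_
  nlinarith

/-- The value at `e = r m`, times `(q+1)^φ(m)`, is at least `(q^r - 1)^φ(m)`. -/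
theorem value_ge {q r m : ℕ} (hq : 2 ≤ q) (hr : r.Prime) (hm : 1 ≤ m) :
    (q ^ r - 1) ^ m.totient ≤ cycVal (r * m) q * (q + 1) ^ m.totient := by
  have hqr : q ^ r ≠ 1 := by
    have := Nat.le_self_pow hr.ne_zero q
    omega
  have hlow : (q ^ r - 1) ^ m.totient ≤ cycVal m (q ^ r) := by
    rcases eq_or_lt_of_le hm with rfl | hm1
    · rw [Nat.totient_one, pow_one, cycVal, cyclotomic_one, eval_sub, eval_X, eval_one]
      omega
    · exact (lower hm1 hqr).le
  refine hlow.trans ?_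
  by_cases hd : r ∣ m
  · rw [mul_comm r m, cycVal_expand hr hd]
    exact Nat.le_mul_of_pos_right _ (pow_pos (by omega) _)
  · have h : cycVal m (q ^ r) = cycVal (r * m) q * cycVal m q := by
      rw [cycVal, cycVal, cycVal, ← Int.natAbs_mul, mul_comm r m, ← eval_mul,
        ← cyclotomic_expand_eq_cyclotomic_mul hr hd, expand_eval]
      push_cast; rfl
    rw [h]
    exact Nat.mul_le_mul_left _ (upper hq)

theorem good_of_bound {q r m : ℕ} (hq : 2 ≤ q) (hr : r.Prime) (hm : 1 ≤ m) (he : 3 ≤ r * m)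
    (hmax : ∀ s : ℕ, s.Prime → s ∣ r * m → s ≤ r)
    (h : (r * (3 * (r * m) + 1)) * (q + 1) ^ m.totient ≤ (q ^ r - 1) ^ m.totient) : Good q (r * m) := by
  haveI := Fact.mk hr
  exact good_of_large hq he (dvd_mul_right r m) hmax
    (Nat.le_of_mul_le_mul_right (h.trans (value_ge hq hr hm)) (pow_pos (by omega) _))

/-- Transfer a bound at `a` to every `q ≥ a`. -/
theorem bound_mono {a q r t C : ℕ} (ha : 2 ≤ a) (hq : a ≤ q)
    (h : C * (a + 1) ^ t ≤ (a ^ r - 1) ^ t) : C * (q + 1) ^ t ≤ (q ^ r - 1) ^ t := by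
  refine Nat.le_of_mul_le_mul_right (c := (a + 1) ^ t) ?_ (pow_pos (by omega) _)
  calc C * (q + 1) ^ t * (a + 1) ^ t = C * (a + 1) ^ t * (q + 1) ^ t := by ring
    _ ≤ (a ^ r - 1) ^ t * (q + 1) ^ t := Nat.mul_le_mul_right _ h
    _ = ((a ^ r - 1) * (q + 1)) ^ t := (mul_pow _ _ _).symm
    _ ≤ ((q ^ r - 1) * (a + 1)) ^ t := Nat.pow_le_pow_left (ratio_mono ha hq) _
    _ = _ := mul_pow _ _ _

theorem step_t {r t₀ : ℕ} (hr : 5 ≤ r) (ht : 1 ≤ t₀)
    (hbase : (r * (6 * r * t₀ ^ 2 + 1)) * 3 ^ t₀ ≤ (2 ^ r - 1) ^ t₀) :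
    ∀ t, t₀ ≤ t → (r * (6 * r * t ^ 2 + 1)) * 3 ^ t ≤ (2 ^ r - 1) ^ t := by
  intro t htt
  induction t, htt using Nat.le_induction with
  | base => exact hbase
  | succ t htt ih =>
    have h32 : 12 ≤ 2 ^ r - 1 := by
      have : 2 ^ 5 ≤ 2 ^ r := Nat.pow_le_pow_right (by omega) hr
      omega
    have h1 : (t + 1) ^ 2 ≤ 4 * t ^ 2 := by nlinarith
    have h2 : 6 * r * (t + 1) ^ 2 + 1 ≤ 4 * (6 * r * t ^ 2 + 1) := by nlinarith
    calc r * (6 * r * (t + 1) ^ 2 + 1) * 3 ^ (t + 1)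
        ≤ r * (4 * (6 * r * t ^ 2 + 1)) * 3 ^ (t + 1) :=
          Nat.mul_le_mul_right _ (Nat.mul_le_mul_left _ h2)
      _ = r * (6 * r * t ^ 2 + 1) * 3 ^ t * 12 := by rw [pow_succ]; ring
      _ ≤ (2 ^ r - 1) ^ t * (2 ^ r - 1) := Nat.mul_le_mul ih h32
      _ = _ := (pow_succ _ _).symm

theorem base_thirteen : ∀ r, 13 ≤ r → (r * (6 * r * 1 ^ 2 + 1)) * 3 ^ 1 ≤ (2 ^ r - 1) ^ 1 := by
  intro r hr
  suffices h : r * (6 * r + 1) * 3 + 1 ≤ 2 ^ r by simp only [one_pow, mul_one, pow_one]; omega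
  induction r, hr using Nat.le_induction with
  | base => norm_num
  | succ r hr ih => rw [pow_succ]; nlinarith

theorem good_witness {q e : ℕ} (m : ℕ) (h1 : m ∣ q ^ e - 1)
    (h2 : ∀ i < e, 1 ≤ i → Nat.Coprime m (q ^ i - 1)) (h3 : 3 * e + 1 ≤ m) : Good q e :=
  ⟨m, h1, fun i a b => h2 i b a, h3⟩

/-- The small multiples with small totient. -/
theorem totient_small {m : ℕ} (h : m.totient ≤ 3) (hm : 1 ≤ m) :
    m = 1 ∨ m = 2 ∨ m = 3 ∨ m = 4 ∨ m = 6 := by
  have h18 : m ≤ 18 := (le_two_totient_sq m).trans (by nlinarith)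
  revert h
  interval_cases m <;> decide

theorem big_prime {q r m : ℕ} (hq : 2 ≤ q) (hr : r.Prime) (h5 : 5 ≤ r) (hm : 1 ≤ m)
    (hmax : ∀ s : ℕ, s.Prime → s ∣ r * m → s ≤ r)
    (hex : ¬ (q = 2 ∧ (r * m = 10 ∨ r * m = 20))) : Good q (r * m) := by
  have he : 3 ≤ r * m := le_trans (by omega) (Nat.le_mul_of_pos_right r hm)
  have hgen : ∀ a, 2 ≤ a → a ≤ q →
      r * (3 * (r * m) + 1) * (a + 1) ^ m.totient ≤ (a ^ r - 1) ^ m.totient → Good q (r * m) :=
    fun a ha haq h => good_of_bound hq hr hm he hmax (bound_mono ha haq h)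
  have hmt := le_two_totient_sq m
  set t := m.totient with htdef
  have ht : 1 ≤ t := Nat.totient_pos.2 hm
  have huni : (r * (6 * r * t ^ 2 + 1)) * 3 ^ t ≤ (2 ^ r - 1) ^ t → Good q (r * m) := by
    intro h
    refine hgen 2 le_rfl hq ((Nat.mul_le_mul_right _ (Nat.mul_le_mul_left r ?_)).trans h)
    nlinarith
  rcases Nat.lt_or_ge r 13 with hr13 | hr13
  swap
  · exact huni (step_t h5 le_rfl (base_thirteen r hr13) t ht)
  have hcases : r = 5 ∨ r = 7 ∨ r = 11 := by
    interval_cases r <;> first | omega | exact absurd hr (by decide)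
  rcases hcases with rfl | rfl | rfl
  · rcases Nat.lt_or_ge t 4 with h4 | h4
    swap
    · exact huni (step_t (t₀ := 4) le_rfl (by norm_num) (by norm_num) t h4)
    rcases totient_small (show m.totient ≤ 3 by omega) hm with rfl | rfl | rfl | rfl | rfl
    · rcases (by omega : q = 2 ∨ q = 3 ∨ 4 ≤ q) with rfl | rfl | h
      · exact good_witness 31 (by decide) (by decide) (by decide)
      · exact good_witness 121 (by decide) (by decide) (by decide)
      · exact hgen 4 (by omega) h (by decide)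
    · rcases (by omega : q = 2 ∨ q = 3 ∨ 4 ≤ q) with rfl | rfl | h
      · exact absurd ⟨rfl, Or.inl rfl⟩ hex
      · exact good_witness 61 (by decide) (by decide) (by decide)
      · exact hgen 4 (by omega) h (by decide)
    · rcases (by omega : q = 2 ∨ 3 ≤ q) with rfl | h
      · exact good_witness 151 (by decide) (by decide) (by decide)
      · exact hgen 3 (by omega) h (by decide)
    · rcases (by omega : q = 2 ∨ 3 ≤ q) with rfl | h
      · exact absurd ⟨rfl, Or.inr rfl⟩ hex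
      · exact hgen 3 (by omega) h (by decide)
    · rcases (by omega : q = 2 ∨ 3 ≤ q) with rfl | h
      · exact good_witness 331 (by decide) (by decide) (by decide)
      · exact hgen 3 (by omega) h (by decide)
  · rcases Nat.lt_or_ge t 2 with h4 | h4
    swap
    · exact huni (step_t (t₀ := 2) (by norm_num) (by norm_num) (by norm_num) t h4)
    rcases totient_small (show m.totient ≤ 3 by omega) hm with rfl | rfl | rfl | rfl | rfl
    · rcases (by omega : q = 2 ∨ 3 ≤ q) with rfl | h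
      · exact good_witness 127 (by decide) (by decide) (by decide)
      · exact hgen 3 (by omega) h (by decide)
    · rcases (by omega : q = 2 ∨ 3 ≤ q) with rfl | h
      · exact good_witness 43 (by decide) (by decide) (by decide)
      · exact hgen 3 (by omega) h (by decide)
    all_goals exact absurd h4 (by rw [htdef]; decide)
  · rcases Nat.lt_or_ge t 2 with h4 | h4
    swap
    · exact huni (step_t (t₀ := 2) (by norm_num) (by norm_num) (by norm_num) t h4)
    rcases totient_small (show m.totient ≤ 3 by omega) hm with rfl | rfl | rfl | rfl | rfl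
    · rcases (by omega : q = 2 ∨ 3 ≤ q) with rfl | h
      · exact good_witness 2047 (by decide) (by decide) (by decide)
      · exact hgen 3 (by omega) h (by decide)
    · rcases (by omega : q = 2 ∨ 3 ≤ q) with rfl | h
      · exact good_witness 683 (by decide) (by decide) (by decide)
      · exact hgen 3 (by omega) h (by decide)
    all_goals exact absurd h4 (by rw [htdef]; decide)

theorem sq_bound_four : ∀ u, 4 ≤ u → 54 * u + 3 ≤ (2 ^ u - 1) ^ 2 + 1 := by
  intro u hu
  induction u, hu using Nat.le_induction with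
  | base => norm_num
  | succ u hu ih =>
    have h16 : 2 ^ 4 ≤ 2 ^ u := Nat.pow_le_pow_right (by omega) hu
    obtain ⟨x, hx⟩ : ∃ x, 2 ^ u = x + 1 := ⟨2 ^ u - 1, by omega⟩
    rw [pow_succ 2 u, hx]
    rw [hx, Nat.add_sub_cancel] at ih
    rw [show (x + 1) * 2 - 1 = 2 * x + 1 by omega]
    nlinarith

theorem three_value {n u q : ℕ} (hn : n = 3 ∨ n = 6) (hu : u ≠ 0) (hq : 2 ≤ q)
    (hd : ∀ p : ℕ, p.Prime → p ∣ u → p ∣ n) {c : ℕ} (hc : c ≤ q ^ u) (hc1 : 1 ≤ c) :
    (c - 1) ^ 2 + 1 ≤ cycVal (n * u) q := by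
  rw [cycVal_expand_pow hu hd]
  have h2 : 2 ≤ q ^ u := le_trans hq (Nat.le_self_pow hu q)
  have h := lower (n := n) (a := q ^ u) (by omega) (by omega)
  rw [show n.totient = 2 by rcases hn with rfl | rfl <;> decide] at h
  have := Nat.pow_le_pow_left (show c - 1 ≤ q ^ u - 1 by omega) 2
  omega

theorem two_power {q u : ℕ} (hq : 2 ≤ q) (hu : ∀ p : ℕ, p.Prime → p ∣ u → p ∣ 2) (h3 : 3 ≤ 2 * u)
    (hex : ¬ (q = 2 ∧ (2 * u = 4 ∨ 2 * u = 8) ∨ q = 3 ∧ 2 * u = 4)) : Good q (2 * u) := by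
  have hmax : ∀ s : ℕ, s.Prime → s ∣ 2 * u → s ≤ 2 := fun s hs hsd => by
    rcases hs.dvd_mul.1 hsd with h | h
    · exact Nat.le_of_dvd two_pos h
    · exact Nat.le_of_dvd two_pos (hu s hs h)
  have hval : cycVal (2 * u) q = q ^ u + 1 := by
    rw [cycVal_expand_pow (by omega) hu, cycVal, cyclotomic_two, eval_add, eval_X, eval_one]
    omega
  have hlarge : ∀ a, a ≤ q → 2 * (3 * (2 * u) + 1) ≤ a ^ u + 1 → Good q (2 * u) := fun a ha h =>
    good_of_large (r := 2) hq h3 (dvd_mul_right 2 u) hmax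
      (by rw [hval]; exact h.trans (Nat.add_le_add_right (Nat.pow_le_pow_left ha u) 1))
  rcases Nat.lt_or_ge u 8 with h8 | h8
  swap
  · refine hlarge 2 hq ?_
    clear hlarge hval hmax hex h3 hu
    induction u, h8 using Nat.le_induction with
    | base => norm_num
    | succ u hu ih => rw [pow_succ]; omega
  have hodd : u = 2 ∨ u = 4 := by
    rcases (by omega : u = 2 ∨ u = 3 ∨ u = 4 ∨ u = 5 ∨ u = 6 ∨ u = 7) with h | h | h | h | h | h
    · exact Or.inl h
    · exact absurd (hu 3 (by norm_num) (by rw [h])) (by decide)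
    · exact Or.inr h
    · exact absurd (hu 5 (by norm_num) (by rw [h])) (by decide)
    · exact absurd (hu 3 (by norm_num) (by rw [h]; decide)) (by decide)
    · exact absurd (hu 7 (by norm_num) (by rw [h])) (by decide)
  rcases hodd with rfl | rfl
  · rcases (by omega : q = 2 ∨ q = 3 ∨ q = 4 ∨ 5 ≤ q) with rfl | rfl | rfl | h
    · exact absurd (Or.inl ⟨rfl, Or.inl rfl⟩) hex
    · exact absurd (Or.inr ⟨rfl, rfl⟩) hex
    · exact good_witness 17 (by decide) (by decide) (by decide)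
    · exact hlarge 5 h (by norm_num)
  · rcases (by omega : q = 2 ∨ 3 ≤ q) with rfl | h
    · exact absurd (Or.inl ⟨rfl, Or.inr rfl⟩) hex
    · exact hlarge 3 h (by norm_num)

theorem six_mul {q u : ℕ} (hq : 2 ≤ q) (hu0 : u ≠ 0) (hu : ∀ p : ℕ, p.Prime → p ∣ u → p ∣ 6)
    (hex : ¬ (q = 2 ∧ (6 * u = 6 ∨ 6 * u = 12 ∨ 6 * u = 18) ∨
      (q = 3 ∨ q = 4 ∨ q = 5) ∧ 6 * u = 6)) : Good q (6 * u) := by
  haveI : Fact (Nat.Prime 3) := ⟨Nat.prime_three⟩
  have hmax : ∀ s : ℕ, s.Prime → s ∣ 6 * u → s ≤ 3 := fun s hs hsd => by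
    have h : s ∣ 6 := (hs.dvd_mul.1 hsd).elim id (hu s hs)
    rcases hs.dvd_mul.1 (show s ∣ 2 * 3 from h) with h | h
    · exact (Nat.le_of_dvd two_pos h).trans (by norm_num)
    · exact Nat.le_of_dvd (by norm_num) h
  have hlarge : ∀ c, c ≤ q ^ u → 1 ≤ c → 54 * u + 3 ≤ (c - 1) ^ 2 + 1 → Good q (6 * u) :=
    fun c hc hc1 h => good_of_large (r := 3) hq (by omega) (Dvd.dvd.mul_right (by norm_num) u) hmax
      (le_trans (by omega) (h.trans (three_value (Or.inr rfl) hu0 hq hu hc hc1)))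
  rcases (by omega : u = 1 ∨ u = 2 ∨ u = 3 ∨ 4 ≤ u) with rfl | rfl | rfl | h
  · rcases (by omega : q = 2 ∨ q = 3 ∨ q = 4 ∨ q = 5 ∨ q = 6 ∨ q = 7 ∨ q = 8 ∨ 9 ≤ q) with
      rfl | rfl | rfl | rfl | rfl | rfl | rfl | h
    · exact absurd (Or.inl ⟨rfl, Or.inl rfl⟩) hex
    · exact absurd (Or.inr ⟨Or.inl rfl, rfl⟩) hex
    · exact absurd (Or.inr ⟨Or.inr (Or.inl rfl), rfl⟩) hex
    · exact absurd (Or.inr ⟨Or.inr (Or.inr rfl), rfl⟩) hex
    · exact good_witness 31 (by decide) (by decide) (by decide)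
    · exact good_witness 43 (by decide) (by decide) (by decide)
    · exact good_witness 19 (by decide) (by decide) (by decide)
    · exact hlarge 9 (by simpa using h) (by norm_num) (by norm_num)
  · rcases (by omega : q = 2 ∨ q = 3 ∨ 4 ≤ q) with rfl | rfl | h
    · exact absurd (Or.inl ⟨rfl, Or.inr (Or.inl rfl)⟩) hex
    · exact good_witness 73 (by decide) (by decide) (by decide)
    · exact hlarge 16 (by nlinarith) (by norm_num) (by norm_num)
  · rcases (by omega : q = 2 ∨ 3 ≤ q) with rfl | h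
    · exact absurd (Or.inl ⟨rfl, Or.inr (Or.inr rfl)⟩) hex
    · exact hlarge 27 (le_trans (by norm_num) (Nat.pow_le_pow_left h 3)) (by norm_num) (by norm_num)
  · exact hlarge (2 ^ u) (Nat.pow_le_pow_left hq u) Nat.one_le_two_pow (sq_bound_four u h)

theorem three_mul {q u : ℕ} (hq : 2 ≤ q) (hu0 : u ≠ 0) (hu : ∀ p : ℕ, p.Prime → p ∣ u → p ∣ 3)
    (hex : ¬ ((q = 2 ∨ q = 4) ∧ 3 * u = 3)) : Good q (3 * u) := by
  haveI : Fact (Nat.Prime 3) := ⟨Nat.prime_three⟩
  have hmax : ∀ s : ℕ, s.Prime → s ∣ 3 * u → s ≤ 3 := fun s hs hsd =>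
    Nat.le_of_dvd (by norm_num) ((hs.dvd_mul.1 hsd).elim id (hu s hs))
  have hlarge : ∀ c, c ≤ q ^ u → 1 ≤ c → 27 * u + 3 ≤ (c - 1) ^ 2 + 1 → Good q (3 * u) :=
    fun c hc hc1 h => good_of_large (r := 3) hq (by omega) (dvd_mul_right 3 u) hmax
      (le_trans (by omega) (h.trans (three_value (Or.inl rfl) hu0 hq hu hc hc1)))
  rcases (by omega : u = 1 ∨ u = 2 ∨ u = 3 ∨ 4 ≤ u) with rfl | rfl | rfl | h
  · rcases (by omega : q = 2 ∨ q = 3 ∨ q = 4 ∨ q = 5 ∨ q = 6 ∨ 7 ≤ q) with
      rfl | rfl | rfl | rfl | rfl | h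
    · exact absurd ⟨Or.inl rfl, rfl⟩ hex
    · exact good_witness 13 (by decide) (by decide) (by decide)
    · exact absurd ⟨Or.inr rfl, rfl⟩ hex
    · exact good_witness 31 (by decide) (by decide) (by decide)
    · exact good_witness 43 (by decide) (by decide) (by decide)
    · exact hlarge 7 (by simpa using h) (by norm_num) (by norm_num)
  · exact absurd (hu 2 Nat.prime_two dvd_rfl) (by decide)
  · rcases (by omega : q = 2 ∨ 3 ≤ q) with rfl | h
    · exact good_witness 73 (by decide) (by decide) (by decide)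
    · exact hlarge 27 (le_trans (by norm_num) (Nat.pow_le_pow_left h 3)) (by norm_num) (by norm_num)
  · exact hlarge (2 ^ u) (Nat.pow_le_pow_left hq u) Nat.one_le_two_pow
      (le_trans (by omega) (sq_bound_four u h))

/-- All non-exceptional pairs are good. -/
theorem good_all {q e : ℕ} (hq : 2 ≤ q) (he : 3 ≤ e)
    (hex : (q, e) ∉ [(2, 6), (2, 4), (2, 10), (2, 12), (2, 18), (3, 4), (3, 6), (5, 6), (2, 3), (2, 8),
      (2, 20), (4, 3), (4, 6)]) : Good q e := by
  simp only [List.mem_cons, List.not_mem_nil, or_false, Prod.mk.injEq, not_or] at hex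
  have hne : e.primeFactors.Nonempty := Nat.nonempty_primeFactors.2 (by omega)
  set r := e.primeFactors.max' hne with hr
  have hmem := e.primeFactors.max'_mem hne
  have hrp : r.Prime := Nat.prime_of_mem_primeFactors hmem
  have hre : r ∣ e := Nat.dvd_of_mem_primeFactors hmem
  have hmax : ∀ s : ℕ, s.Prime → s ∣ e → s ≤ r := fun s hs hse =>
    Finset.le_max' _ _ (Nat.mem_primeFactors.2 ⟨hs, hse, by omega⟩)
  obtain ⟨w, hw⟩ := hre
  have hw0 : w ≠ 0 := by rintro rfl; omega
  rcases (by have := hrp.two_le; omega : r = 2 ∨ r = 3 ∨ r = 4 ∨ 5 ≤ r) with h | h | h | h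
  · rw [h] at hw hmax
    subst hw
    refine two_power hq (fun p hp hpw => ?_) he (by omega)
    have := le_antisymm (hmax p hp (hpw.mul_left 2)) hp.two_le
    rw [this]
  · rw [h] at hw hmax
    subst hw
    have hsm : ∀ p : ℕ, p.Prime → p ∣ w → p = 2 ∨ p = 3 := fun p hp hpw => by
      have := hmax p hp (hpw.mul_left 3)
      have := hp.two_le
      omega
    by_cases h2 : 2 ∣ w
    · obtain ⟨u, rfl⟩ := h2
      rw [show 3 * (2 * u) = 6 * u by ring]
      refine six_mul hq (by omega) (fun p hp hpu => ?_) (by omega)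
      rcases hsm p hp (hpu.mul_left 2) with rfl | rfl <;> norm_num
    · refine three_mul hq hw0 (fun p hp hpw => ?_) (by omega)
      rcases hsm p hp hpw with rfl | rfl
      · exact absurd hpw h2
      · exact dvd_rfl
  · exact absurd (h ▸ hrp) (by decide)
  · rw [hw] at hmax hex ⊢
    exact big_prime hq hrp h (Nat.pos_of_ne_zero hw0) hmax (by omega)

theorem coprime_four {m a b c d : ℕ} (ha : m.Coprime a) (hb : m.Coprime b) (hc : m.Coprime c)
    (hd : m.Coprime d) : m.Coprime (a * b * (c * d)) :=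
  Nat.Coprime.mul_right (Nat.Coprime.mul_right ha hb) (Nat.Coprime.mul_right hc hd)

/-- In the exceptional cases every primitive divisor is small. -/
theorem exceptional {q e m : ℕ} (hmem : (q, e) ∈ [(2, 6), (2, 4), (2, 10), (2, 12), (2, 18), (3, 4),
      (3, 6), (5, 6), (2, 3), (2, 8), (2, 20), (4, 3), (4, 6)])
    (hm : m ∣ q ^ e - 1) (hc : ∀ i : ℕ, 1 ≤ i → i < e → Nat.Coprime m (q ^ i - 1)) :
    m ≤ 2 * e + 1 := by
  have key : ∀ a b M : ℕ, 1 ≤ a → a < e → 1 ≤ b → b < e → 0 < M → M ≤ 2 * e + 1 →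
      q ^ e - 1 ∣ (q ^ a - 1) * (q ^ a - 1) * ((q ^ b - 1) * (q ^ b - 1)) * M → m ≤ 2 * e + 1 := by
    intro a b M ha ha' hb hb' hM0 hM hd
    exact (Nat.le_of_dvd hM0 ((coprime_four (hc a ha ha') (hc a ha ha') (hc b hb hb') (hc b hb hb')
      ).dvd_of_dvd_mul_left (hm.trans hd))).trans hM
  simp only [List.mem_cons, List.not_mem_nil, or_false, Prod.mk.injEq] at hmem
  rcases hmem with ⟨rfl, rfl⟩ | ⟨rfl, rfl⟩ | ⟨rfl, rfl⟩ | ⟨rfl, rfl⟩ | ⟨rfl, rfl⟩ | ⟨rfl, rfl⟩ |
    ⟨rfl, rfl⟩ | ⟨rfl, rfl⟩ | ⟨rfl, rfl⟩ | ⟨rfl, rfl⟩ | ⟨rfl, rfl⟩ | ⟨rfl, rfl⟩ | ⟨rfl, rfl⟩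
  · exact key 2 3 1 (by norm_num) (by norm_num) (by norm_num) (by norm_num) (by norm_num) (by norm_num) (by decide)
  · exact key 2 2 5 (by norm_num) (by norm_num) (by norm_num) (by norm_num) (by norm_num) (by norm_num) (by decide)
  · exact key 2 5 11 (by norm_num) (by norm_num) (by norm_num) (by norm_num) (by norm_num) (by norm_num) (by decide)
  · exact key 4 6 13 (by norm_num) (by norm_num) (by norm_num) (by norm_num) (by norm_num) (by norm_num) (by decide)
  · exact key 6 9 19 (by norm_num) (by norm_num) (by norm_num) (by norm_num) (by norm_num) (by norm_num) (by decide)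
  · exact key 2 2 5 (by norm_num) (by norm_num) (by norm_num) (by norm_num) (by norm_num) (by norm_num) (by decide)
  · exact key 2 3 7 (by norm_num) (by norm_num) (by norm_num) (by norm_num) (by norm_num) (by norm_num) (by decide)
  · exact key 2 3 7 (by norm_num) (by norm_num) (by norm_num) (by norm_num) (by norm_num) (by norm_num) (by decide)
  · exact key 1 1 7 (by norm_num) (by norm_num) (by norm_num) (by norm_num) (by norm_num) (by norm_num) (by decide)
  · exact key 4 4 17 (by norm_num) (by norm_num) (by norm_num) (by norm_num) (by norm_num) (by norm_num) (by decide)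
  · exact key 4 10 41 (by norm_num) (by norm_num) (by norm_num) (by norm_num) (by norm_num) (by norm_num) (by decide)
  · exact key 1 1 7 (by norm_num) (by norm_num) (by norm_num) (by norm_num) (by norm_num) (by norm_num) (by decide)
  · exact key 2 3 13 (by norm_num) (by norm_num) (by norm_num) (by norm_num) (by norm_num) (by norm_num) (by decide)

end Cfsg.FgsC.PrimitivePart
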