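import Mathlib
import Cfsg.Agent.Lib.FgsC.PrimitivePart

/-!
A primitive prime divisor which is large, or divides with multiplicity.
-/

set_option autoImplicit false
set_option maxRecDepth 20000

namespace Cfsg.FgsC.LargePrimitive

open PrimitivePart

/-- The wanted prime. -/
def Large (q n : ℕ) : Prop :=
  ∃ p : ℕ, p.Prime ∧ p ∣ q ^ n - 1 ∧ (∀ i : ℕ, 1 ≤ i → i < n → ¬ p ∣ q ^ i - 1) ∧
    (n + 1 < p ∨ p ^ 2 ∣ q ^ n - 1)

theorem large_of_good {q n : ℕ} (hq : 2 ≤ q) (hn : 2 ≤ n) (h : Good q n) : Large q n := by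
  obtain ⟨m, hm, hc, hbig⟩ := h
  have hprim : ∀ p : ℕ, p.Prime → p ∣ m → p ∣ q ^ n - 1 ∧ (∀ i, 1 ≤ i → i < n → ¬ p ∣ q ^ i - 1) :=
    fun p hp hpm => ⟨hpm.trans hm, fun i h1 h2 hpi =>
      hp.one_lt.ne' (Nat.eq_one_of_dvd_coprimes (hc i h1 h2) hpm hpi)⟩
  have hge : ∀ p : ℕ, p.Prime → p ∣ m → n + 1 ≤ p := by
    intro p hp hpm
    obtain ⟨h1, h2⟩ := hprim p hp hpm
    by_contra hlt
    haveI := Fact.mk hp
    have hq0 : (q : ZMod p) ≠ 0 := fun e => by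
      have h3 := (ZMod.natCast_eq_zero_iff _ _).2 h1
      rw [Nat.cast_sub (Nat.one_le_pow _ _ (by omega)), Nat.cast_pow, e, zero_pow (by omega)] at h3
      simp at h3
    have hf := ZMod.pow_card_sub_one_eq_one hq0
    refine h2 (p - 1) (by have := hp.two_le; omega) (by omega) ?_
    rw [← ZMod.natCast_eq_zero_iff, Nat.cast_sub (Nat.one_le_pow _ _ (by omega)), Nat.cast_pow, hf]
    simp
  by_cases hex : ∃ p : ℕ, p.Prime ∧ p ∣ m ∧ n + 1 < p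
  · obtain ⟨p, hp, hpm, hlt⟩ := hex
    exact ⟨p, hp, (hprim p hp hpm).1, (hprim p hp hpm).2, Or.inl hlt⟩
  · push Not at hex
    have hall : ∀ p : ℕ, p.Prime → p ∣ m → p = n + 1 := fun p hp hpm =>
      le_antisymm (hex p hp hpm) (hge p hp hpm)
    obtain ⟨p, hp, hpm⟩ := Nat.exists_prime_and_dvd (show m ≠ 1 by omega)
    obtain ⟨c, rfl⟩ := hpm
    have hp' := hall p hp (dvd_mul_right p c)
    have hc1 : c ≠ 1 := by rintro rfl; omega
    obtain ⟨r, hr, hrc⟩ := Nat.exists_prime_and_dvd hc1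
    have hr' := hall r hr (hrc.mul_left p)
    refine ⟨p, hp, (hprim p hp (dvd_mul_right p c)).1, (hprim p hp (dvd_mul_right p c)).2,
      Or.inr (Dvd.dvd.trans ?_ hm)⟩
    rw [sq]
    exact mul_dvd_mul_left p (by rw [show p = r by omega]; exact hrc)

theorem large_witness {q n : ℕ} (p : ℕ) (hp : p.Prime) (h1 : p ∣ q ^ n - 1)
    (h2 : ∀ i < n, 1 ≤ i → ¬ p ∣ q ^ i - 1) (h3 : n + 1 < p) : Large q n :=
  ⟨p, hp, h1, fun i a b => h2 i b a, Or.inl h3⟩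

theorem large_two {q : ℕ} (hq : 2 ≤ q) (h : ¬ ∃ s t : ℕ, t ≤ 1 ∧ q + 1 = 2 ^ s * 3 ^ t) :
    Large q 2 := by
  obtain ⟨x, rfl⟩ : ∃ x, q = x + 1 := ⟨q - 1, by omega⟩
  have hsq : (x + 1) ^ 2 - 1 = (x + 2) * x := by
    rw [show (x + 1) ^ 2 = (x + 2) * x + 1 by ring]; omega
  have key : ∀ p : ℕ, p.Prime → 3 ≤ p → p ∣ x + 2 →
      p ∣ (x + 1) ^ 2 - 1 ∧ ∀ i : ℕ, 1 ≤ i → i < 2 → ¬ p ∣ (x + 1) ^ i - 1 := by
    intro p hp h3 hd
    refine ⟨hsq ▸ hd.mul_right x, fun i h1 h2 hi => ?_⟩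
    obtain rfl : i = 1 := by omega
    rw [pow_one, Nat.add_sub_cancel] at hi
    have h' := Nat.le_of_dvd two_pos ((Nat.dvd_add_right hi).1 hd)
    omega
  obtain ⟨s, b, hb2, hb⟩ := Nat.exists_eq_pow_mul_and_not_dvd (show x + 2 ≠ 0 by omega) 2 (by omega)
  obtain ⟨t, c, hc3, hc⟩ := Nat.exists_eq_pow_mul_and_not_dvd
    (show b ≠ 0 by rintro rfl; simp at hb) 3 (by omega)
  rcases eq_or_ne c 1 with rfl | hc1
  · have ht : 2 ≤ t := by
      by_contra ht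
      exact h ⟨s, t, by omega, by rw [show x + 1 + 1 = x + 2 from rfl, hb, hc, mul_one]⟩
    have h9 : 3 ^ 2 ∣ x + 2 := hb ▸ hc ▸ Dvd.dvd.mul_left (Dvd.dvd.mul_right (pow_dvd_pow 3 ht) 1) _
    obtain ⟨k1, k2⟩ := key 3 Nat.prime_three le_rfl ((dvd_pow_self 3 two_ne_zero).trans h9)
    exact ⟨3, Nat.prime_three, k1, k2, Or.inr (hsq ▸ h9.mul_right x)⟩
  · obtain ⟨p, hp, hpc⟩ := Nat.exists_prime_and_dvd hc1
    have hpb : p ∣ b := hc ▸ hpc.mul_left _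
    have h5 : 5 ≤ p := by
      rcases (by have := hp.two_le; omega : p = 2 ∨ p = 3 ∨ p = 4 ∨ 5 ≤ p) with rfl | rfl | rfl | h5
      · exact absurd hpb hb2
      · exact absurd hpc hc3
      · exact absurd hp (by decide)
      · exact h5
    obtain ⟨k1, k2⟩ := key p hp (by omega) (hb ▸ hpb.mul_left _)
    exact ⟨p, hp, k1, k2, Or.inl (by omega)⟩

theorem large_all (q n : ℕ) (hq : 2 ≤ q) (hn : 2 ≤ n)
    (h1 : ¬ (n = 2 ∧ ∃ s t : ℕ, t ≤ 1 ∧ q + 1 = 2 ^ s * 3 ^ t))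
    (h2 : ¬ (q = 2 ∧ (n = 4 ∨ n = 6 ∨ n = 10 ∨ n = 12 ∨ n = 18)))
    (h3 : ¬ (q = 3 ∧ (n = 4 ∨ n = 6))) (h4 : ¬ (q = 5 ∧ n = 6)) : Large q n := by
  rcases eq_or_lt_of_le hn with rfl | hn3
  · exact large_two hq fun h => h1 ⟨rfl, h⟩
  by_cases hlist : (q, n) ∈ [(2, 3), (2, 8), (2, 20), (4, 3), (4, 6)]
  · simp only [List.mem_cons, List.not_mem_nil, or_false, Prod.mk.injEq] at hlist
    rcases hlist with ⟨rfl, rfl⟩ | ⟨rfl, rfl⟩ | ⟨rfl, rfl⟩ | ⟨rfl, rfl⟩ | ⟨rfl, rfl⟩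
    · exact large_witness 7 (by norm_num) (by decide) (by decide) (by decide)
    · exact large_witness 17 (by norm_num) (by decide) (by decide) (by decide)
    · exact large_witness 41 (by norm_num) (by decide) (by decide) (by decide)
    · exact large_witness 7 (by norm_num) (by decide) (by decide) (by decide)
    · exact large_witness 13 (by norm_num) (by decide) (by decide) (by decide)
  · refine large_of_good hq hn (good_all hq (by omega) ?_)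
    simp only [List.mem_cons, List.not_mem_nil, or_false, Prod.mk.injEq] at hlist ⊢
    omega

end Cfsg.FgsC.LargePrimitive
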