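/-
Fusion in a Sylow subgroup of maximal class: elements with centralizer of order `p ^ 2` keep it.
-/
import Cfsg.Agent.Lib.PGroups.MaximalClassPower
import Cfsg.Agent.Lib.Transfer.Alperin

set_option autoImplicit false

namespace CfsgLib.FgsC.MaxClassSylow

open Subgroup CfsgLib.PGroups CfsgLib.PGroups.Pearl CfsgLib.PGroups.MaxClassPower
open CfsgLib.FgsC.MaxClassSection
open scoped commutatorElement

universe u

section PGroup

variable {G : Type u} [Group G] [Finite G] {p n : ℕ} [hp : Fact p.Prime]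

theorem not_comm (H : MC G p n) : ¬ IsMulCommutative G := fun h => by
  have : Group.IsNilpotent G := (IsPGroup.of_card H.card).isNilpotent
  have := Group.IsNilpotent.nilpotencyClass_le_one_iff.mpr h
  have := H.cls
  have := H.three
  omega

theorem center_le (H : MC G p n) : center G ≤ lcsT G 1 := by
  have h3 := H.three
  refine le_trans ?_ (Subgroup.lowerCentralSeries_antitone _ (by omega : 1 ≤ n - 2))
  have hle : lcsT G (n - 2) ≤ center G := fun z hz => by
    rw [mem_center_iff]
    intro g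
    have h := commutator_mem_commutator hz (mem_top g)
    rw [show ⁅lcsT G (n - 2), (⊤ : Subgroup G)⁆ = lcsT G (n - 2 + 1) from
      (Subgroup.lowerCentralSeries_succ _ _).symm, H.lcs_eq_bot (by omega), mem_bot,
      commutatorElement_eq_one_iff_mul_comm] at h
    exact h.symm
  refine (eq_of_le_of_card_ge hle ?_).ge
  rw [H.card_lcs (by omega) (by omega), show n - 1 - (n - 2) = 1 by omega, pow_one,
    (center_of_maximalClass (p := p) h3 H.card H.cls).1]

theorem index_lcs_one (H : MC G p n) : (lcsT G 1).index = p ^ 2 := by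
  rw [lcsT, top_lowerCentralSeries_one]
  exact index_commutator_of_maximalClass H.three H.card H.cls

theorem lcs_one_le_frattini (H : MC G p n) : lcsT G 1 ≤ frattini G := by
  rw [lcsT, top_lowerCentralSeries_one]
  exact commutator_le_frattini (IsPGroup.of_card H.card)

/-- An element outside `G'` with centralizer of order `p ^ 2` has central `p`-th power. -/
theorem elt_of_cent (H : MC G p n) {s : G} (hs : s ∉ lcsT G 1)
    (hc : Nat.card (centralizer ({s} : Set G)) = p ^ 2) : Elt p n s := by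
  refine ⟨H.card, H.three, H.cls, hc, ?_⟩
  set C := centralizer ({s} : Set G) with hC
  have hlt : C ⊓ lcsT G 1 < C := lt_of_le_of_ne inf_le_left fun h =>
    hs ((h.symm ▸ mem_centralizer_singleton_iff.2 rfl : s ∈ C ⊓ lcsT G 1).2)
  have hge : center G ≤ C ⊓ lcsT G 1 := le_inf (center_le_centralizer _) (center_le H)
  obtain ⟨a, ha⟩ := card_subgroup_eq_pow (IsPGroup.of_card H.card) (C ⊓ lcsT G 1)
  have h1 : Nat.card ↥(C ⊓ lcsT G 1) < Nat.card C :=
    lt_of_le_of_ne (card_le_of_le hlt.le) fun h => hlt.ne (eq_of_le_of_card_ge hlt.le h.ge)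
  rw [ha, hc] at h1
  have ha1 := (Nat.pow_lt_pow_iff_right hp.1.one_lt).1 h1
  have heq : center G = C ⊓ lcsT G 1 := eq_of_le_of_card_ge hge (by
    rw [ha, (center_of_maximalClass (p := p) H.three H.card H.cls).1]
    exact (Nat.pow_le_pow_right hp.1.pos (by omega : a ≤ 1)).trans (pow_one p).le)
  rw [heq]
  exact ⟨mem_centralizer_singleton_iff.2 ((Commute.refl s).pow_left p).eq,
    H.pow_mem le_rfl hp.1.one_lt (by have := H.three; omega) s⟩

/-- Some element outside a given maximal subgroup has centralizer of order `p ^ 2`. -/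
theorem exists_elt_avoid (H : MC G p n) (M : Subgroup G) (hM : M ≠ ⊤) (hL : lcsT G 1 ≤ M) :
    ∃ s : G, s ∉ M ∧ Nat.card (centralizer ({s} : Set G)) = p ^ 2 := by
  have h3 := H.three
  have hp2 := hp.1.two_le
  obtain ⟨t, ht⟩ := exists_elt n G H
  let K : ℕ → Subgroup G := fun l => if l + 1 < p ∧ l < n - 3 then twoStepCentralizer G (n - 3 - l)
    else M
  obtain ⟨s, hs⟩ := exists_avoid (IsPGroup.of_card H.card) K fun l _ => by
    by_cases h : l + 1 < p ∧ l < n - 3
    · simp only [K, if_pos h]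
      exact H.twoStep_ne_top (by omega)
    · simp only [K, if_neg h]
      exact hM
  have hsM : s ∉ M := by
    have h := hs (p - 1) (by omega)
    simpa only [K, if_neg (show ¬ (p - 1 + 1 < p ∧ p - 1 < n - 3) by omega)] using h
  refine ⟨s, hsM, (elt_of_avoid H (fun h => hsM (hL h)) ?_).cent⟩
  suffices ∀ d j, n - 3 - j = d → 1 ≤ j → j + 2 ≤ n - 1 → s ∉ twoStepCentralizer G j from
    fun j => this _ j rfl
  intro d
  induction d using Nat.strong_induction_on with
  | _ d ihd =>
    intro j hd hj hjn hmem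
    rcases Nat.lt_or_ge (d + 1) p with hdp | hdp
    · have h := hs d (by omega)
      simp only [K, if_pos (show d + 1 < p ∧ d < n - 3 by omega),
        show n - 3 - d = j by omega] at h
      exact h hmem
    · exact ihd (n - 3 - (j + p - 1)) (by omega) (j + p - 1) rfl (by omega) (by omega)
        (twoStep_le ht hj (by omega) hmem)

theorem coprime_pow_cent {s : G} {i : ℕ} (hi : ¬ p ∣ i) (hG : IsPGroup p G) :
    centralizer ({s ^ i} : Set G) = centralizer ({s} : Set G) := by
  refine le_antisymm (fun x hx => ?_) (fun x hx => ?_)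
  · obtain ⟨k, hk⟩ := hG s
    have hd : orderOf s ∣ p ^ k := orderOf_dvd_of_pow_eq_one hk
    have hcop : i.Coprime (orderOf s) := Nat.Coprime.coprime_dvd_right hd
      (Nat.Coprime.pow_right k ((hp.1.coprime_iff_not_dvd).2 hi).symm)
    obtain ⟨j, hj⟩ := exists_pow_eq_self_of_coprime hcop
    rw [mem_centralizer_singleton_iff] at hx ⊢
    conv_lhs => rw [← hj]
    conv_rhs => rw [← hj]
    exact (Commute.pow_right hx j).eq
  · rw [mem_centralizer_singleton_iff] at hx ⊢
    exact (Commute.pow_right hx i).eq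

/-- A proper subgroup through a good element `s` has only good elements outside `G'`. -/
theorem card_cent_of_mem (H : MC G p n) {R : Subgroup G} (hR : R ≠ ⊤) {s u : G}
    (hs : s ∉ lcsT G 1) (hc : Nat.card (centralizer ({s} : Set G)) = p ^ 2) (hsR : s ∈ R)
    (huR : u ∈ R) (hu : u ∉ lcsT G 1) : Nat.card (centralizer ({u} : Set G)) = p ^ 2 := by
  classical
  haveI : (lcsT G 1).Normal := lcsT_normal _
  have hE := elt_of_cent H hs hc
  set L := lcsT G 1 with hLdef
  have hne : L ⊔ R ≠ ⊤ := fun h =>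
    hR (frattini_nongenerating (top_le_iff.1 (h.ge.trans (sup_le ((lcs_one_le_frattini H).trans
      le_sup_right) le_sup_left))))
  have hle : L ⊔ zpowers s ≤ L ⊔ R := sup_le_sup_left ((zpowers_le (H := R)).2 hsR) L
  have hlt : L < L ⊔ zpowers s := lt_of_le_of_ne le_sup_left fun h =>
    hs (h.symm ▸ (le_sup_right : zpowers s ≤ L ⊔ zpowers s) (mem_zpowers s))
  have heq : L ⊔ zpowers s = L ⊔ R := by
    obtain ⟨a, ha⟩ := index_eq_pow (IsPGroup.of_card H.card) (L ⊔ zpowers s)
    obtain ⟨b, hb⟩ := index_eq_pow (IsPGroup.of_card H.card) (L ⊔ R)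
    have h1 := index_strictAnti hlt
    rw [ha, hLdef, index_lcs_one H, Nat.pow_lt_pow_iff_right hp.1.one_lt] at h1
    have h2 : b ≠ 0 := fun h0 => hne (index_eq_one.1 (by rw [hb, h0, pow_zero]))
    by_contra hcon
    have h3 := index_strictAnti (lt_of_le_of_ne hle hcon)
    rw [hb, ha, Nat.pow_lt_pow_iff_right hp.1.one_lt] at h3
    omega
  have hu' : u ∈ L ⊔ zpowers s := heq.ge ((le_sup_right : R ≤ L ⊔ R) huR)
  obtain ⟨z, hz, w, hw, rfl⟩ := mem_sup_of_normal_left.1 hu'
  rw [← mem_powers_iff_mem_zpowers] at hw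
  obtain ⟨i, rfl⟩ := hw
  simp only at hu ⊢
  have hi : ¬ p ∣ i := by
    rintro ⟨j, rfl⟩
    refine hu (mul_mem hz ?_)
    rw [pow_mul]
    exact pow_mem (center_le H hE.pow_central) j
  have hsi : Nat.card (centralizer ({s ^ i} : Set G)) = p ^ 2 := by
    rw [coprime_pow_cent hi (IsPGroup.of_card H.card), hc]
  have hsiL : s ^ i ∉ L := fun h => hu (mul_mem hz h)
  obtain ⟨g, hg⟩ := (elt_of_cent H hsiL hsi).exists_conj hz
  rw [← hg, ← hsi]
  have hmap : (centralizer ({s ^ i} : Set G)).map (MulAut.conj g).toMonoidHom =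
      centralizer ({g * s ^ i * g⁻¹} : Set G) := by
    ext x
    simp only [mem_map, mem_centralizer_singleton_iff, MulEquiv.coe_toMonoidHom, MulAut.conj_apply]
    constructor
    · rintro ⟨y, hy, rfl⟩
      calc g * y * g⁻¹ * (g * s ^ i * g⁻¹) = g * (y * s ^ i) * g⁻¹ := by group
        _ = g * (s ^ i * y) * g⁻¹ := by rw [hy]
        _ = _ := by group
    · intro hx
      refine ⟨g⁻¹ * x * g, ?_, by group⟩
      calc g⁻¹ * x * g * s ^ i = g⁻¹ * (x * (g * s ^ i * g⁻¹)) * g := by group
        _ = g⁻¹ * (g * s ^ i * g⁻¹ * x) * g := by rw [hx]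
        _ = _ := by group
  rw [← hmap, card_map_of_injective (MulAut.conj g).injective]

end PGroup

variable {G : Type u} [Group G] [Finite G] {p n : ℕ} [hp : Fact p.Prime]

/-- An element of `P` outside `M` with centralizer of order `p ^ 2` in `P`. -/
def Good (P : Sylow p G) (M : Subgroup ↥(P : Subgroup G)) (a : G) : Prop :=
  ∃ h : a ∈ (P : Subgroup G), (⟨a, h⟩ : ↥(P : Subgroup G)) ∉ M ∧
    Nat.card (centralizer ({⟨a, h⟩} : Set ↥(P : Subgroup G))) = p ^ 2

theorem good_chain (P : Sylow p G) (H : MC ↥(P : Subgroup G) p n) (M : Subgroup ↥(P : Subgroup G))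
    (hL : lcsT ↥(P : Subgroup G) 1 ≤ M) (s : G)
    (hstr : ∀ g : G, ∀ h : g⁻¹ * s * g ∈ (P : Subgroup G), (⟨_, h⟩ : ↥(P : Subgroup G)) ∉ M)
    {A : Set G} {g : G} (hch : CfsgLib.Transfer.FusionChain P A g) :
    ∀ a ∈ A, (∃ g₀ : G, g₀⁻¹ * s * g₀ = a) → Good P M a → Good P M (g⁻¹ * a * g) := by
  induction hch with
  | nil A => exact fun a _ _ h => by simpa using h
  | @cons A g Q x hxN hPt hQt hA _ ih =>
    intro a ha hcls hgood
    obtain ⟨g₀, rfl⟩ := hcls
    set D := (P : Subgroup G) ⊓ (Q : Subgroup G) with hD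
    have hxa : x⁻¹ * (g₀⁻¹ * s * g₀) * x ∈ D := ((mem_normalizer_iff''.1 hxN) _).1 (hA ha)
    have hxP : x⁻¹ * (g₀⁻¹ * s * g₀) * x ∈ (P : Subgroup G) := hxa.1
    have hxM : (⟨_, hxP⟩ : ↥(P : Subgroup G)) ∉ M := by
      have e : x⁻¹ * (g₀⁻¹ * s * g₀) * x = (g₀ * x)⁻¹ * s * (g₀ * x) := by group
      have h := hstr (g₀ * x) (e ▸ hxP)
      simp only [← e] at h
      exact h
    have hnext : Good P M (x⁻¹ * (g₀⁻¹ * s * g₀) * x) := by
      obtain ⟨hmem, hnM, hcard⟩ := hgood
      refine ⟨hxP, hxM, ?_⟩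
      by_cases hDP : D = (P : Subgroup G)
      · rw [hDP] at hxN
        let e : ↥(P : Subgroup G) ≃* ↥(P : Subgroup G) :=
          { toFun := fun y => ⟨x⁻¹ * y * x, (mem_normalizer_iff''.1 hxN _).1 y.2⟩
            invFun := fun y => ⟨x * y * x⁻¹, (mem_normalizer_iff.1 hxN _).1 y.2⟩
            left_inv := fun y => Subtype.ext (by group)
            right_inv := fun y => Subtype.ext (by group)
            map_mul' := fun y z => Subtype.ext (by simp only [coe_mul]; group) }
        have he : (⟨_, hxP⟩ : ↥(P : Subgroup G)) = e ⟨_, hmem⟩ := rfl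
        rw [he, ← hcard]
        have hmap : (centralizer ({⟨_, hmem⟩} : Set ↥(P : Subgroup G))).map e.toMonoidHom =
            centralizer ({e ⟨_, hmem⟩} : Set ↥(P : Subgroup G)) := by
          ext y
          simp only [mem_map, mem_centralizer_singleton_iff, MulEquiv.coe_toMonoidHom]
          constructor
          · rintro ⟨z, hz, rfl⟩
            rw [← map_mul, hz, map_mul]
          · intro hy
            refine ⟨e.symm y, e.injective ?_, e.apply_symm_apply y⟩
            rw [map_mul, map_mul, e.apply_symm_apply]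
            exact hy
        rw [← hmap, card_map_of_injective (f := e.toMonoidHom) e.injective]
      · have hR : D.subgroupOf (P : Subgroup G) ≠ ⊤ := fun h =>
          hDP (le_antisymm inf_le_left (subgroupOf_eq_top.1 h))
        exact card_cent_of_mem H hR (fun h => hnM (hL h)) hcard (mem_subgroupOf.2 (hA ha))
          (mem_subgroupOf.2 hxa) (fun h => hxM (hL h))
    have := ih _ ⟨_, ha, rfl⟩ ⟨g₀ * x, by group⟩ hnext
    rwa [show (x * g)⁻¹ * (g₀⁻¹ * s * g₀) * (x * g) =
      g⁻¹ * (x⁻¹ * (g₀⁻¹ * s * g₀) * x) * g by group]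

/-- A good element none of whose conjugates enters `M` keeps a small centralizer in `G`. -/
theorem factorization_cent (P : Sylow p G) (H : MC ↥(P : Subgroup G) p n)
    (M : Subgroup ↥(P : Subgroup G)) (hL : lcsT ↥(P : Subgroup G) 1 ≤ M)
    {s : ↥(P : Subgroup G)} (hs : s ∉ M)
    (hc : Nat.card (centralizer ({s} : Set ↥(P : Subgroup G))) = p ^ 2)
    (hstr : ∀ g : G, ∀ h : g⁻¹ * s * g ∈ (P : Subgroup G), (⟨_, h⟩ : ↥(P : Subgroup G)) ∉ M) :
    (Nat.card (centralizer ({(s : G)} : Set G))).factorization p = 2 := by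
  set C := centralizer ({(s : G)} : Set G) with hC
  -- a Sylow subgroup of the centralizer, moved into `P`
  let T : Sylow p C := Classical.arbitrary _
  have hT : IsPGroup p ↥((T : Subgroup C).map C.subtype) := T.isPGroup'.map _
  obtain ⟨Q, hQ⟩ := hT.exists_le_sylow
  obtain ⟨g, hg⟩ := MulAction.exists_smul_eq G Q P
  have hmov : ∀ t ∈ (T : Subgroup C).map C.subtype, g * t * g⁻¹ ∈ (P : Subgroup G) := by
    intro t ht
    rw [← hg, Sylow.coe_subgroup_smul]
    exact ⟨t, hQ ht, rfl⟩
  have hsC : (s : G) ∈ C := mem_centralizer_singleton_iff.2 rfl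
  haveI hnorm : (zpowers (⟨(s : G), hsC⟩ : C)).Normal := ⟨fun y hy x => by
    obtain ⟨k, rfl⟩ := mem_zpowers_iff.1 hy
    refine mem_zpowers_iff.2 ⟨k, Subtype.ext ?_⟩
    have hx : Commute (x : G) (s : G) := mem_centralizer_singleton_iff.1 x.2
    simp only [coe_mul, coe_zpow, coe_inv]
    rw [(hx.zpow_right k).eq, mul_inv_cancel_right]⟩
  have hsT : (⟨(s : G), hsC⟩ : C) ∈ (T : Subgroup C) := by
    refine (IsPGroup.le_sylow_of_normal ?_ T) (mem_zpowers _)
    obtain ⟨k, hk⟩ := P.isPGroup' s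
    refine IsPGroup.of_card_dvd_pow (n := k) ?_
    rw [Nat.card_zpowers]
    exact orderOf_dvd_of_pow_eq_one (Subtype.ext (by simpa using congrArg Subtype.val hk))
  have hy : g * (s : G) * g⁻¹ ∈ (P : Subgroup G) := hmov _ ⟨_, hsT, rfl⟩
  -- the image is good
  have hy' : g⁻¹⁻¹ * (s : G) * g⁻¹ ∈ (P : Subgroup G) := by rwa [inv_inv]
  have hchain := CfsgLib.Transfer.fusionChain P (A := {(s : G)}) (g := g⁻¹)
    (Set.singleton_subset_iff.2 s.2) (fun a ha => by rw [Set.mem_singleton_iff.1 ha]; exact hy')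
  obtain ⟨hm, -, hcard⟩ := good_chain P H M hL (s : G) hstr hchain _ rfl ⟨1, by simp⟩
    ⟨s.2, hs, hc⟩
  have hTle : Nat.card (T : Subgroup C) ≤ p ^ 2 := by
    rw [← hcard]
    refine Nat.card_le_card_of_injective
      (fun t => ⟨⟨g * (t : C) * g⁻¹, hmov _ ⟨_, t.2, rfl⟩⟩, mem_centralizer_singleton_iff.2
        (Subtype.ext ?_)⟩) fun a b h => ?_
    · have hx : Commute ((t : C) : G) (s : G) := mem_centralizer_singleton_iff.1 (t : C).2
      show g * ((t : C) : G) * g⁻¹ * (g⁻¹⁻¹ * s * g⁻¹) = g⁻¹⁻¹ * s * g⁻¹ * (g * ((t : C) : G) * g⁻¹)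
      calc g * ((t : C) : G) * g⁻¹ * (g⁻¹⁻¹ * s * g⁻¹) = g * (((t : C) : G) * s) * g⁻¹ := by group
        _ = g * ((s : G) * (t : C)) * g⁻¹ := by rw [hx.eq]
        _ = _ := by group
    · simp only [Subtype.mk.injEq] at h
      exact Subtype.ext (Subtype.ext (by simpa using h))
  have hdvd : p ^ 2 ∣ Nat.card C := by
    rw [← hc]
    let f : ↥(centralizer ({s} : Set ↥(P : Subgroup G))) →* C :=
      (((P : Subgroup G).subtype).comp (Subgroup.subtype _)).codRestrict C fun y =>
        mem_centralizer_singleton_iff.2 (congrArg Subtype.val (mem_centralizer_singleton_iff.1 y.2))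
    refine card_dvd_of_injective f fun a b h => ?_
    exact Subtype.ext (Subtype.ext (congrArg Subtype.val h :))
  have h1 := (hp.1.pow_dvd_iff_le_factorization Nat.card_pos.ne').1 hdvd
  rw [T.card_eq_multiplicity, Nat.pow_le_pow_iff_right hp.1.one_lt] at hTle
  omega

end CfsgLib.FgsC.MaxClassSylow
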