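import Cfsg.Agent.Lib.PLocal.RegularMetacyclic
import Cfsg.Agent.Lib.PGroups.MaximalClass
import Cfsg.Agent.Lib.PGroups.Commutator
import Cfsg.Agent.Lib.PGroups.UniqueOrderP
import Cfsg.Prelude.Def_OddOrderLocal

/-!
# Automorphisms of order `p` of metacyclic `p`-groups moving an element of order `p`
-/

set_option autoImplicit false
set_option linter.style.haveILetI false

namespace CfsgLib.MetaMove

open Subgroup
open CfsgLib.PLocal
open scoped commutatorElement

variable {p : ℕ} [hp : Fact p.Prime] {L : Type*} [Group L] [Finite L]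

theorem isCyclic_commutator_of_metacyclic (hmc : Cfsg.IsMetacyclic L) :
    IsCyclic (commutator L) := by
  obtain ⟨N, hN, hNc, hQc⟩ := hmc
  haveI := hNc
  have hle : commutator L ≤ N := by
    refine (Subgroup.Normal.quotient_commutative_iff_commutator_le).1 ?_
    letI := IsCyclic.commGroup (α := L ⧸ N)
    exact ⟨⟨mul_comm⟩⟩
  exact isCyclic_of_injective (Subgroup.inclusion hle) (Subgroup.inclusion_injective hle)

theorem pRegular_of_cyclic_commutator (hp2 : p ≠ 2) (hL : IsPGroup p L) (hc : IsCyclic (commutator L)) :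
    PRegular p L := by
  intro a b
  set K := closure ({a, b} : Set L) with hK
  set M := Cfsg.powerClosure p 1 (commutator K) with hM
  haveI : M.Normal := powerClosure_normal (commutator K)
  let π := QuotientGroup.mk' M
  set A : K := ⟨a, subset_closure (Or.inl rfl)⟩
  set B : K := ⟨b, subset_closure (Or.inr rfl)⟩
  have hKc : IsCyclic (commutator K) := by
    haveI := hc
    have h : (commutator K).map K.subtype ≤ commutator L := by
      rw [map_subtype_commutator]; exact commutator_mono le_top le_top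
    exact (Subgroup.equivMapOfInjective (commutator K) K.subtype K.subtype_injective).isCyclic.2
      (isCyclic_of_injective (Subgroup.inclusion h) (Subgroup.inclusion_injective h))
  set D := (commutator K).map π with hD
  have hDc : IsCyclic D := by
    haveI := hKc
    exact isCyclic_of_surjective (π.subgroupMap (commutator K)) (π.subgroupMap_surjective _)
  have hDexp : ∀ d ∈ D, d ^ p = 1 := by
    rintro _ ⟨x, hx, rfl⟩
    rw [← map_pow, QuotientGroup.mk'_apply, QuotientGroup.eq_one_iff]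
    simpa using pow_mem_powerClosure (p := p) (n := 1) hx
  have hDcard : Nat.card D ∣ p := by
    obtain ⟨g, hg⟩ := hDc.exists_generator
    rw [← orderOf_eq_card_of_forall_mem_zpowers hg]
    exact orderOf_dvd_of_pow_eq_one (Subtype.ext (hDexp g g.2))
  haveI : D.Normal := Subgroup.Normal.map inferInstance π (QuotientGroup.mk'_surjective M)
  have hDcen : D ≤ center (K ⧸ M) := by
    intro d hd
    rcases (Nat.dvd_prime hp.out).1 hDcard with h | h
    · rw [Subgroup.eq_bot_of_card_eq D h, mem_bot] at hd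
      rw [hd]; exact one_mem _
    · by_cases hd1 : d = 1
      · rw [hd1]; exact one_mem _
      · have hne : D ≠ ⊥ := fun e => hd1 (by rwa [e, mem_bot] at hd)
        have hle := CfsgLib.PGroups.inf_center_ne_bot ((hL.to_subgroup K).to_quotient M) hne
        have heq : D ⊓ center (K ⧸ M) = D := by
          refine Subgroup.eq_of_le_of_card_ge inf_le_left ?_
          have h1 := Subgroup.card_dvd_of_le (inf_le_left : D ⊓ center (K ⧸ M) ≤ D)
          rcases (Nat.dvd_prime hp.out).1 (h ▸ h1) with h2 | h2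
          · exact absurd (Subgroup.eq_bot_of_card_eq _ h2) hle
          · rw [h2, h]
        exact (Subgroup.mem_inf.1 (heq.ge hd)).2
  have hBA : ⁅π B, π A⁆ ∈ D := ⟨⁅B, A⁆, commutator_mem_commutator (mem_top _) (mem_top _),
    map_commutatorElement π B A⟩
  have h := CfsgLib.PGroups.mul_pow_of_central (hDcen hBA) p
  obtain ⟨k, hk⟩ : p ∣ p.choose 2 :=
    hp.out.dvd_choose_self two_ne_zero (lt_of_le_of_ne hp.out.two_le (Ne.symm hp2))
  rw [hk, pow_mul, hDexp _ hBA, one_pow, mul_one, ← map_mul, ← map_pow, ← map_pow, ← map_pow,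
    ← map_mul] at h
  have hm : (A ^ p * B ^ p)⁻¹ * (A * B) ^ p ∈ M := QuotientGroup.eq.1 h.symm
  refine ⟨(((A ^ p * B ^ p)⁻¹ * (A * B) ^ p : K) : L), ?_, ?_⟩
  · have h2 := mem_map_of_mem K.subtype hm
    rwa [hM, map_powerClosure, map_subtype_commutator] at h2
  · show (a * b) ^ p = a ^ p * b ^ p * ((a ^ p * b ^ p)⁻¹ * (a * b) ^ p)
    rw [mul_inv_cancel_left]

/-- What is used about the group. -/
structure Setting (p : ℕ) (L : Type*) [Group L] (E W : Subgroup L) : Prop where
  memE : ∀ g, g ∈ E ↔ g ^ p = 1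
  memW : ∀ g, g ∈ W ↔ g ^ p ^ 2 = 1
  cardE : Nat.card E = p ^ 2
  root : ∀ e ∈ E, ∃ w ∈ W, e = w ^ p
  comm : ∀ g ∈ W, ∀ h ∈ W, ⁅g, h⁆ ∈ E
  cent : ∀ e ∈ E, ∀ h ∈ W, e * h = h * e
  regular : ∀ g h : L, g ^ p * h = h * g ^ p ↔ (g⁻¹ * h⁻¹ * g * h) ^ p = 1

theorem setting (hp2 : p ≠ 2) (hL : IsPGroup p L) (hmc : Cfsg.IsMetacyclic L)
    (hnc : ∀ C : Subgroup L, IsCyclic C → C.index ≠ p) (hnt : Nontrivial L) :
    ∃ E W : Subgroup L, Setting p L E W := by
  classical
  have hR := pRegular_of_cyclic_commutator hp2 hL (isCyclic_commutator_of_metacyclic hmc)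
  set E := omegaPow hL hR 1 with hEd
  set W := omegaPow hL hR 2 with hWd
  have memE : ∀ g, g ∈ E ↔ g ^ p = 1 := fun g => by
    show g ^ p ^ 1 = 1 ↔ _; rw [pow_one]
  have memW : ∀ g, g ∈ W ↔ g ^ p ^ 2 = 1 := fun g => Iff.rfl
  set P := Cfsg.powerClosure p 1 (⊤ : Subgroup L) with hP
  haveI : P.Normal := powerClosure_normal _
  have hidx : P.index = Nat.card E := index_powerClosure_one hL hR
  have hQexp : ∀ x : L ⧸ P, x ^ p = 1 := fun x => by
    obtain ⟨g, rfl⟩ := QuotientGroup.mk'_surjective P x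
    rw [← map_pow, QuotientGroup.mk'_apply, QuotientGroup.eq_one_iff]
    simpa using pow_mem_powerClosure (p := p) (n := 1) (mem_top g)
  have hle : P.index ≤ p ^ 2 := by
    obtain ⟨N, hN, hNc, hQc⟩ := hmc
    haveI := hN; haveI := hNc; haveI := hQc
    set N' := N.map (QuotientGroup.mk' P)
    haveI : N'.Normal := Subgroup.Normal.map hN _ (QuotientGroup.mk'_surjective P)
    have cyc : ∀ {X : Type _} [Group X] [Finite X], IsCyclic X → (∀ x : X, x ^ p = 1) → Nat.card X ≤ p := by
      intro X _ _ hc hx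
      obtain ⟨g, hg⟩ := hc.exists_generator
      rw [← orderOf_eq_card_of_forall_mem_zpowers hg]
      exact Nat.le_of_dvd hp.out.pos (orderOf_dvd_of_pow_eq_one (hx g))
    have h1 : Nat.card N' ≤ p := cyc
      (isCyclic_of_surjective ((QuotientGroup.mk' P).subgroupMap N) ((QuotientGroup.mk' P).subgroupMap_surjective N))
      fun x => Subtype.ext (hQexp x)
    have h2 : N'.index ≤ p := by
      rw [Subgroup.index_eq_card]
      refine cyc (isCyclic_of_surjective
        (QuotientGroup.lift N ((QuotientGroup.mk' N').comp (QuotientGroup.mk' P)) fun x hx =>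
          (QuotientGroup.eq_one_iff _).2 (mem_map_of_mem _ hx))
        (QuotientGroup.lift_surjective_of_surjective N _
          ((QuotientGroup.mk'_surjective N').comp (QuotientGroup.mk'_surjective P)) _)) fun x => ?_
      obtain ⟨y, rfl⟩ := QuotientGroup.mk'_surjective N' x
      rw [← map_pow, hQexp, map_one]
    rw [Subgroup.index_eq_card, ← N'.card_mul_index, pow_two]
    exact Nat.mul_le_mul h1 h2
  have hncyc : ¬ IsCyclic L := by
    intro hc
    obtain ⟨g, hg⟩ := hc.exists_generator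
    refine hnc (zpowers (g ^ p)) inferInstance ?_
    obtain ⟨k, hk⟩ := IsPGroup.iff_card.1 hL
    have hog : orderOf g = p ^ k := by rw [orderOf_eq_card_of_forall_mem_zpowers hg, hk]
    have hk0 : k ≠ 0 := by
      rintro rfl
      rw [pow_zero] at hk
      exact (Finite.one_lt_card (α := L)).ne' hk
    have hm := (zpowers (g ^ p)).card_mul_index
    rw [Nat.card_zpowers, orderOf_pow' _ hp.out.ne_zero, hog, hk, Nat.gcd_eq_right (dvd_pow_self p hk0)] at hm
    obtain ⟨j, rfl⟩ := Nat.exists_eq_succ_of_ne_zero hk0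
    rw [pow_succ, Nat.mul_div_cancel _ hp.out.pos] at hm
    exact Nat.eq_of_mul_eq_mul_left (pow_pos hp.out.pos j) hm
  obtain ⟨i, hi⟩ := hL.index P
  have hcardE : Nat.card E = p ^ 2 := by
    rw [← hidx, hi]
    rw [hi, Nat.pow_le_pow_iff_right hp.out.one_lt] at hle
    rcases (show i ≤ 1 ∨ i = 2 by omega) with h | h
    · exfalso
      refine hncyc ?_
      haveI : IsCyclic (L ⧸ P) := by
        rcases (show i = 0 ∨ i = 1 by omega) with rfl | rfl
        · haveI : Subsingleton (L ⧸ P) := (Nat.card_eq_one_iff_unique.1 (by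
            rw [← Subgroup.index_eq_card, hi, pow_zero])).1
          exact isCyclic_of_subsingleton
        · exact isCyclic_of_prime_card (α := L ⧸ P) (p := p) (by rw [← Subgroup.index_eq_card, hi, pow_one])
      obtain ⟨x, hx⟩ := IsCyclic.exists_generator (α := L ⧸ P)
      obtain ⟨g, rfl⟩ := QuotientGroup.mk'_surjective P x
      refine isCyclic_iff_exists_zpowers_eq_top.2 ⟨g, ?_⟩
      haveI : Group.IsNilpotent L := hL.isNilpotent
      refine frattini_nongenerating (eq_top_iff.2 fun y _ => ?_)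
      obtain ⟨j, hj⟩ := mem_zpowers_iff.1 (hx (QuotientGroup.mk' P y))
      have hm : (g ^ j)⁻¹ * y ∈ P := by
        rw [← QuotientGroup.eq_one_iff, ← QuotientGroup.mk'_apply P, map_mul, map_inv, map_zpow, hj,
          inv_mul_cancel]
      have hPf : P ≤ frattini L := (closure_le _).2 fun z hz => by
        obtain ⟨w, -, rfl⟩ := hz
        rw [pow_one]; exact CfsgLib.PGroups.pow_mem_frattini hL w
      simpa using mul_mem (mem_sup_left (zpow_mem (mem_zpowers g) j)) (mem_sup_right (hPf hm))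
    · rw [h]
  have hEP : E ≤ P := by
    by_contra hne
    have hlt : E ⊓ P < E := inf_lt_left.2 hne
    have hEP1 : Nat.card ↥(E ⊓ P) ≤ p := by
      have hd := Subgroup.card_dvd_of_le hlt.le
      rw [hcardE] at hd
      obtain ⟨j, hj, he⟩ := (Nat.dvd_prime_pow hp.out).1 hd
      have : j ≠ 2 := fun e => hlt.ne (Subgroup.eq_of_le_of_card_ge hlt.le (by rw [he, e, hcardE]))
      rw [he]
      exact (Nat.pow_le_pow_right hp.out.pos (show j ≤ 1 by omega)).trans (pow_one p).le
    by_cases hP1 : P = ⊥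
    · refine hnc ⊥ inferInstance ?_
      exfalso
      obtain ⟨g, hg⟩ := exists_ne (1 : L)
      refine hnc (zpowers g) inferInstance ?_
      have h1 : Nat.card L = p ^ 2 := by rw [← hcardE, ← hidx, hP1, Subgroup.index_bot]
      have hm := (zpowers g).card_mul_index
      have ho : orderOf g = p := orderOf_eq_prime (by
        have : g ^ p ∈ P := by simpa using pow_mem_powerClosure (p := p) (n := 1) (mem_top g)
        rwa [hP1, mem_bot] at this) hg
      rw [Nat.card_zpowers, ho, h1, pow_two] at hm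
      exact Nat.eq_of_mul_eq_mul_left hp.out.pos hm
    have hPc : IsCyclic P := by
      haveI : Nontrivial P := (Subgroup.nontrivial_iff_ne_bot P).2 hP1
      obtain ⟨k, hk⟩ := IsPGroup.iff_card.1 (hL.to_subgroup P)
      have hd : p ∣ Nat.card P := by
        rw [hk]
        refine dvd_pow_self p fun h0 => ?_
        rw [h0, pow_zero] at hk
        exact (Finite.one_lt_card (α := P)).ne' hk
      obtain ⟨z₀, hz₀⟩ := exists_prime_orderOf_dvd_card' p hd
      refine (CfsgLib.PGroups.isCyclic_or_quaternion_of_unique (hL.to_subgroup P) (z := z₀)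
        (orderOf_dvd_iff_pow_eq_one.1 hz₀.dvd) fun y hy => ?_).resolve_right fun h => hp2 h.1
      have hzEP : (z₀ : L) ∈ E ⊓ P := mem_inf.2 ⟨(memE _).2 (by
        rw [← SubmonoidClass.coe_pow, orderOf_dvd_iff_pow_eq_one.1 hz₀.dvd, OneMemClass.coe_one]), z₀.2⟩
      have heq : zpowers (z₀ : L) = E ⊓ P := Subgroup.eq_of_le_of_card_ge (zpowers_le.2 hzEP) (by
        rw [Nat.card_zpowers, Subgroup.orderOf_coe, hz₀]; exact hEP1)
      have hy' : (y : L) ∈ zpowers (z₀ : L) := heq ▸ mem_inf.2 ⟨(memE _).2 (by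
        rw [← SubmonoidClass.coe_pow, hy, OneMemClass.coe_one]), y.2⟩
      obtain ⟨j, hj⟩ := mem_zpowers_iff.1 hy'
      exact mem_zpowers_iff.2 ⟨j, Subtype.ext (by simpa using hj)⟩
    obtain ⟨⟨z, hzP⟩, hz⟩ := hPc.exists_generator
    obtain ⟨x, -, hx⟩ := powerClosure_eq hL hR 1 ⊤ z hzP
    rw [pow_one] at hx
    have hPz : P = zpowers z := by
      refine le_antisymm (fun y hy => ?_) (zpowers_le.2 hzP)
      obtain ⟨j, hj⟩ := mem_zpowers_iff.1 (hz ⟨y, hy⟩)
      exact mem_zpowers_iff.2 ⟨j, by simpa using congrArg Subtype.val hj⟩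
    refine hnc (zpowers x) inferInstance ?_
    have hm := P.card_mul_index
    rw [hidx, hcardE, hPz, Nat.card_zpowers] at hm
    have hx1 : z ≠ 1 := fun e => hP1 (by rw [hPz, e, zpowers_one_eq_bot])
    obtain ⟨j, hj⟩ := IsPGroup.iff_orderOf.1 hL x
    have hj0 : j ≠ 0 := by
      rintro rfl
      rw [pow_zero, orderOf_eq_one_iff] at hj
      exact hx1 (by rw [hx, hj, one_pow])
    obtain ⟨j, rfl⟩ := Nat.exists_eq_succ_of_ne_zero hj0
    have hz' : orderOf z = p ^ j := by
      rw [hx, orderOf_pow' _ hp.out.ne_zero, hj, Nat.gcd_eq_right (dvd_pow_self p (Nat.succ_ne_zero j)),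
        pow_succ, Nat.mul_div_cancel _ hp.out.pos]
    have hm' := (zpowers x).card_mul_index
    rw [Nat.card_zpowers, hj, ← hm, hz'] at hm'
    exact Nat.eq_of_mul_eq_mul_left (pow_pos hp.out.pos (j + 1)) (hm'.trans (by ring))
  have hroot : ∀ e ∈ E, ∃ w ∈ W, e = w ^ p := fun e he => by
    obtain ⟨w, -, hw⟩ := powerClosure_eq hL hR 1 ⊤ e (hEP he)
    rw [pow_one] at hw
    refine ⟨w, (memW w).2 ?_, hw⟩
    rw [pow_two, pow_mul, ← hw]; exact (memE e).1 he
  have hcomm : ∀ g ∈ W, ∀ h ∈ W, ⁅g, h⁆ ∈ E := by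
    set E' := E.subgroupOf W with hE'
    haveI : E'.Normal := ⟨fun x hx g => by
      rw [hE', mem_subgroupOf] at hx ⊢
      rw [memE] at hx ⊢
      push_cast
      rw [conj_pow, hx, mul_one, mul_inv_cancel]⟩
    have hf : ∀ g : W, (g : L) ^ p ∈ E := fun g => (memE _).2 (by
      rw [← pow_mul, ← pow_two]; exact (memW _).1 g.2)
    have hiff : ∀ g h : W, (g : L) ^ p = (h : L) ^ p ↔ g⁻¹ * h ∈ E' := fun g h => by
      have := pow_eq_pow_iff hL hR 1 (g : L) (h : L)
      rw [pow_one] at this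
      rw [hE', mem_subgroupOf, memE]; exact this
    let f : W ⧸ E' → E := Quotient.lift (fun g => ⟨(g : L) ^ p, hf g⟩) fun g h hgh =>
      Subtype.ext ((hiff g h).2 (QuotientGroup.leftRel_apply.1 hgh))
    have hinj : Function.Injective f := by
      intro x y
      induction x using QuotientGroup.induction_on with
      | _ g =>
        induction y using QuotientGroup.induction_on with
        | _ h => exact fun e => QuotientGroup.eq.2 ((hiff g h).1 (congrArg Subtype.val e))
    have hcard : Nat.card (W ⧸ E') ≤ p ^ 2 := hcardE ▸ Nat.card_le_card_of_injective f hinj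
    obtain ⟨k, hk⟩ := IsPGroup.iff_card.1 ((hL.to_subgroup W).to_quotient E')
    rw [hk, Nat.pow_le_pow_iff_right hp.out.one_lt] at hcard
    haveI hcom : IsMulCommutative (W ⧸ E') := by
      interval_cases k
      · have : Subsingleton (W ⧸ E') := (Nat.card_eq_one_iff_unique.1 (by rw [hk, pow_zero])).1
        exact ⟨⟨fun u v => Subsingleton.elim _ _⟩⟩
      · haveI := isCyclic_of_prime_card (α := W ⧸ E') (p := p) (by rw [hk, pow_one])
        infer_instance
      · exact IsPGroup.isMulCommutative_of_card_eq_prime_sq (p := p) hk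
    intro g hg h hh
    have := (Subgroup.Normal.quotient_commutative_iff_commutator_le).1 hcom
      (commutator_mem_commutator (mem_top (⟨g, hg⟩ : W)) (mem_top (⟨h, hh⟩ : W)))
    exact mem_subgroupOf.1 this
  have hreg : ∀ g h : L, g ^ p * h = h * g ^ p ↔ (g⁻¹ * h⁻¹ * g * h) ^ p = 1 := fun g h => by
    simpa using pow_comm_iff hL hR 1 g h
  refine ⟨E, W, memE, memW, hcardE, hroot, hcomm, ?_, hreg⟩
  intro e he h hh
  obtain ⟨w, hw, rfl⟩ := hroot e he
  rw [hreg]
  have := hcomm _ (W.inv_mem hw) _ (W.inv_mem hh)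
  rw [memE, commutatorElement_def, inv_inv, inv_inv] at this
  exact this

variable {E W : Subgroup L} (S : Setting p L E W)
include S

theorem Setting.le : E ≤ W := fun e he => (S.memW e).2 (by
  rw [pow_two, pow_mul, (S.memE e).1 he, one_pow])

theorem Setting.mul_pow (hp2 : p ≠ 2) {g h : L} (hg : g ∈ W) (hh : h ∈ W) : (g * h) ^ p = g ^ p * h ^ p := by
  have hc : ⁅(⟨h, hh⟩ : W), (⟨g, hg⟩ : W)⁆ ∈ center W := mem_center_iff.2 fun v =>
    Subtype.ext (S.cent _ (S.comm h hh g hg) v v.2).symm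
  have h1 := congrArg Subtype.val (CfsgLib.PGroups.mul_pow_of_central hc p)
  obtain ⟨k, hk⟩ : p ∣ p.choose 2 :=
    hp.out.dvd_choose_self two_ne_zero (lt_of_le_of_ne hp.out.two_le (Ne.symm hp2))
  simp only [Subgroup.coe_mul, SubmonoidClass.coe_pow] at h1
  rw [h1]
  have h2 : ((⁅(⟨h, hh⟩ : W), (⟨g, hg⟩ : W)⁆ : W) : L) = ⁅h, g⁆ := rfl
  rw [h2, hk, pow_mul, (S.memE _).1 (S.comm h hh g hg), one_pow, mul_one]

theorem Setting.mapE (a : MulAut L) {g : L} (hg : g ∈ E) : a g ∈ E := by
  rw [S.memE] at hg ⊢; rw [← map_pow, hg, map_one]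

theorem Setting.mapW (a : MulAut L) {g : L} (hg : g ∈ W) : a g ∈ W := by
  rw [S.memW] at hg ⊢; rw [← map_pow, hg, map_one]

/-- The displacement. -/
def disp (a : MulAut L) (g : L) : L := g⁻¹ * a g

omit S in
theorem apply_eq (a : MulAut L) (g : L) : a g = g * disp a g := by rw [disp, mul_inv_cancel_left]

theorem Setting.dispE (a : MulAut L) {g : L} (hg : g ∈ E) : disp a g ∈ E :=
  E.mul_mem (E.inv_mem hg) (S.mapE a hg)

theorem Setting.dispW (a : MulAut L) {g : L} (hg : g ∈ W) : disp a g ∈ W :=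
  W.mul_mem (W.inv_mem hg) (S.mapW a hg)

theorem Setting.disp_mul (a : MulAut L) {g h : L} (hg : g ∈ E) (hh : h ∈ E) :
    disp a (g * h) = disp a g * disp a h := by
  have hc : g⁻¹ * a g ∈ E := S.dispE a hg
  show (g * h)⁻¹ * a (g * h) = g⁻¹ * a g * (h⁻¹ * a h)
  rw [map_mul, mul_inv_rev, ← mul_assoc (g⁻¹ * a g), S.cent _ hc _ (S.le (E.inv_mem hh))]
  group

/-- The displacement on `E`. -/
def Setting.dispHom (a : MulAut L) : E →* E :=
  MonoidHom.mk' (fun g => ⟨disp a g, S.dispE a g.2⟩) fun g h => Subtype.ext (S.disp_mul a g.2 h.2)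

/-- The facts on `E`: image in the fixed points, and of order at most `p`. -/
theorem Setting.disp_disp (a : MulAut L) (ha : orderOf a = p) :
    (∀ e ∈ E, disp a (disp a e) = 1) ∧
      ∀ e₁ ∈ E, disp a e₁ ≠ 1 → ∀ f ∈ E, a f = f →
        f ∈ zpowers (disp a e₁) ∧ Nat.card (S.dispHom a).ker = p := by
  classical
  set δ := S.dispHom a with hδd
  have hδ : ∀ g : E, ((δ g : E) : L) = disp a g := fun g => rfl
  have hker : ∀ g : E, g ∈ δ.ker ↔ a g = g := fun g => by
    rw [MonoidHom.mem_ker, Subtype.ext_iff, hδ]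
    exact ⟨fun h => by rw [apply_eq a (g : L), h]; simp, fun h => by simp [disp, h]⟩
  have hEcard := S.cardE
  have hprod : Nat.card δ.ker * Nat.card δ.range = p ^ 2 := by
    rw [← hEcard, ← δ.ker.card_mul_index, Subgroup.index_ker]
  -- a fixed point besides the identity
  let A := zpowers a
  letI : MulAction A E :=
    { smul := fun α g => ⟨(α : MulAut L) g, S.mapE _ g.2⟩
      one_smul := fun g => rfl
      mul_smul := fun α β g => rfl }
  have hA : IsPGroup p A := IsPGroup.of_card (n := 1) (by rw [Nat.card_zpowers, ha, pow_one])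
  have hfix : p ∣ Nat.card δ.ker := by
    have h := hA.card_modEq_card_fixedPoints E
    have he : Nat.card (MulAction.fixedPoints A E) = Nat.card δ.ker := by
      refine Nat.card_congr (Equiv.subtypeEquivRight fun g => ?_)
      rw [MulAction.mem_fixedPoints, hker]
      refine ⟨fun h => congrArg Subtype.val (h ⟨a, mem_zpowers a⟩), fun h α => Subtype.ext ?_⟩
      have : zpowers a ≤ MulAction.stabilizer (MulAut L) (g : L) := zpowers_le.2 h
      exact this α.2
    rw [he, hEcard] at h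
    exact (Nat.modEq_zero_iff_dvd).1 (h.symm.trans ((Nat.modEq_zero_iff_dvd).2 (dvd_pow_self p two_ne_zero)))
  have hrange : Nat.card δ.range ∣ p := by
    obtain ⟨k, hk⟩ := hfix
    refine Dvd.intro_left k (Nat.eq_of_mul_eq_mul_left hp.out.pos ?_)
    rw [← mul_assoc, ← hk, hprod, pow_two]
  have hrfix : ∀ g ∈ δ.range, a (g : L) = g := by
    intro g hg
    rcases (Nat.dvd_prime hp.out).1 hrange with h | h
    · rw [Subgroup.eq_bot_of_card_eq _ h, mem_bot] at hg
      rw [hg, OneMemClass.coe_one, map_one]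
    · by_cases hg1 : g = 1
      · rw [hg1, OneMemClass.coe_one, map_one]
      haveI := isCyclic_of_prime_card h
      have hinv : a (g : L) ∈ zpowers (g : L) := by
        obtain ⟨e, he⟩ := hg
        have hmem : (⟨a g, S.mapE a g.2⟩ : E) ∈ δ.range := ⟨⟨a e, S.mapE a e.2⟩, Subtype.ext (by
          show disp a (a e) = a g
          rw [show (g : L) = disp a e from congrArg Subtype.val he.symm]
          show _ = a ((e : L)⁻¹ * a e)
          rw [map_mul, map_inv]; rfl)⟩
        have hgen := mem_zpowers_of_prime_card h (g := (⟨g, ⟨e, he⟩⟩ : δ.range))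
          (g' := ⟨_, hmem⟩) (fun hh => hg1 (congrArg Subtype.val hh))
        obtain ⟨j, hj⟩ := mem_zpowers_iff.1 hgen
        exact mem_zpowers_iff.2 ⟨j, congrArg (fun z : δ.range => ((z : E) : L)) hj⟩
      obtain ⟨i, hi⟩ := mem_zpowers_iff.1 hinv
      have hord : orderOf (g : L) = p := orderOf_eq_prime ((S.memE _).1 g.2) fun h' => hg1 (Subtype.ext h')
      have hpw : ∀ n : ℕ, (a ^ n) (g : L) = (g : L) ^ (i ^ n) := by
        intro n
        induction n with
        | zero => simp
        | succ n ih => rw [pow_succ', MulAut.mul_apply, ih, map_zpow, ← hi, ← zpow_mul, pow_succ']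
      have h1 := hpw p
      rw [orderOf_dvd_iff_pow_eq_one.1 ha.dvd, MulAut.one_apply] at h1
      have h2 : ((i ^ p : ℤ) : ZMod p) = ((1 : ℤ) : ZMod p) := by
        rw [ZMod.intCast_eq_intCast_iff, Int.modEq_iff_dvd]
        have : ((orderOf (g : L) : ℕ) : ℤ) ∣ 1 - i ^ p := by
          rw [orderOf_dvd_iff_zpow_eq_one, zpow_sub, zpow_one, ← h1, mul_inv_cancel]
        rwa [hord] at this
      push_cast at h2
      rw [ZMod.pow_card] at h2
      have h3 : ((orderOf (g : L) : ℕ) : ℤ) ∣ i - 1 := by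
        rw [hord, ← ZMod.intCast_zmod_eq_zero_iff_dvd]; push_cast; rw [h2, sub_self]
      rw [orderOf_dvd_iff_zpow_eq_one, zpow_sub, zpow_one, hi, mul_inv_eq_one] at h3
      exact h3
  refine ⟨fun e he => ?_, fun e₁ he₁ hne f hf haf => ?_⟩
  · show (disp a e)⁻¹ * a (disp a e) = 1
    rw [hrfix ⟨disp a e, S.dispE a he⟩ ⟨⟨e, he⟩, rfl⟩, inv_mul_cancel]
  · set g₁ : δ.range := ⟨δ ⟨e₁, he₁⟩, ⟨_, rfl⟩⟩
    have hg₁ : g₁ ≠ 1 := fun h => hne (congrArg (fun z : δ.range => ((z : E) : L)) h)
    have hr : Nat.card δ.range = p := ((Nat.dvd_prime hp.out).1 hrange).resolve_left fun h => by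
      haveI : Subsingleton δ.range := (Nat.card_eq_one_iff_unique.1 h).1
      exact hg₁ (Subsingleton.elim _ _)
    have hk : Nat.card δ.ker = p := by
      rw [hr, pow_two] at hprod
      exact Nat.eq_of_mul_eq_mul_right hp.out.pos hprod
    refine ⟨?_, hk⟩
    have hle : δ.range ≤ δ.ker := fun g hg => (hker g).2 (hrfix g hg)
    have heq : δ.range = δ.ker := Subgroup.eq_of_le_of_card_ge hle (by rw [hk, hr])
    have hmem : (⟨f, hf⟩ : E) ∈ δ.range := heq ▸ (hker _).2 haf
    obtain ⟨j, hj⟩ := mem_zpowers_iff.1 (mem_zpowers_of_prime_card hr hg₁ (g' := ⟨_, hmem⟩))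
    exact mem_zpowers_iff.2 ⟨j, congrArg (fun z : δ.range => ((z : E) : L)) hj⟩

/-- The chain `u = [w,a]`, `v = [u,a]`, `t = [v,a]` of an element of `W`. -/
theorem Setting.chain (hp2 : p ≠ 2) (a : MulAut L) (ha : orderOf a = p) {w : L} (hw : w ∈ W) :
    disp a (w ^ p) = disp a w ^ p ∧ disp a (disp a w) ∈ E ∧
      disp a w ^ p * disp a (disp a (disp a w)) ^ p.choose 3 = 1 := by
  set u := disp a w with hu
  set v := disp a u with hv
  set t := disp a v with ht
  have huW : u ∈ W := S.dispW a hw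
  have hvW : v ∈ W := S.dispW a huW
  have hwE : w ^ p ∈ E := (S.memE _).2 (by rw [← pow_mul, ← pow_two]; exact (S.memW w).1 hw)
  have huE : u ^ p ∈ E := (S.memE _).2 (by rw [← pow_mul, ← pow_two]; exact (S.memW u).1 huW)
  have key : ∀ g ∈ W, disp a (g ^ p) = disp a g ^ p := fun g hg => by
    show (g ^ p)⁻¹ * a (g ^ p) = _
    rw [map_pow, apply_eq a g, S.mul_pow hp2 hg (S.dispW a hg), inv_mul_cancel_left]
  have h1 := key w hw
  have hvE : v ∈ E := (S.memE v).2 (by
    rw [hv, ← key u huW, hu, ← h1]; exact (S.disp_disp a ha).1 _ hwE)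
  have htE : t ∈ E := S.dispE a hvE
  have hat : a t = t := by rw [apply_eq a t, ht, (S.disp_disp a ha).1 v hvE, mul_one]
  have hav : a v = v * t := apply_eq a v
  have hau : a u = u * v := apply_eq a u
  have hiter : ∀ k : ℕ, (a ^ k) w = w * u ^ k * v ^ k.choose 2 * t ^ k.choose 3 := by
    intro k
    induction k with
    | zero => simp
    | succ k ih =>
      rw [pow_succ', MulAut.mul_apply, ih, map_mul, map_mul, map_mul, map_pow, map_pow, map_pow,
        hat, hav, hau, apply_eq a w, ← hu]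
      have c1 : Commute u v := (S.cent v hvE u huW).symm
      have c2 : Commute v t := (S.cent t htE v (S.le hvE)).symm
      rw [c1.mul_pow, c2.mul_pow, pow_succ', Nat.choose_succ_succ' k 1, Nat.choose_succ_succ' k 2,
        Nat.choose_one_right, pow_add, pow_add]
      simp only [mul_assoc]
  have h2 := hiter p
  rw [orderOf_dvd_iff_pow_eq_one.1 ha.dvd, MulAut.one_apply] at h2
  obtain ⟨k, hk⟩ : p ∣ p.choose 2 :=
    hp.out.dvd_choose_self two_ne_zero (lt_of_le_of_ne hp.out.two_le (Ne.symm hp2))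
  rw [hk, pow_mul, (S.memE v).1 hvE, one_pow, mul_one, mul_assoc, left_eq_mul] at h2
  exact ⟨h1, hvE, h2⟩

/-- Moving an element of order `p` forces `p = 3`, and then the fixed points have order `3`. -/
theorem Setting.moves (hp2 : p ≠ 2) (hL : IsPGroup p L) (a : MulAut L) (ha : orderOf a = p)
    (hx : ∃ x ∈ E, a x ≠ x) :
    p = 3 ∧ ∃ e₁ ∈ E, disp a e₁ ≠ 1 ∧ ∀ l : L, a l = l → l ∈ zpowers (disp a e₁) := by
  obtain ⟨x, hxE, hax⟩ := hx
  have hdx : disp a x ≠ 1 := fun h => hax (by rw [apply_eq a x, h, mul_one])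
  obtain ⟨g, hg, rfl⟩ := S.root x hxE
  obtain ⟨hk1, hvE, hrel⟩ := S.chain hp2 a ha hg
  set u := disp a g with hu
  set v := disp a u with hv
  set t := disp a v with ht
  rw [hk1] at hdx
  have htE : t ∈ E := S.dispE a hvE
  have hp3 : p = 3 := by
    by_contra hne
    obtain ⟨k, hk⟩ : p ∣ p.choose 3 := hp.out.dvd_choose_self (by norm_num) (by
      have h2 := hp.out.two_le
      rcases Nat.lt_or_ge 3 p with h | h
      · exact h
      · omega)
    rw [hk, pow_mul, (S.memE t).1 htE, one_pow, mul_one] at hrel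
    exact hdx hrel
  refine ⟨hp3, g ^ p, hxE, by rwa [hk1], ?_⟩
  rw [hk1]
  intro l hl
  have hEfix : ∀ f ∈ E, a f = f → f ∈ zpowers (u ^ p) := fun f hf haf => by
    have := ((S.disp_disp a ha).2 _ hxE (by rwa [hk1]) f hf haf).1
    rwa [hk1] at this
  by_contra hlE
  -- a fixed element of order `p ^ 2`
  obtain ⟨w, hw, haw, hwE⟩ : ∃ w ∈ W, a w = w ∧ w ^ p ≠ 1 := by
    obtain ⟨k, hk⟩ := IsPGroup.iff_orderOf.1 hL l
    have hk2 : 2 ≤ k := by
      by_contra h
      refine hlE (hEfix l ((S.memE l).2 (orderOf_dvd_iff_pow_eq_one.1 ?_)) hl)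
      rw [hk]; exact (pow_dvd_pow p (show k ≤ 1 by omega)).trans (pow_one p).dvd
    refine ⟨l ^ p ^ (k - 2), (S.memW _).2 ?_, by rw [map_pow, hl], fun h => ?_⟩
    · rw [← pow_mul, ← pow_add, Nat.sub_add_cancel hk2, ← hk, pow_orderOf_eq_one]
    · rw [← pow_mul, ← pow_succ, ← orderOf_dvd_iff_pow_eq_one, hk,
        Nat.pow_dvd_pow_iff_le_right hp.out.one_lt] at h
      omega
  have hwpE : w ^ p ∈ E := (S.memE _).2 (by rw [← pow_mul, ← pow_two]; exact (S.memW w).1 hw)
  obtain ⟨i, hi⟩ := mem_zpowers_iff.1 (hEfix _ hwpE (by rw [map_pow, haw]))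
  have huW : u ∈ W := S.dispW a hg
  obtain ⟨j, hj⟩ : ∃ j : ℕ, (u ^ p) ^ j = w ^ p :=
    mem_powers_iff_mem_zpowers.2 (mem_zpowers_iff.2 ⟨i, hi⟩)
  set c := (u ^ j)⁻¹ * w with hc
  have hujW : u ^ j ∈ W := W.pow_mem huW j
  have hcE : c ∈ E := (S.memE c).2 (by
    rw [hc, S.mul_pow hp2 (W.inv_mem hujW) hw, inv_pow, ← pow_mul, mul_comm j, pow_mul, hj, inv_mul_cancel])
  have hw' : w = u ^ j * c := by rw [hc, mul_inv_cancel_left]
  have hdc : v ^ j * disp a c = 1 := by
    have h := haw
    rw [hw', map_mul, map_pow, apply_eq a u, ← hv, apply_eq a c,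
      (show Commute u v from (S.cent v hvE u huW).symm).mul_pow, mul_assoc (u ^ j)] at h
    have h' := mul_left_cancel h
    rw [← mul_assoc, S.cent _ (E.pow_mem hvE j) c (S.le hcE), mul_assoc, mul_eq_left] at h'
    exact h'
  have ht1 : t ^ j = 1 := by
    have h := congrArg (disp a) hdc
    rw [S.disp_mul a (E.pow_mem hvE j) (S.dispE a hcE), (S.disp_disp a ha).1 c hcE, mul_one] at h
    have hone : disp a (1 : L) = 1 := by simp [disp]
    rw [hone] at h
    rw [← h]
    exact (congrArg Subtype.val (map_pow (S.dispHom a) ⟨v, hvE⟩ j)).symm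
  apply hwE
  rw [← hj]
  have hch : p.choose 3 = 1 := by rw [hp3]; rfl
  rw [hch, pow_one] at hrel
  rw [eq_inv_of_mul_eq_one_left hrel, inv_pow, ht1, inv_one]

end CfsgLib.MetaMove
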