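import Cfsg.Agent.Lib.Coprime.Action2
import Cfsg.Agent.Lib.PGroups.Extraspecial
import Cfsg.Agent.Lib.PGroups.UniqueOrderP
import Cfsg.Agent.Lib.PGroups.MetacyclicTwoAut
import Cfsg.Agent.Lib.Base.MinimalNormal

/-!
# `2`-groups with operators of odd order, minimal with an abelian non-cyclic subgroup of order eight

`X` is a `2`-group normalized but not centralized by `H` of odd order, and no proper `H`-invariant
subgroup of `X` contains a non-cyclic abelian subgroup of order eight.
-/

set_option autoImplicit false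
set_option linter.style.haveILetI false
set_option linter.unusedSectionVars false

open scoped commutatorElement

namespace CfsgLib.FgsC.MinimalEight

variable {S : Type*} [Group S] [Finite S]

/-- No non-cyclic abelian subgroup of order eight. -/
def Small (Y : Subgroup S) : Prop :=
  ∀ A : Subgroup S, A ≤ Y → IsMulCommutative A → ¬ IsCyclic A → Nat.card A ≠ 8

/-- The quaternion group of order eight, by its properties. -/
def Q8 (N : Subgroup S) : Prop :=
  Nat.card N = 8 ∧ ¬ IsMulCommutative N ∧
    ∃ z ∈ N, orderOf z = 2 ∧ ∀ y ∈ N, y * y = 1 → y = 1 ∨ y = z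

/-- The structure theorem. -/
def Shape (X : Subgroup S) : Prop :=
  IsMulCommutative X ∨
    (∃ Y : Subgroup S, Y ≤ X ∧ Y.relIndex X = 2 ∧ Q8 Y ∧
      Y ⊔ (X ⊓ Subgroup.centralizer (Y : Set S)) = X ∧ ¬ Small X) ∨
    Cfsg.IsExtraspecial 2 X ∨
    (Cfsg.IsSpecial 2 X ∧ Nat.card (Subgroup.center X) = 4)

theorem isMulCommutative_of {K : Subgroup S} (h : ∀ a ∈ K, ∀ b ∈ K, a * b = b * a) :
    IsMulCommutative K :=
  ⟨⟨fun a b => Subtype.ext (h a a.2 b b.2)⟩⟩

theorem not_isCyclic_of_involutions {K : Subgroup S} {a b : S} (ha : a ∈ K) (hb : b ∈ K)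
    (ha2 : orderOf a = 2) (hb2 : orderOf b = 2) (hne : a ≠ b) : ¬ IsCyclic K := by
  classical
  intro hc
  haveI := Fintype.ofFinite K
  have h2 : ∀ x (hx : x ∈ K), orderOf x = 2 → (⟨x, hx⟩ : K) ^ 2 = 1 := fun x hx e =>
    Subtype.ext (by rw [Subgroup.coe_pow, ← e, pow_orderOf_eq_one]; rfl)
  have hsub : ({1, ⟨a, ha⟩, ⟨b, hb⟩} : Finset K) ⊆ Finset.univ.filter fun x : K => x ^ 2 = 1 := by
    intro x hx
    simp only [Finset.mem_insert, Finset.mem_singleton] at hx
    rw [Finset.mem_filter]
    refine ⟨Finset.mem_univ _, ?_⟩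
    rcases hx with rfl | rfl | rfl
    exacts [one_pow 2, h2 a ha ha2, h2 b hb hb2]
  have h1a : (1 : K) ≠ ⟨a, ha⟩ := fun e => by
    have : a = 1 := (congrArg Subtype.val e).symm
    rw [this, orderOf_one] at ha2; omega
  have h1b : (1 : K) ≠ ⟨b, hb⟩ := fun e => by
    have : b = 1 := (congrArg Subtype.val e).symm
    rw [this, orderOf_one] at hb2; omega
  have hab : (⟨a, ha⟩ : K) ≠ ⟨b, hb⟩ := fun e => hne (congrArg Subtype.val e)
  have h3 := Finset.card_le_card hsub
  rw [Finset.card_insert_of_notMem (by simp [h1a, h1b]), Finset.card_pair hab] at h3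
  have h4 := IsCyclic.card_pow_eq_one_le (α := K) (n := 2) two_pos
  omega

/-- A non-cyclic abelian `2`-group of order at least eight has a non-cyclic subgroup of order eight. -/
theorem card_le_four_of_small {Y K : Subgroup S} (hY : Small Y) (hKY : K ≤ Y) (hK : IsPGroup 2 K)
    (hKc : IsMulCommutative K) (hKn : ¬ IsCyclic K) : Nat.card K = 4 ∧ ∀ y ∈ K, y * y = 1 := by
  classical
  obtain ⟨k, hk⟩ := IsPGroup.iff_card.1 hK
  haveI := hKc
  have hk2 : 2 ≤ k := by
    by_contra hlt
    interval_cases k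
    · haveI := (Nat.card_eq_one_iff_unique.1 (hk.trans (pow_zero 2))).1
      exact hKn inferInstance
    · exact hKn (isCyclic_of_prime_card (p := 2) (hk.trans (pow_one 2)))
  -- two involutions
  have hex : ∀ z : K, z ^ 2 = 1 → ∃ y : K, y ^ 2 = 1 ∧ y ∉ Subgroup.zpowers z := by
    intro z hz
    by_contra hcon
    push Not at hcon
    exact hKn (CfsgLib.PGroups.isCyclic_of_abelian_of_unique hK hcon hz)
  obtain ⟨a, ha, ha1⟩ := hex 1 (one_pow 2)
  obtain ⟨b, hb, hb1⟩ := hex a ha
  have haS : orderOf (a : S) = 2 := by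
    rw [Subgroup.orderOf_coe]
    exact orderOf_eq_prime ha fun h => ha1 (by rw [h]; exact one_mem _)
  have hbS : orderOf (b : S) = 2 := by
    rw [Subgroup.orderOf_coe]
    exact orderOf_eq_prime hb fun h => hb1 (by rw [h]; exact one_mem _)
  have hne : (a : S) ≠ b := fun h => hb1 (Subtype.ext h ▸ Subgroup.mem_zpowers a)
  let V : Subgroup K := Subgroup.closure {a, b}
  have hV : Nat.card V ≤ 4 := by
    have h1 : V ≤ Subgroup.zpowers a ⊔ Subgroup.zpowers b := by
      rw [Subgroup.closure_le]
      rintro x (rfl | rfl)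
      exacts [Subgroup.mem_sup_left (Subgroup.mem_zpowers _), Subgroup.mem_sup_right (Subgroup.mem_zpowers _)]
    refine (Subgroup.card_le_of_le h1).trans ?_
    have h2 := CfsgLib.Coprime.card_sup_dvd (H := Subgroup.zpowers a) (N := Subgroup.zpowers b)
      (fun x _ => Subgroup.mem_normalizer_iff.2 fun y => by
        rw [hKc.is_comm.comm x y, mul_inv_cancel_right])
    rw [Nat.card_zpowers, Nat.card_zpowers, ← Subgroup.orderOf_coe a, ← Subgroup.orderOf_coe b, haS, hbS] at h2
    exact Nat.le_of_dvd (by norm_num) h2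
  obtain ⟨v, hv⟩ := IsPGroup.iff_card.1 (hK.to_subgroup V)
  by_cases hk3 : 3 ≤ k
  · exfalso
    haveI : Fact (Nat.Prime 2) := ⟨Nat.prime_two⟩
    have hv3 : v ≤ 3 := by
      by_contra hlt
      have h16 : 2 ^ 4 ≤ 2 ^ v := Nat.pow_le_pow_right two_pos (by omega)
      omega
    obtain ⟨L, hL, hVL⟩ := Sylow.exists_subgroup_card_pow_prime_le 2 (m := 3)
      (by rw [hk]; exact pow_dvd_pow 2 hk3) V hv hv3
    let A : Subgroup S := L.map K.subtype
    have hA8 : Nat.card A = 8 := by
      rw [Subgroup.card_map_of_injective K.subtype_injective, hL]; norm_num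
    refine hY A ((Subgroup.map_subtype_le L).trans hKY) (isMulCommutative_of ?_) ?_ hA8
    · rintro _ ⟨x, -, rfl⟩ _ ⟨y, -, rfl⟩
      exact congrArg Subtype.val (hKc.is_comm.comm x y)
    · exact not_isCyclic_of_involutions ⟨a, hVL (Subgroup.subset_closure (by simp)), rfl⟩
        ⟨b, hVL (Subgroup.subset_closure (by simp)), rfl⟩ haS hbS hne
  obtain rfl : k = 2 := by omega
  refine ⟨hk.trans (by norm_num), fun y hy => ?_⟩
  by_contra hy2
  have hy4 : orderOf (⟨y, hy⟩ : K) = 4 := by
    have h := orderOf_dvd_natCard (⟨y, hy⟩ : K)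
    rw [hk] at h
    obtain ⟨i, hi, he⟩ := (Nat.dvd_prime_pow Nat.prime_two).1 h
    interval_cases i
    · exact absurd (by rw [show y = 1 from congrArg Subtype.val (orderOf_eq_one_iff.1 (he.trans (pow_zero 2))), one_mul]) hy2
    · refine absurd ?_ hy2
      have h2 := pow_orderOf_eq_one (⟨y, hy⟩ : K)
      rw [he, pow_one, sq] at h2
      exact congrArg Subtype.val h2
    · simpa using he
  exact hKn (isCyclic_of_orderOf_eq_card _ (hy4.trans (hk.trans (by norm_num)).symm))

variable {X H : Subgroup S}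

/-- A commuting element is fixed by conjugation. -/
theorem mem_centralizer_iff_conj {K : Subgroup S} {x : S} :
    x ∈ Subgroup.centralizer (K : Set S) ↔ ∀ k ∈ K, k * x * k⁻¹ = x := by
  rw [Subgroup.mem_centralizer_iff]
  exact forall₂_congr fun k _ => mul_inv_eq_iff_eq_mul.symm

/-- Two-step stability. -/
theorem centralizes_of_trivial (hn : H ≤ Subgroup.normalizer (X : Set S))
    (hco : (Nat.card H).Coprime (Nat.card X)) (hX : IsPGroup 2 X)
    (h : ⁅⁅X, H⁆, H⁆ = ⊥) : H ≤ Subgroup.centralizer (X : Set S) := by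
  haveI : Fact (Nat.Prime 2) := ⟨Nat.prime_two⟩
  have hs : Group.IsSolvable X := haveI := hX.isNilpotent; inferInstance
  rw [CfsgLib.Coprime.commutator_commutator_eq hn hco (Or.inr hs)] at h
  rw [Subgroup.commutator_comm] at h
  exact Subgroup.commutator_eq_bot_iff_le_centralizer.1 h

theorem coprime_of_odd (hH : Odd (Nat.card H)) {K : Subgroup S} (hK : IsPGroup 2 K) :
    (Nat.card H).Coprime (Nat.card K) := by
  haveI : Fact (Nat.Prime 2) := ⟨Nat.prime_two⟩
  obtain ⟨n, hn⟩ := IsPGroup.iff_card.1 hK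
  rw [hn]
  exact (hH.coprime_two_right).pow_right n

/-- An odd group centralizes a cyclic `2`-group it normalizes. -/
theorem centralizes_cyclic (hH : Odd (Nat.card H)) {L : Subgroup S} (hL : IsPGroup 2 L)
    [IsCyclic L] (hn : H ≤ Subgroup.normalizer (L : Set S)) :
    H ≤ Subgroup.centralizer (L : Set S) := by
  haveI : Fact (Nat.Prime 2) := ⟨Nat.prime_two⟩
  intro h hh
  have hd : orderOf (MulAut.conjNormal (H := L.subgroupOf (Subgroup.normalizer (L : Set S)))
      (⟨h, hn hh⟩ : Subgroup.normalizer (L : Set S))) ∣ Nat.card H := by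
    refine (orderOf_map_dvd _ _).trans ?_
    rw [Subgroup.orderOf_mk]
    exact (Subgroup.orderOf_mk h hh ▸ orderOf_dvd_natCard (⟨h, hh⟩ : H))
  set β := MulAut.conjNormal (H := L.subgroupOf (Subgroup.normalizer (L : Set S)))
      (⟨h, hn hh⟩ : Subgroup.normalizer (L : Set S)) with hβ
  haveI : IsCyclic (L.subgroupOf (Subgroup.normalizer (L : Set S))) :=
    (Subgroup.subgroupOfEquivOfLe Subgroup.le_normalizer).isCyclic.2 inferInstance
  have hd2 : orderOf β ∣ Nat.card (MulAut (L.subgroupOf (Subgroup.normalizer (L : Set S)))) :=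
    orderOf_dvd_natCard β
  obtain ⟨k, hk⟩ := IsPGroup.iff_card.1 hL
  rw [IsCyclic.card_mulAut, Nat.card_congr (Subgroup.subgroupOfEquivOfLe Subgroup.le_normalizer).toEquiv,
    hk] at hd2
  have htot : Nat.totient (2 ^ k) ∣ 2 ^ k := by
    rcases k with _ | k
    · simp
    · rw [Nat.totient_prime_pow_succ Nat.prime_two]; simp [pow_succ]
  have h1 : β = 1 := orderOf_eq_one_iff.1 (Nat.eq_one_of_dvd_coprimes
    ((hH.coprime_two_right).pow_right k) hd (hd2.trans htot))
  rw [Subgroup.mem_centralizer_iff]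
  intro l hl
  have h2 := congrArg (fun e => ((e (⟨⟨l, Subgroup.le_normalizer hl⟩, hl⟩ :
    L.subgroupOf (Subgroup.normalizer (L : Set S))) : Subgroup.normalizer (L : Set S)) : S)) h1
  simp only [hβ, MulAut.conjNormal_apply, MulAut.one_apply] at h2
  exact (mul_inv_eq_iff_eq_mul.1 h2).symm

/-- The operators move an invariant subgroup of index at most two into itself. -/
theorem commutator_le_of_two {L : Subgroup S} (hLX : L ≤ X) (hidx : L.relIndex X ≤ 2)
    (hnX : H ≤ Subgroup.normalizer (X : Set S)) (hnL : H ≤ Subgroup.normalizer (L : Set S)) :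
    ⁅X, H⁆ ≤ L := by
  rw [Subgroup.commutator_le]
  intro x hx h hh
  have hh' : h * x⁻¹ * h⁻¹ ∈ X := (Subgroup.mem_normalizer_iff.1 (hnX hh) _).1 (inv_mem hx)
  rw [commutatorElement_def, show x * h * x⁻¹ * h⁻¹ = x * (h * x⁻¹ * h⁻¹) by group]
  by_cases hxL : x ∈ L
  · exact mul_mem hxL ((Subgroup.mem_normalizer_iff.1 (hnL hh) _).1 (inv_mem hxL))
  · have hxL' : h * x⁻¹ * h⁻¹ ∉ L := fun hm =>
      hxL (inv_mem_iff.1 ((Subgroup.mem_normalizer_iff.1 (hnL hh) _).2 hm))
    rcases Nat.lt_or_ge (L.relIndex X) 2 with h1 | h2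
    · have : L.relIndex X = 1 := by
        have : L.relIndex X ≠ 0 := Subgroup.index_ne_zero_of_finite
        omega
      exact absurd (Subgroup.relIndex_eq_one.1 this hx) hxL
    · have hi : (L.subgroupOf X).index = 2 := le_antisymm hidx h2
      exact (Subgroup.mul_mem_iff_of_index_two hi (a := ⟨x, hx⟩) (b := ⟨_, hh'⟩)).2
        ⟨fun a => absurd a hxL, fun a => absurd a hxL'⟩

theorem le_normalizer_centralizer' {N : Subgroup S}
    (hX : H ≤ Subgroup.normalizer (X : Set S)) (hN : H ≤ Subgroup.normalizer (N : Set S)) :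
    H ≤ Subgroup.normalizer ((X ⊓ Subgroup.centralizer (N : Set S) : Subgroup S) : Set S) :=
  CfsgLib.Coprime.le_normalizer_inf_inf hX (CfsgLib.Coprime.le_normalizer_centralizer hN)

/-- A normal subgroup centralized by the operators is centralized by `[X, H]`. -/
theorem centralizes_of_commutator_eq {N : Subgroup S} (hXH : ⁅X, H⁆ = X)
    (hXN : X ≤ Subgroup.normalizer (N : Set S)) (hHN : H ≤ Subgroup.centralizer (N : Set S)) :
    X ≤ Subgroup.centralizer (N : Set S) := by
  have h1 : ⁅⁅H, N⁆, X⁆ = ⊥ := by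
    rw [Subgroup.commutator_eq_bot_iff_le_centralizer.2 hHN, Subgroup.commutator_bot_left]
  have h2 : ⁅⁅N, X⁆, H⁆ = ⊥ := by
    rw [Subgroup.commutator_eq_bot_iff_le_centralizer]
    refine (CfsgLib.Coprime.commutator_le_of_le_normalizer hXN).trans ?_
    exact Subgroup.le_centralizer_iff.1 hHN
  have h := Subgroup.commutator_commutator_eq_bot_of_rotate (H₁ := X) (H₂ := H) (H₃ := N) h1 h2
  rwa [hXH, Subgroup.commutator_eq_bot_iff_le_centralizer] at h

section Facts

variable {N : Subgroup S} (hN : Q8 N)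
include hN

theorem q8_isPGroup : IsPGroup 2 N := IsPGroup.of_card (n := 3) (by rw [hN.1]; norm_num)

theorem q8_proper_cyclic {L : Subgroup S} (hLN : L ≤ N) (hne : L ≠ N) : IsCyclic L := by
  haveI : Fact (Nat.Prime 2) := ⟨Nat.prime_two⟩
  obtain ⟨h8, -, z, hzN, hz2, huniq⟩ := hN
  have hlt : Nat.card L ≤ 4 := by
    have h1 := Subgroup.card_dvd_of_le hLN
    rw [h8] at h1
    have h2 : Nat.card L ≠ 8 := fun e =>
      hne (Subgroup.eq_of_le_of_card_ge hLN (by rw [e, h8]))
    have h3 := Nat.le_of_dvd (by norm_num) h1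
    rcases eq_or_ne (Nat.card L) 5 with e | e
    · rw [e] at h1; norm_num at h1
    rcases eq_or_ne (Nat.card L) 6 with e' | e'
    · rw [e'] at h1; norm_num at h1
    rcases eq_or_ne (Nat.card L) 7 with e'' | e''
    · rw [e''] at h1; norm_num at h1
    omega
  by_contra hc
  have hLp : IsPGroup 2 L := (IsPGroup.of_card (n := 3) (G := N) (by rw [h8]; norm_num)).to_le hLN
  have hcomm : IsMulCommutative L := by
    obtain ⟨k, hk⟩ := IsPGroup.iff_card.1 hLp
    have hk' : k ≤ 2 := by
      by_contra hlt'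
      have : 2 ^ 3 ≤ 2 ^ k := Nat.pow_le_pow_right two_pos (by omega)
      omega
    interval_cases k
    · haveI := (Nat.card_eq_one_iff_unique.1 (hk.trans (pow_zero 2))).1
      exact absurd isCyclic_of_subsingleton hc
    · exact absurd (isCyclic_of_prime_card (p := 2) (hk.trans (pow_one 2))) hc
    · exact IsPGroup.isMulCommutative_of_card_eq_prime_sq hk
  haveI := hcomm
  classical
  refine hc (CfsgLib.PGroups.isCyclic_of_abelian_of_unique hLp (z := if hz : z ∈ L then ⟨z, hz⟩ else 1)
    (fun y hy => ?_) ?_)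
  · rw [sq] at hy
    rcases huniq y (hLN y.2) (congrArg Subtype.val hy) with h | h
    · rw [show y = 1 from Subtype.ext h]; exact one_mem _
    · have hzL : z ∈ L := h ▸ y.2
      rw [dif_pos hzL, show y = (⟨z, hzL⟩ : L) from Subtype.ext h]
      exact Subgroup.mem_zpowers _
  · split_ifs with hzL
    · exact Subtype.ext (by rw [Subgroup.coe_pow, ← hz2, pow_orderOf_eq_one]; rfl)
    · exact one_pow 2

end Facts

/-- The two kinds of small groups with operators. -/
def Kind (N : Subgroup S) : Prop :=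
  (Nat.card N = 4 ∧ IsMulCommutative N ∧ ∀ y ∈ N, y * y = 1) ∨ Q8 N

theorem kind_isPGroup {N : Subgroup S} (h : Kind N) : IsPGroup 2 N := by
  rcases h with ⟨h, -⟩ | h
  · exact IsPGroup.of_card (n := 2) (by rw [h]; norm_num)
  · exact q8_isPGroup h

theorem kind_proper_cyclic {N L : Subgroup S} (h : Kind N) (hLN : L ≤ N) (hne : L ≠ N) :
    IsCyclic L := by
  rcases h with ⟨h4, hc, -⟩ | h
  · have h1 := Subgroup.card_dvd_of_le hLN
    rw [h4] at h1
    have h2 : Nat.card L ≠ 4 := fun e => hne (Subgroup.eq_of_le_of_card_ge hLN (by rw [e, h4]))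
    obtain ⟨i, hi, he⟩ := (Nat.dvd_prime_pow Nat.prime_two (m := 2)).1 (by simpa using h1)
    interval_cases i
    · haveI := (Nat.card_eq_one_iff_unique.1 (he.trans (pow_zero 2))).1
      infer_instance
    · haveI : Fact (Nat.Prime 2) := ⟨Nat.prime_two⟩
      exact isCyclic_of_prime_card (p := 2) (he.trans (pow_one 2))
    · exact absurd (by simpa using he) h2
  · exact q8_proper_cyclic h hLN hne

/-- A proper invariant subgroup of a small group with operators is centralized by them. -/
theorem kind_invariant {N L : Subgroup S} (h : Kind N) (hH : Odd (Nat.card H)) (hLN : L ≤ N)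
    (hne : L ≠ N) (hn : H ≤ Subgroup.normalizer (L : Set S)) :
    H ≤ Subgroup.centralizer (L : Set S) := by
  haveI := kind_proper_cyclic h hLN hne
  exact centralizes_cyclic hH ((kind_isPGroup h).to_le hLN) hn

/-- The fixed points of the operators in a small group. -/
theorem kind_fixed_card {N : Subgroup S} (h : Kind N) (hH : Odd (Nat.card H))
    (hn : H ≤ Subgroup.normalizer (N : Set S)) (hnt : ¬ H ≤ Subgroup.centralizer (N : Set S)) :
    2 * 2 < 2 * Nat.card N ∧ 2 < (N ⊓ Subgroup.centralizer (H : Set S)).relIndex N := by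
  haveI : Fact (Nat.Prime 2) := ⟨Nat.prime_two⟩
  refine ⟨by rcases h with ⟨h, -⟩ | h <;> [rw [h]; rw [h.1]] <;> norm_num, ?_⟩
  by_contra hle
  push Not at hle
  set L := N ⊓ Subgroup.centralizer (H : Set S)
  have hnL : H ≤ Subgroup.normalizer (L : Set S) :=
    CfsgLib.Coprime.le_normalizer_inf_centralizer hn
  have h1 : ⁅N, H⁆ ≤ L := commutator_le_of_two inf_le_left hle hn hnL
  refine hnt (centralizes_of_trivial hn (coprime_of_odd hH (kind_isPGroup h)) (kind_isPGroup h) ?_)
  rw [Subgroup.commutator_eq_bot_iff_le_centralizer]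
  exact h1.trans inf_le_right

/-- A four-group normal in `X` is central in `X`. -/
theorem four_central {N : Subgroup S} (hX : IsPGroup 2 X) (hH : Odd (Nat.card H))
    (hnX : H ≤ Subgroup.normalizer (X : Set S)) (h4 : Nat.card N = 4) (hc : IsMulCommutative N)
    (h2 : ∀ y ∈ N, y * y = 1) (hNX : N ≤ X) (hXN : X ≤ Subgroup.normalizer (N : Set S))
    (hn : H ≤ Subgroup.normalizer (N : Set S)) (hnt : ¬ H ≤ Subgroup.centralizer (N : Set S)) :
    X ≤ Subgroup.centralizer (N : Set S) := by
  haveI : Fact (Nat.Prime 2) := ⟨Nat.prime_two⟩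
  have hk : Kind N := Or.inl ⟨h4, hc, h2⟩
  set L := N ⊓ Subgroup.centralizer (X : Set S) with hL
  have hLne : L ≠ ⊥ := by
    haveI : (N.subgroupOf X).Normal := (Subgroup.normal_subgroupOf_iff_le_normalizer hNX).2 hXN
    have hne : N.subgroupOf X ≠ ⊥ := by
      rw [Ne, Subgroup.subgroupOf_eq_bot, disjoint_iff, inf_eq_left.2 hNX]
      intro h; rw [h, Subgroup.card_bot] at h4; omega
    obtain ⟨⟨v, hvX⟩, hv, hv1⟩ := (Subgroup.bot_or_exists_ne_one _).resolve_left
      (CfsgLib.PGroups.inf_center_ne_bot hX hne)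
    obtain ⟨hvN, hvc⟩ := Subgroup.mem_inf.1 hv
    intro hbot
    refine hv1 (Subtype.ext ?_)
    have : v ∈ L := Subgroup.mem_inf.2 ⟨hvN, Subgroup.mem_centralizer_iff.2 fun x hx =>
      congrArg Subtype.val (Subgroup.mem_center_iff.1 hvc ⟨x, hx⟩)⟩
    rwa [hbot, Subgroup.mem_bot] at this
  by_contra hcon
  have hne : L ≠ N := fun e => hcon (Subgroup.le_centralizer_iff.1 (e.ge.trans inf_le_right))
  have hfix : H ≤ Subgroup.centralizer (L : Set S) :=
    kind_invariant hk hH inf_le_left hne (le_normalizer_centralizer' hn hnX)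
  have h3 := (kind_fixed_card hk hH hn hnt).2
  have hLle : L ≤ N ⊓ Subgroup.centralizer (H : Set S) :=
    le_inf inf_le_left (Subgroup.le_centralizer_iff.1 hfix)
  have h5 : Nat.card L * L.relIndex N = 4 := by
    rw [← Subgroup.relIndex_bot_left, Subgroup.relIndex_mul_relIndex _ _ _ bot_le inf_le_left,
      Subgroup.relIndex_bot_left, h4]
  have h6 : 2 ≤ Nat.card L := by
    have : Nat.card L ≠ 1 := fun e => hLne (Subgroup.card_eq_one.1 e)
    have : 0 < Nat.card L := Nat.card_pos
    omega
  have h7 : L.relIndex N ≤ 2 := by nlinarith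
  have hpos : 0 < L.relIndex N := Nat.pos_of_ne_zero Subgroup.index_ne_zero_of_finite
  have h8 := Nat.le_of_dvd hpos (Subgroup.relIndex_dvd_of_le_left N hLle)
  omega

theorem q8_central {N : Subgroup S} (hN : Q8 N) {z : S} (hz2 : orderOf z = 2) (hzN : z ∈ N) :
    ∀ n ∈ N, n * z = z * n := by
  obtain ⟨-, -, z', hz'N, hz'2, huniq⟩ := hN
  have hzz : z * z = 1 := by rw [← sq, ← hz2, pow_orderOf_eq_one]
  have hzne : z ≠ 1 := fun e => by rw [e, orderOf_one] at hz2; omega
  have e : z = z' := (huniq z hzN hzz).resolve_left hzne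
  intro n hn
  have hc : n * z * n⁻¹ = z := by
    have h := huniq (n * z * n⁻¹) (mul_mem (mul_mem hn hzN) (inv_mem hn)) (by
      rw [conj_mul, hzz, mul_one, mul_inv_cancel])
    rw [← e] at h
    refine h.resolve_left fun h1 => hzne ?_
    exact conj_eq_one_iff.1 h1
  exact mul_inv_eq_iff_eq_mul.1 hc

/-- A normal quaternion group moved by the operators has only inner automorphisms induced by `X`. -/
theorem q8_inner {N : Subgroup S} (hX : IsPGroup 2 X) (hH : Odd (Nat.card H)) (hN : Q8 N)
    (hNX : N ≤ X) (hXN : X ≤ Subgroup.normalizer (N : Set S))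
    (hnX : H ≤ Subgroup.normalizer (X : Set S))
    (hn : H ≤ Subgroup.normalizer (N : Set S)) (hnt : ¬ H ≤ Subgroup.centralizer (N : Set S)) :
    N ⊔ (X ⊓ Subgroup.centralizer (N : Set S)) = X := by
  haveI : Fact (Nat.Prime 2) := ⟨Nat.prime_two⟩
  have hk : Kind N := Or.inr hN
  haveI : (N.subgroupOf X).Normal := (Subgroup.normal_subgroupOf_iff_le_normalizer hNX).2 hXN
  have hcN : Nat.card (N.subgroupOf X) = 8 := by
    rw [Nat.card_congr (Subgroup.subgroupOfEquivOfLe hNX).toEquiv, hN.1]
  obtain ⟨K₀, hK₀n, -, hK₀N, hK₀4⟩ := CfsgLib.PGroups.exists_normal_card_eq hX (N := (⊥ : Subgroup X))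
    (M := N.subgroupOf X) bot_le (k := 2) (by rw [Subgroup.card_bot]; norm_num) (by rw [hcN]; norm_num)
  set K : Subgroup S := K₀.map X.subtype with hKdef
  have hKN : K ≤ N := by
    rintro _ ⟨x, hx, rfl⟩
    exact Subgroup.mem_subgroupOf.1 (hK₀N hx)
  have hK4 : Nat.card K = 4 := by
    rw [hKdef, Subgroup.card_map_of_injective X.subtype_injective, hK₀4]; norm_num
  have hXK : ∀ x ∈ X, ∀ k ∈ K, x * k * x⁻¹ ∈ K := by
    rintro x hx _ ⟨k, hk, rfl⟩
    exact ⟨_, hK₀n.conj_mem k hk ⟨x, hx⟩, rfl⟩
  have hKne : K ≠ N := fun e => by rw [e, hN.1] at hK4; omega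
  obtain ⟨h, hh, hmove⟩ : ∃ h ∈ H, ∃ k ∈ K, h * k * h⁻¹ ∉ K := by
    by_contra hcon
    push Not at hcon
    have hnK : H ≤ Subgroup.normalizer (K : Set S) := fun h hh => Subgroup.mem_normalizer_iff.2 fun k =>
      ⟨hcon h hh k, fun hk => by simpa [mul_assoc] using hcon h⁻¹ (inv_mem hh) _ hk⟩
    have hfix := kind_invariant hk hH hKN hKne hnK
    have h3 := (kind_fixed_card hk hH hn hnt).2
    have hle : K ≤ N ⊓ Subgroup.centralizer (H : Set S) :=
      le_inf hKN (Subgroup.le_centralizer_iff.1 hfix)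
    have h5 : Nat.card K * K.relIndex N = 8 := by
      rw [← Subgroup.relIndex_bot_left, Subgroup.relIndex_mul_relIndex _ _ _ bot_le hKN,
        Subgroup.relIndex_bot_left, hN.1]
    have hpos : 0 < K.relIndex N := Nat.pos_of_ne_zero Subgroup.index_ne_zero_of_finite
    have h8 := Nat.le_of_dvd hpos (Subgroup.relIndex_dvd_of_le_left N hle)
    rw [hK4] at h5
    omega
  obtain ⟨k, hkK, hkmove⟩ := hmove
  haveI := q8_proper_cyclic hN hKN hKne
  obtain ⟨i₀, hi₀⟩ := IsCyclic.exists_ofOrder_eq_natCard (α := K)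
  set i : S := (i₀ : S) with hi
  have hiord : orderOf i = 4 := by rw [hi, Subgroup.orderOf_coe, hi₀, hK4]
  have hKeq : K = Subgroup.zpowers i :=
    (Subgroup.eq_of_le_of_card_ge (Subgroup.zpowers_le.2 i₀.2) (by rw [Nat.card_zpowers, hiord, hK4])).symm
  set j : S := h * i * h⁻¹ with hj
  have hjN : j ∈ N := (Subgroup.mem_normalizer_iff.1 (hn hh) _).1 (hKN i₀.2)
  have hjK : j ∉ K := fun hjK => hkmove (by
    rw [hKeq] at hkK hjK ⊢
    obtain ⟨m, rfl⟩ := Subgroup.mem_zpowers_iff.1 hkK
    rw [← conj_zpow]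
    exact zpow_mem hjK m)
  have hiN : i ∈ N := hKN i₀.2
  have hgen : N = Subgroup.closure {i, j} := by
    refine le_antisymm ?_ (by rw [Subgroup.closure_le]; rintro _ (rfl | rfl); exacts [hiN, hjN])
    by_contra hcon
    have hle : Subgroup.closure {i, j} ≤ N := by
      rw [Subgroup.closure_le]; rintro _ (rfl | rfl); exacts [hiN, hjN]
    have hne : Subgroup.closure {i, j} ≠ N := fun e => hcon e.ge
    have hKle : K ≤ Subgroup.closure {i, j} := by
      rw [hKeq, Subgroup.zpowers_le]; exact Subgroup.subset_closure (by simp)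
    have h4 : Nat.card (Subgroup.closure {i, j}) ≤ 4 := by
      have h1 := Subgroup.card_dvd_of_le hle
      rw [hN.1] at h1
      have h2 : Nat.card (Subgroup.closure {i, j}) ≠ 8 := fun e =>
        hne (Subgroup.eq_of_le_of_card_ge hle (by rw [e, hN.1]))
      obtain ⟨m, hm, he⟩ := (Nat.dvd_prime_pow Nat.prime_two (m := 3)).1 (by simpa using h1)
      interval_cases m <;> simp_all
    exact hjK ((Subgroup.eq_of_le_of_card_ge hKle (by rw [hK4]; exact h4)).ge
      (Subgroup.subset_closure (by simp)))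
  -- the possible images of a generator of order four
  have himg : ∀ y : S, orderOf y = 4 → ∀ g : S, g * y * g⁻¹ ∈ Subgroup.zpowers y →
      g * y * g⁻¹ = y ∨ g * y * g⁻¹ = y⁻¹ := by
    intro y hy g hg
    obtain ⟨m, hm⟩ := Subgroup.mem_zpowers_iff.1 hg
    have hmem : y ^ m = y ^ (m % 4) := by
      rw [← zpow_mod_orderOf, hy]; rfl
    have hord : orderOf (g * y * g⁻¹) = 4 :=
      (MulEquiv.orderOf_eq (MulAut.conj g) y).trans hy
    rw [← hm, hmem] at hord
    rw [← hm, hmem]
    rcases (show m % 4 = 0 ∨ m % 4 = 1 ∨ m % 4 = 2 ∨ m % 4 = 3 by omega) with e | e | e | e <;>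
      rw [e] at hord ⊢
    · rw [zpow_zero, orderOf_one] at hord; omega
    · exact Or.inl (zpow_one y)
    · have h2 : (y ^ (2 : ℤ)) ^ 2 = 1 := by
        rw [show (2 : ℤ) = ((2 : ℕ) : ℤ) from rfl, zpow_natCast, ← pow_mul, show 2 * 2 = 4 from rfl,
          ← hy, pow_orderOf_eq_one]
      have := Nat.le_of_dvd two_pos (orderOf_dvd_of_pow_eq_one h2)
      omega
    · right
      refine eq_inv_of_mul_eq_one_left ?_
      rw [← zpow_add_one, show (3 : ℤ) + 1 = ((4 : ℕ) : ℤ) from rfl, zpow_natCast, ← hy, pow_orderOf_eq_one]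
  have hjord : orderOf j = 4 := (MulEquiv.orderOf_eq (MulAut.conj h) i).trans hiord
  have hKj : ∀ x ∈ X, x * j * x⁻¹ ∈ Subgroup.zpowers j := by
    intro x hx
    have hx' : h⁻¹ * x * h ∈ X := by
      simpa [mul_assoc] using (Subgroup.mem_normalizer_iff.1 (hnX (inv_mem hh)) x).1 hx
    have hm := hXK _ hx' i i₀.2
    rw [hKeq] at hm
    obtain ⟨m, hm⟩ := Subgroup.mem_zpowers_iff.1 hm
    refine Subgroup.mem_zpowers_iff.2 ⟨m, ?_⟩
    rw [hj, conj_zpow, hm]
    group
  have hKi : ∀ x ∈ X, x * i * x⁻¹ ∈ Subgroup.zpowers i := fun x hx => by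
    have := hXK x hx i i₀.2
    rwa [hKeq] at this
  have hnc : ¬ (i * j = j * i) := fun e => hN.2.1 (by
    rw [hgen]
    exact isMulCommutative_of fun a ha b hb => by
      have hcl : Subgroup.closure {i, j} ≤ Subgroup.centralizer (Subgroup.closure {i, j} : Set S) := by
        rw [Subgroup.centralizer_closure, Subgroup.closure_le]
        rintro _ (rfl | rfl) <;> rw [SetLike.mem_coe, Subgroup.mem_centralizer_iff] <;>
          rintro _ (rfl | rfl) <;> first | rfl | exact e | exact e.symm
      exact (hcl hb a ha))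
  have hjij : j * i * j⁻¹ = i⁻¹ := (himg i hiord j (hKi j (hNX hjN))).resolve_left fun e =>
    hnc (mul_inv_eq_iff_eq_mul.1 e).symm
  have hiji : i * j * i⁻¹ = j⁻¹ := (himg j hjord i (hKj i (hNX hiN))).resolve_left fun e =>
    hnc (mul_inv_eq_iff_eq_mul.1 e)
  refine le_antisymm (sup_le hNX inf_le_left) fun x hx => ?_
  have hfix : ∀ y : S, y * i * y⁻¹ = i → y * j * y⁻¹ = j → y ∈ X →
      y ∈ X ⊓ Subgroup.centralizer (N : Set S) := by
    intro y h1 h2 hy
    refine Subgroup.mem_inf.2 ⟨hy, ?_⟩
    rw [hgen, Subgroup.centralizer_closure, Subgroup.mem_centralizer_iff]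
    rintro _ (rfl | rfl)
    exacts [(mul_inv_eq_iff_eq_mul.1 h1).symm, (mul_inv_eq_iff_eq_mul.1 h2).symm]
  have hconj : ∀ a b y : S, (a * b) * y * (a * b)⁻¹ = a * (b * y * b⁻¹) * a⁻¹ := fun a b y => by group
  obtain ⟨n, hn', hni, hnj⟩ : ∃ n ∈ N, n * (x * i * x⁻¹) * n⁻¹ = i ∧ n * (x * j * x⁻¹) * n⁻¹ = j := by
    rcases himg i hiord x (hKi x hx) with e1 | e1 <;> rcases himg j hjord x (hKj x hx) with e2 | e2 <;>
      rw [e1, e2]
    · exact ⟨1, one_mem _, by group, by group⟩
    · exact ⟨i, hiN, by group, by rw [← conj_inv, hiji, inv_inv]⟩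
    · exact ⟨j, hjN, by rw [← conj_inv, hjij, inv_inv], by group⟩
    · refine ⟨i * j, mul_mem hiN hjN, ?_, ?_⟩
      · rw [← conj_inv, hconj, hjij, ← conj_inv, inv_inv, mul_inv_cancel_right]
      · rw [← conj_inv, hconj, mul_inv_cancel_right, hiji, inv_inv]
  rw [show x = n⁻¹ * (n * x) by group]
  refine mul_mem (Subgroup.mem_sup_left (inv_mem hn')) (Subgroup.mem_sup_right
    (hfix _ ?_ ?_ (mul_mem (hNX hn') hx)))
  · rw [hconj]; exact hni
  · rw [hconj]; exact hnj

theorem commute_closure {s : Set S} (h : ∀ a ∈ s, ∀ b ∈ s, a * b = b * a) :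
    IsMulCommutative (Subgroup.closure s) :=
  isMulCommutative_of fun a ha b hb => by
    have hcl : Subgroup.closure s ≤ Subgroup.centralizer (Subgroup.closure s : Set S) := by
      rw [Subgroup.centralizer_closure, Subgroup.closure_le]
      exact fun a ha => Subgroup.mem_centralizer_iff.2 fun b hb => h b hb a ha
    exact hcl hb a ha

/-- Central products with a further element contain an abelian non-cyclic group of order eight. -/
theorem not_small_of_q8 {N U : Subgroup S} (hN : Q8 N) (hNU : N ≤ U) {c : S} (hcU : c ∈ U)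
    (hcN : c ∉ N) (hc2 : c * c ∈ N) (hcc : c ∈ Subgroup.centralizer (N : Set S)) : ¬ Small U := by
  classical
  have hN' := hN
  obtain ⟨h8, hnab, z, hzN, hz2, huniq⟩ := hN
  have hzne : z ≠ 1 := fun e => by rw [e, orderOf_one] at hz2; omega
  have hzz : z * z = 1 := by rw [← sq, ← hz2, pow_orderOf_eq_one]
  -- an element of order four
  obtain ⟨i, hiN, hi⟩ : ∃ i ∈ N, i * i = z := by
    by_contra hcon
    push Not at hcon
    refine hnab (isMulCommutative_of fun a ha b hb => ?_)
    have hsq : ∀ y ∈ N, y * y = 1 := by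
      intro y hy
      have h4 : y * y * (y * y) = 1 := by
        by_contra h4
        have hd := orderOf_dvd_natCard (⟨y, hy⟩ : N)
        rw [h8, Subgroup.orderOf_mk] at hd
        have h8' : y ^ 8 = 1 := orderOf_dvd_iff_pow_eq_one.1 hd
        have h4' : (y * y * (y * y)) * (y * y * (y * y)) = 1 := by
          rw [← h8']; simp only [pow_succ, pow_zero, one_mul, mul_assoc]
        have := (huniq _ (mul_mem (mul_mem hy hy) (mul_mem hy hy)) h4').resolve_left h4
        exact hcon (y * y) (mul_mem hy hy) this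
      exact (huniq _ (mul_mem hy hy) h4).resolve_right (hcon y hy)
    have hinv : ∀ y ∈ N, y⁻¹ = y := fun y hy => inv_eq_of_mul_eq_one_right (hsq y hy)
    rw [← hinv _ (mul_mem ha hb), mul_inv_rev, hinv a ha, hinv b hb]
  have hccom : ∀ n ∈ N, n * c = c * n := fun n hn => Subgroup.mem_centralizer_iff.1 hcc n hn
  have hcc2 : c * c = 1 ∨ c * c = z := by
    refine huniq _ hc2 ?_
    by_contra hne
    -- otherwise `c * c` would be of order four and central in `N`
    have hcen : ∀ n ∈ N, n * (c * c) = c * c * n := fun n hn => by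
      rw [← mul_assoc, hccom n hn, mul_assoc, hccom n hn, ← mul_assoc]
    refine hnab (isMulCommutative_of fun a ha b hb => ?_)
    -- all elements lie in `⟨i, c * c⟩`
    let L := Subgroup.closure ({a, c * c} : Set S)
    by_cases haz : a ∈ Subgroup.zpowers (c * c)
    · obtain ⟨m, rfl⟩ := Subgroup.mem_zpowers_iff.1 haz
      exact (Commute.zpow_left ((hcen b hb).symm : Commute (c * c) b) m).eq
    have hLN : L ≤ N := by
      rw [Subgroup.closure_le]; rintro _ (rfl | rfl); exacts [ha, hc2]
    have hLne : L = N := by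
      by_contra hLne
      haveI := q8_proper_cyclic hN' hLN hLne
      have h1 : Subgroup.zpowers (c * c) ≤ L := Subgroup.zpowers_le.2 (Subgroup.subset_closure (by simp))
      have h4 : Nat.card L ≤ 4 := by
        have hd := Subgroup.card_dvd_of_le hLN
        rw [h8] at hd
        have h2 : Nat.card L ≠ 8 := fun e =>
          hLne (Subgroup.eq_of_le_of_card_ge hLN (by rw [e, h8]))
        obtain ⟨m, hm, he⟩ := (Nat.dvd_prime_pow Nat.prime_two (m := 3)).1 (by simpa using hd)
        interval_cases m <;> simp_all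
      have hord : 4 ≤ orderOf (c * c) := by
        have hd := orderOf_dvd_natCard (⟨c * c, hc2⟩ : N)
        rw [h8, Subgroup.orderOf_mk] at hd
        have hne1 : orderOf (c * c) ≠ 1 := fun e => hne (by rw [orderOf_eq_one_iff.1 e, one_mul])
        have hne2 : orderOf (c * c) ≠ 2 := fun e => hne (by rw [← sq, ← e, pow_orderOf_eq_one])
        obtain ⟨m, hm, he⟩ := (Nat.dvd_prime_pow Nat.prime_two (m := 3)).1 (by simpa using hd)
        interval_cases m <;> simp_all
      rw [← Nat.card_zpowers] at hord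
      exact haz ((Subgroup.eq_of_le_of_card_ge h1 (h4.trans hord)).ge
        (Subgroup.subset_closure (by simp)))
    have := commute_closure (s := ({a, c * c} : Set S)) (by
      rintro _ (rfl | rfl) _ (rfl | rfl)
      exacts [rfl, hcen _ ha, (hcen _ ha).symm, rfl])
    exact congrArg Subtype.val (this.is_comm.comm ⟨a, hLne.ge ha⟩ ⟨b, hLne.ge hb⟩)
  have hiord : orderOf i = 4 := by
    have h4 : i ^ (2 ^ 2) = 1 := by rw [show 2 ^ 2 = 2 * 2 from rfl, pow_mul, sq i, hi, sq, hzz]
    have h2 : ¬ i ^ (2 ^ 1) = 1 := by rw [pow_one, sq, hi]; exact hzne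
    exact orderOf_eq_prime_pow h2 h4
  intro hsmall
  -- an involution outside `N`
  obtain ⟨t, htN, ht2, htU, hti⟩ : ∃ t, t ∉ N ∧ t * t = 1 ∧ t ∈ U ∧ i * t = t * i := by
    rcases hcc2 with h | h
    · exact ⟨c, hcN, h, hcU, hccom i hiN⟩
    · refine ⟨i * c, fun hm => hcN ((mul_mem_cancel_left hiN).1 hm), ?_, mul_mem (hNU hiN) hcU, ?_⟩
      · calc i * c * (i * c) = i * (c * i) * c := by group
          _ = i * (i * c) * c := by rw [hccom i hiN]
          _ = (i * i) * (c * c) := by group
          _ = 1 := by rw [hi, h, hzz]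
      · rw [mul_assoc i c i, hccom i hiN]
  let A := Subgroup.zpowers i ⊔ Subgroup.zpowers t
  have hA : IsMulCommutative A := by
    show IsMulCommutative (Subgroup.zpowers i ⊔ Subgroup.zpowers t : Subgroup S)
    rw [Subgroup.zpowers_eq_closure, Subgroup.zpowers_eq_closure, ← Subgroup.closure_union]
    refine commute_closure ?_
    rintro _ (rfl | rfl) _ (rfl | rfl)
    exacts [rfl, hti, hti.symm, rfl]
  have ht1 : t ≠ 1 := fun e => htN (e ▸ one_mem N)
  have htord : orderOf t = 2 := orderOf_eq_prime (by rw [sq, ht2]) ht1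
  have hzA : z ∈ A := hi ▸ mul_mem (Subgroup.mem_sup_left (Subgroup.mem_zpowers i))
    (Subgroup.mem_sup_left (Subgroup.mem_zpowers i))
  have htA : t ∈ A := Subgroup.mem_sup_right (Subgroup.mem_zpowers t)
  have hcardA : Nat.card A = 8 := by
    have h := CfsgLib.Coprime.card_sup_mul_card_inf (H := Subgroup.zpowers t) (N := Subgroup.zpowers i) (by
      rw [Subgroup.zpowers_le, Subgroup.mem_normalizer_iff]
      intro y
      constructor
      · rintro ⟨m, rfl⟩
        refine ⟨m, ?_⟩
        show i ^ m = t * i ^ m * t⁻¹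
        rw [(Commute.zpow_left (show Commute i t from hti) m).symm.eq, mul_inv_cancel_right]
      · rintro ⟨m, hm⟩
        refine ⟨m, ?_⟩
        show i ^ m = y
        have hm' : i ^ m = t * y * t⁻¹ := hm
        calc i ^ m = t⁻¹ * (t * i ^ m) := by group
          _ = t⁻¹ * (i ^ m * t) := by rw [(Commute.zpow_left (show Commute i t from hti) m).symm.eq]
          _ = y := by rw [hm']; group)
    have hinf : Nat.card (Subgroup.zpowers t ⊓ Subgroup.zpowers i : Subgroup S) = 1 := by
      rw [Subgroup.card_eq_one, eq_bot_iff]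
      rintro y ⟨⟨m, rfl⟩, hy⟩
      have hyN : t ^ m ∈ N := (Subgroup.zpowers_le.2 hiN) hy
      rcases Int.even_or_odd m with ⟨k, rfl⟩ | ⟨k, rfl⟩
      · rw [Subgroup.mem_bot]
        show t ^ (k + k) = 1
        rw [← two_mul, zpow_mul, show t ^ (2 : ℤ) = 1 by
          rw [show (2 : ℤ) = ((2 : ℕ) : ℤ) from rfl, zpow_natCast, sq, ht2], one_zpow]
      · refine absurd ?_ htN
        rwa [zpow_add_one, zpow_mul, show t ^ (2 : ℤ) = 1 by
          rw [show (2 : ℤ) = ((2 : ℕ) : ℤ) from rfl, zpow_natCast, sq, ht2], one_zpow, one_mul] at hyN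
    rw [hinf, mul_one, Nat.card_zpowers, Nat.card_zpowers, htord, hiord, sup_comm] at h
    exact h
  exact hsmall A (sup_le (Subgroup.zpowers_le.2 (hNU hiN)) (Subgroup.zpowers_le.2 htU)) hA
    (not_isCyclic_of_involutions hzA htA hz2 htord fun e => htN (e ▸ hzN)) hcardA

theorem not_small_of_exponent {Y K : Subgroup S} (hKY : K ≤ Y) (hY2 : IsPGroup 2 Y)
    (hc : IsMulCommutative K) (h4 : ∀ y ∈ K, y ^ 4 = 1) (hcard : 4 < Nat.card K) : ¬ Small Y := by
  intro hY
  haveI : Fact (Nat.Prime 2) := ⟨Nat.prime_two⟩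
  have hnc : ¬ IsCyclic K := fun hcy => by
    obtain ⟨g, hg⟩ := IsCyclic.exists_ofOrder_eq_natCard (α := K)
    have h5 : orderOf g ∣ 4 := orderOf_dvd_of_pow_eq_one (Subtype.ext (by
      rw [Subgroup.coe_pow]; exact h4 g g.2))
    rw [hg] at h5
    exact absurd (Nat.le_of_dvd (by norm_num) h5) (by omega)
  have := (card_le_four_of_small hY hKY (hY2.to_le hKY) hc hnc).1
  omega

/-- An element outside `N` whose square lies in `N`. -/
theorem exists_sq_mem {C N : Subgroup S} (hC : IsPGroup 2 C) (hCN : ¬ C ≤ N) :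
    ∃ c ∈ C, c ∉ N ∧ c * c ∈ N := by
  obtain ⟨c, hcC, hcN⟩ := SetLike.not_le_iff_exists.1 hCN
  obtain ⟨k, hk⟩ := hC ⟨c, hcC⟩
  have hk' : c ^ 2 ^ k = 1 := congrArg Subtype.val hk
  clear hk
  induction k generalizing c with
  | zero =>
    rw [pow_zero, pow_one] at hk'
    exact absurd (hk' ▸ one_mem N) hcN
  | succ k ih =>
    by_cases hsq : c * c ∈ N
    · exact ⟨c, hcC, hcN, hsq⟩
    · exact ih (c * c) (mul_mem hcC hcC) hsq (by rw [← sq, ← pow_mul, ← pow_succ', hk'])

theorem normalizes_commutator (hnX : H ≤ Subgroup.normalizer (X : Set S)) :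
    X ≤ Subgroup.normalizer ((⁅X, H⁆ : Subgroup S) : Set S) := by
  have hone : ∀ x ∈ X, ∀ y ∈ ⁅X, H⁆, x * y * x⁻¹ ∈ ⁅X, H⁆ := by
    intro x hx y hy
    have hle : ⁅X, H⁆ ≤ Subgroup.comap (MulAut.conj x).toMonoidHom ⁅X, H⁆ := by
      rw [Subgroup.commutator_le]
      intro a ha h hh
      show x * ⁅a, h⁆ * x⁻¹ ∈ ⁅X, H⁆
      rw [show x * ⁅a, h⁆ * x⁻¹ = ⁅x * a, h⁆ * ⁅x, h⁆⁻¹ by
        simp only [commutatorElement_def]; group]
      exact mul_mem (Subgroup.commutator_mem_commutator (mul_mem hx ha) hh)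
        (inv_mem (Subgroup.commutator_mem_commutator hx hh))
    exact hle hy
  intro x hx
  rw [Subgroup.mem_normalizer_iff]
  intro y
  exact ⟨hone x hx y, fun hy => by simpa [mul_assoc] using hone x⁻¹ (inv_mem hx) _ hy⟩

theorem small_mono {Y Z : Subgroup S} (h : Small Y) (hle : Z ≤ Y) : Small Z :=
  fun A hA => h A (hA.trans hle)

/-- The frattini subgroup of a subgroup, inside the ambient group. -/
def phi (Y : Subgroup S) : Subgroup S := (frattini Y).map Y.subtype

theorem mul_self_mem_phi {Y : Subgroup S} (hY : IsPGroup 2 Y) {y : S} (hy : y ∈ Y) :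
    y * y ∈ phi Y := by
  haveI : Fact (Nat.Prime 2) := ⟨Nat.prime_two⟩
  exact ⟨⟨y, hy⟩ * ⟨y, hy⟩, by rw [← sq]; exact CfsgLib.PGroups.pow_mem_frattini hY _, rfl⟩

theorem comm_mem_phi {Y : Subgroup S} (hY : IsPGroup 2 Y) {a b : S} (ha : a ∈ Y) (hb : b ∈ Y) :
    ⁅a, b⁆ ∈ phi Y := by
  haveI : Fact (Nat.Prime 2) := ⟨Nat.prime_two⟩
  exact ⟨⁅(⟨a, ha⟩ : Y), ⟨b, hb⟩⁆, CfsgLib.PGroups.commutator_le_frattini hY
    (Subgroup.commutator_mem_commutator (Subgroup.mem_top _) (Subgroup.mem_top _)), rfl⟩

theorem phi_le (Y : Subgroup S) : phi Y ≤ Y := Subgroup.map_subtype_le _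

theorem normalizes_char {Y : Subgroup S} (K : Subgroup Y) [K.Characteristic]
    (hn : H ≤ Subgroup.normalizer (Y : Set S)) :
    H ≤ Subgroup.normalizer ((K.map Y.subtype : Subgroup S) : Set S) :=
  hn.trans (CfsgLib.Base.normalizer_le_normalizer_map_subtype Y K)

theorem centralizes_card_two {L : Subgroup S} (hH : Odd (Nat.card H)) (hL : Nat.card L ≤ 2)
    (hL2 : IsPGroup 2 L) (hn : H ≤ Subgroup.normalizer (L : Set S)) :
    H ≤ Subgroup.centralizer (L : Set S) := by
  haveI : IsCyclic L := by
    haveI : Fact (Nat.Prime 2) := ⟨Nat.prime_two⟩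
    have hpos : 0 < Nat.card L := Nat.card_pos
    rcases (show Nat.card L = 1 ∨ Nat.card L = 2 by omega) with e | e
    · haveI := (Nat.card_eq_one_iff_unique.1 e).1
      exact isCyclic_of_subsingleton
    · exact isCyclic_of_prime_card (p := 2) e
  exact centralizes_cyclic hH hL2 hn

/-- Recognition of small groups with operators among the groups of the conclusion. -/
theorem kind_of_small {Y : Subgroup S} (hY : Small Y) (hY2 : IsPGroup 2 Y) (hH : Odd (Nat.card H))
    (hn : H ≤ Subgroup.normalizer (Y : Set S)) (hnt : ¬ H ≤ Subgroup.centralizer (Y : Set S))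
    (hshape : Shape Y) : Kind Y := by
  classical
  haveI : Fact (Nat.Prime 2) := ⟨Nat.prime_two⟩
  rcases hshape with hc | ⟨N, -, -, -, -, hns⟩ | hex | ⟨hsp, hZ4⟩
  · by_cases hcy : IsCyclic Y
    · exact absurd (centralizes_cyclic hH hY2 hn) hnt
    · obtain ⟨h4, h2⟩ := card_le_four_of_small hY le_rfl hY2 hc hcy
      exact Or.inl ⟨h4, hc, h2⟩
  · exact absurd hY hns
  all_goals
    set Zc : Subgroup S := (Subgroup.center Y).map Y.subtype with hZdef
    have hmemZ : ∀ {a : S}, a ∈ Zc → ∀ y ∈ Y, y * a = a * y := by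
      rintro _ ⟨a, ha, rfl⟩ y hy
      exact congrArg Subtype.val (Subgroup.mem_center_iff.1 ha ⟨y, hy⟩)
    have hZY : Zc ≤ Y := Subgroup.map_subtype_le _
    have hcardZ : Nat.card Zc = Nat.card (Subgroup.center Y) :=
      Subgroup.card_map_of_injective Y.subtype_injective
  · -- extraspecial
    obtain ⟨n, hn1, hncard⟩ := CfsgLib.PGroups.Extraspecial.exists_card_eq (G := Y) hex
    have hphi : phi Y = Zc := by rw [phi, hex.1.2.1]
    have hsq : ∀ y ∈ Y, y * y ∈ Zc := fun y hy => hphi ▸ mul_self_mem_phi hY2 hy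
    have hcom : ∀ a ∈ Y, ∀ b ∈ Y, ⁅a, b⁆ ∈ Zc := fun a ha b hb => hphi ▸ comm_mem_phi hY2 ha hb
    rw [hex.2] at hcardZ
    obtain ⟨⟨z, hzZ⟩, hz1, huz⟩ : ∃ z : Zc, (z : S) ≠ 1 ∧ ∀ w ∈ Zc, w = 1 ∨ w = z := by
      obtain ⟨a, b, hab, huniv⟩ := Nat.card_eq_two_iff.1 hcardZ
      have key : ∀ (u v : Zc), u ≠ v → ({u, v} : Set Zc) = Set.univ → (u : S) = 1 →
          ∃ z : Zc, (z : S) ≠ 1 ∧ ∀ w ∈ Zc, w = 1 ∨ w = z := by
        intro u v huv hs hu
        refine ⟨v, fun h => huv (Subtype.ext (hu.trans h.symm)), fun w hw => ?_⟩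
        have : (⟨w, hw⟩ : Zc) ∈ ({u, v} : Set Zc) := hs ▸ Set.mem_univ _
        rcases this with h | h
        · exact Or.inl ((congrArg Subtype.val h).trans hu)
        · exact Or.inr (congrArg Subtype.val h)
      have h1 : (1 : Zc) ∈ ({a, b} : Set Zc) := huniv ▸ Set.mem_univ _
      rcases h1 with h | h
      · exact key a b hab huniv (congrArg Subtype.val h.symm)
      · exact key b a hab.symm (by rw [Set.pair_comm, huniv]) (congrArg Subtype.val (Set.mem_singleton_iff.1 h).symm)
    change z ≠ 1 at hz1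
    replace huz : ∀ w ∈ Zc, w = 1 ∨ w = z := huz
    have hzY : z ∈ Y := hZY hzZ
    have hzz : z * z = 1 := by
      rcases huz _ (mul_mem hzZ hzZ) with h | h
      · exact h
      · exact absurd (mul_eq_left.1 h) hz1
    have hpow4 : ∀ y ∈ Y, y ^ 4 = 1 := by
      intro y hy
      rw [show 4 = 2 * 2 from rfl, pow_mul, sq, sq]
      rcases huz _ (hsq y hy) with h | h <;> rw [h]
      · exact one_mul 1
      · exact hzz
    rcases Nat.lt_or_ge n 2 with hn2 | hn2
    · -- order eight
      obtain rfl : n = 1 := by omega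
      refine Or.inr ⟨hncard.trans (by norm_num), fun hc => ?_, z, hzY, orderOf_eq_prime (by rw [sq, hzz]) hz1, ?_⟩
      · have : Subgroup.center Y = ⊤ := by
          rw [eq_top_iff]
          exact fun a _ => Subgroup.mem_center_iff.2 fun b => hc.is_comm.comm b a
        have h2 := hex.2
        rw [this, Subgroup.card_top, hncard] at h2
        norm_num at h2
      intro t ht ht2
      by_contra hcon
      push Not at hcon
      have hHZ : H ≤ Subgroup.centralizer (Zc : Set S) :=
        centralizes_card_two hH hcardZ.le (hY2.to_le hZY) (normalizes_char _ hn)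
      obtain ⟨u, huY, hu⟩ : ∃ u ∈ Y, u * u = z := by
        by_contra hno
        push Not at hno
        have h1 : ∀ y ∈ Y, y * y = 1 := fun y hy => (huz _ (hsq y hy)).resolve_right (hno y hy)
        have hinv : ∀ y ∈ Y, y⁻¹ = y := fun y hy => inv_eq_of_mul_eq_one_right (h1 y hy)
        have : Subgroup.center Y = ⊤ := by
          rw [eq_top_iff]
          exact fun a _ => Subgroup.mem_center_iff.2 fun b => Subtype.ext (by
            show (b : S) * a = a * b
            rw [← hinv _ (mul_mem b.2 a.2), mul_inv_rev, hinv _ a.2, hinv _ b.2])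
        have h2 := hex.2
        rw [this, Subgroup.card_top, hncard] at h2
        norm_num at h2
      have hu4 : orderOf u = 4 := by
        have h4 : u ^ (2 ^ 2) = 1 := hpow4 u huY
        have h2 : ¬ u ^ (2 ^ 1) = 1 := by rw [pow_one, sq, hu]; exact hz1
        exact orderOf_eq_prime_pow h2 h4
      set W := Subgroup.zpowers u
      have hWY : W ≤ Y := Subgroup.zpowers_le.2 huY
      have hWidx : W.relIndex Y = 2 := by
        have h := Subgroup.relIndex_mul_relIndex (⊥ : Subgroup S) W Y bot_le hWY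
        rw [Subgroup.relIndex_bot_left, Subgroup.relIndex_bot_left, Nat.card_zpowers, hu4, hncard] at h
        norm_num at h
        omega
      obtain ⟨h, hh, hv⟩ : ∃ h ∈ H, h * u * h⁻¹ ∉ W := by
        by_contra hno
        push Not at hno
        have hnW : H ≤ Subgroup.normalizer (W : Set S) := by
          intro h hh
          rw [Subgroup.mem_normalizer_iff]
          intro y
          constructor
          · rintro ⟨m, rfl⟩
            show h * u ^ m * h⁻¹ ∈ W
            rw [← conj_zpow]; exact zpow_mem (hno h hh) m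
          · intro hy
            obtain ⟨m, hm⟩ := hy
            have : y = (h⁻¹ * u * h) ^ m := by
              have hm' : u ^ m = h * y * h⁻¹ := hm
              rw [show h⁻¹ * u * h = h⁻¹ * u * (h⁻¹)⁻¹ by rw [inv_inv], conj_zpow, hm']; group
            rw [this]
            exact zpow_mem (by simpa using hno h⁻¹ (inv_mem hh)) m
        have hfix := centralizes_cyclic hH (hY2.to_le hWY) hnW
        refine hnt (centralizes_of_trivial hn (coprime_of_odd hH hY2) hY2 ?_)
        rw [Subgroup.commutator_eq_bot_iff_le_centralizer]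
        exact (commutator_le_of_two hWY hWidx.le hn hnW).trans (Subgroup.le_centralizer_iff.1 hfix)
      set v := h * u * h⁻¹ with hvdef
      have hvY : v ∈ Y := (Subgroup.mem_normalizer_iff.1 (hn hh) _).1 huY
      have hv2 : v * v = z := by
        rw [hvdef, conj_mul, hu]
        have := Subgroup.mem_centralizer_iff.1 (hHZ hh) z hzZ
        rw [← this, mul_inv_cancel_right]
      have hvu : v * u = u * v * z := by
        rcases huz _ (hcom v hvY u huY) with e | e
        · exfalso
          have hcomm : v * u = u * v := commutatorElement_eq_one_iff_mul_comm.1 e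
          have hW : W = Y := by
            refine le_antisymm hWY fun y hy => ?_
            have : Subgroup.center Y = ⊤ := by
              rw [eq_top_iff]
              rintro a -
              refine Subgroup.mem_center_iff.2 fun b => Subtype.ext ?_
              have hgen : ∀ y ∈ Y, y ∈ Subgroup.closure ({u, v} : Set S) := by
                intro y hy
                have hu' : u ∈ Subgroup.closure ({u, v} : Set S) := Subgroup.subset_closure (by simp)
                have hv' : v ∈ Subgroup.closure ({u, v} : Set S) := Subgroup.subset_closure (by simp)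
                by_cases hyW : y ∈ W
                · exact (Subgroup.zpowers_le.2 hu') hyW
                · have hm : y * v⁻¹ ∈ W := (Subgroup.mul_mem_iff_of_index_two
                    (H := W.subgroupOf Y) hWidx (a := ⟨y, hy⟩) (b := ⟨v⁻¹, inv_mem hvY⟩)).2
                    ⟨fun a => absurd a hyW, fun a => absurd (inv_mem_iff.1 a) hv⟩
                  have := mul_mem ((Subgroup.zpowers_le.2 hu') hm) hv'
                  rwa [inv_mul_cancel_right] at this
              have hcc := commute_closure (s := ({u, v} : Set S)) (by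
                rintro _ (rfl | rfl) _ (rfl | rfl)
                exacts [rfl, hcomm.symm, hcomm, rfl])
              show (b : S) * (a : S) = (a : S) * (b : S)
              have e0 := hcc.is_comm.comm ⟨_, hgen _ b.2⟩ ⟨_, hgen _ a.2⟩
              exact congrArg Subtype.val e0
            have h2 := hex.2
            rw [this, Subgroup.card_top, hncard] at h2
            norm_num at h2
          exact hv (hW.symm ▸ hvY)
        · have hcz : u * v * z = z * (u * v) := hmemZ hzZ _ (mul_mem huY hvY)
          rw [hcz, ← e, commutatorElement_def]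
          group
      -- every element outside the centre has order four
      have huz' : z * u = u * z := (hmemZ hzZ u huY).symm
      have hvz' : z * v = v * z := (hmemZ hzZ v hvY).symm
      have hWel : ∀ y ∈ W, y = 1 ∨ y = z ∨ y = u ∨ y = u * z := by
        rintro _ ⟨m, rfl⟩
        show u ^ m = 1 ∨ u ^ m = z ∨ u ^ m = u ∨ u ^ m = u * z
        rw [← zpow_mod_orderOf, hu4, show ((4 : ℕ) : ℤ) = 4 from rfl]
        rcases (show m % 4 = 0 ∨ m % 4 = 1 ∨ m % 4 = 2 ∨ m % 4 = 3 by omega) with e | e | e | e <;> rw [e]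
        · exact Or.inl (zpow_zero u)
        · exact Or.inr (Or.inr (Or.inl (zpow_one u)))
        · exact Or.inr (Or.inl (by rw [show (2 : ℤ) = ((2 : ℕ) : ℤ) from rfl, zpow_natCast, sq, hu]))
        · exact Or.inr (Or.inr (Or.inr (by
            rw [show (3 : ℤ) = ((3 : ℕ) : ℤ) from rfl, zpow_natCast, pow_succ', sq, hu])))
      by_cases htW : t ∈ W
      · rcases hWel t htW with h | h | h | h
        · exact hcon.1 h
        · exact hcon.2 h
        · rw [h, hu] at ht2; exact hz1 ht2
        · rw [h, mul_assoc, ← mul_assoc z, huz', mul_assoc, hzz, mul_one, hu] at ht2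
          exact hz1 ht2
      · have hm : v⁻¹ * t ∈ W := (Subgroup.mul_mem_iff_of_index_two (H := W.subgroupOf Y) hWidx
          (a := ⟨v⁻¹, inv_mem hvY⟩) (b := ⟨t, ht⟩)).2
          ⟨fun a => absurd (inv_mem_iff.1 a) hv, fun a => absurd a htW⟩
        have ht' : t = v * (v⁻¹ * t) := by group
        have hvw : ∀ w ∈ Y, v * w * z * (v * w * z) = v * w * (v * w) := fun w hw => by
          have e := hmemZ hzZ _ (mul_mem hvY hw)
          calc v * w * z * (v * w * z) = v * w * (z * (v * w)) * z := by group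
            _ = v * w * (v * w * z) * z := by rw [← e]
            _ = v * w * (v * w) * (z * z) := by group
            _ = v * w * (v * w) := by rw [hzz, mul_one]
        have hvu2 : v * u * (v * u) = z := by
          calc v * u * (v * u) = v * (u * (v * u)) := by group
            _ = v * (u * (u * v * z)) := by rw [hvu]
            _ = v * ((u * u) * (v * z)) := by group
            _ = v * (z * (v * z)) := by rw [hu]
            _ = v * (z * v) * z := by group
            _ = v * v * (z * z) := by rw [hvz']; group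
            _ = z := by rw [hv2, hzz, mul_one]
        rw [ht'] at ht2
        rcases hWel _ hm with h | h | h | h <;> rw [h] at ht2
        · rw [mul_one, hv2] at ht2; exact hz1 ht2
        · have hvz2 : v * z * (v * z) = z := by
            calc v * z * (v * z) = v * (z * v) * z := by group
              _ = v * (v * z) * z := by rw [hvz']
              _ = (v * v) * (z * z) := by group
              _ = z := by rw [hv2, hzz, mul_one]
          rw [hvz2] at ht2; exact hz1 ht2
        · rw [hvu2] at ht2; exact hz1 ht2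
        · rw [← mul_assoc v u z, hvw u huY, hvu2] at ht2; exact hz1 ht2
    · -- larger extraspecial groups are not small
      exfalso
      have h32 : 32 ≤ Nat.card Y := by
        rw [hncard]
        exact le_trans (by norm_num) (Nat.pow_le_pow_right two_pos (show 5 ≤ 2 * n + 1 by omega))
      obtain ⟨u, huY, huZ⟩ := SetLike.not_le_iff_exists.1 (show ¬ Y ≤ Zc from fun hle => by
        have := Subgroup.card_le_of_le hle
        omega)
      set C := Y ⊓ Subgroup.centralizer ({u} : Set S)
      have hC : Nat.card Y ≤ 2 * Nat.card C := by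
        have hidx : C.relIndex Y ≤ 2 := by
          rw [Subgroup.relIndex, Subgroup.index, ← hcardZ]
          let f : Y → Zc := fun y => ⟨⁅(y : S), u⁆, hcom _ y.2 u huY⟩
          refine Nat.card_le_card_of_injective (fun q => f q.out) fun q q' e => ?_
          have e' : ⁅((q.out : Y) : S), u⁆ = ⁅((q'.out : Y) : S), u⁆ := congrArg Subtype.val e
          rw [← QuotientGroup.out_eq' q, ← QuotientGroup.out_eq' q', QuotientGroup.eq,
            Subgroup.mem_subgroupOf]
          refine Subgroup.mem_inf.2 ⟨((q.out)⁻¹ * q'.out).2, Subgroup.mem_centralizer_singleton_iff.2 ?_⟩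
          simp only [commutatorElement_def, mul_left_inj] at e'
          show ((q.out : Y) : S)⁻¹ * (q'.out : Y) * u = u * (((q.out : Y) : S)⁻¹ * (q'.out : Y))
          generalize ((q.out : Y) : S) = a at e' ⊢
          generalize ((q'.out : Y) : S) = b at e' ⊢
          calc a⁻¹ * b * u = a⁻¹ * (b * u * b⁻¹) * b := by group
            _ = _ := by rw [← e']; group
        have h := Subgroup.relIndex_mul_relIndex (⊥ : Subgroup S) C Y bot_le inf_le_left
        rw [Subgroup.relIndex_bot_left, Subgroup.relIndex_bot_left] at h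
        rw [← h, mul_comm 2]
        exact Nat.mul_le_mul_left _ hidx
      set P := Subgroup.closure (insert u (Zc : Set S)) with hP
      have hPcard : Nat.card P ≤ 4 := by
        have hPle : P ≤ Subgroup.zpowers u ⊔ Zc := by
          rw [Subgroup.closure_le]
          rintro a (rfl | ha)
          exacts [Subgroup.mem_sup_left (Subgroup.mem_zpowers _), Subgroup.mem_sup_right ha]
        refine (Subgroup.card_le_of_le hPle).trans ?_
        have hnZ : Subgroup.zpowers u ≤ Subgroup.normalizer (Zc : Set S) := by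
          rw [Subgroup.zpowers_le]
          refine Subgroup.centralizer_le_normalizer _ ?_
          exact Subgroup.mem_centralizer_iff.2 fun a ha => (hmemZ ha u huY).symm
        have hc := CfsgLib.Coprime.card_sup_mul_card_inf hnZ
        rw [Nat.card_zpowers] at hc
        rcases huz _ (hsq u huY) with e | e
        · have ho : orderOf u ≤ 2 := Nat.le_of_dvd two_pos (orderOf_dvd_of_pow_eq_one (by rw [sq, e]))
          rw [hcardZ] at hc
          have hpos : 0 < Nat.card (Subgroup.zpowers u ⊓ Zc : Subgroup S) := Nat.card_pos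
          nlinarith
        · have hzu : z ∈ Subgroup.zpowers u := e ▸ mul_mem (Subgroup.mem_zpowers u) (Subgroup.mem_zpowers u)
          have hinf : (Subgroup.zpowers u ⊓ Zc : Subgroup S) = Zc := inf_eq_right.2 fun a ha => by
            rcases huz a ha with h | h <;> rw [h]
            exacts [one_mem _, hzu]
          rw [hinf, hcardZ] at hc
          have ho : orderOf u ≤ 4 := Nat.le_of_dvd (by norm_num) (orderOf_dvd_of_pow_eq_one (hpow4 u huY))
          omega
      obtain ⟨b, hbC, hbP⟩ := SetLike.not_le_iff_exists.1 (show ¬ C ≤ P from fun hle => by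
        have := Subgroup.card_le_of_le hle
        omega)
      obtain ⟨hbY, hbu⟩ := Subgroup.mem_inf.1 hbC
      have hKY : Subgroup.closure (insert b (insert u (Zc : Set S))) ≤ Y := by
        rw [Subgroup.closure_le]
        rintro a (rfl | rfl | ha)
        exacts [hbY, huY, hZY ha]
      refine not_small_of_exponent hKY hY2 (commute_closure ?_) (fun y hy => hpow4 y (hKY hy)) ?_ hY
      · rintro a (rfl | rfl | ha) c (rfl | rfl | hc')
        exacts [rfl, Subgroup.mem_centralizer_singleton_iff.1 hbu,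
          hmemZ hc' _ hbY, (Subgroup.mem_centralizer_singleton_iff.1 hbu).symm, rfl, hmemZ hc' _ huY,
          (hmemZ ha _ hbY).symm, (hmemZ ha _ huY).symm, (hmemZ ha _ (hZY hc')).symm]
      · have hlt : P < Subgroup.closure (insert b (insert u (Zc : Set S))) :=
          lt_of_le_of_ne (Subgroup.closure_mono (Set.subset_insert _ _)) fun e =>
            hbP (e ▸ Subgroup.subset_closure (Set.mem_insert _ _))
        have hlt' : Zc < P := lt_of_le_of_ne (fun a ha => Subgroup.subset_closure (Set.mem_insert_of_mem _ ha))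
          fun e => huZ (e ▸ Subgroup.subset_closure (Set.mem_insert _ _))
        have h1 := Subgroup.card_dvd_of_le hlt'.le
        have h1' : Nat.card Zc < Nat.card P := lt_of_not_ge fun hge =>
          hlt'.ne (Subgroup.eq_of_le_of_card_ge hlt'.le hge)
        have h2' : Nat.card P < Nat.card (Subgroup.closure (insert b (insert u (Zc : Set S)))) :=
          lt_of_not_ge fun hge => hlt.ne (Subgroup.eq_of_le_of_card_ge hlt.le hge)
        rw [hcardZ] at h1 h1'
        omega
  · -- special with centre of order four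
    exfalso
    have hphi : phi Y = Zc := by rw [phi, hsp.2.1]
    rw [hZ4] at hcardZ
    have hZexp : ∀ a ∈ Zc, a ^ 4 = 1 := fun a ha => by
      have := pow_card_eq_one' (G := Zc) (x := ⟨a, ha⟩)
      rw [hcardZ] at this
      exact congrArg Subtype.val this
    obtain ⟨u, huY, huZ⟩ := SetLike.not_le_iff_exists.1 (show ¬ Y ≤ Zc from fun hle => hnt (by
      have hab : IsMulCommutative Y := isMulCommutative_of fun a ha b hb => hmemZ (hle hb) a ha
      have h1 : commutator Y = ⊥ := by
        rw [_root_.commutator_def, Subgroup.commutator_eq_bot_iff_le_centralizer]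
        exact fun a _ => Subgroup.mem_centralizer_iff.2 fun b _ => hab.is_comm.comm b a
      have h2 : Nat.card (Subgroup.center Y) = 1 := by rw [← hsp.2.2, h1, Subgroup.card_bot]
      omega))
    have hKY : Subgroup.closure (insert u (Zc : Set S)) ≤ Y := by
      rw [Subgroup.closure_le]
      rintro a (rfl | ha)
      exacts [huY, hZY ha]
    have hc : IsMulCommutative (Subgroup.closure (insert u (Zc : Set S))) := commute_closure (by
      rintro a (rfl | ha) c (rfl | hc')
      exacts [rfl, hmemZ hc' _ huY, (hmemZ ha _ huY).symm, (hmemZ ha _ (hZY hc')).symm])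
    have hu2 : u * u ∈ Zc := hphi ▸ mul_self_mem_phi hY2 huY
    have hZ2 : ∀ a ∈ Zc, a * a = 1 := by
      have hgen : commutator Y ≤ ({
        carrier := {a : Y | a ∈ Subgroup.center Y ∧ a ^ 2 = 1}
        mul_mem' := fun {a b} ha hb => ⟨mul_mem ha.1 hb.1, by
          rw [Commute.mul_pow (Subgroup.mem_center_iff.1 hb.1 a), ha.2, hb.2, one_mul]⟩
        one_mem' := ⟨one_mem _, one_pow 2⟩
        inv_mem' := fun {a} ha => ⟨inv_mem ha.1, by rw [inv_pow, ha.2, inv_one]⟩ } : Subgroup Y) := by
        rw [commutator_eq_closure, Subgroup.closure_le]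
        rintro _ ⟨a, b, rfl⟩
        have hc1 : ⁅a, b⁆ ∈ Subgroup.center Y := hsp.2.2 ▸
          Subgroup.commutator_mem_commutator (Subgroup.mem_top a) (Subgroup.mem_top b)
        refine ⟨hc1, ?_⟩
        rw [← CfsgLib.PGroups.MetacyclicTwoAut.commutatorElement_pow_left rfl hc1, commutatorElement_eq_one_iff_mul_comm]
        have ha2 : a ^ 2 ∈ Subgroup.center Y := hsp.2.1 ▸ CfsgLib.PGroups.pow_mem_frattini hY2 a
        exact (Subgroup.mem_center_iff.1 ha2 b).symm
      rintro _ ⟨a, ha, rfl⟩
      rw [← hsp.2.2] at ha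
      rw [← sq]
      exact congrArg Subtype.val (hgen ha).2
    refine not_small_of_exponent hKY hY2 hc (fun y hy => ?_) ?_ hY
    · have h4 : ∀ g ∈ insert u (Zc : Set S), g ^ 4 = 1 := by
        rintro g (rfl | hg)
        · rw [show 4 = 2 * 2 from rfl, pow_mul, sq, sq, hZ2 _ hu2]
        · exact hZexp g hg
      induction hy using Subgroup.closure_induction with
      | mem g hg => exact h4 g hg
      | one => exact one_pow 4
      | mul a b ha hb iha ihb =>
        rw [Commute.mul_pow (congrArg Subtype.val (hc.is_comm.comm ⟨a, ha⟩ ⟨b, hb⟩)), iha, ihb, one_mul]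
      | inv a _ iha => rw [inv_pow, iha, inv_one]
    · have hlt : Zc < Subgroup.closure (insert u (Zc : Set S)) :=
        lt_of_le_of_ne (fun a ha => Subgroup.subset_closure (Set.mem_insert_of_mem _ ha)) fun e =>
          huZ (e ▸ Subgroup.subset_closure (Set.mem_insert _ _))
      rw [← hcardZ]
      exact lt_of_not_ge fun hge => hlt.ne (Subgroup.eq_of_le_of_card_ge hlt.le hge)

theorem main_aux : ∀ (n : ℕ) {X H : Subgroup S}, Nat.card X = n → IsPGroup 2 X → Odd (Nat.card H) →
    H ≤ Subgroup.normalizer (X : Set S) → ¬ H ≤ Subgroup.centralizer (X : Set S) →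
    (∀ Y : Subgroup S, Y ≤ X → Y ≠ X → H ≤ Subgroup.normalizer (Y : Set S) → Small Y) → Shape X := by
  classical
  haveI : Fact (Nat.Prime 2) := ⟨Nat.prime_two⟩
  intro n
  induction n using Nat.strong_induction_on with
  | _ n ih =>
  intro X H hn hX hH hnX hnt hmin
  have hcop := coprime_of_odd hH hX
  have hsol : Group.IsSolvable X := haveI := hX.isNilpotent; inferInstance
  have hkind : ∀ Y : Subgroup S, Y ≤ X → Y ≠ X → H ≤ Subgroup.normalizer (Y : Set S) →
      ¬ H ≤ Subgroup.centralizer (Y : Set S) → Kind Y := by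
    intro Y hYX hne hnY hntY
    have hlt : Nat.card Y < n := hn ▸ lt_of_not_ge fun hge => hne (Subgroup.eq_of_le_of_card_ge hYX hge)
    exact kind_of_small (hmin Y hYX hne hnY) (hX.to_le hYX) hH hnY hntY
      (ih _ hlt rfl (hX.to_le hYX) hH hnY hntY fun Z hZY _ _ => small_mono (hmin Y hYX hne hnY) hZY)
  have hsup_inv : ∀ {N : Subgroup S} {c : S}, H ≤ Subgroup.normalizer (N : Set S) →
      c ∈ Subgroup.centralizer (H : Set S) →
      H ≤ Subgroup.normalizer ((N ⊔ Subgroup.zpowers c : Subgroup S) : Set S) := by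
    intro N c hN hc
    refine CfsgLib.Coprime.le_normalizer_sup_sup hN ?_
    refine le_trans ?_ (Subgroup.centralizer_le_normalizer _)
    rw [Subgroup.le_centralizer_iff]
    exact Subgroup.zpowers_le.2 hc
  by_cases hXH : ⁅X, H⁆ = X
  swap
  · -- `[X, H]` is a proper subgroup
    set N := ⁅X, H⁆ with hNdef
    have hNX : N ≤ X := CfsgLib.Coprime.commutator_le_of_le_normalizer hnX
    have hNN : ⁅N, H⁆ = N := CfsgLib.Coprime.commutator_commutator_eq hnX hcop (Or.inr hsol)
    have hnN : H ≤ Subgroup.normalizer (N : Set S) := by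
      intro h hh
      have hone : ∀ g ∈ H, ∀ y ∈ N, g * y * g⁻¹ ∈ N := by
        intro g hg y hy
        have hle : N ≤ Subgroup.comap (MulAut.conj g).toMonoidHom N := by
          rw [hNdef, Subgroup.commutator_le]
          intro a ha b hb
          show g * ⁅a, b⁆ * g⁻¹ ∈ ⁅X, H⁆
          rw [show g * ⁅a, b⁆ * g⁻¹ = ⁅g * a * g⁻¹, g * b * g⁻¹⁆ by
            simp only [commutatorElement_def]; group]
          exact Subgroup.commutator_mem_commutator ((Subgroup.mem_normalizer_iff.1 (hnX hg) _).1 ha)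
            (mul_mem (mul_mem hg hb) (inv_mem hg))
        exact hle hy
      rw [Subgroup.mem_normalizer_iff]
      exact fun y => ⟨hone h hh y, fun hy => by simpa [mul_assoc] using hone h⁻¹ (inv_mem hh) _ hy⟩
    have hntN : ¬ H ≤ Subgroup.centralizer (N : Set S) := fun hle => by
      have hbot : ⁅N, H⁆ = ⊥ := Subgroup.commutator_eq_bot_iff_le_centralizer.2
        (Subgroup.le_centralizer_iff.1 hle)
      refine hnt (centralizes_of_trivial hnX hcop hX ?_)
      exact hbot
    have hXN : X ≤ Subgroup.normalizer (N : Set S) := normalizes_commutator hnX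
    have hsup := CfsgLib.Coprime.commutator_sup_centralizer hnX hcop (Or.inr hsol)
    rcases hkind N hNX hXH hnN hntN with ⟨h4, hc, h2⟩ | hq
    · have hcen := four_central hX hH hnX h4 hc h2 hNX hXN hnN hntN
      obtain ⟨c, hc', hcN, hc2⟩ := exists_sq_mem (hX.to_le inf_le_left)
        (show ¬ (X ⊓ Subgroup.centralizer (H : Set S)) ≤ N from fun hle =>
          hXH (hsup ▸ (sup_eq_left.2 hle).symm))
      obtain ⟨hcX, hcH⟩ := Subgroup.mem_inf.1 hc'
      have hUX : N ⊔ Subgroup.zpowers c ≤ X := sup_le hNX (Subgroup.zpowers_le.2 hcX)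
      have hcn : ∀ a ∈ N, a * c = c * a := fun a ha =>
        Subgroup.mem_centralizer_iff.1 (hcen hcX) a ha
      have hUc : IsMulCommutative (N ⊔ Subgroup.zpowers c : Subgroup S) := by
        rw [Subgroup.zpowers_eq_closure, ← Subgroup.closure_eq N, ← Subgroup.closure_union]
        refine commute_closure ?_
        rintro a (ha | rfl) b (hb | rfl)
        exacts [congrArg Subtype.val (hc.is_comm.comm ⟨a, ha⟩ ⟨b, hb⟩), hcn a ha, (hcn b hb).symm, rfl]
      have hUns : ¬ Small (N ⊔ Subgroup.zpowers c) := by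
        refine not_small_of_exponent le_rfl (hX.to_le hUX) hUc (fun y hy => ?_) ?_
        · have hy' : y ∈ Subgroup.closure ((N : Set S) ∪ {c}) := by
            rwa [Subgroup.closure_union, Subgroup.closure_eq, ← Subgroup.zpowers_eq_closure]
          induction hy' using Subgroup.closure_induction with
          | mem g hg =>
            rcases hg with hg | rfl
            · rw [show 4 = 2 * 2 from rfl, pow_mul, sq g, h2 g hg, one_pow]
            · rw [show 4 = 2 * 2 from rfl, pow_mul, sq g, sq, h2 _ hc2]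
          | one => exact one_pow 4
          | mul a b ha hb iha ihb =>
            rw [Subgroup.closure_union, Subgroup.closure_eq, ← Subgroup.zpowers_eq_closure] at ha hb
            rw [Commute.mul_pow (congrArg Subtype.val (hUc.is_comm.comm ⟨a, ha⟩ ⟨b, hb⟩)), iha ha,
              ihb hb, one_mul]
          | inv a ha iha =>
            rw [Subgroup.closure_union, Subgroup.closure_eq, ← Subgroup.zpowers_eq_closure] at ha
            rw [inv_pow, iha ha, inv_one]
        · rw [← h4]
          exact lt_of_not_ge fun hge => hcN ((Subgroup.eq_of_le_of_card_ge le_sup_left hge).ge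
            (Subgroup.mem_sup_right (Subgroup.mem_zpowers c)))
      have hUeq : N ⊔ Subgroup.zpowers c = X := by
        by_contra hne
        exact hUns (hmin _ hUX hne (hsup_inv hnN hcH))
      exact Or.inl (hUeq ▸ hUc)
    · have hdec := q8_inner hX hH hq hNX hXN hnX hnN hntN
      set C := X ⊓ Subgroup.centralizer (N : Set S) with hCdef
      have hnC : H ≤ Subgroup.normalizer (C : Set S) := le_normalizer_centralizer' hnX hnN
      have hCne : C ⊓ N ≠ N := fun e => hq.2.1 (isMulCommutative_of fun a ha b hb =>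
        Subgroup.mem_centralizer_iff.1 (Subgroup.mem_inf.1 (Subgroup.mem_inf.1 (e.ge hb)).1).2 a ha)
      have hfix : H ≤ Subgroup.centralizer ((C ⊓ N : Subgroup S) : Set S) :=
        kind_invariant (Or.inr hq) hH inf_le_right hCne (CfsgLib.Coprime.le_normalizer_inf_inf hnC hnN)
      have hCH : H ≤ Subgroup.centralizer (C : Set S) := by
        refine centralizes_of_trivial hnC (coprime_of_odd hH (hX.to_le inf_le_left))
          (hX.to_le inf_le_left) ?_
        rw [Subgroup.commutator_eq_bot_iff_le_centralizer]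
        refine le_trans ?_ (Subgroup.le_centralizer_iff.1 hfix)
        exact le_inf (CfsgLib.Coprime.commutator_le_of_le_normalizer hnC)
          (Subgroup.commutator_mono inf_le_left le_rfl)
      obtain ⟨c, hcC, hcN, hc2⟩ := exists_sq_mem (hX.to_le inf_le_left)
        (show ¬ C ≤ N from fun hle => hXH ((sup_eq_left.2 hle).symm.trans hdec))
      obtain ⟨hcX, hcc⟩ := Subgroup.mem_inf.1 hcC
      have hcH : c ∈ Subgroup.centralizer (H : Set S) := Subgroup.le_centralizer_iff.1 hCH hcC
      have hUX : N ⊔ Subgroup.zpowers c ≤ X := sup_le hNX (Subgroup.zpowers_le.2 hcX)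
      have hUns : ¬ Small (N ⊔ Subgroup.zpowers c) := not_small_of_q8 hq le_sup_left
        (Subgroup.mem_sup_right (Subgroup.mem_zpowers c)) hcN hc2 hcc
      have hUeq : N ⊔ Subgroup.zpowers c = X := by
        by_contra hne
        exact hUns (hmin _ hUX hne (hsup_inv hnN hcH))
      refine Or.inr (Or.inl ⟨N, hNX, ?_, hq, hdec, fun hs => hUns (small_mono hs hUX)⟩)
      have hidx : (N.subgroupOf X).index = 2 := by
        rw [Subgroup.index_eq_two_iff]
        refine ⟨⟨c, hcX⟩, fun b => ?_⟩
        have hb : (b : S) ∈ N ⊔ Subgroup.zpowers c := hUeq.ge b.2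
        obtain ⟨m, hm, r, hr, hbe⟩ := (CfsgLib.Coprime.mem_sup_iff_of_le_normalizer
          (H := Subgroup.zpowers c) (N := N) (x := (b : S))
          (Subgroup.zpowers_le.2 (Subgroup.centralizer_le_normalizer _ hcc))).1 (sup_comm N _ ▸ hb)
        obtain ⟨j, rfl⟩ := Subgroup.mem_zpowers_iff.1 hm
        simp only [Subgroup.mem_subgroupOf, Subgroup.coe_mul, ← hbe]
        have hsq : ∀ i : ℤ, c ^ (2 * i) ∈ N := fun i => by
          rw [zpow_mul]
          refine zpow_mem ?_ i
          rw [show (2 : ℤ) = ((2 : ℕ) : ℤ) from rfl, zpow_natCast, sq]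
          exact hc2
        have hrc : r * c = c * r := Subgroup.mem_centralizer_iff.1 hcc r hr
        rcases Int.even_or_odd j with ⟨i, rfl⟩ | ⟨i, rfl⟩
        · have h1 : c ^ (i + i) * r ∈ N := mul_mem (by rw [← two_mul]; exact hsq i) hr
          exact Or.inr ⟨h1, fun hm' => hcN ((mul_mem_cancel_left h1).1 hm')⟩
        · refine Or.inl ⟨?_, fun hm' => hcN ?_⟩
          · rw [mul_assoc, hrc, ← mul_assoc, ← zpow_add_one]
            refine mul_mem ?_ hr
            rw [show 2 * i + 1 + 1 = 2 * (i + 1) by ring]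
            exact hsq _
          · have h1 := (mul_mem_cancel_right hr).1 hm'
            rw [zpow_add_one] at h1
            exact (mul_mem_cancel_left (hsq i)).1 h1
      exact hidx
  -- `X = [X, H]`
  by_cases hab : IsMulCommutative X
  · exact Or.inl hab
  have hXne : X ≠ ⊥ := fun e => hab (isMulCommutative_of fun a ha b hb => by
    rw [e, Subgroup.mem_bot] at ha hb
    rw [ha, hb])
  haveI : Nontrivial X := (Subgroup.nontrivial_iff_ne_bot X).2 hXne
  have hnormal : ∀ (K : Subgroup X) [K.Normal],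
      X ≤ Subgroup.normalizer ((K.map X.subtype : Subgroup S) : Set S) := by
    intro K hK x hx
    rw [Subgroup.mem_normalizer_iff]
    intro y
    constructor
    · rintro ⟨k, hk, rfl⟩
      exact ⟨_, hK.conj_mem k hk ⟨x, hx⟩, rfl⟩
    · rintro ⟨k, hk, e⟩
      exact ⟨_, hK.conj_mem k hk ⟨x, hx⟩⁻¹, by
        show x⁻¹ * (k : S) * (x⁻¹)⁻¹ = y
        rw [show (k : S) = x * y * x⁻¹ from e]; group⟩
  have hproper : ∀ K : Subgroup X, K ≠ ⊤ → (K.map X.subtype : Subgroup S) ≠ X := fun K hK e =>
    hK (Subgroup.map_injective X.subtype_injective (by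
      rw [e, ← MonoidHom.range_eq_map, Subgroup.range_subtype]))
  set Φ := phi X with hΦdef
  have hΦX : Φ ≤ X := phi_le X
  have hnΦ : H ≤ Subgroup.normalizer (Φ : Set S) := normalizes_char _ hnX
  have hΦne : Φ ≠ X := hproper _ CfsgLib.PGroups.frattini_ne_top
  have hΦcen : X ≤ Subgroup.centralizer (Φ : Set S) := by
    by_cases hfixΦ : H ≤ Subgroup.centralizer (Φ : Set S)
    · exact centralizes_of_commutator_eq hXH (hnormal _) hfixΦ
    rcases hkind Φ hΦX hΦne hnΦ hfixΦ with ⟨h4, hc, h2⟩ | hq
    · exact four_central hX hH hnX h4 hc h2 hΦX (hnormal _) hnΦ hfixΦ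
    · exfalso
      have hdec := q8_inner hX hH hq hΦX (hnormal _) hnX hnΦ hfixΦ
      have htop : (X ⊓ Subgroup.centralizer (Φ : Set S)).subgroupOf X = ⊤ := by
        refine frattini_nongenerating ?_
        rw [eq_top_iff]
        rintro ⟨x, hx⟩ -
        have hinj := Subgroup.map_injective (f := X.subtype) X.subtype_injective
        have hmap : ((X ⊓ Subgroup.centralizer (Φ : Set S)).subgroupOf X ⊔ frattini X).map X.subtype = X := by
          rw [Subgroup.map_sup, Subgroup.map_subgroupOf_eq_of_le inf_le_left, sup_comm]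
          exact hdec
        obtain ⟨y, hy, hye⟩ := Subgroup.mem_map.1 (hmap.symm ▸ hx :
          x ∈ ((X ⊓ Subgroup.centralizer (Φ : Set S)).subgroupOf X ⊔ frattini X).map X.subtype)
        have : y = ⟨x, hx⟩ := Subtype.ext hye
        exact this ▸ hy
      rw [Subgroup.subgroupOf_eq_top] at htop
      exact hq.2.1 (isMulCommutative_of fun a ha b hb =>
        Subgroup.mem_centralizer_iff.1 (htop.trans inf_le_right (hΦX hb)) a ha)
  have hFZ : frattini X ≤ Subgroup.center X := fun a ha => Subgroup.mem_center_iff.2 fun b =>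
    Subtype.ext (Subgroup.mem_centralizer_iff.1 (hΦcen b.2) a ⟨a, ha, rfl⟩).symm
  have hCF : commutator X ≤ frattini X := CfsgLib.PGroups.commutator_le_frattini hX
  set Z := (Subgroup.center X).map X.subtype with hZdef
  have hcardZ : Nat.card Z = Nat.card (Subgroup.center X) :=
    Subgroup.card_map_of_injective X.subtype_injective
  have hnZ : H ≤ Subgroup.normalizer (Z : Set S) := normalizes_char _ hnX
  have hZne : Z ≠ X := hproper _ fun e => hab (isMulCommutative_of fun a ha b hb =>
    congrArg Subtype.val (Subgroup.mem_center_iff.1 (e ▸ Subgroup.mem_top (⟨b, hb⟩ : X)) ⟨a, ha⟩))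
  have hZc : IsMulCommutative Z := isMulCommutative_of (by
    rintro _ ⟨a, ha, rfl⟩ _ ⟨b, -, rfl⟩
    exact congrArg Subtype.val (Subgroup.mem_center_iff.1 ha b).symm)
  have hsq : ∀ c ∈ commutator X, c * c = 1 := by
    intro c hc
    have hle : commutator X ≤ ({
      carrier := {a : X | a ∈ Subgroup.center X ∧ a * a = 1}
      mul_mem' := fun {a b} ha hb => ⟨mul_mem ha.1 hb.1, by
        rw [mul_assoc, ← mul_assoc b a b, Subgroup.mem_center_iff.1 ha.1 b, mul_assoc a b b, hb.2,
          mul_one, ha.2]⟩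
      one_mem' := ⟨one_mem _, one_mul 1⟩
      inv_mem' := fun {a} ha => ⟨inv_mem ha.1, by rw [← mul_inv_rev, ha.2, inv_one]⟩ } : Subgroup X) := by
      rw [commutator_eq_closure, Subgroup.closure_le]
      rintro _ ⟨a, b, rfl⟩
      have hc1 : ⁅a, b⁆ ∈ Subgroup.center X :=
        hFZ (hCF (Subgroup.commutator_mem_commutator (Subgroup.mem_top a) (Subgroup.mem_top b)))
      refine ⟨hc1, ?_⟩
      rw [← sq, ← CfsgLib.PGroups.MetacyclicTwoAut.commutatorElement_pow_left rfl hc1, commutatorElement_eq_one_iff_mul_comm]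
      exact (Subgroup.mem_center_iff.1 (hFZ (CfsgLib.PGroups.pow_mem_frattini hX a)) b).symm
    exact (hle hc).2
  have hCne : commutator X ≠ ⊥ := fun e => hab (isMulCommutative_of fun a ha b hb => by
    have h1 : ⁅(⟨a, ha⟩ : X), (⟨b, hb⟩ : X)⁆ ∈ commutator X :=
      Subgroup.commutator_mem_commutator (Subgroup.mem_top _) (Subgroup.mem_top _)
    rw [e, Subgroup.mem_bot, commutatorElement_eq_one_iff_mul_comm] at h1
    exact congrArg Subtype.val h1)
  by_cases hfixZ : H ≤ Subgroup.centralizer (Z : Set S)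
  · have hZC : Subgroup.center X ≤ commutator X := by
      intro z hz
      haveI : Fintype H := Fintype.ofFinite _
      let φ : H → (X →* X) := fun g =>
        { toFun := fun x => ⟨(g : S) * x * (g : S)⁻¹, (Subgroup.mem_normalizer_iff.1 (hnX g.2) _).1 x.2⟩
          map_one' := Subtype.ext (by simp)
          map_mul' := fun x y => Subtype.ext (by simp [mul_assoc]) }
      let ν : X →* Abelianization X := ∏ g : H, Abelianization.of.comp (φ g)
      have hν : ∀ x : X, ν x = ∏ g : H, Abelianization.of (φ g x) := fun x =>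
        MonoidHom.finset_prod_apply _ _ _
      have hinv : ∀ (g : H) (x : X), ν (φ g x) = ν x := by
        intro g x
        rw [hν, hν]
        refine Fintype.prod_equiv (Equiv.mulRight g) _ _ fun a => ?_
        refine congrArg _ (Subtype.ext ?_)
        show (a : S) * ((g : S) * x * (g : S)⁻¹) * (a : S)⁻¹ = ((a : S) * g) * x * ((a : S) * g)⁻¹
        group
      have hker : ⁅X, H⁆ ≤ ν.ker.map X.subtype := by
        rw [Subgroup.commutator_le]
        intro x hx g hg
        refine ⟨⟨x, hx⟩ * (φ ⟨g, hg⟩ ⟨x, hx⟩)⁻¹, ?_, ?_⟩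
        · show ν _ = 1
          rw [map_mul, map_inv, hinv, mul_inv_cancel]
        · show x * (g * x * g⁻¹)⁻¹ = ⁅x, g⁆
          rw [commutatorElement_def]; group
      have hz1 : ν z = 1 := by
        obtain ⟨y, hy, hye⟩ := hker (hXH.symm ▸ z.2 : (z : S) ∈ ⁅X, H⁆)
        have : y = z := Subtype.ext hye
        exact this ▸ hy
      rw [hν, Finset.prod_congr rfl (fun g _ => show Abelianization.of (φ g z) = Abelianization.of z from
        congrArg _ (Subtype.ext (by
          show (g : S) * z * (g : S)⁻¹ = z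
          have e := Subgroup.mem_centralizer_iff.1 (hfixZ g.2) (z : S) ⟨z, hz, rfl⟩
          rw [← e, mul_inv_cancel_right]))),
        Finset.prod_const, Finset.card_univ, ← Nat.card_eq_fintype_card] at hz1
      obtain ⟨k, hk⟩ := hX z
      have hk' : (Abelianization.of z) ^ 2 ^ k = 1 := by rw [← map_pow, hk, map_one]
      have h1 : orderOf (Abelianization.of z) = 1 := Nat.eq_one_of_dvd_coprimes
        ((hH.coprime_two_right).pow_right k) (orderOf_dvd_of_pow_eq_one hz1) (orderOf_dvd_of_pow_eq_one hk')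
      rw [← QuotientGroup.eq_one_iff]
      exact orderOf_eq_one_iff.1 h1
    have e1 : commutator X = Subgroup.center X := le_antisymm (hCF.trans hFZ) hZC
    have e2 : frattini X = Subgroup.center X := le_antisymm hFZ (hZC.trans hCF)
    have hspecial : Cfsg.IsSpecial 2 X := ⟨hX, e2, e1⟩
    have hZ4 : Nat.card Z ≤ 4 := by
      by_cases hcy : IsCyclic Z
      · obtain ⟨g, hg⟩ := IsCyclic.exists_ofOrder_eq_natCard (α := Z)
        obtain ⟨⟨_, a, ha, rfl⟩, rfl⟩ : ∃ g' : Z, g' = g := ⟨g, rfl⟩
        rw [← hg]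
        refine le_trans (Nat.le_of_dvd two_pos (orderOf_dvd_of_pow_eq_one (Subtype.ext ?_))) (by norm_num)
        rw [← e1] at ha
        rw [Subgroup.coe_pow, sq]
        exact congrArg Subtype.val (hsq a ha)
      · exact (card_le_four_of_small (hmin Z (Subgroup.map_subtype_le _) hZne hnZ) le_rfl
          (hX.to_le (Subgroup.map_subtype_le _)) hZc hcy).1.le
    obtain ⟨k, hk⟩ := IsPGroup.iff_card.1 (hX.to_subgroup (Subgroup.center X))
    rw [hcardZ, hk] at hZ4
    rcases (show k = 0 ∨ k = 1 ∨ k = 2 by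
      by_contra hcon
      have : 2 ^ 3 ≤ 2 ^ k := Nat.pow_le_pow_right two_pos (by omega)
      omega) with rfl | rfl | rfl
    · exact absurd (e1.trans (Subgroup.card_eq_one.1 (hk.trans (pow_zero 2)))) hCne
    · exact Or.inr (Or.inr (Or.inl ⟨hspecial, hk.trans (pow_one 2)⟩))
    · exact Or.inr (Or.inr (Or.inr ⟨hspecial, hk.trans (by norm_num)⟩))
  · rcases hkind Z (Subgroup.map_subtype_le _) hZne hnZ hfixZ with ⟨h4, -, -⟩ | hq
    swap
    · exact absurd hZc hq.2.1
    have hkZ := hkind Z (Subgroup.map_subtype_le _) hZne hnZ hfixZ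
    set L := (commutator X).map X.subtype with hLdef
    have hLZ : L ≤ Z := Subgroup.map_mono (hCF.trans hFZ)
    have hnL : H ≤ Subgroup.normalizer (L : Set S) := normalizes_char _ hnX
    have hLeq : L = Z := by
      by_contra hne
      have hfix := kind_invariant hkZ hH hLZ hne hnL
      have hL1 : Nat.card L ≠ 1 := by
        rw [hLdef, Subgroup.card_map_of_injective X.subtype_injective]
        exact fun e => hCne (Subgroup.card_eq_one.1 e)
      have hd := Subgroup.card_dvd_of_le hLZ
      have hm := Subgroup.relIndex_mul_relIndex (⊥ : Subgroup S) L Z bot_le hLZ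
      rw [Subgroup.relIndex_bot_left, Subgroup.relIndex_bot_left, h4] at hm
      have hle : L ≤ Z ⊓ Subgroup.centralizer (H : Set S) :=
        le_inf hLZ (Subgroup.le_centralizer_iff.1 hfix)
      have hpos : 0 < L.relIndex Z := Nat.pos_of_ne_zero Subgroup.index_ne_zero_of_finite
      have h8 := Nat.le_of_dvd hpos (Subgroup.relIndex_dvd_of_le_left Z hle)
      have h3 := (kind_fixed_card hkZ hH hnZ hfixZ).2
      have hpos' : 0 < Nat.card L := Nat.card_pos
      have h5 : 2 ≤ Nat.card L := by omega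
      have h6 : L.relIndex Z ≤ 2 := by nlinarith
      omega
    have e1 : commutator X = Subgroup.center X :=
      Subgroup.map_injective X.subtype_injective hLeq
    have e2 : frattini X = Subgroup.center X := le_antisymm hFZ (e1 ▸ hCF)
    exact Or.inr (Or.inr (Or.inr ⟨⟨hX, e2, e1⟩, hcardZ ▸ h4⟩))

theorem main {X H : Subgroup S} (hX : IsPGroup 2 X) (hH : Odd (Nat.card H))
    (hnX : H ≤ Subgroup.normalizer (X : Set S)) (hnt : ¬ H ≤ Subgroup.centralizer (X : Set S))
    (hmin : ∀ Y : Subgroup S, Y ≤ X → Y ≠ X → H ≤ Subgroup.normalizer (Y : Set S) → Small Y) :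
    Shape X :=
  main_aux _ rfl hX hH hnX hnt hmin

end CfsgLib.FgsC.MinimalEight
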