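import Cfsg.Agent.Lib.FgsC.MinimalEight
import Cfsg.Agent.Lib.Coprime.Hall

/-!
# Solvable groups minimal with a non-cyclic abelian subgroup of order eight
-/

set_option autoImplicit false
set_option linter.style.haveILetI false
set_option linter.unusedSectionVars false

namespace CfsgLib.FgsC.MinimalEight

variable {S : Type*} [Group S] [Finite S]

theorem q8_mulEquiv {N : Subgroup S} (hN : Q8 N) : Nonempty (N ≃* QuaternionGroup 2) := by
  haveI : Fact (Nat.Prime 2) := ⟨Nat.prime_two⟩
  obtain ⟨h8, hnab, z, hzN, hz2, huniq⟩ := id hN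
  rcases CfsgLib.PGroups.isCyclic_or_quaternion_of_unique (q8_isPGroup hN) (z := (⟨z, hzN⟩ : N))
    (Subtype.ext (by rw [Subgroup.coe_pow, ← hz2, pow_orderOf_eq_one]; rfl))
    (fun y hy => by
      rw [sq] at hy
      rcases huniq y y.2 (congrArg Subtype.val hy) with h | h
      · rw [show y = 1 from Subtype.ext h]; exact one_mem _
      · rw [show y = ⟨z, hzN⟩ from Subtype.ext h]; exact Subgroup.mem_zpowers _) with hc | ⟨-, n, -, ⟨e⟩⟩
  · exact absurd (IsCyclic.commutative (α := N)) hnab
  · have hc := Nat.card_congr e.toEquiv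
    rw [h8, Nat.card_eq_fintype_card, QuaternionGroup.card] at hc
    have : (2 : ℕ) ^ n = 2 := by omega
    rw [this] at e
    exact ⟨e⟩

/-- A four-group or quaternion group containing its centraliser is not contained in a `2`-group
with a non-cyclic abelian subgroup of order eight. -/
theorem small_of_core {T : Subgroup S} (hT : Kind T) (hcen : Subgroup.centralizer (T : Set S) ≤ T)
    {A : Subgroup S} (hA2 : A ≤ Subgroup.normalizer (T : Set S))
    (hAc : IsMulCommutative A) (hAn : ¬ IsCyclic A) (hA8 : Nat.card A = 8)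
    : False := by
  classical
  haveI : Fact (Nat.Prime 2) := ⟨Nat.prime_two⟩
  haveI := hAc
  have hAp : IsPGroup 2 A := IsPGroup.of_card (n := 3) (by rw [hA8]; norm_num)
  have hTp := kind_isPGroup hT
  set D := A ⊓ T with hD
  have hAD : ∀ a ∈ A, ∀ b ∈ A, a * b = b * a := fun a ha b hb =>
    congrArg Subtype.val (hAc.is_comm.comm ⟨a, ha⟩ ⟨b, hb⟩)
  have hT8 : Nat.card T ≤ 8 := by rcases hT with ⟨h, -⟩ | h <;> [omega; exact h.1.le]
  -- the image of `A` in `Aut T`
  set P := T ⊔ A with hP
  have hPp : IsPGroup 2 P := IsPGroup.to_sup_of_normal_left' hTp hAp hA2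
  have hT1 : T ≠ ⊥ := fun e => by
    rcases hT with ⟨h, -⟩ | h
    · rw [e, Subgroup.card_bot] at h; omega
    · have h8 := h.1; rw [e, Subgroup.card_bot] at h8; omega
  haveI : (T.subgroupOf P).Normal := (Subgroup.normal_subgroupOf_iff_le_normalizer le_sup_left).2
    (sup_le Subgroup.le_normalizer hA2)
  rcases hT with ⟨h4, hTc, hT2⟩ | hq
  · -- a four-group
    have hne : T.subgroupOf P ≠ ⊥ := by
      rw [Ne, Subgroup.subgroupOf_eq_bot, disjoint_iff, inf_eq_left.2 le_sup_left]
      exact hT1
    obtain ⟨⟨z, hzP⟩, hz, hz1⟩ := (Subgroup.bot_or_exists_ne_one _).resolve_left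
      (CfsgLib.PGroups.inf_center_ne_bot hPp hne)
    obtain ⟨hzT, hzc⟩ := Subgroup.mem_inf.1 hz
    have hzT' : z ∈ T := hzT
    have hz1' : z ≠ 1 := fun e => hz1 (Subtype.ext e)
    have hzA : ∀ a ∈ A, a * z = z * a := fun a ha =>
      congrArg Subtype.val (Subgroup.mem_center_iff.1 hzc ⟨a, Subgroup.mem_sup_right ha⟩)
    obtain ⟨w, hwT, hwz⟩ : ∃ w ∈ T, w ∉ ({1, z} : Set S) := by
      by_contra hcon
      push Not at hcon
      have hle : Nat.card T ≤ 2 := by
        show Nat.card (T : Set S) ≤ 2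
        rw [Nat.card_coe_set_eq]
        refine le_trans (Set.ncard_le_ncard (t := ({1, z} : Set S)) hcon (Set.toFinite _)) ?_
        exact (Set.ncard_insert_le _ _).trans (by rw [Set.ncard_singleton])
      omega
    simp only [Set.mem_insert_iff, Set.mem_singleton_iff, not_or] at hwz
    have hel : ∀ t ∈ T, t = 1 ∨ t = z ∨ t = w ∨ t = z * w := by
      have hsub : ({1, z, w, z * w} : Set S) ⊆ T := by
        rintro t (rfl | rfl | rfl | rfl)
        exacts [one_mem _, hzT', hwT, mul_mem hzT' hwT]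
      have hc4 : ({1, z, w, z * w} : Set S).ncard = 4 := by
        rw [Set.ncard_insert_of_notMem, Set.ncard_insert_of_notMem, Set.ncard_pair]
        · intro e; exact hz1' (right_eq_mul.1 e)
        · rintro (e | e)
          · exact hwz.2 e.symm
          · exact hwz.1 (left_eq_mul.1 e)
        · rintro (e | e | e)
          · exact hz1' e.symm
          · exact hwz.1 e.symm
          · exact hwz.2 (by rw [eq_inv_of_mul_eq_one_right e.symm,
              inv_eq_of_mul_eq_one_right (hT2 z hzT')])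
      intro t ht
      have := Set.eq_of_subset_of_ncard_le hsub (by
        rw [hc4, ← Nat.card_coe_set_eq]; exact h4.le) (Set.toFinite _)
      exact this.ge ht
    -- `A ∩ C(T) ≤ T` has index at most two in `A`
    let f : A → S := fun a => (a : S) * w * (a : S)⁻¹
    have hfw : ∀ a : A, f a = w ∨ f a = z * w := by
      intro a
      rcases hel _ ((Subgroup.mem_normalizer_iff.1 (hA2 a.2) w).1 hwT) with h | h | h | h
      · exact absurd (conj_eq_one_iff.1 h) hwz.1
      · refine absurd ?_ hwz.2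
        have h' : (a : S) * w * (a : S)⁻¹ = (a : S) * z * (a : S)⁻¹ := by
          rw [hzA a a.2, mul_inv_cancel_right]; exact h
        exact mul_left_cancel (mul_right_cancel h')
      · exact Or.inl h
      · exact Or.inr h
    have hker : ∀ a b : A, f a = f b → ((a⁻¹ * b : A) : S) ∈ T := by
      intro a b e
      refine hcen (Subgroup.mem_centralizer_iff.2 fun t ht => ?_)
      have hcw : w * ((a : S)⁻¹ * b) = (a : S)⁻¹ * b * w := by
        have e' : (a : S) * w * (a : S)⁻¹ = (b : S) * w * (b : S)⁻¹ := e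
        calc w * ((a : S)⁻¹ * b) = (a : S)⁻¹ * ((a : S) * w * (a : S)⁻¹) * b := by group
          _ = _ := by rw [e']; group
      have hcz : z * ((a : S)⁻¹ * b) = (a : S)⁻¹ * b * z := (hzA _ (mul_mem (inv_mem a.2) b.2)).symm
      show t * ((a : S)⁻¹ * b) = (a : S)⁻¹ * b * t
      rcases hel t ht with rfl | rfl | rfl | rfl
      · rw [one_mul, mul_one]
      · exact hcz
      · exact hcw
      · rw [mul_assoc, hcw, ← mul_assoc, hcz, mul_assoc]
    -- `D` has at most four elements and at most two cosets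
    have hD4 : Nat.card D ≤ 4 := (Subgroup.card_le_of_le inf_le_right).trans h4.le
    have hidx : (D.subgroupOf A).index ≤ 2 := by
      rw [Subgroup.index]
      let g : A ⧸ D.subgroupOf A → Fin 2 := fun q => if f q.out = w then 0 else 1
      refine (Nat.card_le_card_of_injective g fun q q' e => ?_).trans (le_of_eq (Nat.card_fin 2))
      rw [← QuotientGroup.out_eq' q, ← QuotientGroup.out_eq' q', QuotientGroup.eq, Subgroup.mem_subgroupOf]
      refine Subgroup.mem_inf.2 ⟨(q.out⁻¹ * q'.out).2, hker _ _ ?_⟩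
      have hne : z * w ≠ w := fun e => hz1' (mul_eq_right.1 e)
      rcases hfw q.out with h1 | h1 <;> rcases hfw q'.out with h2 | h2 <;>
        simp [g, h1, h2, hne] at e <;> rw [h1, h2]
    have hm := Subgroup.relIndex_mul_relIndex (⊥ : Subgroup S) D A bot_le inf_le_left
    rw [Subgroup.relIndex_bot_left, Subgroup.relIndex_bot_left, hA8] at hm
    have hidx' : D.relIndex A ≤ 2 := hidx
    have hDeq : D = T := Subgroup.eq_of_le_of_card_ge inf_le_right (by nlinarith)
    have hTA : T ≤ A := hDeq ▸ inf_le_left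
    have hle : A ≤ T := fun a ha => hcen (Subgroup.mem_centralizer_iff.2 fun t ht => hAD t (hTA ht) a ha)
    have := Subgroup.card_le_of_le hle
    omega
  · -- a quaternion group
    obtain ⟨h8, hnab, z, hzN, hz2, huniq⟩ := id hq
    have hzz : z * z = 1 := by rw [← sq, ← hz2, pow_orderOf_eq_one]
    have hz1 : z ≠ 1 := fun e => by rw [e, orderOf_one] at hz2; omega
    have hcT : Nat.card (T.subgroupOf P) = 8 := by
      rw [Nat.card_congr (Subgroup.subgroupOfEquivOfLe le_sup_left).toEquiv, h8]
    obtain ⟨K₀, hK₀n, -, hK₀T, hK₀4⟩ := CfsgLib.PGroups.exists_normal_card_eq hPp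
      (N := (⊥ : Subgroup P)) (M := T.subgroupOf P) bot_le (k := 2)
      (by rw [Subgroup.card_bot]; norm_num) (by rw [hcT]; norm_num)
    set K : Subgroup S := K₀.map P.subtype with hKdef
    have hKT : K ≤ T := by
      rintro _ ⟨x, hx, rfl⟩
      exact Subgroup.mem_subgroupOf.1 (hK₀T hx)
    have hK4 : Nat.card K = 4 := by
      rw [hKdef, Subgroup.card_map_of_injective P.subtype_injective, hK₀4]; norm_num
    have hPK : ∀ x ∈ P, ∀ k ∈ K, x * k * x⁻¹ ∈ K := by
      rintro x hx _ ⟨k, hk, rfl⟩
      exact ⟨_, hK₀n.conj_mem k hk ⟨x, hx⟩, rfl⟩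
    have hKne : K ≠ T := fun e => by rw [e, h8] at hK4; omega
    haveI := q8_proper_cyclic hq hKT hKne
    obtain ⟨i₀, hi₀⟩ := IsCyclic.exists_ofOrder_eq_natCard (α := K)
    set i : S := (i₀ : S) with hi
    have hiord : orderOf i = 4 := by rw [hi, Subgroup.orderOf_coe, hi₀, hK4]
    have hiT : i ∈ T := hKT i₀.2
    have hKeq : K = Subgroup.zpowers i :=
      (Subgroup.eq_of_le_of_card_ge (Subgroup.zpowers_le.2 i₀.2) (by rw [Nat.card_zpowers, hiord, hK4])).symm
    have hi4 : i ^ 4 = 1 := by rw [← hiord, pow_orderOf_eq_one]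
    have hi2 : i * i = z := by
      refine (huniq _ (mul_mem hiT hiT) ?_).resolve_left fun e => ?_
      · rw [← hi4]; simp only [pow_succ, pow_zero, one_mul, mul_assoc]
      · have := Nat.le_of_dvd two_pos (orderOf_dvd_of_pow_eq_one (x := i) (by rw [sq, e]))
        omega
    have hKel : ∀ k ∈ K, k = 1 ∨ k = i ∨ k = z ∨ k = i * z := by
      intro k hk
      rw [hKeq] at hk
      obtain ⟨m, rfl⟩ := Subgroup.mem_zpowers_iff.1 hk
      rw [← zpow_mod_orderOf, hiord, show ((4 : ℕ) : ℤ) = 4 from rfl]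
      rcases (show m % 4 = 0 ∨ m % 4 = 1 ∨ m % 4 = 2 ∨ m % 4 = 3 by omega) with e | e | e | e <;> rw [e]
      · exact Or.inl (zpow_zero i)
      · exact Or.inr (Or.inl (zpow_one i))
      · exact Or.inr (Or.inr (Or.inl (by
          rw [show (2 : ℤ) = ((2 : ℕ) : ℤ) from rfl, zpow_natCast, sq, hi2])))
      · exact Or.inr (Or.inr (Or.inr (by
          rw [show (3 : ℤ) = ((3 : ℕ) : ℤ) from rfl, zpow_natCast, pow_succ', sq, hi2])))
    have hzT : ∀ y ∈ T, y * z = z * y := q8_central hq hz2 hzN
    have hKidx : (K.subgroupOf T).index = 2 := by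
      have h := Subgroup.relIndex_mul_relIndex (⊥ : Subgroup S) K T bot_le hKT
      rw [Subgroup.relIndex_bot_left, Subgroup.relIndex_bot_left, hK4, h8] at h
      have h' : K.relIndex T = 2 := by omega
      exact h'
    obtain ⟨j, hjT, hjK⟩ := SetLike.not_le_iff_exists.1 (show ¬ T ≤ K from fun hle => by
      have := Subgroup.card_le_of_le hle
      omega)
    have hij : ¬ i * j = j * i := fun e => hnab (by
      refine isMulCommutative_of fun a ha b hb => ?_
      have hall : ∀ y ∈ T, y ∈ Subgroup.closure ({i, j} : Set S) := by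
        intro y hy
        have hi' : i ∈ Subgroup.closure ({i, j} : Set S) := Subgroup.subset_closure (by simp)
        have hj' : j ∈ Subgroup.closure ({i, j} : Set S) := Subgroup.subset_closure (by simp)
        by_cases hyK : y ∈ K
        · rw [hKeq] at hyK; exact (Subgroup.zpowers_le.2 hi') hyK
        · have hm : y * j⁻¹ ∈ K := (Subgroup.mul_mem_iff_of_index_two (H := K.subgroupOf T) hKidx
            (a := ⟨y, hy⟩) (b := ⟨j⁻¹, inv_mem hjT⟩)).2
            ⟨fun a => absurd a hyK, fun a => absurd (inv_mem_iff.1 a) hjK⟩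
          rw [hKeq] at hm
          have := mul_mem ((Subgroup.zpowers_le.2 hi') hm) hj'
          rwa [inv_mul_cancel_right] at this
      have hcc := commute_closure (s := ({i, j} : Set S)) (by
        rintro _ (rfl | rfl) _ (rfl | rfl)
        exacts [rfl, e, e.symm, rfl])
      exact congrArg Subtype.val (hcc.is_comm.comm ⟨a, hall a ha⟩ ⟨b, hall b hb⟩))
    have hfixij : ∀ c : S, c * i * c⁻¹ = i → c * j * c⁻¹ = j → c ∈ T := by
      intro c h1 h2
      refine hcen (Subgroup.mem_centralizer_iff.2 fun y hy => ?_)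
      have hcen' : ∀ g ∈ ({i, j} : Set S), g * c = c * g := by
        rintro g (rfl | rfl)
        exacts [(mul_inv_eq_iff_eq_mul.1 h1).symm, (mul_inv_eq_iff_eq_mul.1 h2).symm]
      by_cases hyK : y ∈ K
      · rw [hKeq] at hyK
        obtain ⟨m, rfl⟩ := Subgroup.mem_zpowers_iff.1 hyK
        exact (Commute.zpow_left (hcen' i (by simp) : Commute i c) m).eq
      · have hm : y * j⁻¹ ∈ K := (Subgroup.mul_mem_iff_of_index_two (H := K.subgroupOf T) hKidx
            (a := ⟨y, hy⟩) (b := ⟨j⁻¹, inv_mem hjT⟩)).2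
            ⟨fun a => absurd a hyK, fun a => absurd (inv_mem_iff.1 a) hjK⟩
        rw [hKeq] at hm
        obtain ⟨m, hm⟩ := Subgroup.mem_zpowers_iff.1 hm
        rw [show y = i ^ m * j by rw [hm, inv_mul_cancel_right]]
        exact (Commute.mul_left (Commute.zpow_left (hcen' i (by simp) : Commute i c) m)
          (hcen' j (by simp) : Commute j c)).eq
    have hiji : i * j * i⁻¹ = j * z := by
      have hjj : j * i * j⁻¹ ∈ K := hPK j (Subgroup.mem_sup_left hjT) i i₀.2
      have e : j * i * j⁻¹ = i * z := by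
        rcases hKel _ hjj with h | h | h | h
        · rw [conj_eq_one_iff] at h
          rw [h, orderOf_one] at hiord; omega
        · exact absurd (mul_inv_eq_iff_eq_mul.1 h).symm hij
        · exfalso
          have h1 : j * (i * i) * j⁻¹ = 1 := by rw [← conj_mul, h, hzz]
          rw [conj_eq_one_iff, hi2] at h1
          exact hz1 h1
        · exact h
      have e2 : j * i = i * z * j := mul_inv_eq_iff_eq_mul.1 e
      rw [mul_inv_eq_iff_eq_mul]
      calc i * j = i * (j * z * z) := by rw [mul_assoc j z z, hzz, mul_one]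
        _ = i * (z * j) * z := by rw [← hzT j hjT]; group
        _ = (i * z * j) * z := by group
        _ = j * i * z := by rw [e2]
        _ = j * z * i := by rw [mul_assoc, mul_assoc, hzT i hiT]
    -- the elements of `A` centralizing `i`
    let A1 := A ⊓ Subgroup.centralizer ({i} : Set S)
    have hA1idx : A1.relIndex A ≤ 2 := by
      have himgA : ∀ a : A, (a : S) * i * (a : S)⁻¹ = i ∨ (a : S) * i * (a : S)⁻¹ = i * z := by
        intro a
        rcases hKel _ (hPK a (Subgroup.mem_sup_right a.2) i i₀.2) with h | h | h | h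
        · rw [conj_eq_one_iff] at h
          rw [h, orderOf_one] at hiord; omega
        · exact Or.inl h
        · exfalso
          have h1 : (a : S) * (i * i) * (a : S)⁻¹ = 1 := by rw [← conj_mul, h, hzz]
          rw [conj_eq_one_iff, hi2] at h1
          exact hz1 h1
        · exact Or.inr h
      show (A1.subgroupOf A).index ≤ 2
      rw [Subgroup.index]
      let g : A ⧸ A1.subgroupOf A → Fin 2 :=
        fun q => if (q.out : S) * i * (q.out : S)⁻¹ = i then 0 else 1
      refine (Nat.card_le_card_of_injective g fun q q' e => ?_).trans (le_of_eq (Nat.card_fin 2))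
      rw [← QuotientGroup.out_eq' q, ← QuotientGroup.out_eq' q', QuotientGroup.eq, Subgroup.mem_subgroupOf]
      refine Subgroup.mem_inf.2 ⟨(q.out⁻¹ * q'.out).2, Subgroup.mem_centralizer_singleton_iff.2 ?_⟩
      have e' : (q.out : S) * i * (q.out : S)⁻¹ = (q'.out : S) * i * (q'.out : S)⁻¹ := by
        have hne : i * z ≠ i := fun e => hz1 (mul_eq_left.1 e)
        rcases himgA q.out with h1 | h1 <;> rcases himgA q'.out with h2 | h2 <;>
          simp [g, h1, h2, hne] at e <;> rw [h1, h2]
      show (q.out : S)⁻¹ * (q'.out : S) * i = i * ((q.out : S)⁻¹ * (q'.out : S))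
      calc (q.out : S)⁻¹ * (q'.out : S) * i
          = (q.out : S)⁻¹ * ((q'.out : S) * i * (q'.out : S)⁻¹) * (q'.out : S) := by group
        _ = _ := by rw [← e']; group
    have hA1T : A1 ≤ T := by
      intro a ha
      obtain ⟨haA, hai'⟩ := Subgroup.mem_inf.1 ha
      have hai : a * i * a⁻¹ = i := mul_inv_eq_iff_eq_mul.2 (Subgroup.mem_centralizer_singleton_iff.1 hai')
      have hajT : a * j * a⁻¹ ∈ T := (Subgroup.mem_normalizer_iff.1 (hA2 haA) j).1 hjT
      have hajK : a * j * a⁻¹ ∉ K := fun hm => hjK (by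
        have := hPK a⁻¹ (inv_mem (Subgroup.mem_sup_right haA)) _ hm
        simpa [mul_assoc] using this)
      have hk : j⁻¹ * (a * j * a⁻¹) ∈ K := (Subgroup.mul_mem_iff_of_index_two (H := K.subgroupOf T) hKidx
            (a := ⟨j⁻¹, inv_mem hjT⟩) (b := ⟨a * j * a⁻¹, hajT⟩)).2
            ⟨fun h => absurd (inv_mem_iff.1 h) hjK, fun h => absurd h hajK⟩
      by_contra haT
      -- `a` moves `j` by a generator
      have hgen : ∀ e : S, (e = i ∨ e = i * z) → a * j * a⁻¹ = j * e → False := by
        intro e he haj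
        have haz : a * z * a⁻¹ = z := by rw [← hi2, ← conj_mul, hai]
        have hae : a * e * a⁻¹ = e := by
          rcases he with rfl | rfl
          · exact hai
          · rw [← conj_mul, hai, haz]
        have hee : e * e = z := by
          rcases he with rfl | rfl
          · exact hi2
          · calc i * z * (i * z) = i * (z * i) * z := by group
              _ = i * (i * z) * z := by rw [← hzT i hiT]
              _ = (i * i) * (z * z) := by group
              _ = z := by rw [hi2, hzz, mul_one]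
        have ha2j : (a * a) * j * (a * a)⁻¹ = j * z := by
          calc (a * a) * j * (a * a)⁻¹ = a * (a * j * a⁻¹) * a⁻¹ := by group
            _ = a * (j * e) * a⁻¹ := by rw [haj]
            _ = (a * j * a⁻¹) * (a * e * a⁻¹) := by rw [conj_mul]
            _ = j * (e * e) := by rw [haj, hae, mul_assoc]
            _ = j * z := by rw [hee]
        have ha2i : (a * a) * i * (a * a)⁻¹ = i := by
          calc (a * a) * i * (a * a)⁻¹ = a * (a * i * a⁻¹) * a⁻¹ := by group
            _ = i := by rw [hai, hai]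
        -- so `a * a` acts as `i`
        have hmem : i⁻¹ * (a * a) ∈ T := by
          refine hfixij _ ?_ ?_
          · calc i⁻¹ * (a * a) * i * (i⁻¹ * (a * a))⁻¹ = i⁻¹ * ((a * a) * i * (a * a)⁻¹) * i := by group
              _ = i := by rw [ha2i]; group
          · calc i⁻¹ * (a * a) * j * (i⁻¹ * (a * a))⁻¹ = i⁻¹ * ((a * a) * j * (a * a)⁻¹) * i := by group
              _ = i⁻¹ * (i * j * i⁻¹) * i := by rw [ha2j, hiji]
              _ = j := by group
        have haaT : a * a ∈ T := by
          have := mul_mem hiT hmem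
          rwa [mul_inv_cancel_left] at this
        have haa : a * a ≠ 1 ∧ a * a ≠ z := by
          constructor <;> intro h <;> apply hz1
          · rw [h, one_mul, inv_one, mul_one] at ha2j
            exact left_eq_mul.1 ha2j
          · have hjz : j * z * j⁻¹ = z := by rw [hzT j hjT, mul_inv_cancel_right]
            rw [h] at ha2j
            have : z * j * z⁻¹ = j := by rw [← hzT j hjT, mul_inv_cancel_right]
            rw [this] at ha2j
            exact left_eq_mul.1 ha2j
        have h4 : (a * a) * (a * a) ≠ 1 := fun h => (huniq _ haaT h).elim haa.1 haa.2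
        have ha8 : a ^ 8 = 1 := by
          have := pow_card_eq_one' (G := A) (x := ⟨a, haA⟩)
          rw [hA8] at this
          exact congrArg Subtype.val this
        have hord : orderOf a = 2 ^ (2 + 1) := by
          refine orderOf_eq_prime_pow (fun h => h4 ?_) (by simpa using ha8)
          rw [show a * a * (a * a) = a ^ 4 by simp only [pow_succ, pow_zero, one_mul, mul_assoc]]
          simpa using h
        exact hAn (isCyclic_of_orderOf_eq_card (⟨a, haA⟩ : A) (by
          rw [Subgroup.orderOf_mk, hord, hA8]; norm_num))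
      have haj : a * j * a⁻¹ = j * (j⁻¹ * (a * j * a⁻¹)) := by group
      rcases hKel _ hk with h | h | h | h <;> rw [h] at haj
      · exact haT (hfixij a hai (by rw [haj, mul_one]))
      · exact hgen i (Or.inl rfl) haj
      · refine haT ?_
        have hmem : i⁻¹ * a ∈ T := by
          refine hfixij _ ?_ ?_
          · calc i⁻¹ * a * i * (i⁻¹ * a)⁻¹ = i⁻¹ * (a * i * a⁻¹) * i := by group
              _ = i := by rw [hai]; group
          · calc i⁻¹ * a * j * (i⁻¹ * a)⁻¹ = i⁻¹ * (a * j * a⁻¹) * i := by group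
              _ = i⁻¹ * (i * j * i⁻¹) * i := by rw [haj, hiji]
              _ = j := by group
        have := mul_mem hiT hmem
        rwa [mul_inv_cancel_left] at this
      · exact hgen (i * z) (Or.inr rfl) haj
    have hA1K : A1 ≤ K := by
      intro a ha
      by_contra haK
      obtain ⟨haA, hai'⟩ := Subgroup.mem_inf.1 ha
      have hm : a * j⁻¹ ∈ K := (Subgroup.mul_mem_iff_of_index_two (H := K.subgroupOf T) hKidx
        (a := ⟨a, hA1T ha⟩) (b := ⟨j⁻¹, inv_mem hjT⟩)).2
        ⟨fun h => absurd h haK, fun h => absurd (inv_mem_iff.1 h) hjK⟩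
      rw [hKeq] at hm
      obtain ⟨m, hm⟩ := Subgroup.mem_zpowers_iff.1 hm
      have hai : Commute a i := Subgroup.mem_centralizer_singleton_iff.1 hai'
      have hij' : Commute (i ^ (-m) * a) i :=
        (Commute.zpow_left (Commute.refl i) _).mul_left hai
      rw [zpow_neg, hm] at hij'
      rw [show (a * j⁻¹)⁻¹ * a = j by group] at hij'
      exact hij hij'.eq.symm
    have hm := Subgroup.relIndex_mul_relIndex (⊥ : Subgroup S) A1 A bot_le inf_le_left
    rw [Subgroup.relIndex_bot_left, Subgroup.relIndex_bot_left, hA8] at hm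
    have hA1K' : A1 = K := Subgroup.eq_of_le_of_card_ge hA1K (by rw [hK4]; nlinarith)
    have hiA : i ∈ A := (Subgroup.mem_inf.1 (hA1K'.ge i₀.2)).1
    have hAA1 : A ≤ A1 := fun a ha => Subgroup.mem_inf.2 ⟨ha,
      Subgroup.mem_centralizer_singleton_iff.2 (hAD a ha i hiA)⟩
    have := Subgroup.card_le_of_le (hAA1.trans hA1K)
    omega

/-- The theorem. -/
theorem main_solvable [Group.IsSolvable S] (hO : Cfsg.pPrimeCore 2 S = ⊥)
    (h8 : ∃ A : Subgroup S, IsMulCommutative ↥A ∧ ¬ IsCyclic ↥A ∧ Nat.card ↥A = 8)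
    (hmin : ∀ R : Subgroup S, R ≠ ⊤ → (∃ k : ℕ, R.index = 2 ^ k) →
      ¬ ∃ A : Subgroup S, A ≤ R ∧ IsMulCommutative ↥A ∧ ¬ IsCyclic ↥A ∧ Nat.card ↥A = 8)
    (X : Sylow 2 S) :
    (X : Subgroup S).Normal ∧
      (IsMulCommutative ↥X ∨
        (Cfsg.IsExtraspecial 2 ↥X ∧ 32 ≤ Nat.card ↥X) ∨
        (∃ (X₀ : Subgroup S) (k : ℕ), X₀ ≤ (X : Subgroup S) ∧ X₀.relIndex (X : Subgroup S) = 2 ∧
          Nonempty (↥X₀ ≃* QuaternionGroup (2 ^ (k + 1))) ∧
          X₀ ⊔ ((X : Subgroup S) ⊓ Subgroup.centralizer (X₀ : Set S)) = (X : Subgroup S)) ∨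
        (Cfsg.IsSpecial 2 ↥X ∧ Nat.card ↥(Subgroup.center ↥X) = 4)) := by
  classical
  haveI : Fact (Nat.Prime 2) := ⟨Nat.prime_two⟩
  set T := Cfsg.pCore 2 S with hT
  have hcen : Subgroup.centralizer (T : Set S) ≤ T :=
    CfsgLib.Base.centralizer_pCore_le_of_isSolvable hO
  have hTp : IsPGroup 2 T := CfsgLib.Base.isPGroup_pCore 2 S
  haveI hTn : T.Normal := by rw [hT]; infer_instance
  obtain ⟨A, hAc, hAn, hA8⟩ := h8
  obtain ⟨H, hH, -⟩ := CfsgLib.Coprime.hallD_of_solvable (G := S) {q | q.Prime ∧ q ≠ 2}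
  have hHodd : Odd (Nat.card H) := by
    by_contra he
    rw [Nat.not_odd_iff_even, even_iff_two_dvd] at he
    exact (hH.1 2 Nat.prime_two he).2 rfl
  have hHidx : ∃ k, H.index = 2 ^ k := by
    refine ⟨_, Nat.eq_prime_pow_of_unique_prime_dvd Subgroup.index_ne_zero_of_finite ?_⟩
    intro q hq hqd
    by_contra hne
    exact hH.2 q hq ⟨hq, hne⟩ hqd
  by_cases hH1 : H = ⊥
  · -- `S` is a `2`-group
    obtain ⟨k, hk⟩ := hHidx
    rw [hH1, Subgroup.index_bot] at hk
    have hS : IsPGroup 2 S := IsPGroup.of_card hk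
    have hX : (X : Subgroup S) = ⊤ :=
      X.is_maximal' (hS.to_subgroup ⊤) le_top |>.symm
    refine ⟨by rw [hX]; infer_instance, Or.inl ?_⟩
    by_cases hA : A = ⊤
    · show IsMulCommutative (X : Subgroup S)
      rw [hX, ← hA]; exact hAc
    · exact absurd ⟨A, le_rfl, hAc, hAn, hA8⟩ (hmin A hA (CfsgLib.PGroups.index_eq_pow hS A))
  have hHT : ¬ H ≤ Subgroup.centralizer (T : Set S) := fun hle => hH1 (by
    refine CfsgLib.Coprime.inf_eq_bot_of_coprime (coprime_of_odd hHodd hTp) ▸ ?_
    exact (inf_eq_left.2 (hle.trans hcen)).symm)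
  have hnT : H ≤ Subgroup.normalizer (T : Set S) := by
    rw [Subgroup.normalizer_eq_top]; exact le_top
  have hYidx : ∀ Y : Subgroup S, IsPGroup 2 Y → H ≤ Subgroup.normalizer (Y : Set S) →
      ∃ k, (H ⊔ Y).index = 2 ^ k := by
    intro Y _ _
    obtain ⟨k, hk⟩ := hHidx
    have hd := Subgroup.index_dvd_of_le (le_sup_left : H ≤ H ⊔ Y)
    rw [hk] at hd
    obtain ⟨i, -, hi⟩ := (Nat.dvd_prime_pow Nat.prime_two).1 hd
    exact ⟨i, hi⟩
  -- `T` is not small
  have hTns : ¬ Small T := by
    intro hsm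
    have hshape : Shape T := main hTp hHodd hnT hHT fun Y hY _ _ => small_mono hsm hY
    have hk := kind_of_small hsm hTp hHodd hnT hHT hshape
    refine small_of_core hk hcen (A := A) ?_ hAc hAn hA8
    rw [Subgroup.normalizer_eq_top]; exact le_top
  -- hence `T` is the Sylow subgroup
  have htop : H ⊔ T = ⊤ := by
    by_contra hne
    refine hTns fun B hB hBc hBn hB8 => ?_
    exact hmin _ hne (hYidx T hTp hnT) ⟨B, hB.trans le_sup_right, hBc, hBn, hB8⟩
  have hXT : (X : Subgroup S) = T := by
    have hTX : T ≤ (X : Subgroup S) := CfsgLib.Base.pCore_le_sylow X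
    refine le_antisymm ?_ hTX
    intro x hx
    obtain ⟨h, hh, t, ht, rfl⟩ := (CfsgLib.Coprime.mem_sup_iff_of_le_normalizer hnT).1
      (htop.symm ▸ Subgroup.mem_top x : x ∈ H ⊔ T)
    have hhX : h ∈ (X : Subgroup S) := by
      have := mul_mem hx (inv_mem (hTX ht))
      rwa [mul_inv_cancel_right] at this
    have h1 : h ∈ H ⊓ (X : Subgroup S) := Subgroup.mem_inf.2 ⟨hh, hhX⟩
    rw [CfsgLib.Coprime.inf_eq_bot_of_coprime (coprime_of_odd hHodd X.isPGroup'), Subgroup.mem_bot] at h1
    rw [h1, one_mul]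
    exact ht
  have hminY : ∀ Y : Subgroup S, Y ≤ T → Y ≠ T → H ≤ Subgroup.normalizer (Y : Set S) → Small Y := by
    intro Y hYT hne hnY B hB hBc hBn hB8
    refine hmin (H ⊔ Y) (fun e => hne ?_) (hYidx Y (hTp.to_le hYT) hnY)
      ⟨B, hB.trans le_sup_right, hBc, hBn, hB8⟩
    refine le_antisymm hYT fun t ht => ?_
    obtain ⟨h, hh, y, hy, rfl⟩ := (CfsgLib.Coprime.mem_sup_iff_of_le_normalizer hnY).1
      (e.symm ▸ Subgroup.mem_top t : t ∈ H ⊔ Y)
    have hhT : h ∈ T := by
      have := mul_mem ht (inv_mem (hYT hy))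
      rwa [mul_inv_cancel_right] at this
    have h1 : h ∈ H ⊓ T := Subgroup.mem_inf.2 ⟨hh, hhT⟩
    rw [CfsgLib.Coprime.inf_eq_bot_of_coprime (coprime_of_odd hHodd hTp), Subgroup.mem_bot] at h1
    rw [h1, one_mul]
    exact hy
  refine ⟨hXT.symm ▸ hTn, ?_⟩
  have hshape : Shape (X : Subgroup S) := hXT.symm ▸ main hTp hHodd hnT hHT hminY
  rcases hshape with hc | ⟨Y, hYX, hidx, hq, hdec, -⟩ | hex | hsp
  · exact Or.inl hc
  · exact Or.inr (Or.inr (Or.inl ⟨Y, 0, hYX, hidx, q8_mulEquiv hq, hdec⟩))
  · obtain ⟨n, hn1, hn⟩ := CfsgLib.PGroups.Extraspecial.exists_card_eq (G := (X : Subgroup S)) hex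
    rcases Nat.lt_or_ge n 2 with hn2 | hn2
    · exfalso
      obtain rfl : n = 1 := by omega
      -- an abelian subgroup of order eight would be all of `X`
      obtain ⟨g, hg⟩ : ∃ g : S, A.map (MulAut.conj g).toMonoidHom ≤ (X : Subgroup S) := by
        obtain ⟨Q, hQ⟩ := (IsPGroup.of_card (p := 2) (n := 3) (G := A) (by rw [hA8]; norm_num)).exists_le_sylow
        obtain ⟨g, hg⟩ := MulAction.exists_smul_eq S Q X
        refine ⟨g, ?_⟩
        rw [← hg]
        exact Subgroup.map_mono hQ
      have hcard : Nat.card (A.map (MulAut.conj g).toMonoidHom) = 8 := by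
        rw [Subgroup.card_map_of_injective (MulAut.conj g).injective, hA8]
      have heq := Subgroup.eq_of_le_of_card_ge hg (by rw [hn, hcard]; norm_num)
      have hab : IsMulCommutative (X : Subgroup S) := heq ▸ isMulCommutative_of (by
        rintro _ ⟨a, ha, rfl⟩ _ ⟨b, hb, rfl⟩
        rw [← map_mul, ← map_mul]
        exact congrArg _ (congrArg Subtype.val (hAc.is_comm.comm ⟨a, ha⟩ ⟨b, hb⟩)))
      have hcen' : Subgroup.center (X : Subgroup S) = ⊤ := by
        rw [eq_top_iff]
        exact fun a _ => Subgroup.mem_center_iff.2 fun b => hab.is_comm.comm b a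
      have h2 := hex.2
      rw [hcen', Subgroup.card_top, hn] at h2
      norm_num at h2
    · refine Or.inr (Or.inl ⟨hex, ?_⟩)
      show 32 ≤ Nat.card (X : Subgroup S)
      rw [hn]
      exact le_trans (by norm_num) (Nat.pow_le_pow_right two_pos (show 5 ≤ 2 * n + 1 by omega))
  · exact Or.inr (Or.inr (Or.inr hsp))

end CfsgLib.FgsC.MinimalEight
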