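import Cfsg.Agent.Lib.FgsC.MixedMersenne

/-!
The two non-exceptional branches of the Mersenne case.
-/

set_option autoImplicit false
set_option linter.style.haveILetI false

namespace CfsgLib.MixedPrimes

variable {G : Type*} [Group G] [Finite G] {p a : ℕ} {Q : Subgroup G} {y : G}

theorem Ctx.q_comm (h : Ctx p a Q y) {v w : G} (hv : v ∈ Q) (hw : w ∈ Q) : Commute v w :=
  h.two_comm (IsPGroup.of_card h.card) hv hw

theorem Ctx.exists_sylow_Q (h : Ctx p a Q y) : ∃ S : Sylow 2 G, (S : Subgroup G) = Q := by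
  haveI := Fact.mk Nat.prime_two
  obtain ⟨S, hS⟩ := (IsPGroup.of_card h.card : IsPGroup 2 Q).exists_le_sylow
  exact ⟨S, (Subgroup.eq_of_le_of_card_ge hS (by rw [h.card]; exact h.card_two_group_le S.2)).symm⟩

theorem smul_conj {v x : G} (hv : v * v = 1) : v * x * v⁻¹ = v * x * v := by
  rw [inv_eq_of_mul_eq_one_right hv]

theorem commute_of_conj {v x : G} (hv : v * v = 1) (h : v * x * v = x) : Commute x v := by
  have h2 : v * (v * x * v) = v * x := by rw [h]
  rw [← mul_assoc, ← mul_assoc, hv, one_mul] at h2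
  exact h2

theorem conj_of_commute {v x : G} (hv : v * v = 1) (h : Commute x v) : v * x * v = x := by
  rw [mul_assoc, h.eq, ← mul_assoc, hv, one_mul]

/-- A real element centralised by half of `Q`. -/
theorem Ctx.exists_half (h : Ctx p a Q y) {x0 u0 s0 : G} (hu0 : u0 ∈ Q) (hx0 : Real' p x0 u0)
    (hs0 : s0 ∈ Q) (hs01 : s0 ≠ 1) (hc0 : Commute x0 s0) :
    ∃ x u, u ∈ Q ∧ Real' p x u ∧ (∃ s ∈ Q, s ≠ 1 ∧ Commute x s) ∧
      ∀ v ∈ Q, Commute x v ∨ Commute x (u * v) := by
  classical
  haveI := Fact.mk h.pp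
  haveI := Fintype.ofFinite G
  set S : G → Finset G := fun x => Finset.univ.filter fun v => v ∈ Q ∧ Commute x v
  set X : Finset (G × G) := Finset.univ.filter fun xu =>
    xu.2 ∈ Q ∧ Real' p xu.1 xu.2 ∧ ∃ s ∈ Q, s ≠ 1 ∧ Commute xu.1 s
  have hX : X.Nonempty := ⟨(x0, u0), by simp [X]; exact ⟨hu0, hx0, s0, hs0, hs01, hc0⟩⟩
  obtain ⟨⟨x, u⟩, hxu, hmax⟩ := Finset.exists_max_image X (fun xu => (S xu.1).card) hX
  simp only [X, Finset.mem_filter, Finset.mem_univ, true_and] at hxu
  obtain ⟨hu, hx, s, hs, hs1, hxs⟩ := hxu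
  refine ⟨x, u, hu, hx, ⟨s, hs, hs1, hxs⟩, fun v hv => ?_⟩
  by_contra hne
  obtain ⟨hv1, hv2⟩ := not_or.1 hne
  obtain ⟨P, hP⟩ := exists_sylow_mem hx.1
  have hQP := h.norm_sylow hu hx hs hs1 hxs hP
  have hvv := h.inv v hv
  have huu := h.inv u hu
  have huv := h.q_comm hu hv
  have hP' : v * x * v ∈ (P : Subgroup G) := by
    rw [← smul_conj hvv]; exact conj_mem (hQP hv) hP
  have hc := h.ab P x hP _ hP'
  have hx1 : x * (v * x * v) ≠ 1 := by
    intro e
    refine hv2 (commute_of_conj (h.inv _ (Q.mul_mem hu hv)) ?_)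
    have h1 : v * x * v = x⁻¹ := eq_inv_of_mul_eq_one_right e
    have h2 : u * x⁻¹ * u = x := by
      rw [← hx.2.2.2.2, show u * (u * x * u) * u = (u * u) * x * (u * u) by group, huu, one_mul,
        mul_one]
    rw [show u * v * x * (u * v) = u * v * x * (v * u) by rw [huv.eq],
      show u * v * x * (v * u) = u * (v * x * v) * u by group, h1, h2]
  have hreal : Real' p (x * (v * x * v)) u := by
    refine ⟨pel_of_mem (Subgroup.mul_mem _ hP hP'), hx1, hx.2.2.1, huu, ?_⟩
    have hinvv : (v * x * v)⁻¹ = v * x⁻¹ * v := by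
      rw [show (v * x * v)⁻¹ = v⁻¹ * x⁻¹ * v⁻¹ by group, inv_eq_of_mul_eq_one_right hvv]
    calc u * (x * (v * x * v)) * u = u * x * (u * u) * (v * x * v) * u := by
          rw [huu, mul_one]; group
      _ = (u * x * u) * ((u * v) * x * (v * u)) := by group
      _ = (u * x * u) * ((v * u) * x * (u * v)) := by rw [huv.eq]
      _ = (u * x * u) * (v * (u * x * u) * v) := by group
      _ = x⁻¹ * (v * x * v)⁻¹ := by rw [hx.2.2.2.2, hinvv]
      _ = (x * (v * x * v))⁻¹ := (hc.inv_inv.eq).trans (mul_inv_rev _ _).symm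
  have hsv : Commute (x * (v * x * v)) v := by
    refine commute_of_conj hvv ?_
    rw [show v * (x * (v * x * v)) * v = (v * x * v) * x * (v * v) by group, hvv, mul_one]
    exact hc.eq.symm
  have hsub : insert v (S x) ⊆ S (x * (v * x * v)) := by
    intro w hw
    simp only [S, Finset.mem_insert, Finset.mem_filter, Finset.mem_univ, true_and] at hw ⊢
    rcases hw with rfl | ⟨hwQ, hwx⟩
    · exact ⟨hv, hsv⟩
    · refine ⟨hwQ, hwx.mul_left ?_⟩
      exact ((h.q_comm hv hwQ).mul_left hwx).mul_left (h.q_comm hv hwQ)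
  have hmem : ((x * (v * x * v)), u) ∈ X := by
    simp only [X, Finset.mem_filter, Finset.mem_univ, true_and]
    exact ⟨hu, hreal, v, hv, fun e => hv1 (e ▸ Commute.one_right x), hsv⟩
  have h1 := hmax _ hmem
  have h2 := Finset.card_le_card hsub
  rw [Finset.card_insert_of_notMem (by simp [S, hv1])] at h2
  simp only at h1
  omega

/-- No real element centralised by an involution of `Q` once `|Q| ≥ 8`. -/
theorem Ctx.caseB_big (h : Ctx p a Q y) (ha3 : 3 ≤ a) {x0 u0 s0 : G} (hu0 : u0 ∈ Q)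
    (hx0 : Real' p x0 u0) (hs0 : s0 ∈ Q) (hs01 : s0 ≠ 1) (hc0 : Commute x0 s0) : False := by
  classical
  haveI := Fact.mk h.pp
  haveI := Fintype.ofFinite G
  obtain ⟨x, u, hu, hx, ⟨s, hs, hs1, hxs⟩, hhalf⟩ := h.exists_half hu0 hx0 hs0 hs01 hc0
  obtain ⟨P, hP⟩ := exists_sylow_mem hx.1
  have hQP := h.norm_sylow hu hx hs hs1 hxs hP
  refine h.y_not_norm hQP (Sylow.smul_eq_iff_mem_normalizer.1 ?_)
  set SQ : Finset G := Finset.univ.filter fun v => v ∈ Q
  set S : Finset G := SQ.filter fun v => Commute x v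
  have hSQ : SQ.card = 2 ^ a := by
    rw [← h.card, Nat.card_eq_fintype_card, ← Fintype.card_coe]
    exact Fintype.card_congr (Equiv.subtypeEquivRight (by simp [SQ]))
  have hhalfS : SQ.card ≤ 2 * S.card := by
    have hsub : SQ ⊆ S ∪ S.image (u * ·) := by
      intro v hv
      have hvQ : v ∈ Q := by simpa [SQ] using hv
      rcases hhalf v hvQ with e | e
      · exact Finset.mem_union_left _ (by simp [S, SQ, hvQ, e])
      · refine Finset.mem_union_right _ (Finset.mem_image.2 ⟨u * v, ?_, ?_⟩)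
        · simp [S, SQ, e, Q.mul_mem hu hvQ]
        · rw [← mul_assoc, h.inv u hu, one_mul]
    have := (Finset.card_le_card hsub).trans (Finset.card_union_le _ _)
    have := Finset.card_image_le (s := S) (f := (u * ·))
    omega
  set S' : Finset G := S.image fun v => y * v * y⁻¹
  have hS'c : S'.card = S.card :=
    Finset.card_image_of_injective _ fun a b e => by simpa using e
  obtain ⟨w, hw1, hwS, hwS'⟩ : ∃ w, w ≠ 1 ∧ w ∈ S ∧ w ∈ S' := by
    by_contra hno
    push_neg at hno
    have hinj : Set.InjOn (fun ab : G × G => ab.1 * ab.2) (S ×ˢ S' : Finset (G × G)) := by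
      rintro ⟨a1, b1⟩ hab ⟨a2, b2⟩ hcd e
      simp only [Finset.coe_product, Set.mem_prod, Finset.mem_coe] at hab hcd
      simp only at e
      have hd : a2⁻¹ * a1 = b2 * b1⁻¹ := by
        rw [eq_mul_inv_iff_mul_eq, mul_assoc, e, inv_mul_cancel_left]
      have h1 : a2⁻¹ * a1 ∈ S := by
        have := hab.1; have := hcd.1
        simp only [S, SQ, Finset.mem_filter, Finset.mem_univ, true_and] at *
        exact ⟨Q.mul_mem (Q.inv_mem hcd.1.1) hab.1.1, hcd.1.2.inv_right.mul_right hab.1.2⟩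
      have h2 : b2 * b1⁻¹ ∈ S' := by
        simp only [S', Finset.mem_image] at hab hcd ⊢
        obtain ⟨-, c1, hc1, rfl⟩ := hab
        obtain ⟨-, c2, hc2, rfl⟩ := hcd
        refine ⟨c2 * c1⁻¹, ?_, by group⟩
        simp only [S, SQ, Finset.mem_filter, Finset.mem_univ, true_and] at hc1 hc2 ⊢
        exact ⟨Q.mul_mem hc2.1 (Q.inv_mem hc1.1), hc2.2.mul_right hc1.2.inv_right⟩
      have h3 : a2⁻¹ * a1 = 1 := by
        by_contra h3
        exact hno _ h3 h1 (hd ▸ h2)
      have h4 : a1 = a2 := (inv_mul_eq_one.1 h3).symm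
      subst h4
      simpa using e
    have hsub : ((S ×ˢ S').image fun ab : G × G => ab.1 * ab.2) ⊆ SQ := by
      intro z hz
      simp only [Finset.mem_image, Finset.mem_product] at hz
      obtain ⟨⟨a1, b1⟩, ⟨ha1, hb1⟩, rfl⟩ := hz
      simp only [S', Finset.mem_image] at hb1
      obtain ⟨c, hc, rfl⟩ := hb1
      simp only [S, SQ, Finset.mem_filter, Finset.mem_univ, true_and] at ha1 hc ⊢
      exact Q.mul_mem ha1.1 (conj_mem h.yN hc.1)
    have h1 := Finset.card_le_card hsub
    rw [Finset.card_image_of_injOn hinj, Finset.card_product, hS'c] at h1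
    have h8 : 2 ^ 3 ≤ 2 ^ a := Nat.pow_le_pow_right (by norm_num) ha3
    have h2 : SQ.card * SQ.card ≤ (2 * S.card) * (2 * S.card) := Nat.mul_le_mul hhalfS hhalfS
    have h3 : 8 * SQ.card ≤ SQ.card * SQ.card := Nat.mul_le_mul_right _ (by omega)
    have : (2 * S.card) * (2 * S.card) = 4 * (S.card * S.card) := by ring
    omega
  simp only [S, SQ, S', Finset.mem_filter, Finset.mem_univ, true_and, Finset.mem_image] at hwS hwS'
  obtain ⟨c, ⟨hcQ, hxc⟩, rfl⟩ := hwS'
  have hz : Real' p (y * x * y⁻¹) (y * u * y⁻¹) := by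
    refine ⟨hx.1.conj y, fun e => hx.2.1 (conj_eq_one_iff.1 e),
      fun e => hx.2.2.1 (conj_eq_one_iff.1 e), h.inv _ (conj_mem h.yN hu), ?_⟩
    rw [show y * u * y⁻¹ * (y * x * y⁻¹) * (y * u * y⁻¹) = y * (u * x * u) * y⁻¹ by group,
      hx.2.2.2.2, conj_inv]
  exact (h.sylow_eq_of_shared hx hz hw1 (h.inv _ hwS.1) hwS.2
    ((Commute.conj_iff y).2 hxc) hP (conj_mem_smul hP)).symm

/-- An involution commutes with the centraliser-`p`-elements hypothesis. -/
def AllCentral (p : ℕ) (Q : Subgroup G) : Prop :=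
  ∀ t ∈ Q, t ≠ 1 → ∀ d : G, Pel p d → Commute d t → ∀ v ∈ Q, Commute d v

theorem Ctx.cent_comm (h : Ctx p a Q y) (hA : AllCentral p Q) {t g : G} (ht : t ∈ Q) (ht1 : t ≠ 1)
    (hg : Commute g t) {v : G} (hv : v ∈ Q) : Commute g v := by
  haveI := Fact.mk h.pp
  set C := Subgroup.centralizer ({t} : Set G)
  set Z := Subgroup.centralizer (Q : Set G) ⊓ C
  have hQZ : Q ≤ Z := fun w hw => ⟨Subgroup.mem_centralizer_iff.2 fun z hz => h.q_comm hz hw,
    mem_cent.2 (h.q_comm hw ht).eq⟩
  have hZC : Z ≤ C := inf_le_right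
  obtain ⟨R⟩ : Nonempty (Sylow p C) := inferInstance
  have hRZ : (R : Subgroup C).map C.subtype ≤ Z := by
    rintro z ⟨r, hr, rfl⟩
    refine ⟨Subgroup.mem_centralizer_iff.2 fun w hw => ?_, r.2⟩
    exact (hA t ht ht1 r ((pel_of_mem hr).map C.subtype) (mem_cent.1 r.2) w hw).eq.symm
  have hdvd : Nat.card C ∣ Nat.card Z := by
    rw [Nat.dvd_iff_prime_pow_dvd_dvd]
    intro l k hl hlk
    rcases Nat.eq_zero_or_pos k with rfl | hk
    · simp
    have hld : l ∣ Nat.card C := (dvd_pow_self l hk.ne').trans hlk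
    haveI := Fact.mk hl
    obtain ⟨g', hg'⟩ := exists_prime_orderOf_dvd_card' (G := ↥C) l hld
    have hl' : l = 2 ∨ l = p := by
      rw [← Subgroup.orderOf_coe] at hg'
      refine h.primes_of_conj (g := (g' : G)) ht1 (h.inv t ht) ?_ l hl (hg' ▸ dvd_rfl)
      rw [← mem_cent.1 g'.2, mul_inv_cancel_right]
      exact Subgroup.mem_zpowers _
    rcases hl' with rfl | rfl
    · have hka : k ≤ a := by
        by_contra hka
        exact h.syl ((pow_dvd_pow 2 (show a + 1 ≤ k by omega)).trans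
          (hlk.trans (Subgroup.card_subgroup_dvd_card C)))
      exact (pow_dvd_pow 2 hka).trans (h.card ▸ Subgroup.card_dvd_of_le hQZ)
    · have h1 : l ^ k ∣ Nat.card ↥(R : Subgroup C) := R.pow_dvd_card_of_pow_dvd_card hlk
      refine h1.trans ?_
      rw [← Subgroup.card_map_of_injective C.subtype_injective]
      exact Subgroup.card_dvd_of_le hRZ
  have hgZ : g ∈ Z := by
    rw [Subgroup.eq_of_le_of_card_ge hZC (Nat.le_of_dvd Nat.card_pos hdvd)]
    exact mem_cent.2 hg.eq
  exact (Subgroup.mem_centralizer_iff.1 hgZ.1 v hv).symm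

theorem Ctx.invol_mem (h : Ctx p a Q y) (hA : AllCentral p Q) {t w : G} (ht : t ∈ Q) (ht1 : t ≠ 1)
    (hw : w * w = 1) (hc : Commute w t) : w ∈ Q := by
  haveI := Fact.mk Nat.prime_two
  obtain ⟨S, hS⟩ := h.exists_sylow_Q
  rw [← hS]
  refine mem_of_commutes ⟨1, by rw [pow_one, pow_two]; exact hw⟩ fun d hd => ?_
  exact h.cent_comm hA ht ht1 hc (hS ▸ hd)

/-- No involution of `Q` centralises a Sylow `p`-subgroup. -/
theorem Ctx.no_cent (h : Ctx p a Q y) (hA : AllCentral p Q) {t : G} (ht : t ∈ Q) (ht1 : t ≠ 1)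
    {P : Sylow p G} (hP : ∀ d ∈ (P : Subgroup G), Commute d t) : False := by
  haveI := Fact.mk h.pp
  have hQ : ∀ d ∈ (P : Subgroup G), ∀ v ∈ Q, Commute d v := fun d hd v hv =>
    hA t ht ht1 d (pel_of_mem hd) (hP d hd) v hv
  have hQP : Q ≤ Subgroup.normalizer ((P : Subgroup G) : Set G) := fun v hv =>
    Subgroup.mem_normalizer_fintype fun d hd => by
      rw [← (hQ d hd v hv).eq, mul_inv_cancel_right]
      exact hd
  refine h.y_not_norm hQP (Subgroup.mem_normalizer_fintype fun d hd => ?_)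
  refine mem_of_commutes ((pel_of_mem hd).conj y) fun d' hd' => ?_
  refine h.comm_cent_invol ht1 (h.inv t ht) ?_ (hP d' hd') ((pel_of_mem hd).conj y) (pel_of_mem hd')
  exact hA (y * t * y⁻¹) (conj_mem h.yN ht) (fun e => ht1 (conj_eq_one_iff.1 e)) _
    ((pel_of_mem hd).conj y) ((Commute.conj_iff y).2 (hP d hd)) t ht

theorem Ctx.no_cent_any (h : Ctx p a Q y) (hA : AllCentral p Q) {w : G} (hw1 : w ≠ 1)
    (hw : w * w = 1) {P : Sylow p G} (hP : ∀ d ∈ (P : Subgroup G), Commute d w) : False := by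
  obtain ⟨g, hg⟩ := h.exists_conj_mem (isPGroup_zpowers (p := 2) (x := w)
    ⟨1, by rw [pow_one, pow_two]; exact hw⟩)
  refine h.no_cent hA (hg w (Subgroup.mem_zpowers w)) (fun e => hw1 (conj_eq_one_iff.1 e))
    (P := g • P) fun d hd => ?_
  have := (Commute.conj_iff g).2 (hP _ (mem_smul_sylow_iff.1 hd))
  rwa [show g * (g⁻¹ * d * g) * g⁻¹ = d by group] at this

/-- The normaliser of a Sylow `p`-subgroup has no pair of commuting involutions. -/
theorem Ctx.no_pair (h : Ctx p a Q y) (hA : AllCentral p Q) {t w : G} (ht : t ∈ Q) (ht1 : t ≠ 1)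
    (hw1 : w ≠ 1) (hw : w * w = 1) (hc : Commute w t) {P : Sylow p G}
    (htP : t ∈ Subgroup.normalizer ((P : Subgroup G) : Set G))
    (hwP : w ∈ Subgroup.normalizer ((P : Subgroup G) : Set G)) : w = t := by
  by_contra hne
  have hwQ := h.invol_mem hA ht ht1 hw hc
  have htt := h.inv t ht
  refine h.no_cent hA ht ht1 (P := P) fun d hd => commute_of_conj htt ?_
  by_contra hd2
  have hd' : t * d * t ∈ (P : Subgroup G) := by rw [← smul_conj htt]; exact conj_mem htP hd
  have hf := real_of_moved h.pp h.p2 (pel_of_mem hd) htt (h.ab P d hd _ hd') hd2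
  set f := d * (t * d * t)⁻¹
  have hfP : f ∈ (P : Subgroup G) := Subgroup.mul_mem _ hd (Subgroup.inv_mem _ hd')
  have hwf : w * f * w ∈ (P : Subgroup G) := by rw [← smul_conj hw]; exact conj_mem hwP hfP
  have hfix : ∀ e ∈ (P : Subgroup G), t * e * t = e⁻¹ → ∀ v ∈ Q, v ≠ 1 → Commute e v → e = 1 := by
    intro e he hte v hv hv1 hev
    refine (pel_of_mem he).eq_one_of_sq h.pp h.p2 ?_
    have := conj_of_commute htt (hA v hv hv1 e (pel_of_mem he) hev t ht)
    rw [hte] at this
    nth_rewrite 1 [← this]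
    exact inv_mul_cancel e
  have hcomm := h.ab P f hfP _ hwf
  have htwf : t * (w * f * w) * t = (w * f * w)⁻¹ := by
    have e1 := (h.q_comm hwQ ht).eq
    rw [show t * (w * f * w) * t = t * w * f * (w * t) by group, e1, ← e1,
      show w * t * f * (w * t) = w * t * f * (w * t) from rfl]
    nth_rewrite 2 [e1]
    rw [show w * t * f * (t * w) = w * (t * f * t) * w by group, hf.2.2.2.2,
      show (w * f * w)⁻¹ = w⁻¹ * f⁻¹ * w⁻¹ by group, inv_eq_of_mul_eq_one_right hw]
  have h1 : f * (w * f * w) = 1 := by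
    refine hfix _ (Subgroup.mul_mem _ hfP hwf) ?_ w hwQ hw1 (commute_of_conj hw ?_)
    · rw [show t * (f * (w * f * w)) * t = (t * f * t⁻¹) * (t * (w * f * w) * t) by group,
        smul_conj htt, hf.2.2.2.2, htwf]
      exact (hcomm.inv_inv.eq).trans (mul_inv_rev _ _).symm
    · rw [show w * (f * (w * f * w)) * w = w * f * w * f * (w * w) by group, hw, mul_one]
      exact hcomm.eq.symm
  refine hf.2.1 (hfix f hfP hf.2.2.2.2 (t * w) (Q.mul_mem ht hwQ) ?_ (commute_of_conj
    (h.inv _ (Q.mul_mem ht hwQ)) ?_))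
  · intro e
    exact hne ((inv_eq_of_mul_eq_one_right e).symm.trans (inv_eq_of_mul_eq_one_right htt))
  · have h2 : w * f * w = f⁻¹ := eq_inv_of_mul_eq_one_right h1
    have e1 := (h.q_comm hwQ ht).eq
    nth_rewrite 2 [← e1]
    rw [show t * w * f * (w * t) = t * (w * f * w) * t by group, h2]
    have := congrArg (fun z => z⁻¹) hf.2.2.2.2
    simp only [inv_inv, mul_inv_rev, inv_eq_of_mul_eq_one_right htt] at this
    rw [← mul_assoc] at this
    exact this

/-- The `p`-elements commuting with `t` lie in every Sylow `p`-subgroup normalised by `t`. -/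
theorem Ctx.cent_le_sylow (h : Ctx p a Q y) (hA : AllCentral p Q) {t : G} (ht : t ∈ Q) (ht1 : t ≠ 1)
    {P : Sylow p G} (htP : t ∈ Subgroup.normalizer ((P : Subgroup G) : Set G)) {d : G} (hd : Pel p d)
    (hdt : Commute d t) : d ∈ (P : Subgroup G) := by
  haveI := Fact.mk h.pp
  have htt := h.inv t ht
  set E : Subgroup G := (P : Subgroup G) ⊓ Subgroup.centralizer ({t} : Set G) with hE
  set M := Subgroup.centralizer (E : Set G)
  have hPM : (P : Subgroup G) ≤ M := fun z hz => Subgroup.mem_centralizer_iff.2 fun e he =>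
    (h.ab P e he.1 z hz).eq
  have htM : t ∈ M := Subgroup.mem_centralizer_iff.2 fun e he => mem_cent.1 he.2
  have hdM : d ∈ M := Subgroup.mem_centralizer_iff.2 fun e he =>
    (h.comm_cent_invol ht1 htt (mem_cent.1 he.2) hdt (pel_of_mem he.1) hd).eq
  obtain ⟨R, hR⟩ :=
    ((isPGroup_zpowers hd).comap_subtype (K := M)).exists_le_sylow
  obtain ⟨g, hg⟩ := MulAction.exists_smul_eq M R (P.subtype hPM)
  have hf : (g : G) * d * (g : G)⁻¹ ∈ (P : Subgroup G) := by
    have h1 : (⟨d, hdM⟩ : M) ∈ (R : Subgroup M) := hR (Subgroup.mem_zpowers d)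
    have h2 := conj_mem_smul (g := g) h1
    rw [hg, Sylow.coe_subtype, Subgroup.mem_subgroupOf] at h2
    exact h2
  set f := (g : G) * d * (g : G)⁻¹ with hfd
  set s := (g : G) * t * (g : G)⁻¹
  have hsf : Commute f s := (Commute.conj_iff (g : G)).2 hdt
  have hsE : ∀ e ∈ E, Commute e s := fun e he =>
    ((Subgroup.mem_centralizer_iff.1 g.2 e he : e * (g : G) = g * e) |> fun hge =>
      ((show Commute e g from hge).mul_right (mem_cent.1 he.2)).mul_right
        (show Commute e g from hge).inv_right)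
  have hf' : t * f * t ∈ (P : Subgroup G) := by rw [← smul_conj htt]; exact conj_mem htP hf
  have hcf := h.ab P f hf _ hf'
  have hfix : t * f * t = f := by
    by_contra hne
    have hx := real_of_moved h.pp h.p2 (pel_of_mem hf) htt hcf hne
    have he : f * (t * f * t) ∈ E := by
      refine ⟨Subgroup.mul_mem _ hf hf', mem_cent.2 (commute_of_conj htt ?_).eq⟩
      rw [show t * (f * (t * f * t)) * t = t * f * t * f * (t * t) by group, htt, mul_one]
      exact hcf.eq.symm
    have hxs : Commute (f * (t * f * t)⁻¹) s := by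
      have e1 : f * (t * f * t)⁻¹ = f * f * ((t * f * t) * f)⁻¹ := by group
      rw [e1, ← hcf.eq]
      exact (hsf.mul_left hsf).mul_left (hsE _ he).inv_left
    have hs1 : s ≠ 1 := fun e => ht1 (conj_eq_one_iff.1 e)
    have hss : s * s = 1 := by
      show (g : G) * t * (g : G)⁻¹ * ((g : G) * t * (g : G)⁻¹) = 1
      rw [show (g : G) * t * (g : G)⁻¹ * ((g : G) * t * (g : G)⁻¹) = g * (t * t) * (g : G)⁻¹ by group,
        htt, mul_one, mul_inv_cancel]
    obtain ⟨k, hk⟩ := h.exists_conj_mem (isPGroup_zpowers (p := 2) (x := s)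
      ⟨1, by rw [pow_one, pow_two]; exact hss⟩)
    have hx' : Real' p (k * (f * (t * f * t)⁻¹) * k⁻¹) (k * t * k⁻¹) := by
      refine ⟨hx.1.conj k, fun e => hx.2.1 (conj_eq_one_iff.1 e),
        fun e => ht1 (conj_eq_one_iff.1 e), ?_, ?_⟩
      · rw [show k * t * k⁻¹ * (k * t * k⁻¹) = k * (t * t) * k⁻¹ by group, htt, mul_one,
          mul_inv_cancel]
      · rw [show k * t * k⁻¹ * (k * (f * (t * f * t)⁻¹) * k⁻¹) * (k * t * k⁻¹) =
          k * (t * (f * (t * f * t)⁻¹) * t) * k⁻¹ by group, hx.2.2.2.2, conj_inv]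
    have hall := hA _ (hk s (Subgroup.mem_zpowers s)) (fun e => hs1 (conj_eq_one_iff.1 e)) _
      (hx.1.conj k) ((Commute.conj_iff k).2 hxs)
    have := h.cent_real_two_small hx' (T := Q) (fun v hv => mem_cent.2 (hall v hv).eq.symm)
      (IsPGroup.of_card h.card)
    rw [h.card] at this
    exact lt_irrefl _ this
  have hfE : f ∈ E := ⟨hf, mem_cent.2 (commute_of_conj htt hfix).eq⟩
  have hgf : f * (g : G) = g * f := Subgroup.mem_centralizer_iff.1 g.2 f hfE
  have hdf : d = f := by
    have h1 : (g : G) * d = f * g := by rw [hfd]; group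
    rw [hgf] at h1
    exact mul_left_cancel h1
  exact hdf ▸ hf

/-- `t w` for involutions: even order gives a central involution of `⟨t, w⟩`. -/
theorem exists_central_of_even {t w : G} (ht : t * t = 1) (hw : w * w = 1)
    (he : Even (orderOf (t * w))) :
    ∃ j : G, j ≠ 1 ∧ j * j = 1 ∧ Commute j t ∧ Commute j w ∧ j ∈ Subgroup.zpowers (t * w) := by
  obtain ⟨k, hk⟩ := he
  set n := orderOf (t * w)
  have hn : 0 < n := orderOf_pos _
  have hjj : (t * w) ^ k * (t * w) ^ k = 1 := by
    rw [← pow_add, ← hk, pow_orderOf_eq_one]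
  have hti : ∀ u : G, u * u = 1 → u * (t * w) * u⁻¹ = (t * w)⁻¹ → Commute ((t * w) ^ k) u := by
    intro u hu hinv
    refine commute_of_conj hu ?_
    rw [← smul_conj hu, ← conj_pow, hinv, inv_pow]
    exact inv_eq_of_mul_eq_one_right hjj
  refine ⟨(t * w) ^ k, ?_, hjj, hti t ht ?_, hti w hw ?_, Subgroup.pow_mem _ (Subgroup.mem_zpowers _) k⟩
  · intro e
    have := Nat.le_of_dvd (by omega) (orderOf_dvd_of_pow_eq_one e)
    omega
  · rw [mul_inv_rev, inv_eq_of_mul_eq_one_right ht, inv_eq_of_mul_eq_one_right hw, ← mul_assoc, ht,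
      one_mul]
  · rw [mul_inv_rev, inv_eq_of_mul_eq_one_right ht, inv_eq_of_mul_eq_one_right hw,
      show w * (t * w) * w = w * t * (w * w) by group, hw, mul_one]

/-- All `p`-elements centralising an involution of `Q` centralising `Q` is impossible. -/
theorem Ctx.caseA_false (h : Ctx p a Q y) {r : ℕ} (hr : r.Prime) (hr2 : r ≠ 2) (hrp : r ≠ p)
    (hrG : r ∣ Nat.card G) (hA : AllCentral p Q) : False := by
  classical
  haveI := Fact.mk h.pp
  haveI := Fintype.ofFinite G
  haveI := Fact.mk hr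
  have hp3 : 3 ≤ p := by have := h.pp.two_le; have := h.p2; omega
  obtain ⟨t, ht, ht1⟩ : ∃ t ∈ Q, t ≠ 1 := Q.bot_or_exists_ne_one.resolve_left (by
    intro e
    have h1 := h.card
    have h2 : 2 ^ a = p + 1 := h.ha
    rw [e, Subgroup.card_bot] at h1
    omega)
  have htt := h.inv t ht
  set Inv : Finset G := Finset.univ.filter fun w => w ≠ 1 ∧ w * w = 1
  set SQ : Finset G := Finset.univ.filter fun v => v ∈ Q ∧ v ≠ 1
  set U : Finset G := Inv.filter fun w => w ∉ Q
  set Inc : Finset (Sylow p G) := (Finset.univ : Finset (Sylow p G)).filter fun P =>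
    t ∈ Subgroup.normalizer ((P : Subgroup G) : Set G)
  -- products
  have hprod : ∀ w ∈ U, Pel p (t * w) ∧ Real' p (t * w) t := by
    intro w hw
    simp only [U, Inv, Finset.mem_filter, Finset.mem_univ, true_and] at hw
    obtain ⟨⟨hw1, hww⟩, hwQ⟩ := hw
    have hodd : ¬ Even (orderOf (t * w)) := by
      intro he
      obtain ⟨j, hj1, hjj, hjt, hjw, -⟩ := exists_central_of_even htt hww he
      exact hwQ (h.invol_mem hA (h.invol_mem hA ht ht1 hjj hjt) hj1 hww hjw.symm)
    have hinv : t * (t * w) * t = (t * w)⁻¹ := by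
      rw [mul_inv_rev, inv_eq_of_mul_eq_one_right htt, inv_eq_of_mul_eq_one_right hww, ← mul_assoc,
        htt, one_mul]
    have hp' : Pel p (t * w) := by
      refine Pel.of_primes h.pp fun l hl hld => ?_
      rcases h.primes_of_conj ht1 htt (g := t * w) (by
        rw [smul_conj htt, hinv]; exact Subgroup.inv_mem _ (Subgroup.mem_zpowers _)) l hl hld with e | e
      · subst e; exact absurd (even_iff_two_dvd.2 hld) hodd
      · exact e
    refine ⟨hp', hp', fun e => hwQ ?_, ht1, htt, hinv⟩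
    rw [← inv_eq_of_mul_eq_one_right e]
    exact Q.inv_mem ht
  -- the Sylow subgroup of a pair
  obtain ⟨P0, -⟩ : ∃ P : Sylow p G, True := ⟨default, trivial⟩
  let Pf : G → Sylow p G := fun w =>
    if hw : Pel p (t * w) then Classical.choose (exists_sylow_mem hw) else P0
  have hPf : ∀ w ∈ U, t * w ∈ (Pf w : Subgroup G) := by
    intro w hw
    simp only [Pf, dif_pos (hprod w hw).1]
    exact Classical.choose_spec (exists_sylow_mem (hprod w hw).1)
  have htN : ∀ w ∈ U, t ∈ Subgroup.normalizer ((Pf w : Subgroup G) : Set G) := by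
    intro w hw
    refine Sylow.smul_eq_iff_mem_normalizer.1 (h.sylow_unique (hprod w hw).2 ?_ (hPf w hw))
    have := conj_mem_smul (g := t) (hPf w hw)
    rw [smul_conj htt, (hprod w hw).2.2.2.2.2] at this
    simpa using Subgroup.inv_mem _ this
  have hUne : U.Nonempty := by
    by_contra hU
    rw [Finset.not_nonempty_iff_eq_empty] at hU
    have hall : ∀ w : G, w ≠ 1 → w * w = 1 → w ∈ Q := fun w hw1 hww => by
      by_contra hwQ
      have : w ∈ U := by simp [U, Inv, hw1, hww, hwQ]
      simp [hU] at this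
    obtain ⟨z, hz⟩ := exists_prime_orderOf_dvd_card' (G := G) r hrG
    refine no_norm h.nm h.pp Nat.prime_two hr hr2 hrp (Ne.symm h.p2) (Or.inl ⟨rfl, rfl⟩)
      (IsPGroup.of_card h.card) (fun e => ht1 (by rw [e] at ht; exact ht)) hz
      (Subgroup.mem_normalizer_fintype fun v hv => ?_)
    rcases eq_or_ne v 1 with rfl | hv1
    · simp
    · refine hall _ (fun e => hv1 (conj_eq_one_iff.1 e)) ?_
      rw [show z * v * z⁻¹ * (z * v * z⁻¹) = z * (v * v) * z⁻¹ by group, h.inv v hv, mul_one,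
        mul_inv_cancel]
  have hIncne : Inc.Nonempty := by
    obtain ⟨w, hw⟩ := hUne
    exact ⟨Pf w, Finset.mem_filter.2 ⟨Finset.mem_univ _, htN w hw⟩⟩
  -- there are fewer than `p` of them
  have hInclt : Inc.card < p := by
    obtain ⟨P, hP⟩ := hIncne
    have htP : t ∈ Subgroup.normalizer ((P : Subgroup G) : Set G) := by simpa [Inc] using hP
    set SQ' : Finset G := Finset.univ.filter fun v => v ∈ Q
    have hsub : Inc ⊆ SQ'.image (· • P) := by
      intro P' hP'
      have htP' : t ∈ Subgroup.normalizer ((P' : Subgroup G) : Set G) := by simpa [Inc] using hP'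
      obtain ⟨k, hk⟩ := MulAction.exists_smul_eq G P P'
      set w := k⁻¹ * t * k with hwdef
      have hw1 : w ≠ 1 := fun e => ht1 (by
        have := congrArg (fun z => k * z * k⁻¹) e
        simpa [hwdef, mul_assoc] using this)
      have hww : w * w = 1 := by
        rw [hwdef, show k⁻¹ * t * k * (k⁻¹ * t * k) = k⁻¹ * (t * t) * k by group, htt, mul_one,
          inv_mul_cancel]
      have hwP : w ∈ Subgroup.normalizer ((P : Subgroup G) : Set G) := by
        refine Sylow.smul_eq_iff_mem_normalizer.1 ?_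
        rw [hwdef, mul_smul, mul_smul, hk, Sylow.smul_eq_iff_mem_normalizer.2 htP', inv_smul_eq_iff,
          hk]
      obtain ⟨c, hcP, hct⟩ : ∃ c : G, c • P = P ∧ c * t * c⁻¹ = w := by
        rcases eq_or_ne w t with e | hne
        · exact ⟨1, one_smul _ _, by rw [e]; group⟩
        have hzN : t * w ∈ Subgroup.normalizer ((P : Subgroup G) : Set G) :=
          Subgroup.mul_mem _ htP hwP
        rcases Nat.even_or_odd (orderOf (t * w)) with he | ho
        · exfalso
          obtain ⟨j, hj1, hjj, hjt, hjw, hjz⟩ := exists_central_of_even htt hww he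
          have hjN := (Subgroup.zpowers_le.2 hzN) hjz
          obtain rfl := h.no_pair hA ht ht1 hj1 hjj hjt htP hjN
          exact hne (h.no_pair hA ht ht1 hw1 hww hjw.symm htP hwP)
        obtain ⟨m, hm⟩ := ho
        refine ⟨((t * w) ^ (m + 1))⁻¹,
          Sylow.smul_eq_iff_mem_normalizer.2 (Subgroup.inv_mem _ (Subgroup.pow_mem _ hzN _)), ?_⟩
        have h1 : t * (t * w) ^ (m + 1) * t⁻¹ = ((t * w) ^ (m + 1))⁻¹ := by
          rw [← conj_pow, ← inv_pow]
          congr 1
          rw [mul_inv_rev, inv_eq_of_mul_eq_one_right htt, inv_eq_of_mul_eq_one_right hww, ← mul_assoc,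
            htt, one_mul]
        have h2 : (t * w) ^ (m + 1) * (t * w) ^ (m + 1) = t * w := by
          rw [← pow_add, show m + 1 + (m + 1) = orderOf (t * w) + 1 by omega, pow_succ,
            pow_orderOf_eq_one, one_mul]
        rw [inv_inv]
        have h3 : t * (t * w) ^ (m + 1) = ((t * w) ^ (m + 1))⁻¹ * t := mul_inv_eq_iff_eq_mul.1 h1
        rw [mul_assoc, h3, ← mul_assoc, ← mul_inv_rev, h2, mul_inv_rev,
          inv_eq_of_mul_eq_one_right htt, inv_eq_of_mul_eq_one_right hww, mul_assoc, htt, mul_one]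
      set g := k * c with hgdef
      have hgP : g • P = P' := by rw [hgdef, mul_smul, hcP, hk]
      have hgt : Commute g t := by
        refine mul_inv_eq_iff_eq_mul.1 ?_
        rw [hgdef, show k * c * t * (k * c)⁻¹ = k * (c * t * c⁻¹) * k⁻¹ by group, hct, hwdef]
        group
      obtain ⟨i, m, hm, him⟩ := Nat.exists_eq_two_pow_mul_odd (orderOf_pos g).ne'
      have hprimes : ∀ l : ℕ, l.Prime → l ∣ orderOf g → l = 2 ∨ l = p := fun l hl hld =>
        h.primes_of_conj ht1 htt (g := g) (by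
          rw [← hgt.eq, mul_inv_cancel_right]; exact Subgroup.mem_zpowers _) l hl hld
      have hpp : g ^ 2 ^ i ∈ (P : Subgroup G) := by
        refine h.cent_le_sylow hA ht ht1 htP (Pel.of_primes h.pp fun l hl hld => ?_) (hgt.pow_left _)
        have hlm : l ∣ m := hld.trans (orderOf_dvd_of_pow_eq_one (by
          rw [← pow_mul, ← him, pow_orderOf_eq_one]))
        rcases hprimes l hl (him ▸ hlm.mul_left _) with e | e
        · subst e
          exact absurd hlm (Nat.two_dvd_ne_zero.2 (Nat.odd_iff.1 hm))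
        · exact e
      have h2p : g ^ m ∈ Q := h.invol_mem hA ht ht1
        (h.two_sq ⟨i, by rw [← pow_mul, mul_comm, ← him, pow_orderOf_eq_one]⟩) (hgt.pow_left _)
      have hsplit : g = (g ^ m) ^ (Nat.gcdA m (2 ^ i)) * (g ^ 2 ^ i) ^ (Nat.gcdB m (2 ^ i)) := by
        rw [← zpow_natCast g m, ← zpow_natCast g (2 ^ i), ← zpow_mul, ← zpow_mul, ← zpow_add,
          ← Nat.gcd_eq_gcd_ab, ((Nat.coprime_two_right.2 hm).pow_right i).gcd_eq_one, Nat.cast_one,
          zpow_one]
      refine Finset.mem_image.2 ⟨(g ^ m) ^ (Nat.gcdA m (2 ^ i)), by simp [SQ', Q.zpow_mem h2p], ?_⟩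
      rw [← hgP]
      conv_rhs => rw [hsplit, mul_smul]
      rw [Sylow.smul_eq_iff_mem_normalizer.2 (Subgroup.le_normalizer (Subgroup.zpow_mem _ hpp _))]
    have h2fib : ∀ P' ∈ SQ'.image (· • P), 2 ≤ (SQ'.filter fun v => v • P = P').card := by
      intro P' hP'
      obtain ⟨v, hv, rfl⟩ := Finset.mem_image.1 hP'
      have hvQ : v ∈ Q := by simpa [SQ'] using hv
      refine le_trans ?_ (Finset.card_le_card (s := {v, v * t}) ?_)
      · rw [Finset.card_pair (by simpa using ht1)]
      · intro z hz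
        simp only [Finset.mem_insert, Finset.mem_singleton] at hz
        rcases hz with rfl | rfl
        · simp [SQ', hvQ]
        · simp [SQ', Q.mul_mem hvQ ht, mul_smul, Sylow.smul_eq_iff_mem_normalizer.2 htP]
    have h1 := Finset.mul_card_image_le_card SQ' 2 h2fib
    have h2 : SQ'.card = p + 1 := by
      rw [← h.ha, ← h.card, Nat.card_eq_fintype_card, ← Fintype.card_coe]
      exact Fintype.card_congr (Equiv.subtypeEquivRight (by simp [SQ']))
    have h3 := Finset.card_le_card hsub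
    omega
  -- fibres
  set IP : Sylow p G → Finset G := fun P =>
    Inv.filter fun w => w ∈ Subgroup.normalizer ((P : Subgroup G) : Set G)
  have hfib : ∀ P ∈ Inc, (U.filter fun w => Pf w = P) = (IP P).erase t := by
    intro P hP
    have htP : t ∈ Subgroup.normalizer ((P : Subgroup G) : Set G) := by simpa [Inc] using hP
    ext w
    simp only [Finset.mem_filter, Finset.mem_erase, IP]
    constructor
    · rintro ⟨hw, rfl⟩
      have hwI := hw
      simp only [U, Finset.mem_filter] at hwI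
      refine ⟨fun e => hwI.2 (e ▸ ht), hwI.1, ?_⟩
      have := Subgroup.mul_mem _ htP (Subgroup.le_normalizer (hPf w hw))
      rwa [← mul_assoc, htt, one_mul] at this
    · rintro ⟨hwt, hwI, hwP⟩
      have hw' := hwI
      simp only [Inv, Finset.mem_filter, Finset.mem_univ, true_and] at hw'
      have hwQ : w ∉ Q := fun hwQ =>
        hwt (h.no_pair hA ht ht1 hw'.1 hw'.2 (h.q_comm hwQ ht) htP hwP)
      have hwU : w ∈ U := by simp [U, hwI, hwQ]
      exact ⟨hwU, h.sylow_unique (hprod w hwU).2 (hPf w hwU)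
        (mem_of_normalizes (hprod w hwU).1 (Subgroup.mul_mem _ htP hwP))⟩
  have hUcard : U.card = ∑ P ∈ Inc, ((IP P).erase t).card := by
    rw [Finset.card_eq_sum_card_fiberwise (t := Inc) (f := Pf) (fun w hw => Finset.mem_filter.2 ⟨Finset.mem_univ _, htN w hw⟩)]
    exact Finset.sum_congr rfl fun P hP => by rw [hfib P hP]
  have hIPmod : ∀ P : Sylow p G, (((IP P).card : ℕ) : ZMod p) = 0 := by
    intro P
    let X := {w : G // w ∈ IP P}
    have hconj : ∀ (d : ↥(P : Subgroup G)) (w : X), (d : G) * w.1 * (d : G)⁻¹ ∈ IP P := by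
      intro d w
      have hw := w.2
      simp only [IP, Inv, Finset.mem_filter, Finset.mem_univ, true_and] at hw ⊢
      refine ⟨⟨fun e => hw.1.1 (conj_eq_one_iff.1 e), ?_⟩, ?_⟩
      · rw [show (d : G) * w.1 * (d : G)⁻¹ * ((d : G) * w.1 * (d : G)⁻¹) =
          d * (w.1 * w.1) * (d : G)⁻¹ by group, hw.1.2, mul_one, mul_inv_cancel]
      · exact Subgroup.mul_mem _ (Subgroup.mul_mem _ (Subgroup.le_normalizer d.2) hw.2)
          (Subgroup.inv_mem _ (Subgroup.le_normalizer d.2))
    letI : MulAction ↥(P : Subgroup G) X :=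
      { smul := fun d w => ⟨(d : G) * w.1 * (d : G)⁻¹, hconj d w⟩
        one_smul := fun w => Subtype.ext (by show (1 : G) * w.1 * (1 : G)⁻¹ = w.1; group)
        mul_smul := fun d e w => Subtype.ext (by
          show ((d : G) * e) * w.1 * ((d : G) * e)⁻¹ = d * ((e : G) * w.1 * (e : G)⁻¹) * (d : G)⁻¹
          group) }
    have h1 := P.2.card_modEq_card_fixedPoints X
    have h2 : IsEmpty (MulAction.fixedPoints ↥(P : Subgroup G) X) := ⟨fun ⟨w, hw⟩ => by
      have hw' := w.2
      simp only [IP, Inv, Finset.mem_filter, Finset.mem_univ, true_and] at hw'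
      refine h.no_cent_any hA hw'.1.1 hw'.1.2 (P := P) fun d hd => ?_
      have h3 : d * w.1 * d⁻¹ = w.1 := congrArg Subtype.val (hw ⟨d, hd⟩)
      exact mul_inv_eq_iff_eq_mul.1 h3⟩
    rw [Nat.card_of_isEmpty (α := MulAction.fixedPoints ↥(P : Subgroup G) X)] at h1
    have h4 : Nat.card X = (IP P).card := by
      rw [Nat.card_eq_fintype_card]; exact Fintype.card_coe _
    rw [← h4]
    exact ((ZMod.natCast_eq_natCast_iff _ _ p).2 h1).trans Nat.cast_zero
  have hUmod : (U.card : ZMod p) = - (Inc.card : ZMod p) := by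
    rw [hUcard, Nat.cast_sum, show -(Inc.card : ZMod p) = ∑ _P ∈ Inc, (-1 : ZMod p) by simp]
    refine Finset.sum_congr rfl fun P hP => ?_
    have htIP : t ∈ IP P := by
      simp only [IP, Inv, Finset.mem_filter, Finset.mem_univ, true_and]
      exact ⟨⟨ht1, htt⟩, by simpa [Inc] using hP⟩
    rw [Finset.card_erase_of_mem htIP, Nat.cast_sub (Finset.card_pos.2 ⟨t, htIP⟩), hIPmod,
      Nat.cast_one, zero_sub]
  -- all involutions are conjugate
  set C := Subgroup.centralizer ({t} : Set G)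
  have hInvcard : Inv.card = C.index := by
    have hf : ∀ g : G, g * t * g⁻¹ ∈ Inv := fun g => by
      simp only [Inv, Finset.mem_filter, Finset.mem_univ, true_and]
      refine ⟨fun e => ht1 (conj_eq_one_iff.1 e), ?_⟩
      rw [show g * t * g⁻¹ * (g * t * g⁻¹) = g * (t * t) * g⁻¹ by group, htt, mul_one, mul_inv_cancel]
    let F : G ⧸ C → {w : G // w ∈ Inv} := Quotient.lift (fun g => ⟨g * t * g⁻¹, hf g⟩) fun g g' e => by
      have he : g⁻¹ * g' ∈ C := QuotientGroup.leftRel_apply.1 e
      refine Subtype.ext ?_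
      show g * t * g⁻¹ = g' * t * g'⁻¹
      rw [show g' * t * g'⁻¹ = g * ((g⁻¹ * g') * t) * (g⁻¹ * g')⁻¹ * g⁻¹ by group, mem_cent.1 he]
      group
    have hF : Function.Bijective F := by
      constructor
      · rintro ⟨g⟩ ⟨g'⟩ e
        have e' : g * t * g⁻¹ = g' * t * g'⁻¹ := congrArg Subtype.val e
        refine Quotient.sound (QuotientGroup.leftRel_apply.2 (mem_cent.2 ?_))
        refine mul_inv_eq_iff_eq_mul.1 ?_
        rw [show g⁻¹ * g' * t * (g⁻¹ * g')⁻¹ = g⁻¹ * (g' * t * g'⁻¹) * g by group, ← e']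
        group
      · rintro ⟨w, hw⟩
        have hw' := hw
        simp only [Inv, Finset.mem_filter, Finset.mem_univ, true_and] at hw'
        obtain ⟨k, hk⟩ := h.exists_conj_mem (isPGroup_zpowers (p := 2) (x := w)
          ⟨1, by rw [pow_one, pow_two]; exact hw'.2⟩)
        obtain ⟨i, hi⟩ := h.ytr t ht ht1 _ (hk w (Subgroup.mem_zpowers w))
          (fun e => hw'.1 (conj_eq_one_iff.1 e))
        refine ⟨((k⁻¹ * y ^ i : G) : G ⧸ C), Subtype.ext ?_⟩
        show k⁻¹ * y ^ i * t * (k⁻¹ * y ^ i)⁻¹ = w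
        rw [show k⁻¹ * y ^ i * t * (k⁻¹ * y ^ i)⁻¹ = k⁻¹ * (y ^ i * t * (y ^ i)⁻¹) * k by group, hi]
        group
    rw [Subgroup.index, Nat.card_eq_of_bijective F hF, Nat.card_eq_fintype_card]
    exact (Fintype.card_coe _).symm
  have hpC : p ∣ C.index := by
    by_contra hnd
    obtain ⟨R⟩ : Nonempty (Sylow p C) := inferInstance
    have hidx : ¬ p ∣ ((R : Subgroup C).map C.subtype).index := by
      rw [Subgroup.index_map_subtype]
      intro hd
      rcases h.pp.dvd_mul.1 hd with hd | hd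
      · exact R.not_dvd_index hd
      · exact hnd hd
    refine h.no_cent hA ht ht1 (P := (R.2.map C.subtype).toSylow hidx) fun d hd => ?_
    obtain ⟨r', -, rfl⟩ := hd
    exact mem_cent.1 r'.2
  have hsplitInv : Inv.card = SQ.card + U.card := by
    have hSQ : SQ = Inv.filter fun w => w ∈ Q := by
      ext w
      simp only [SQ, Inv, Finset.mem_filter, Finset.mem_univ, true_and]
      exact ⟨fun ⟨h1, h2⟩ => ⟨⟨h2, h.inv w h1⟩, h1⟩, fun ⟨⟨h1, _⟩, h2⟩ => ⟨h2, h1⟩⟩
    rw [hSQ]
    exact (Finset.card_filter_add_card_filter_not (s := Inv) (fun w => w ∈ Q)).symm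
  have hSQp : SQ.card = p := by
    have h1 : insert (1 : G) SQ = Finset.univ.filter fun v => v ∈ Q := by
      ext v
      simp only [SQ, Finset.mem_insert, Finset.mem_filter, Finset.mem_univ, true_and]
      constructor
      · rintro (rfl | h1)
        · exact Q.one_mem
        · exact h1.1
      · intro hv
        tauto
    have h2 : (Finset.univ.filter fun v => v ∈ Q).card = p + 1 := by
      rw [← h.ha, ← h.card, Nat.card_eq_fintype_card, ← Fintype.card_coe]
      exact Fintype.card_congr (Equiv.subtypeEquivRight (by simp))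
    rw [← h1, Finset.card_insert_of_notMem (by simp [SQ])] at h2
    omega
  have h0 : (Inv.card : ZMod p) = 0 := by
    rw [hInvcard]; exact (ZMod.natCast_eq_zero_iff _ p).2 hpC
  rw [hsplitInv, Nat.cast_add, hSQp, hUmod, ZMod.natCast_self, zero_add, neg_eq_zero,
    ZMod.natCast_eq_zero_iff] at h0
  have := Nat.le_of_dvd hIncne.card_pos h0
  omega

end CfsgLib.MixedPrimes
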