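import Cfsg.Agent.Lib.FgsC.MixedCases
import Cfsg.Agent.S3282

/-!
The branch `p = 3` with a four group, reduced to the theorem of Brauer, Suzuki and Wall.
-/

set_option autoImplicit false
set_option linter.style.haveILetI false

namespace CfsgLib.MixedPrimes

variable {G : Type*} [Group G] [Finite G] {p a : ℕ} {Q : Subgroup G} {y : G}

/-- Elements of `⟨t⟩ P` when `t` is an involution normalising `P`. -/
theorem mem_sup_invol {P : Subgroup G} {t g : G} (htt : t * t = 1)
    (htP : t ∈ Subgroup.normalizer (P : Set G)) (hg : g ∈ Subgroup.zpowers t ⊔ P) :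
    g ∈ P ∨ ∃ w ∈ P, g = t * w := by
  have hg' : g ∈ ((Subgroup.zpowers t ⊔ P : Subgroup G) : Set G) := hg
  rw [Subgroup.coe_mul_of_left_le_normalizer_right _ _ (Subgroup.zpowers_le.2 htP)] at hg'
  obtain ⟨v, hv, w, hw, rfl⟩ := Set.mem_mul.1 hg'
  obtain ⟨i, rfl⟩ := Subgroup.mem_zpowers_iff.1 hv
  rcases Int.even_or_odd i with ⟨k, rfl⟩ | ⟨k, rfl⟩
  · left
    rw [← two_mul, zpow_mul, zpow_two, htt, one_zpow, one_mul]
    exact hw
  · right
    exact ⟨w, hw, by rw [zpow_add, zpow_mul, zpow_two, htt, one_zpow, one_mul, zpow_one]⟩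

/-- Equality from divisibility of prime power parts. -/
theorem eq_of_parts {K C : Subgroup G} (hKC : K ≤ C)
    (h : ∀ l k : ℕ, l.Prime → 0 < k → l ^ k ∣ Nat.card C → l ^ k ∣ Nat.card K) : K = C := by
  refine Subgroup.eq_of_le_of_card_ge hKC (Nat.le_of_dvd Nat.card_pos ?_)
  rw [Nat.dvd_iff_prime_pow_dvd_dvd]
  intro l k hl hlk
  rcases Nat.eq_zero_or_pos k with rfl | hk
  · simp
  · exact h l k hl hk hlk

theorem Ctx.klein_cases (h : Ctx p a Q y) (ha2 : a = 2) {t u : G} (ht : t ∈ Q) (hu : u ∈ Q)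
    (ht1 : t ≠ 1) (hu1 : u ≠ 1) (hne : u ≠ t) {v : G} (hv : v ∈ Q) :
    v = 1 ∨ v = t ∨ v = u ∨ v = t * u := by
  classical
  by_contra hno
  simp only [not_or] at hno
  have htu1 : t * u ≠ 1 := fun e => hne (by
    rw [← inv_eq_of_mul_eq_one_right e, inv_eq_of_mul_eq_one_right (h.inv t ht)])
  have hsub : ({1, t, u, t * u, v} : Set G) ⊆ (Q : Set G) := by
    intro z hz
    simp only [Set.mem_insert_iff, Set.mem_singleton_iff] at hz
    rcases hz with rfl | rfl | rfl | rfl | rfl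
    · exact Q.one_mem
    · exact ht
    · exact hu
    · exact Q.mul_mem ht hu
    · exact hv
  have h1 := Set.ncard_le_ncard hsub
  rw [Set.ncard_insert_of_notMem (by simp [Ne.symm ht1, Ne.symm hu1, Ne.symm htu1, Ne.symm hno.1]),
    Set.ncard_insert_of_notMem (by simp [Ne.symm hne, hu1, Ne.symm hno.2.1]),
    Set.ncard_insert_of_notMem (by simp [ht1, Ne.symm hno.2.2.1]),
    Set.ncard_pair (Ne.symm hno.2.2.2)] at h1
  have h2 : (Q : Set G).ncard = 4 := by
    rw [← Nat.card_coe_set_eq, show Nat.card (Q : Set G) = Nat.card Q from rfl, h.card, ha2]; rfl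
  omega

theorem Ctx.commute_all (h : Ctx p a Q y) (ha2 : a = 2) {t u : G} (ht : t ∈ Q) (hu : u ∈ Q)
    (ht1 : t ≠ 1) (hu1 : u ≠ 1) (hne : u ≠ t) {g : G} (hgt : Commute g t) (hgu : Commute g u)
    {v : G} (hv : v ∈ Q) : Commute g v := by
  rcases h.klein_cases ha2 ht hu ht1 hu1 hne hv with rfl | rfl | rfl | rfl
  · exact Commute.one_right g
  · exact hgt
  · exact hgu
  · exact hgt.mul_right hgu

/-- The Sylow subgroup of a real element commuting with `t` is centralised by `t`. -/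
theorem Ctx.sylow_cent_t (h : Ctx p a Q y) (ha2 : a = 2) {t u x : G} (ht : t ∈ Q) (hu : u ∈ Q)
    (ht1 : t ≠ 1) (hx : Real' p x u) (hxt : Commute x t) {P : Sylow p G}
    (hxP : x ∈ (P : Subgroup G)) : ∀ d ∈ (P : Subgroup G), Commute d t := by
  haveI := Fact.mk h.pp
  have hQP := h.norm_sylow hu hx ht ht1 hxt hxP
  have hne : u ≠ t := fun e => hx.outside h.pp h.p2 (mem_cent.2 (e ▸ hxt.eq.symm))
  have htt := h.inv t ht
  have huu := h.inv u hu
  have hconj : ∀ v ∈ Q, ∀ z ∈ (P : Subgroup G), v * z * v ∈ (P : Subgroup G) := fun v hv z hz => by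
    rw [← smul_conj (h.inv v hv)]; exact conj_mem (hQP hv) hz
  intro d hd
  refine commute_of_conj htt ?_
  by_contra hd2
  have hz := real_of_moved h.pp h.p2 (pel_of_mem hd) htt (h.ab P d hd _ (hconj t ht d hd)) hd2
  set z := d * (t * d * t)⁻¹
  have hzP : z ∈ (P : Subgroup G) := Subgroup.mul_mem _ hd (Subgroup.inv_mem _ (hconj t ht d hd))
  have hkey : ∀ w ∈ Q, w ≠ 1 → w ≠ t → ∀ e ∈ (P : Subgroup G), e ≠ 1 → t * e * t = e⁻¹ →
      Commute e w → False := by
    intro w hw hw1 hwt e he he1 hte hew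
    obtain ⟨i, hi⟩ := h.ytr t ht ht1 w hw hw1
    have he' : Real' p e t := ⟨pel_of_mem he, he1, ht1, htt, hte⟩
    set g := y ^ i
    have hgQ : g ∈ Subgroup.normalizer (Q : Set G) := Subgroup.pow_mem _ h.yN i
    have hx' : Real' p (g * x * g⁻¹) (g * u * g⁻¹) := by
      refine ⟨hx.1.conj g, fun e => hx.2.1 (conj_eq_one_iff.1 e),
        fun e => hx.2.2.1 (conj_eq_one_iff.1 e), h.inv _ (conj_mem hgQ hu), ?_⟩
      rw [show g * u * g⁻¹ * (g * x * g⁻¹) * (g * u * g⁻¹) = g * (u * x * u) * g⁻¹ by group,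
        hx.2.2.2.2, conj_inv]
    have hc : Commute (g * x * g⁻¹) w := hi ▸ (Commute.conj_iff g).2 hxt
    have hPP : P = g • P := h.sylow_eq_of_shared he' hx' hw1 (h.inv w hw) hew hc he (conj_mem_smul hxP)
    exact hwt (hi.symm.trans
      (h.norm_comm (h.yp.pow i) hgQ (Sylow.smul_eq_iff_mem_normalizer.1 hPP.symm) hQP ht))
  have hc := h.ab P z hzP _ (hconj u hu z hzP)
  have htu := h.q_comm ht hu
  have h1 : t * (u * z * u) * t = (u * z * u)⁻¹ := by
    rw [show t * (u * z * u) * t = (t * u) * z * (u * t) by group, htu.eq, ← htu.eq]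
    nth_rewrite 1 [htu.eq]
    rw [show u * t * z * (t * u) = u * (t * z * t) * u by group, hz.2.2.2.2,
      show (u * z * u)⁻¹ = u⁻¹ * z⁻¹ * u⁻¹ by group, inv_eq_of_mul_eq_one_right huu]
  by_cases h2 : z * (u * z * u) = 1
  · refine hkey (t * u) (Q.mul_mem ht hu) ?_ ?_ z hzP hz.2.1 hz.2.2.2.2
      (commute_of_conj (h.inv _ (Q.mul_mem ht hu)) ?_)
    · exact fun e => hne (by
        rw [← inv_eq_of_mul_eq_one_right e, inv_eq_of_mul_eq_one_right htt])
    · exact fun e => hx.2.2.1 (by simpa using e)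
    · have h3 : u * z * u = z⁻¹ := eq_inv_of_mul_eq_one_right h2
      nth_rewrite 2 [htu.eq]
      rw [show t * u * z * (u * t) = t * (u * z * u) * t by group, h3]
      have := congrArg (fun z => z⁻¹) hz.2.2.2.2
      simp only [inv_inv, mul_inv_rev, inv_eq_of_mul_eq_one_right htt] at this
      rw [← mul_assoc] at this
      exact this
  · refine hkey u hu hx.2.2.1 hne _ (Subgroup.mul_mem _ hzP (hconj u hu z hzP)) h2 ?_
      (commute_of_conj huu ?_)
    · rw [show t * (z * (u * z * u)) * t = (t * z * t⁻¹) * (t * (u * z * u) * t) by group,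
        smul_conj htt, hz.2.2.2.2, h1]
      exact (hc.inv_inv.eq).trans (mul_inv_rev _ _).symm
    · rw [show u * (z * (u * z * u)) * u = u * z * u * z * (u * u) by group, huu, mul_one]
      exact hc.eq.symm

/-- The exceptional branch is impossible. -/
theorem Ctx.klein_false (h : Ctx p a Q y) (ha2 : a = 2) {t u x : G} (ht : t ∈ Q) (hu : u ∈ Q)
    (ht1 : t ≠ 1) (hx : Real' p x u) (hxt : Commute x t) : False := by
  classical
  haveI := Fact.mk h.pp
  haveI := Fact.mk Nat.prime_two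
  have hp3 : p = 3 := by have h1 : 2 ^ a = p + 1 := h.ha; rw [ha2] at h1; omega
  have hu1 : u ≠ 1 := hx.2.2.1
  have htt := h.inv t ht
  have huu := h.inv u hu
  have hne : u ≠ t := fun e => hx.outside h.pp h.p2 (mem_cent.2 (e ▸ hxt.eq.symm))
  have htu := h.q_comm ht hu
  obtain ⟨P1, hxP⟩ := exists_sylow_mem hx.1
  have hcent := h.sylow_cent_t ha2 ht hu ht1 hx hxt hxP
  have hQP := h.norm_sylow hu hx ht ht1 hxt hxP
  have hPconj : ∀ z ∈ (P1 : Subgroup G), u * z * u ∈ (P1 : Subgroup G) := fun z hz => by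
    rw [← smul_conj huu]; exact conj_mem (hQP hu) hz
  have hmemP1 : ∀ c, Pel p c → Commute c t → c ∈ (P1 : Subgroup G) := fun c hc hct =>
    h.mem_sylow_of_real hx hxP hc (h.comm_cent_invol ht1 htt hct hxt hc hx.1)
  set P0 : Subgroup G := (P1 : Subgroup G) ⊓ Subgroup.centralizer (Q : Set G) with hP0
  have hP0Q : ∀ c ∈ P0, ∀ v ∈ Q, Commute c v := fun c hc v hv =>
    ((Subgroup.mem_centralizer_iff.1 hc.2 v hv).symm : c * v = v * c)
  have hmemP0 : ∀ c ∈ (P1 : Subgroup G), u * c * u = c → c ∈ P0 := fun c hc hcu =>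
    ⟨hc, Subgroup.mem_centralizer_iff.2 fun v hv =>
      (h.commute_all ha2 ht hu ht1 hu1 hne (hcent c hc) (commute_of_conj huu hcu) hv).eq.symm⟩
  have hP0sq : ∀ c ∈ P0, c * c = 1 → c = 1 := fun c hc h2 =>
    (pel_of_mem hc.1).eq_one_of_sq h.pp h.p2 h2
  set M : Subgroup G := Subgroup.centralizer (P0 : Set G) with hM
  have hMc : ∀ g ∈ M, ∀ c ∈ P0, Commute c g := fun g hg c hc => Subgroup.mem_centralizer_iff.1 hg c hc
  have hP1M : (P1 : Subgroup G) ≤ M := fun z hz => Subgroup.mem_centralizer_iff.2 fun c hc =>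
    (h.ab P1 c hc.1 z hz).eq
  have hP0M : P0 ≤ M := fun c hc => hP1M hc.1
  have hQM : Q ≤ M := fun v hv => Subgroup.mem_centralizer_iff.2 fun c hc => (hP0Q c hc v hv).eq
  have htM := hQM ht
  have huM := hQM hu
  have hyM : y ∈ M := by
    have hyN : y ∈ Subgroup.normalizer (P0 : Set G) := by
      refine Subgroup.mem_normalizer_fintype fun c hc => ?_
      have hall : ∀ v ∈ Q, Commute (y * c * y⁻¹) v := fun v hv => by
        have hv' : y⁻¹ * v * y ∈ Q := by
          have := conj_mem (Subgroup.inv_mem _ h.yN) hv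
          simpa using this
        have := (Commute.conj_iff y).2 (hP0Q c hc _ hv')
        rwa [show y * (y⁻¹ * v * y) * y⁻¹ = v by group] at this
      exact ⟨hmemP1 _ ((pel_of_mem hc.1).conj y) (hall t ht),
        Subgroup.mem_centralizer_iff.2 fun v hv => (hall v hv).eq.symm⟩
    have hS : IsPGroup p ↥(P0 ⊔ Subgroup.zpowers y) :=
      IsPGroup.to_sup_of_normal_left' (P1.2.to_le inf_le_left) (isPGroup_zpowers h.yp)
        (Subgroup.zpowers_le.2 hyN)
    obtain ⟨S, hS'⟩ := hS.exists_le_sylow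
    exact Subgroup.mem_centralizer_iff.2 fun c hc => (h.ab S c (hS' (Subgroup.mem_sup_left hc)) y
      (hS' (Subgroup.mem_sup_right (Subgroup.mem_zpowers y)))).eq
  have hCt : (P1 : Subgroup G) ⊔ Q = Subgroup.centralizer ({t} : Set G) := by
    refine eq_of_parts (sup_le (fun z hz => mem_cent.2 (hcent z hz).eq)
      (fun v hv => mem_cent.2 (h.q_comm hv ht).eq)) fun l k hl hk hlk => ?_
    haveI := Fact.mk hl
    obtain ⟨g', hg'⟩ := exists_prime_orderOf_dvd_card'
      (G := ↥(Subgroup.centralizer ({t} : Set G))) l ((dvd_pow_self l hk.ne').trans hlk)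
    have hl' : l = 2 ∨ l = p := by
      rw [← Subgroup.orderOf_coe] at hg'
      refine h.primes_of_conj (g := (g' : G)) ht1 htt ?_ l hl (hg' ▸ dvd_rfl)
      rw [← mem_cent.1 g'.2, mul_inv_cancel_right]
      exact Subgroup.mem_zpowers _
    rcases hl' with rfl | rfl
    · have hka : k ≤ a := by
        by_contra hka
        exact h.syl ((pow_dvd_pow 2 (show a + 1 ≤ k by omega)).trans
          (hlk.trans (Subgroup.card_subgroup_dvd_card _)))
      exact (pow_dvd_pow 2 hka).trans (h.card ▸ Subgroup.card_dvd_of_le le_sup_right)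
    · exact (P1.pow_dvd_card_of_pow_dvd_card (hlk.trans (Subgroup.card_subgroup_dvd_card _))).trans
        (Subgroup.card_dvd_of_le le_sup_left)
  -- the quotient
  set N0 : Subgroup M := P0.subgroupOf M with hN0
  haveI : N0.Normal := ⟨fun c hc g => by
    rw [hN0, Subgroup.mem_subgroupOf] at hc ⊢
    rw [Subgroup.coe_mul, Subgroup.coe_mul, Subgroup.coe_inv, ← (hMc g g.2 c hc).eq,
      mul_inv_cancel_right]
    exact hc⟩
  set π : M →* M ⧸ N0 := QuotientGroup.mk' N0
  have hπ : ∀ {g g' : M}, π g = π g' ↔ (g : G)⁻¹ * g' ∈ P0 := by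
    intro g g'
    show (g : M ⧸ N0) = g' ↔ _
    rw [QuotientGroup.eq, hN0, Subgroup.mem_subgroupOf, Subgroup.coe_mul, Subgroup.coe_inv]
  have hπ1 : ∀ {g : M}, π g = 1 ↔ (g : G) ∈ P0 := by
    intro g
    show (g : M ⧸ N0) = 1 ↔ _
    rw [QuotientGroup.eq_one_iff, hN0, Subgroup.mem_subgroupOf]
  have hpinj : ∀ v v' : M, (v : G) * v = 1 → (v' : G) * v' = 1 → π v = π v' → (v : G) = v' := by
    intro v v' hv hv' e
    have hc := hπ.1 e
    have hcv := hMc v v.2 _ hc
    refine inv_mul_eq_one.1 (hP0sq _ hc ?_)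
    calc (v : G)⁻¹ * v' * ((v : G)⁻¹ * v') = ((v : G)⁻¹ * v') * (v : G)⁻¹ * v' := by group
      _ = (v : G)⁻¹ * ((v : G)⁻¹ * v') * v' := by rw [hcv.inv_right.eq]
      _ = ((v : G) * v)⁻¹ * ((v' : G) * v') := by group
      _ = 1 := by rw [hv, hv', inv_one, one_mul]
  have hcardP0 : ∀ c ∈ P0, c ^ Nat.card P0 = 1 := fun c hc =>
    congrArg Subtype.val (pow_card_eq_one' (x := (⟨c, hc⟩ : P0)))
  obtain ⟨n0, hn0⟩ := (P1.2.to_le (inf_le_left : P0 ≤ P1)).exists_card_eq
  have hodd0 : Odd (Nat.card P0) := by rw [hn0, hp3]; exact (by decide : Odd 3).pow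
  have hlift : ∀ j : M ⧸ N0, orderOf j = 2 → ∃ v : M, v ≠ 1 ∧ (v : G) * v = 1 ∧ π v = j := by
    intro j hj
    obtain ⟨m, rfl⟩ := QuotientGroup.mk'_surjective N0 j
    obtain ⟨k, hk⟩ := hodd0
    have hj2 : π m ^ 2 = 1 := hj ▸ pow_orderOf_eq_one _
    have hπv : π (m ^ Nat.card P0) = π m := by
      rw [map_pow, hk, pow_succ, pow_mul, hj2, one_pow, one_mul]
    refine ⟨m ^ Nat.card P0, fun e => ?_, ?_, hπv⟩
    · rw [e, map_one] at hπv
      rw [← hπv, orderOf_one] at hj
      omega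
    · have hm2 : ((m ^ 2 : M) : G) ∈ P0 := hπ1.1 (by rw [map_pow]; exact hj2)
      rw [Subgroup.coe_pow, ← pow_add, ← two_mul, pow_mul]
      simpa using hcardP0 _ hm2
  have hconjM : ∀ v : M, (v : G) * v = 1 → v ≠ 1 →
      ∃ g : M, (g : G) * v * (g : G)⁻¹ ∈ Q ∧ (g : G) * v * (g : G)⁻¹ ≠ 1 := by
    intro v hv hv1
    have hQ' : IsPGroup 2 ↥(Q.comap M.subtype) := (IsPGroup.of_card h.card).comap_subtype
    obtain ⟨S, hS⟩ := hQ'.exists_le_sylow
    have hSQ : ∀ z : M, z ∈ (S : Subgroup M) → (z : G) ∈ Q := by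
      intro z hz
      have heq : Q = (S : Subgroup M).map M.subtype := Subgroup.eq_of_le_of_card_ge
        (fun w hw => ⟨⟨w, hQM hw⟩, hS hw, rfl⟩) (by rw [h.card]; exact h.card_two_group_le (S.2.map _))
      rw [heq]
      exact ⟨z, hz, rfl⟩
    obtain ⟨S', hS'⟩ := (isPGroup_zpowers (p := 2) (x := v) ⟨1, by
      rw [pow_one, pow_two]; exact Subtype.ext hv⟩).exists_le_sylow
    obtain ⟨g, hg⟩ := MulAction.exists_smul_eq M S' S
    refine ⟨g, hSQ (g * v * g⁻¹) (hg ▸ conj_mem_smul (hS' (Subgroup.mem_zpowers v))), fun e => hv1 ?_⟩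
    exact Subtype.ext (conj_eq_one_iff.1 e)
  set T : M ⧸ N0 := π ⟨t, htM⟩ with hTdef
  set U : M ⧸ N0 := π ⟨u, huM⟩ with hUdef
  have hT1 : T ≠ 1 := fun e => ht1 (hP0sq _ (hπ1.1 e) htt)
  have hU1 : U ≠ 1 := fun e => hu1 (hP0sq _ (hπ1.1 e) huu)
  have hTT : T * T = 1 := by
    rw [hTdef, ← map_mul, show (⟨t, htM⟩ : M) * ⟨t, htM⟩ = 1 from Subtype.ext htt, map_one]
  have hUU : U * U = 1 := by
    rw [hUdef, ← map_mul, show (⟨u, huM⟩ : M) * ⟨u, huM⟩ = 1 from Subtype.ext huu, map_one]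
  have hTord : orderOf T = 2 := orderOf_eq_prime (by rw [pow_two]; exact hTT) hT1
  have hUord : orderOf U = 2 := orderOf_eq_prime (by rw [pow_two]; exact hUU) hU1
  set K1 : Subgroup G := Subgroup.zpowers t ⊔ (P1 : Subgroup G)
  have hK1 : ∀ g ∈ K1, g ∈ (P1 : Subgroup G) ∨ ∃ w ∈ (P1 : Subgroup G), g = t * w :=
    fun g hg => mem_sup_invol htt (hQP ht) hg
  set K : Subgroup (M ⧸ N0) := (K1.subgroupOf M).map π with hKdef
  have hKmem : ∀ k ∈ K, ∃ w : M, (w : G) ∈ (P1 : Subgroup G) ∧ (k = π w ∨ k = T * π w) := by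
    rintro k ⟨g, hg, rfl⟩
    rcases hK1 _ hg with e | ⟨w, hw, e⟩
    · exact ⟨g, e, Or.inl rfl⟩
    · refine ⟨⟨w, hP1M hw⟩, hw, Or.inr ?_⟩
      rw [hTdef, ← map_mul]
      congr 1
      exact Subtype.ext e
  have hwt : ∀ w : M, (w : G) ∈ (P1 : Subgroup G) → Commute (π w) T := fun w hw =>
    Commute.map (show Commute w ⟨t, htM⟩ from Subtype.ext (hcent _ hw).eq) π
  have hKab : IsMulCommutative ↥K := by
    refine ⟨⟨fun k l => Subtype.ext ?_⟩⟩
    obtain ⟨w, hw, hk⟩ := hKmem k k.2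
    obtain ⟨w', hw', hl⟩ := hKmem l l.2
    have hc : Commute (π w) (π w') :=
      Commute.map (show Commute w w' from Subtype.ext (h.ab P1 _ hw _ hw').eq) π
    show (k : M ⧸ N0) * l = l * k
    rcases hk with hk | hk <;> rcases hl with hl | hl <;> rw [hk, hl]
    · exact hc.eq
    · exact ((hwt w hw).mul_right hc).eq
    · exact ((hwt w' hw').symm.mul_left hc).eq
    · exact ((Commute.refl T).mul_right (hwt w' hw').symm |>.mul_left
        ((hwt w hw).mul_right hc)).eq
  have hTK : T ∈ K := ⟨⟨t, htM⟩, Subgroup.mem_sup_left (Subgroup.mem_zpowers t), rfl⟩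
  have hKC : K ≤ Subgroup.centralizer ({T} : Set (M ⧸ N0)) := fun k hk =>
    mem_cent.2 (congrArg Subtype.val (hKab.1.comm ⟨k, hk⟩ ⟨T, hTK⟩))
  have hUC : U ∈ Subgroup.centralizer ({T} : Set (M ⧸ N0)) :=
    mem_cent.2 (Commute.map (show Commute (⟨u, huM⟩ : M) ⟨t, htM⟩ from Subtype.ext htu.eq.symm) π).eq
  have hUK : U ∉ K := by
    intro hk
    obtain ⟨w, hw, e | e⟩ := hKmem U hk
    · refine hu1 ((pel_of_mem (P := P1) ?_).eq_one_of_sq h.pp h.p2 huu)
      have h1 := hπ.1 e
      have : u = w * (u⁻¹ * w)⁻¹ := by group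
      rw [this]
      exact Subgroup.mul_mem _ hw (Subgroup.inv_mem _ h1.1)
    · rw [hTdef, ← map_mul] at e
      have h1 := hπ.1 e
      refine hne ?_
      have h2 : t * u ∈ (P1 : Subgroup G) := by
        have : t * u = w * (u⁻¹ * (t * w))⁻¹ := by
          rw [show (u⁻¹ * (t * (w : G)))⁻¹ = (w : G)⁻¹ * t⁻¹ * u by group,
            inv_eq_of_mul_eq_one_right htt]
          group
        rw [this]
        exact Subgroup.mul_mem _ hw (Subgroup.inv_mem _ h1.1)
      have h3 := (pel_of_mem h2).eq_one_of_sq h.pp h.p2 (h.inv _ (Q.mul_mem ht hu))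
      rw [← inv_eq_of_mul_eq_one_right h3, inv_eq_of_mul_eq_one_right htt]
  have hH : K ⊔ Subgroup.zpowers U = Subgroup.centralizer ({T} : Set (M ⧸ N0)) := by
    refine le_antisymm (sup_le hKC (Subgroup.zpowers_le.2 hUC)) fun z hz => ?_
    obtain ⟨g, rfl⟩ := QuotientGroup.mk'_surjective N0 z
    rw [mem_cent] at hz
    have hgt : (g : G) * t = t * g := by
      have e1 : π (g * ⟨t, htM⟩ * g⁻¹) = π ⟨t, htM⟩ := by
        rw [map_mul, map_mul, map_inv, hz, mul_inv_cancel_right]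
      have h2 := hpinj _ _ (by
        simp only [Subgroup.coe_mul, Subgroup.coe_inv]
        rw [show (g : G) * t * (g : G)⁻¹ * ((g : G) * t * (g : G)⁻¹) = g * (t * t) * (g : G)⁻¹ by group,
          htt, mul_one, mul_inv_cancel]) htt e1
      simp only [Subgroup.coe_mul, Subgroup.coe_inv] at h2
      exact mul_inv_eq_iff_eq_mul.1 h2
    have hle : ((P1 : Subgroup G) ⊔ Q).subgroupOf M ≤ (K ⊔ Subgroup.zpowers U).comap π := by
      rw [Subgroup.subgroupOf_sup hP1M hQM]
      refine sup_le (fun w hw => ?_) (fun v hv => ?_)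
      · exact Subgroup.mem_sup_left ⟨w, Subgroup.mem_sup_right hw, rfl⟩
      · have hT' : T ∈ K ⊔ Subgroup.zpowers U := Subgroup.mem_sup_left hTK
        have hU' : U ∈ K ⊔ Subgroup.zpowers U := Subgroup.mem_sup_right (Subgroup.mem_zpowers U)
        rcases h.klein_cases ha2 ht hu ht1 hu1 hne hv with e | e | e | e
        · rw [show v = 1 from Subtype.ext e]; exact one_mem _
        · rw [show v = ⟨t, htM⟩ from Subtype.ext e]; exact hT'
        · rw [show v = ⟨u, huM⟩ from Subtype.ext e]; exact hU'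
        · rw [show v = ⟨t, htM⟩ * ⟨u, huM⟩ from Subtype.ext e, Subgroup.mem_comap, map_mul]
          exact mul_mem hT' hU'
    exact hle (Subgroup.mem_subgroupOf.2 (hCt.symm ▸ mem_cent.2 hgt))
  have hUT : Commute U T := mem_cent.1 hUC
  have hfixU : ∀ w : M, (w : G) ∈ (P1 : Subgroup G) → Commute (π w) U → π w = 1 := by
    intro w hw hc
    refine hπ1.2 (hmemP0 _ hw ?_)
    have e1 : π (⟨u, huM⟩ * w * ⟨u, huM⟩⁻¹) = π w := by
      rw [map_mul, map_mul, map_inv, ← hUdef, ← hc.eq, mul_inv_cancel_right]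
    have hc' := hπ.1 e1.symm
    simp only [Subgroup.coe_mul, Subgroup.coe_inv] at hc'
    rw [smul_conj huu] at hc'
    have hcu := conj_of_commute huu (hP0Q _ hc' u hu)
    refine (inv_mul_eq_one.1 (hP0sq _ hc' ?_)).symm
    calc (w : G)⁻¹ * (u * w * u) * ((w : G)⁻¹ * (u * w * u))
        = (w : G)⁻¹ * (u * w * u) * (u * ((w : G)⁻¹ * (u * w * u)) * u) := by rw [hcu]
      _ = (w : G)⁻¹ * (u * w * (u * u)) * ((w : G)⁻¹ * u * w * (u * u)) := by group
      _ = 1 := by
        rw [huu, show (w : G)⁻¹ * (u * w * 1) * ((w : G)⁻¹ * u * w * 1) = (w : G)⁻¹ * (u * u) * w by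
          group, huu]
        group
  have hinvK : ∀ k ∈ K, U * k * U⁻¹ = k⁻¹ := by
    have hw1 : ∀ w : M, (w : G) ∈ (P1 : Subgroup G) → U * π w * U⁻¹ = (π w)⁻¹ := by
      intro w hw
      rw [hUdef, ← map_inv, ← map_inv, ← map_mul, ← map_mul, hπ]
      simp only [Subgroup.coe_mul, Subgroup.coe_inv]
      rw [inv_eq_of_mul_eq_one_right huu, show (u * (w : G) * u)⁻¹ * (w : G)⁻¹ =
        ((w : G) * (u * w * u))⁻¹ by group]
      refine P0.inv_mem (hmemP0 _ (Subgroup.mul_mem _ hw (hPconj _ hw)) ?_)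
      rw [show u * ((w : G) * (u * w * u)) * u = u * w * u * w * (u * u) by group, huu, mul_one]
      exact (h.ab P1 _ (hPconj _ hw) _ hw).eq
    intro k hk
    obtain ⟨w, hw, rfl | rfl⟩ := hKmem k hk
    · exact hw1 w hw
    · rw [show U * (T * π w) * U⁻¹ = (U * T * U⁻¹) * (U * π w * U⁻¹) by group, hw1 w hw,
        hUT.eq, mul_inv_cancel_right, mul_inv_rev, inv_eq_of_mul_eq_one_right hTT]
      exact ((hwt w hw).inv_left).eq.symm
  have hCK : K ⊓ Subgroup.centralizer ({U} : Set (M ⧸ N0)) = Subgroup.zpowers T := by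
    refine le_antisymm ?_ (Subgroup.zpowers_le.2 ⟨hTK, mem_cent.2 hUT.eq.symm⟩)
    rintro k ⟨hk, hkU⟩
    obtain ⟨w, hw, rfl | rfl⟩ := hKmem k hk
    · rw [hfixU w hw (mem_cent.1 hkU)]
      exact one_mem _
    · have hc : Commute (π w) U := by
        have h1 : Commute (T⁻¹ * (T * π w)) U := (hUT.symm.inv_left).mul_left (mem_cent.1 hkU)
        rwa [inv_mul_cancel_left] at h1
      rw [hfixU w hw hc, mul_one]
      exact Subgroup.mem_zpowers T
  have hTI : ∀ g : M ⧸ N0, g ∉ Subgroup.centralizer ({T} : Set (M ⧸ N0)) →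
      K ⊓ K.map (MulAut.conj g).toMonoidHom = ⊥ := by
    intro gb hgb
    obtain ⟨g, rfl⟩ := QuotientGroup.mk'_surjective N0 gb
    rw [eq_bot_iff]
    rintro k ⟨hk, hk'⟩
    obtain ⟨k', hk'K, hke⟩ := hk'
    replace hke : π g * k' * (π g)⁻¹ = k := hke
    rw [Subgroup.mem_bot]
    obtain ⟨w, hw, hkw⟩ := hKmem k hk
    obtain ⟨w', hw', hkw'⟩ := hKmem k' hk'K
    have hsq : ∀ (k : M ⧸ N0) (w : M), (w : G) ∈ (P1 : Subgroup G) →
        (k = π w ∨ k = T * π w) → k * k = π (w * w) := by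
      rintro k w hw (rfl | rfl)
      · rw [map_mul]
      · rw [show T * π w * (T * π w) = T * (π w * T) * π w by group, (hwt w hw).eq,
          show T * (T * π w) * π w = T * T * (π w * π w) by group, hTT, one_mul, map_mul]
    have h1 : π (w * w) = π (g * (w' * w') * g⁻¹) := by
      rw [← hsq k w hw hkw, map_mul π (g * (w' * w')), map_mul π g, map_inv, ← hsq k' w' hw' hkw', ← hke]
      group
    have hwwg : ∃ z ∈ (P1 : Subgroup G), (w : G) * w = g * z * (g : G)⁻¹ := by
      have hc := hπ.1 h1.symm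
      simp only [Subgroup.coe_mul, Subgroup.coe_inv] at hc
      refine ⟨(w' : G) * w' * (((g : G) * (w' * w') * (g : G)⁻¹)⁻¹ * (w * w)),
        Subgroup.mul_mem _ (Subgroup.mul_mem _ hw' hw') hc.1, ?_⟩
      rw [show (g : G) * ((w' : G) * w' * (((g : G) * (w' * w') * (g : G)⁻¹)⁻¹ * (w * w))) * (g : G)⁻¹ =
        g * (w' * w') * (((g : G) * (w' * w') * (g : G)⁻¹)⁻¹ * (w * w) * (g : G)⁻¹) by group,
        ((hMc g g.2 _ hc).inv_right).eq]
      group
    by_cases hwP0 : (w : G) * w ∈ P0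
    · have hhalf : ∀ z : M, (z : G) ∈ (P1 : Subgroup G) → (z : G) * z ∈ P0 → π z = 1 := by
        intro z hz hzz
        refine hπ1.2 ?_
        obtain ⟨i, hi⟩ := pel_of_mem hz
        exact mem_of_coprime_pow (m := 2) (n := p ^ i)
          (((Nat.coprime_primes Nat.prime_two h.pp).2 (Ne.symm h.p2)).pow_right i)
          (by rw [pow_two]; exact hzz) (by rw [hi]; exact P0.one_mem)
      rw [hhalf w hw hwP0] at hkw
      have hw'0 : π w' = 1 := by
        refine hhalf w' hw' ?_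
        have h2 : π (w' * w') = π g⁻¹ * π (w * w) * (π g⁻¹)⁻¹ := by
          rw [h1, map_mul π (g * (w' * w')), map_mul π g, map_inv]; group
        rw [show π (w * w) = 1 from hπ1.2 hwP0, mul_one, mul_inv_cancel] at h2
        exact hπ1.1 h2
      rw [hw'0] at hkw'
      rcases hkw with hkw | hkw
      · exact hkw
      rcases hkw' with hkw' | hkw'
      · rw [← hke, hkw', mul_one, mul_inv_cancel]
      exfalso
      refine hgb (mem_cent.2 (mul_inv_eq_iff_eq_mul.1 ?_))
      rw [hkw', mul_one] at hke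
      exact hke.trans (hkw.trans (mul_one T))
    · exfalso
      obtain ⟨z, hz, hzw⟩ := hwwg
      set s := (w : G) * w
      have hs : s ∈ (P1 : Subgroup G) := Subgroup.mul_mem _ hw hw
      have hne' : u * s * u ≠ s := fun e => hwP0 (hmemP0 _ hs e)
      have hreal := real_of_moved h.pp h.p2 (pel_of_mem hs) huu (h.ab P1 s hs _ (hPconj _ hs)) hne'
      set x' := s * (u * s * u)⁻¹
      have hx'P : x' ∈ (P1 : Subgroup G) :=
        Subgroup.mul_mem _ hs (Subgroup.inv_mem _ (hPconj _ hs))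
      have he : (u * s * u) * s ∈ P0 := hmemP0 _ (Subgroup.mul_mem _ (hPconj _ hs) hs) (by
        rw [show u * (u * s * u * s) * u = (u * u) * s * (u * s * u) by group, huu, one_mul]
        exact (h.ab P1 _ hs _ (hPconj _ hs)).eq)
      have hx'g : x' ∈ ((((g : G) • P1) : Sylow p G) : Subgroup G) := by
        rw [show x' = s * s * ((u * s * u) * s)⁻¹ by
          show s * (u * s * u)⁻¹ = s * s * ((u * s * u) * s)⁻¹
          group]
        refine Subgroup.mul_mem _ (Subgroup.mul_mem _ ?_ ?_) (Subgroup.inv_mem _ ?_)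
        · rw [hzw]; exact conj_mem_smul hz
        · rw [hzw]; exact conj_mem_smul hz
        · have := conj_mem_smul (g := (g : G)) he.1
          rwa [← (hMc g g.2 _ he).eq, mul_inv_cancel_right] at this
      have hPP := h.sylow_unique hreal hx'P hx'g
      set v := (g : G) * t * (g : G)⁻¹ with hvdef
      have hvP : ∀ d ∈ (P1 : Subgroup G), Commute d v := by
        intro d hd
        rw [hPP, mem_smul_sylow_iff] at hd
        have := (Commute.conj_iff (g : G)).2 (hcent _ hd)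
        rwa [show (g : G) * ((g : G)⁻¹ * d * g) * (g : G)⁻¹ = d by group] at this
      have hvv : v * v = 1 := by
        rw [hvdef, show (g : G) * t * (g : G)⁻¹ * ((g : G) * t * (g : G)⁻¹) =
          g * (t * t) * (g : G)⁻¹ by group, htt, mul_one, mul_inv_cancel]
      have hv1 : v ≠ 1 := fun e => ht1 (conj_eq_one_iff.1 e)
      have hCx : Subgroup.zpowers t ⊔ (P1 : Subgroup G) = Subgroup.centralizer ({x} : Set G) := by
        refine eq_of_parts (sup_le (Subgroup.zpowers_le.2 (mem_cent.2 hxt.eq.symm))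
          (fun d hd => mem_cent.2 (h.ab P1 d hd x hxP).eq)) fun l j hl hj hlj => ?_
        haveI := Fact.mk hl
        rcases h.cent_real_primes hx l hl ((dvd_pow_self l hj.ne').trans hlj) with rfl | rfl
        · have hj1 : j ≤ 1 := by
            obtain ⟨S⟩ : Nonempty (Sylow 2 ↥(Subgroup.centralizer ({x} : Set G))) := inferInstance
            have h1 := h.cent_real_two_small hx (Subgroup.map_subtype_le (S : Subgroup _)) (S.2.map _)
            rw [Subgroup.card_map_of_injective (Subgroup.subtype_injective _), ha2] at h1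
            have h2 := Nat.le_of_dvd Nat.card_pos (S.pow_dvd_card_of_pow_dvd_card hlj)
            by_contra hj2
            have h3 : 2 ^ 2 ≤ 2 ^ j := Nat.pow_le_pow_right (by norm_num) (by omega)
            omega
          refine (pow_dvd_pow 2 hj1).trans ?_
          rw [pow_one]
          have h2t : Nat.card ↥(Subgroup.zpowers t) = 2 := by
            rw [Nat.card_zpowers]; exact orderOf_eq_prime (by rw [pow_two]; exact htt) ht1
          exact h2t ▸ Subgroup.card_dvd_of_le le_sup_left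
        · exact (P1.pow_dvd_card_of_pow_dvd_card (hlj.trans (Subgroup.card_subgroup_dvd_card _))).trans
            (Subgroup.card_dvd_of_le le_sup_right)
      have hvmem : v ∈ Subgroup.zpowers t ⊔ (P1 : Subgroup G) := by
        rw [hCx]; exact mem_cent.2 (hvP x hxP).eq.symm
      have hvt : v = t := by
        rcases mem_sup_invol htt (hQP ht) hvmem with e | ⟨w2, hw2, e⟩
        · exact absurd ((pel_of_mem e).eq_one_of_sq h.pp h.p2 hvv) hv1
        · have hc2 : Commute t w2 := (hcent w2 hw2).symm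
          have : w2 = 1 := (pel_of_mem hw2).eq_one_of_sq h.pp h.p2 (by
            rw [e, show t * w2 * (t * w2) = t * (w2 * t) * w2 by group, ← hc2.eq,
              show t * (t * w2) * w2 = t * t * (w2 * w2) by group, htt, one_mul] at hvv
            exact hvv)
          rw [e, this, mul_one]
      refine hgb (mem_cent.2 ?_)
      exact (Commute.map (show Commute g ⟨t, htM⟩ from
        Subtype.ext (mul_inv_eq_iff_eq_mul.1 hvt)) π).eq
  have hconj : ∀ j j' : M ⧸ N0, orderOf j = 2 → orderOf j' = 2 → IsConj j j' := by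
    have hTj : ∀ j : M ⧸ N0, orderOf j = 2 → IsConj T j := by
      intro j hj
      obtain ⟨v, hv1, hvv, rfl⟩ := hlift j hj
      obtain ⟨g, hgQ, hg1⟩ := hconjM v hvv hv1
      obtain ⟨i, hi⟩ := h.ytr t ht ht1 _ hgQ hg1
      refine isConj_iff.2 ⟨π (g⁻¹ * ⟨y, hyM⟩ ^ i), ?_⟩
      rw [hTdef, ← map_inv, ← map_mul, ← map_mul]
      congr 1
      refine Subtype.ext ?_
      simp only [Subgroup.coe_mul, Subgroup.coe_inv, Subgroup.coe_pow]
      rw [show (g : G)⁻¹ * y ^ i * t * ((g : G)⁻¹ * y ^ i)⁻¹ =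
        (g : G)⁻¹ * (y ^ i * t * (y ^ i)⁻¹) * g by group, hi]
      group
    exact fun j j' hj hj' => (hTj j hj).symm.trans (hTj j' hj')
  obtain ⟨Qb, Db, hcard, hcentQ, hDab, hDQ, -, hNQ, hX⟩ := Cfsg.Agent.S3282.result T hTord K hKab
    hKC hTK U hUord hUC hUK hH hCK hinvK hTI hconj
  have hQodd : Odd (Nat.card Qb) := ⟨Nat.card Db, hDQ.symm⟩
  have hno2 : ∀ j ∈ Qb, orderOf j ≠ 2 := fun j hj e => by
    have h1 : orderOf (⟨j, hj⟩ : Qb) ∣ Nat.card Qb := orderOf_dvd_natCard _
    rw [Subgroup.orderOf_mk, e] at h1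
    exact (Nat.not_even_iff_odd.2 hQodd) (even_iff_two_dvd.2 h1)
  have hinvert : ∀ (l : ℕ), l.Prime → l ≠ 2 → l ≠ p → ∀ j z : M ⧸ N0, orderOf j = 2 → orderOf z = l →
      j * z * j⁻¹ = z⁻¹ → False := by
    intro l hl hl2 hlp j z hj hz hinv
    obtain ⟨v, hv1, hvv, rfl⟩ := hlift j hj
    obtain ⟨m, rfl⟩ := QuotientGroup.mk'_surjective N0 z
    set z' : M := m ^ Nat.card P0
    have hml : ((m ^ l : M) : G) ∈ P0 := hπ1.1 (by rw [map_pow, ← hz, pow_orderOf_eq_one])
    have hz'l : (z' : G) ^ l = 1 := by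
      rw [Subgroup.coe_pow, ← pow_mul, mul_comm, pow_mul]
      simpa using hcardP0 _ hml
    have hcop : (Nat.card P0).Coprime l := by
      rw [hn0]
      exact ((Nat.coprime_primes h.pp hl).2 (Ne.symm hlp)).pow_left n0
    have hz1 : (z' : G) ≠ 1 := by
      intro e
      have h1 : π m ^ Nat.card P0 = 1 := by rw [← map_pow]; exact hπ1.2 (e ▸ P0.one_mem)
      have h2 := eq_one_of_coprime hcop h1 (hz ▸ pow_orderOf_eq_one _)
      rw [h2, orderOf_one] at hz
      exact hl.ne_one hz.symm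
    haveI := Fact.mk hl
    have hz'ord : orderOf (z' : G) = l := orderOf_eq_prime hz'l hz1
    refine h.no_r_conj hl hl2 hlp hz'ord (fun e => hv1 (Subtype.ext e)) hvv ?_
    have e1 : π (v * z' * v⁻¹) = π z'⁻¹ := by
      rw [map_mul, map_mul, map_inv, map_inv, map_pow, ← conj_pow, hinv, inv_pow]
    have hc := hπ.1 e1
    simp only [Subgroup.coe_mul, Subgroup.coe_inv] at hc
    set e := (v : G) * z' * (v : G)⁻¹
    have hc1 : e⁻¹ * (z' : G)⁻¹ = 1 := by
      refine eq_one_of_coprime hcop (hcardP0 _ hc) ?_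
      have hcomm : Commute (e⁻¹ * (z' : G)⁻¹) (z' : G) := hMc z' z'.2 _ hc
      have hel : e⁻¹ ^ l = 1 := by rw [inv_pow, conj_pow, hz'l, mul_one, mul_inv_cancel, inv_one]
      have h2 : (e⁻¹ * (z' : G)⁻¹) ^ l * (z' : G) ^ l = 1 := by
        rw [← hcomm.mul_pow, inv_mul_cancel_right, hel]
      rwa [hz'l, mul_one] at h2
    have h3 : e = (z' : G)⁻¹ := inv_mul_eq_one.1 hc1
    rw [h3]
    exact Subgroup.inv_mem _ (Subgroup.mem_zpowers _)
  have hthree : ∀ z : M ⧸ N0, orderOf z = 3 → ∃ j, orderOf j = 2 ∧ Commute j z := by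
    intro z hz
    obtain ⟨m, rfl⟩ := QuotientGroup.mk'_surjective N0 z
    have hm3 : ((m ^ 3 : M) : G) ∈ P0 := hπ1.1 (by rw [map_pow, ← hz, pow_orderOf_eq_one])
    have hmp : Pel p (m : G) := by
      obtain ⟨i, hi⟩ := pel_of_mem hm3.1
      refine ⟨i + 1, ?_⟩
      rw [pow_succ, mul_comm, pow_mul, hp3]
      rw [hp3] at hi
      simpa using hi
    have hS : IsPGroup p ↥(P0 ⊔ Subgroup.zpowers (m : G)) :=
      IsPGroup.to_sup_of_normal_left' (P1.2.to_le inf_le_left) (isPGroup_zpowers hmp)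
        (Subgroup.zpowers_le.2 (Subgroup.mem_normalizer_fintype fun c hc => by
          rw [← (hMc m m.2 c hc).eq, mul_inv_cancel_right]; exact hc))
    obtain ⟨S, hS'⟩ := hS.exists_le_sylow
    obtain ⟨k, hk⟩ := MulAction.exists_smul_eq G P1 S
    have hall : ∀ d ∈ (S : Subgroup G), Commute d (k * t * k⁻¹) := by
      intro d hd
      rw [← hk, mem_smul_sylow_iff] at hd
      have := (Commute.conj_iff k).2 (hcent _ hd)
      rwa [show k * (k⁻¹ * d * k) * k⁻¹ = d by group] at this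
    have hsM : k * t * k⁻¹ ∈ M := Subgroup.mem_centralizer_iff.2 fun c hc =>
      (hall c (hS' (Subgroup.mem_sup_left hc))).eq
    have hss : k * t * k⁻¹ * (k * t * k⁻¹) = 1 := by
      rw [show k * t * k⁻¹ * (k * t * k⁻¹) = k * (t * t) * k⁻¹ by group, htt, mul_one, mul_inv_cancel]
    refine ⟨π ⟨k * t * k⁻¹, hsM⟩, orderOf_eq_prime ?_ ?_, ?_⟩
    · rw [← map_pow, show (⟨k * t * k⁻¹, hsM⟩ : M) ^ 2 = 1 from Subtype.ext (by rw [pow_two]; exact hss),
        map_one]
    · exact fun e => ht1 (conj_eq_one_iff.1 (hP0sq _ (hπ1.1 e) hss))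
    · exact Commute.map (show Commute (⟨k * t * k⁻¹, hsM⟩ : M) m from
        Subtype.ext (hall m (hS' (Subgroup.mem_sup_right (Subgroup.mem_zpowers _)))).eq.symm) π
  rcases eq_or_ne (Nat.card Db) 1 with hd1 | hd1
  · -- twelve elements
    have hq : Nat.card Qb = 3 := by omega
    have h12 : Nat.card (M ⧸ N0) = 12 := by rw [hq] at hcard; omega
    have hxb : π ⟨x, hP1M hxP⟩ ≠ 1 := by
      intro e
      have hxu : u * x * u = x := conj_of_commute huu (hP0Q _ (hπ1.1 e) u hu)
      exact hx.2.1 (hx.1.eq_one_of_sq h.pp h.p2 (by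
        rw [hx.2.2.2.2] at hxu
        nth_rewrite 1 [← hxu]
        exact inv_mul_cancel x))
    have h3K : 3 ∣ Nat.card K := by
      have hxK : π ⟨x, hP1M hxP⟩ ∈ K := ⟨⟨x, hP1M hxP⟩, Subgroup.mem_sup_right hxP, rfl⟩
      obtain ⟨i, hi⟩ := hx.1
      have h1 : orderOf (π ⟨x, hP1M hxP⟩) ∣ p ^ i := orderOf_dvd_of_pow_eq_one (by
        rw [← map_pow, show (⟨x, hP1M hxP⟩ : M) ^ p ^ i = 1 from Subtype.ext hi, map_one])
      obtain ⟨j, -, hj⟩ := (Nat.dvd_prime_pow h.pp).1 h1
      have hj0 : j ≠ 0 := fun e => hxb (orderOf_eq_one_iff.1 (by rw [hj, e, pow_zero]))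
      refine (dvd_pow_self 3 hj0).trans ?_
      rw [← hp3, ← hj, ← Nat.card_zpowers]
      exact Subgroup.card_dvd_of_le (Subgroup.zpowers_le.2 hxK)
    have h2K : 2 ∣ Nat.card K := by
      rw [← hTord, ← Nat.card_zpowers]
      exact Subgroup.card_dvd_of_le (Subgroup.zpowers_le.2 hTK)
    have h6K : 6 ≤ Nat.card K := Nat.le_of_dvd Nat.card_pos
      (Nat.Coprime.mul_dvd_of_dvd_of_dvd (m := 2) (n := 3) (by norm_num) h2K h3K)
    set C := Subgroup.centralizer ({T} : Set (M ⧸ N0))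
    have hlt : Nat.card K < Nat.card C := by
      refine lt_of_le_of_ne (Subgroup.card_le_of_le hKC) fun e => hUK ?_
      rw [Subgroup.eq_of_le_of_card_ge hKC e.ge]
      exact hUC
    obtain ⟨c, hc⟩ := Subgroup.card_dvd_of_le hKC
    have hc2 : 2 ≤ c := by
      rcases c with _ | _ | c
      · exact absurd hc (by simp [Nat.card_pos.ne'])
      · omega
      · omega
    have htop : C = ⊤ := Subgroup.eq_top_of_le_card _ (by
      rw [h12, hc]
      calc 12 ≤ 6 * 2 := le_rfl
        _ ≤ Nat.card K * c := Nat.mul_le_mul h6K hc2)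
    obtain ⟨g, hg⟩ := isConj_iff.1 (hconj T U hTord hUord)
    have hgT : g * T = T * g := mem_cent.1 (show g ∈ C by rw [htop]; trivial)
    rw [hgT, mul_inv_cancel_right] at hg
    exact hne (hpinj _ _ htt huu hg).symm
  · by_cases hd2 : 2 ∣ Nat.card Db
    · haveI := Fact.mk Nat.prime_two
      obtain ⟨⟨j, hjD⟩, hj⟩ := exists_prime_orderOf_dvd_card' (G := Db) 2 hd2
      rw [Subgroup.orderOf_mk] at hj
      obtain ⟨l, hl, hlQ⟩ := Nat.exists_prime_and_dvd (show Nat.card Qb ≠ 1 by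
        have := Nat.card_pos (α := Db); omega)
      haveI := Fact.mk hl
      obtain ⟨⟨z, hzQ⟩, hz⟩ := exists_prime_orderOf_dvd_card' (G := Qb) l hlQ
      rw [Subgroup.orderOf_mk] at hz
      have hz1 : z ≠ 1 := fun e => by rw [e, orderOf_one] at hz; exact hl.ne_one hz.symm
      have hl2 : l ≠ 2 := fun e => hno2 z hzQ (hz.trans e)
      have hl3 : l ≠ p := by
        intro e
        obtain ⟨i, hi, hic⟩ := hthree z (hz.trans (e.trans hp3))
        exact hno2 i (hcentQ z hzQ hz1 ▸ mem_cent.2 hic.eq) hi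
      have hjN : j ∈ Subgroup.normalizer (Qb : Set (M ⧸ N0)) := by
        rw [hNQ]; exact Subgroup.mem_sup_right hjD
      have hj2 : j * j = 1 := by rw [← pow_two, ← hj, pow_orderOf_eq_one]
      have hjz : j * z * j ∈ Qb := by rw [← smul_conj hj2]; exact conj_mem hjN hzQ
      have hzc : Commute (j * z * j) z := mem_cent.1 (show j * z * j ∈ Subgroup.centralizer {z} by
        rw [hcentQ z hzQ hz1]; exact hjz)
      by_cases hw : z * (j * z * j) = 1
      · exact hinvert l hl hl2 hl3 j z hj hz (by rw [smul_conj hj2]; exact eq_inv_of_mul_eq_one_right hw)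
      · refine hno2 j ?_ hj
        rw [← hcentQ _ (Qb.mul_mem hzQ hjz) hw]
        refine mem_cent.2 (Commute.symm (commute_of_conj hj2 ?_)).eq
        rw [show j * (z * (j * z * j)) * j = j * z * j * z * (j * j) by group, hj2, mul_one]
        exact hzc.eq
    · obtain ⟨l, hl, hlD⟩ := Nat.exists_prime_and_dvd hd1
      haveI := Fact.mk hl
      obtain ⟨⟨z, hzD⟩, hz⟩ := exists_prime_orderOf_dvd_card' (G := Db) l hlD
      rw [Subgroup.orderOf_mk] at hz
      have hz1 : z ≠ 1 := fun e => by rw [e, orderOf_one] at hz; exact hl.ne_one hz.symm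
      have hl2 : l ≠ 2 := fun e => hd2 (e ▸ hlD)
      obtain ⟨hNX, v, hv, -, hvinv, hND⟩ := hX (Subgroup.zpowers z) (Subgroup.zpowers_le.2 hzD)
        (fun e => hz1 (Subgroup.zpowers_eq_bot.1 e))
      by_cases hl3 : l = p
      · obtain ⟨i, hi, hic⟩ := hthree z (hz.trans (hl3.trans hp3))
        have hiN : i ∈ Subgroup.zpowers v ⊔ Db := by
          rw [sup_comm, ← hND, ← hNX]
          refine mem_normalizer_zpowers_of_conj ?_
          rw [hic.eq, mul_inv_cancel_right]
          exact Subgroup.mem_zpowers z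
        have hvN : v ∈ Subgroup.normalizer (Db : Set (M ⧸ N0)) := by
          rw [hND]; exact Subgroup.mem_sup_right (Subgroup.mem_zpowers v)
        rcases mem_sup_invol (by rw [← pow_two, ← hv, pow_orderOf_eq_one]) hvN hiN with e | ⟨e', he', rfl⟩
        · have h1 : orderOf (⟨i, e⟩ : Db) ∣ Nat.card Db := orderOf_dvd_natCard _
          rw [Subgroup.orderOf_mk, hi] at h1
          exact hd2 h1
        · have hez : e' * z = z * e' := congrArg Subtype.val (hDab.1.comm ⟨e', he'⟩ ⟨z, hzD⟩)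
          have h1 : v * z * v⁻¹ = z := by
            have h2 : v * e' * z * (v * e')⁻¹ = z := by rw [hic.eq, mul_inv_cancel_right]
            rw [mul_assoc v, hez] at h2
            rw [show v * (z * e') * (v * e')⁻¹ = v * z * v⁻¹ by group] at h2
            exact h2
          rw [hvinv z hzD] at h1
          have h4 : z * z = 1 := by
            nth_rewrite 1 [← h1]
            exact inv_mul_cancel z
          exact hl2 ((Nat.prime_dvd_prime_iff_eq hl Nat.prime_two).1
            (hz ▸ orderOf_dvd_of_pow_eq_one (by rw [pow_two]; exact h4)))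
      · exact hinvert l hl hl2 hl3 v z hv hz (hvinv z hzD)

end CfsgLib.MixedPrimes
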