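import Cfsg.Agent.Lib.FgsC.MixedKlein
import Cfsg.Agent.S0071

/-!
Only two primes divide the order of a group without mixed `q`-subgroups and with `p` large.
-/

set_option autoImplicit false
set_option linter.style.haveILetI false

namespace CfsgLib.MixedPrimes

variable {G : Type*} [Group G] [Finite G]

theorem two_primes {p q : ℕ} (hp : p.Prime) (hq : q.Prime) (hpq : p ≠ q) (hp2 : p ≠ 2)
    (hqG : q ∣ Nat.card G) (hN : NoMixed G q p)
    (hlarge : q ^ (Nat.card G).factorization q - 1 < p ∨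
      (p = q ^ (Nat.card G).factorization q - 1 ∧
        ∀ P : Sylow p G, ∀ x ∈ (P : Subgroup G), ∀ z ∈ (P : Subgroup G), Commute x z))
    (r : ℕ) (hr : r.Prime) (hrG : r ∣ Nat.card G) : r = p ∨ r = q := by
  classical
  by_contra hno
  obtain ⟨hrp, hrq⟩ : r ≠ p ∧ r ≠ q := not_or.1 hno
  haveI := Fact.mk hq
  haveI := Fact.mk hp
  obtain ⟨P⟩ : Nonempty (Sylow q G) := inferInstance
  set a := (Nat.card G).factorization q with ha
  have hPc : Nat.card ↥(P : Subgroup G) = q ^ a := Sylow.card_eq_multiplicity P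
  have hqa : 0 < q ^ a := pow_pos hq.pos a
  have hcrit : ¬ ∀ T : Subgroup G, T ≤ (P : Subgroup G) → ∀ g ∈ Subgroup.normalizer (T : Set G),
      Nat.Coprime (orderOf g) q → g ∈ Subgroup.centralizer (T : Set G) := by
    intro hall
    obtain ⟨N, hNn, hc⟩ := (Cfsg.Agent.S0071.result P).2 hall
    exact no_third_of_complement hN hp hr hrq hrp (Ne.symm hpq) hqG P N hc hrG
  push_neg at hcrit
  obtain ⟨T, hTP, g, hgT, hgcop, hgC⟩ := hcrit
  obtain ⟨x, hxT, hmove⟩ : ∃ x ∈ T, g * x * g⁻¹ ≠ x := by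
    by_contra hall
    push_neg at hall
    exact hgC (Subgroup.mem_centralizer_iff.2 fun x hx => (mul_inv_eq_iff_eq_mul.1 (hall x hx)).symm)
  have hT1 : T ≠ ⊥ := by
    intro e
    rw [e, Subgroup.mem_bot] at hxT
    exact hmove (by rw [hxT]; group)
  have hgp : Pel p g := by
    refine Pel.of_primes hp fun l hl hld => ?_
    by_contra hlp
    have hlq : l ≠ q := by
      rintro rfl
      exact hl.ne_one (Nat.eq_one_of_dvd_coprimes hgcop hld dvd_rfl)
    exact no_norm hN hp hq hl hlq hlp (Ne.symm hpq) (Or.inl ⟨rfl, rfl⟩) (P.2.to_le hTP) hT1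
      (orderOf_pow_orderOf_div (orderOf_pos g).ne' hld) (Subgroup.pow_mem _ hgT _)
  have h1T : ∀ i : ℕ, g ^ i * x * (g ^ i)⁻¹ ≠ 1 := not_orbit_of_fixed (by group) hmove
  have hb : p + 1 ≤ Nat.card T := by
    have := orbit_bound hp hgp hgT hxT hmove {1} (by
      intro s hs
      rw [Finset.mem_singleton] at hs
      subst hs
      exact ⟨T.one_mem, h1T⟩)
    simpa using this
  have hTle : Nat.card T ≤ q ^ a := hPc ▸ Subgroup.card_le_of_le hTP
  rcases hlarge with hlt | ⟨heq, hab⟩
  · omega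
  have hpow : q ^ a = p + 1 := by omega
  have hq2 : q = 2 := by
    have hodd := hp.odd_of_ne_two hp2
    have he : Even (q ^ a) := by rw [hpow]; exact hodd.add_one
    exact (Nat.prime_dvd_prime_iff_eq Nat.prime_two hq).1
      (Nat.prime_two.dvd_of_dvd_pow (even_iff_two_dvd.1 he)) |>.symm
  subst hq2
  have hTeq : T = (P : Subgroup G) := Subgroup.eq_of_le_of_card_ge hTP (by rw [hPc]; omega)
  have horb : ∀ t ∈ T, t ≠ 1 → ∃ i : ℕ, g ^ i * x * (g ^ i)⁻¹ = t := by
    intro t ht ht1
    by_contra hno'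
    push_neg at hno'
    have := orbit_bound hp hgp hgT hxT hmove {1, t} (by
      intro s hs
      rcases Finset.mem_insert.1 hs with rfl | hs
      · exact ⟨T.one_mem, h1T⟩
      · rw [Finset.mem_singleton] at hs
        subst hs
        exact ⟨ht, hno'⟩)
    rw [Finset.card_pair (Ne.symm ht1)] at this
    omega
  have hdvd : 2 ∣ Nat.card T := by
    rw [hTeq, hPc, hpow]
    exact even_iff_two_dvd.1 (hp.odd_of_ne_two hp2).add_one
  obtain ⟨⟨e, heT⟩, he⟩ := exists_prime_orderOf_dvd_card' (G := T) 2 hdvd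
  rw [Subgroup.orderOf_mk] at he
  have hee : e * e = 1 := by rw [← pow_two, ← he, pow_orderOf_eq_one]
  obtain ⟨i0, hi0⟩ := horb e heT (fun h1 => by rw [h1, orderOf_one] at he; omega)
  have hxx : x * x = 1 := by
    have : g ^ i0 * (x * x) * (g ^ i0)⁻¹ = 1 := by rw [← hee, ← hi0]; group
    exact conj_eq_one_iff.1 this
  have hinv : ∀ v ∈ T, v * v = 1 := by
    intro v hv
    rcases eq_or_ne v 1 with rfl | hv1
    · exact one_mul 1
    obtain ⟨i, rfl⟩ := horb v hv hv1
    rw [show g ^ i * x * (g ^ i)⁻¹ * (g ^ i * x * (g ^ i)⁻¹) = g ^ i * (x * x) * (g ^ i)⁻¹ by group,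
      hxx, mul_one, mul_inv_cancel]
  have hsyl : ¬ 2 ^ (a + 1) ∣ Nat.card G := fun hd => by
    have := (Nat.Prime.pow_dvd_iff_le_factorization Nat.prime_two Nat.card_pos.ne').1 hd
    omega
  have hctx : Ctx p a T g :=
    { pp := hp
      p2 := hp2
      ha := hpow
      nm := hN
      card := by rw [hTeq, hPc]
      syl := hsyl
      inv := hinv
      ab := hab
      yp := hgp
      yN := hgT
      ytr := by
        intro v hv hv1 w hw hw1
        obtain ⟨i, hi⟩ := horb v hv hv1
        obtain ⟨j, hj⟩ := horb w hw hw1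
        obtain ⟨k, hk⟩ := hgp
        have hki : i ≤ p ^ k * i := Nat.le_mul_of_pos_left i (pow_pos hp.pos k)
        refine ⟨j + (p ^ k * i - i), ?_⟩
        have hback : g ^ (p ^ k * i - i) * v * (g ^ (p ^ k * i - i))⁻¹ = x := by
          have e1 : g ^ (p ^ k * i - i) * g ^ i = 1 := by
            rw [← pow_add, Nat.sub_add_cancel hki, pow_mul, hk, one_pow]
          have e2 : g ^ (p ^ k * i - i) = (g ^ i)⁻¹ := eq_inv_of_mul_eq_one_left e1
          rw [e2, ← hi]
          group
        rw [← hj, ← hback, pow_add]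
        group }
  have h4 : 3 ≤ p := by have := hp.two_le; omega
  have ha2 : 2 ≤ a := by
    by_contra hlt
    have : 2 ^ a ≤ 2 ^ 1 := Nat.pow_le_pow_right (by norm_num) (by omega)
    omega
  by_cases hA : AllCentral p T
  · exact hctx.caseA_false hr hrq hrp hrG hA
  · simp only [AllCentral] at hA
    push_neg at hA
    obtain ⟨t, ht, ht1, d, hd, hdt, v, hv, hdv⟩ := hA
    have hvv := hinv v hv
    have hvdv : Pel p (v * d * v) := by
      have := hd.conj v
      rwa [inv_eq_of_mul_eq_one_right hvv] at this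
    have hct : Commute (v * d * v) t :=
      (((hctx.q_comm hv ht).mul_left hdt).mul_left (hctx.q_comm hv ht))
    have hc := hctx.comm_cent_invol ht1 (hinv t ht) hdt hct hd hvdv
    have hreal := real_of_moved hp hp2 hd hvv hc (fun e => hdv (commute_of_conj hvv e))
    have hxt : Commute (d * (v * d * v)⁻¹) t := hdt.mul_left hct.inv_left
    rcases Nat.lt_or_ge a 3 with h3 | h3
    · exact hctx.klein_false (by omega) ht hv ht1 hreal hxt
    · exact hctx.caseB_big h3 hv hreal ht ht1 hxt

end CfsgLib.MixedPrimes
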