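import Cfsg.Agent.Lib.FgsC.MixedPrimes

/-!
The Mersenne case: a Sylow `2`-subgroup of order `p + 1` whose involutions are permuted transitively
by a `p`-element, with abelian Sylow `p`-subgroups and no mixed subgroups.
-/

set_option autoImplicit false
set_option linter.style.haveILetI false

namespace CfsgLib.MixedPrimes

variable {G : Type*} [Group G] [Finite G] {p a : ℕ}

/-- The configuration. -/
structure Ctx (p a : ℕ) (Q : Subgroup G) (y : G) : Prop where
  pp : p.Prime
  p2 : p ≠ 2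
  ha : 2 ^ a = p + 1
  nm : NoMixed G 2 p
  card : Nat.card Q = 2 ^ a
  syl : ¬ 2 ^ (a + 1) ∣ Nat.card G
  inv : ∀ v ∈ Q, v * v = 1
  ab : ∀ P : Sylow p G, ∀ x ∈ (P : Subgroup G), ∀ z ∈ (P : Subgroup G), Commute x z
  yp : Pel p y
  yN : y ∈ Subgroup.normalizer (Q : Set G)
  ytr : ∀ v ∈ Q, v ≠ 1 → ∀ w ∈ Q, w ≠ 1 → ∃ i : ℕ, y ^ i * v * (y ^ i)⁻¹ = w

/-- `x` is a non-trivial `p`-element inverted by the involution `u`. -/
def Real' (p : ℕ) (x u : G) : Prop := Pel p x ∧ x ≠ 1 ∧ u ≠ 1 ∧ u * u = 1 ∧ u * x * u = x⁻¹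

theorem mem_smul_sylow_iff {P : Sylow p G} {g x : G} :
    x ∈ ((g • P : Sylow p G) : Subgroup G) ↔ g⁻¹ * x * g ∈ (P : Subgroup G) := by
  rw [Sylow.smul_def, Sylow.pointwise_smul_def, Subgroup.mem_pointwise_smul_iff_inv_smul_mem]
  simp [MulAut.smul_def, MulAut.inv_def, MulAut.conj_symm_apply]

theorem conj_mem_smul {P : Sylow p G} {g x : G} (hx : x ∈ (P : Subgroup G)) :
    g * x * g⁻¹ ∈ ((g • P : Sylow p G) : Subgroup G) := by
  rw [mem_smul_sylow_iff]
  simpa [mul_assoc] using hx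

theorem pel_of_mem {P : Sylow p G} {x : G} (hx : x ∈ (P : Subgroup G)) : Pel p x := by
  obtain ⟨k, hk⟩ := P.2 ⟨x, hx⟩
  exact ⟨k, by simpa using congrArg Subtype.val hk⟩

theorem isPGroup_zpowers {x : G} (hx : Pel p x) : IsPGroup p (Subgroup.zpowers x) := by
  obtain ⟨k, hk⟩ := hx
  intro z
  obtain ⟨i, hi⟩ := Subgroup.mem_zpowers_iff.1 z.2
  refine ⟨k, Subtype.ext ?_⟩
  rw [SubgroupClass.coe_pow, ← hi, ← zpow_natCast, ← zpow_mul, mul_comm, zpow_mul, zpow_natCast, hk,
    one_zpow]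
  rfl

/-- A `p`-element normalising a Sylow `p`-subgroup lies in it. -/
theorem mem_of_normalizes [Fact p.Prime] {P : Sylow p G} {z : G} (hz : Pel p z)
    (hN : z ∈ Subgroup.normalizer ((P : Subgroup G) : Set G)) : z ∈ (P : Subgroup G) := by
  have h : IsPGroup p ↥((P : Subgroup G) ⊔ Subgroup.zpowers z) :=
    IsPGroup.to_sup_of_normal_left' P.2 (isPGroup_zpowers hz) (Subgroup.zpowers_le.2 hN)
  rw [← P.3 h le_sup_left]
  exact Subgroup.mem_sup_right (Subgroup.mem_zpowers z)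

/-- A `p`-element commuting with a Sylow `p`-subgroup lies in it. -/
theorem mem_of_commutes [Fact p.Prime] {P : Sylow p G} {z : G} (hz : Pel p z)
    (hc : ∀ d ∈ (P : Subgroup G), Commute z d) : z ∈ (P : Subgroup G) := by
  refine mem_of_normalizes hz (Subgroup.mem_normalizer_fintype fun d hd => ?_)
  rw [(hc d hd).eq, mul_inv_cancel_right]
  exact hd

theorem exists_sylow_mem [Fact p.Prime] {x : G} (hx : Pel p x) :
    ∃ P : Sylow p G, x ∈ (P : Subgroup G) := by
  obtain ⟨P, hP⟩ := (isPGroup_zpowers hx).exists_le_sylow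
  exact ⟨P, hP (Subgroup.mem_zpowers x)⟩

/-- An element outside a normalised subgroup, some `2`-power order element outside normalises a
Sylow subgroup of it. -/
theorem frattini_element {C : Subgroup G} {u : G} (huC : u ∉ C) (hu : u * u = 1)
    (hun : ∀ c ∈ C, u * c * u ∈ C) (s : ℕ) [Fact s.Prime] (R : Sylow s C) :
    ∃ w : G, Pel 2 w ∧ w ∉ C ∧ w ∈ Subgroup.normalizer ((R : Subgroup C).map C.subtype : Set G) := by
  classical
  have hui : u⁻¹ = u := inv_eq_of_mul_eq_one_right hu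
  let f : C ≃* C :=
    { toFun := fun c => ⟨u * c * u, hun c c.2⟩
      invFun := fun c => ⟨u * c * u, hun c c.2⟩
      left_inv := fun c => Subtype.ext (by
        show u * (u * c * u) * u = c
        rw [show u * (u * c * u) * u = (u * u) * c * (u * u) by group, hu, one_mul, mul_one])
      right_inv := fun c => Subtype.ext (by
        show u * (u * c * u) * u = c
        rw [show u * (u * c * u) * u = (u * u) * c * (u * u) by group, hu, one_mul, mul_one])
      map_mul' := fun c d => Subtype.ext (by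
        show u * ((c : G) * d) * u = (u * c * u) * (u * d * u)
        rw [show (u * c * u) * (u * (d : G) * u) = u * c * (u * u) * (d * u) by group, hu, mul_one]
        group) }
  have hsurj : Function.Surjective (f : C →* C) := f.surjective
  obtain ⟨c, hc⟩ := MulAction.exists_smul_eq C (R.mapSurjective hsurj) R
  set g : G := (c : G) * u with hg
  have hgN : g ∈ Subgroup.normalizer ((R : Subgroup C).map C.subtype : Set G) := by
    refine Subgroup.mem_normalizer_fintype fun x hx => ?_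
    obtain ⟨r, hr, rfl⟩ := hx
    have h1 : f r ∈ (R.mapSurjective hsurj : Sylow s C) := by
      show f r ∈ ((R.mapSurjective hsurj : Sylow s C) : Subgroup C)
      rw [Sylow.coe_mapSurjective]
      exact ⟨r, hr, rfl⟩
    have h2 : c * f r * c⁻¹ ∈ (R : Subgroup C) := by
      have := conj_mem_smul (P := R.mapSurjective hsurj) (g := c) h1
      rwa [hc] at this
    refine ⟨c * f r * c⁻¹, h2, ?_⟩
    show (c : G) * (u * r * u) * (c : G)⁻¹ = g * r * g⁻¹
    rw [hg, mul_inv_rev, hui]; group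
  have hgC : g ∉ C := fun h => huC ((C.mul_mem_cancel_left c.2).1 h)
  have hg2 : g ^ 2 ∈ C := by
    rw [pow_two, show g * g = c * (u * c * u) by rw [hg]; group]
    exact C.mul_mem c.2 (hun c c.2)
  obtain ⟨e, m, hm, hem⟩ := Nat.exists_eq_two_pow_mul_odd (orderOf_pos g).ne'
  refine ⟨g ^ m, ⟨e, ?_⟩, fun h => hgC ?_, Subgroup.pow_mem _ hgN m⟩
  · rw [← pow_mul, mul_comm, ← hem, pow_orderOf_eq_one]
  · exact mem_of_coprime_pow (Nat.coprime_two_right.2 hm) h hg2

variable {Q : Subgroup G} {y : G}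

theorem Ctx.card_two_group_le (h : Ctx p a Q y) {T : Subgroup G} (hT : IsPGroup 2 T) :
    Nat.card T ≤ 2 ^ a := by
  haveI := Fact.mk Nat.prime_two
  obtain ⟨n, hn⟩ := hT.exists_card_eq
  rw [hn]
  refine Nat.pow_le_pow_right (by norm_num) ?_
  by_contra hna
  exact h.syl ((pow_dvd_pow 2 (show a + 1 ≤ n by omega)).trans (hn ▸ Subgroup.card_subgroup_dvd_card T))

theorem Ctx.exists_conj_mem (h : Ctx p a Q y) {T : Subgroup G} (hT : IsPGroup 2 T) :
    ∃ g : G, ∀ v ∈ T, g * v * g⁻¹ ∈ Q := by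
  haveI := Fact.mk Nat.prime_two
  have hQp : IsPGroup 2 Q := IsPGroup.of_card h.card
  obtain ⟨S, hS⟩ := hQp.exists_le_sylow
  have hSQ : (S : Subgroup G) = Q :=
    (Subgroup.eq_of_le_of_card_ge hS (by rw [h.card]; exact h.card_two_group_le S.2)).symm
  obtain ⟨S', hS'⟩ := hT.exists_le_sylow
  obtain ⟨g, hg⟩ := MulAction.exists_smul_eq G S' S
  refine ⟨g, fun v hv => ?_⟩
  rw [← hSQ, ← hg]
  exact conj_mem_smul (hS' hv)

theorem Ctx.two_sq (h : Ctx p a Q y) {v : G} (hv : Pel 2 v) : v * v = 1 := by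
  haveI := Fact.mk Nat.prime_two
  obtain ⟨g, hg⟩ := h.exists_conj_mem (isPGroup_zpowers hv)
  have h1 := h.inv _ (hg v (Subgroup.mem_zpowers v))
  have h2 : g * (v * v) * g⁻¹ = 1 := by rw [← h1]; group
  simpa [mul_assoc] using congrArg (fun z => g⁻¹ * z * g) h2

theorem Ctx.two_comm (h : Ctx p a Q y) {T : Subgroup G} (hT : IsPGroup 2 T) {v w : G} (hv : v ∈ T)
    (hw : w ∈ T) : Commute v w := by
  have hsq : ∀ z ∈ T, z * z = 1 := fun z hz => h.two_sq (by
    obtain ⟨k, hk⟩ := hT ⟨z, hz⟩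
    exact ⟨k, by simpa using congrArg Subtype.val hk⟩)
  have hi : ∀ z ∈ T, z⁻¹ = z := fun z hz => inv_eq_of_mul_eq_one_right (hsq z hz)
  show v * w = w * v
  rw [← hi _ (T.mul_mem hv hw), mul_inv_rev, hi v hv, hi w hw]

/-- No involution normalises a non-trivial subgroup of `r`-power order. -/
theorem Ctx.no_r_norm (h : Ctx p a Q y) {r : ℕ} (hr : r.Prime) (hr2 : r ≠ 2) (hrp : r ≠ p)
    {T : Subgroup G} (hT : IsPGroup r T) (hT1 : T ≠ ⊥) {v : G} (hv1 : v ≠ 1) (hv : v * v = 1)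
    (hvT : v ∈ Subgroup.normalizer (T : Set G)) : False :=
  no_norm h.nm h.pp Nat.prime_two hr hr2 hrp (Ne.symm h.p2) (Or.inr ⟨rfl, rfl⟩) hT hT1
    (orderOf_eq_prime (by rw [pow_two]; exact hv) hv1) hvT

theorem Ctx.no_r_conj (h : Ctx p a Q y) {r : ℕ} (hr : r.Prime) (hr2 : r ≠ 2) (hrp : r ≠ p) {z : G}
    (hz : orderOf z = r) {v : G} (hv1 : v ≠ 1) (hv : v * v = 1)
    (hvz : v * z * v⁻¹ ∈ Subgroup.zpowers z) : False := by
  haveI := Fact.mk hr
  refine h.no_r_norm hr hr2 hrp (isPGroup_zpowers (p := r) ⟨1, ?_⟩) ?_ hv1 hv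
    (mem_normalizer_zpowers_of_conj hvz)
  · rw [pow_one, ← hz, pow_orderOf_eq_one]
  · intro e
    rw [Subgroup.zpowers_eq_bot] at e
    rw [e, orderOf_one] at hz
    exact hr.ne_one hz.symm

/-- The primes of an element's order are `2` and `p` when an involution normalises its cyclic group. -/
theorem Ctx.primes_of_conj (h : Ctx p a Q y) {g v : G} (hv1 : v ≠ 1) (hv : v * v = 1)
    (hvg : v * g * v⁻¹ ∈ Subgroup.zpowers g) (l : ℕ) (hl : l.Prime) (hld : l ∣ orderOf g) :
    l = 2 ∨ l = p := by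
  by_contra hne
  obtain ⟨hl2, hlp⟩ : l ≠ 2 ∧ l ≠ p := not_or.1 hne
  refine h.no_r_conj hl hl2 hlp (orderOf_pow_orderOf_div (orderOf_pos g).ne' hld) hv1 hv ?_
  obtain ⟨i, hi⟩ := Subgroup.mem_zpowers_iff.1 hvg
  rw [← conj_pow, ← hi, Subgroup.mem_zpowers_iff]
  exact ⟨i, by rw [← zpow_natCast, ← zpow_natCast, ← zpow_mul, ← zpow_mul, mul_comm]⟩

/-- In a `{2, p}`-group with all `p`-elements centralising the Sylow `2`-subgroup in its normaliser,
`p`-elements commute. -/
theorem Ctx.comm_of (h : Ctx p a Q y) (H : Subgroup G)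
    (hH : ∀ l : ℕ, l.Prime → l ∣ Nat.card H → l = 2 ∨ l = p)
    (hT : (∀ T : Subgroup G, T ≤ H → IsPGroup 2 T → Nat.card T < 2 ^ a) ∨
      ∃ v ∈ H, v ≠ 1 ∧ v * v = 1 ∧ ∀ g ∈ H, Commute g v)
    {x z : G} (hx : x ∈ H) (hz : z ∈ H) (hxp : Pel p x) (hzp : Pel p z) : Commute x z := by
  classical
  haveI := Fact.mk Nat.prime_two
  haveI := Fact.mk h.pp
  have hpow2 : 2 ^ a = p + 1 := h.ha
  obtain ⟨S⟩ : Nonempty (Sylow 2 H) := inferInstance
  set T : Subgroup G := (S : Subgroup H).map H.subtype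
  have hTp : IsPGroup 2 T := S.2.map _
  have hTH : T ≤ H := Subgroup.map_subtype_le _
  have hle : Subgroup.normalizer ((S : Subgroup H) : Set H) ≤
      Subgroup.centralizer ((S : Subgroup H) : Set H) := by
    intro g hg
    have hprimes : ∀ l : ℕ, l.Prime → l ∣ orderOf g → l = 2 ∨ l = p := fun l hl hld =>
      hH l hl (hld.trans (orderOf_dvd_natCard g))
    obtain ⟨i, m, hm, him⟩ := Nat.exists_eq_two_pow_mul_odd (orderOf_pos g).ne'
    have hcop : (2 ^ i).Coprime m := (Nat.coprime_two_left.2 hm).pow_left i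
    refine mem_of_coprime_pow hcop ?_ ?_
    · -- the `p`-part
      have hp1 : Pel p (g ^ 2 ^ i) := by
        refine Pel.of_primes h.pp fun l hl hld => ?_
        have hlm : l ∣ m := hld.trans (orderOf_dvd_of_pow_eq_one (by
          rw [← pow_mul, ← him, pow_orderOf_eq_one]))
        rcases hprimes l hl (him ▸ hlm.mul_left _) with e | e
        · subst e
          exact absurd hlm (Nat.two_dvd_ne_zero.2 (Nat.odd_iff.1 hm))
        · exact e
      have hn : ((g ^ 2 ^ i : H) : G) ∈ Subgroup.normalizer (T : Set G) := by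
        refine Subgroup.mem_normalizer_fintype fun w hw => ?_
        obtain ⟨w', hw', rfl⟩ := hw
        exact ⟨(g ^ 2 ^ i) * w' * (g ^ 2 ^ i)⁻¹, conj_mem (Subgroup.pow_mem _ hg _) hw', by simp⟩
      rw [Subgroup.mem_centralizer_iff]
      intro w hw
      apply Subtype.ext
      by_contra hne
      have hmove : ((g ^ 2 ^ i : H) : G) * (w : G) * ((g ^ 2 ^ i : H) : G)⁻¹ ≠ w := by
        intro e
        apply hne
        have := mul_inv_eq_iff_eq_mul.1 e
        simpa using this.symm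
      have hwT : (w : G) ∈ T := Subgroup.mem_map_of_mem _ hw
      have hp' : Pel p ((g ^ 2 ^ i : H) : G) := hp1.map H.subtype
      have hTle := h.card_two_group_le hTp
      have h1T : ∀ j : ℕ, ((g ^ 2 ^ i : H) : G) ^ j * (w : G) * (((g ^ 2 ^ i : H) : G) ^ j)⁻¹ ≠ 1 :=
        not_orbit_of_fixed (by simp) hmove
      rcases hT with hs | ⟨v, hvH, hv1, hv, hvc⟩
      · have := orbit_bound h.pp hp' hn hwT hmove {1} (by
          intro s hs'
          rw [Finset.mem_singleton] at hs'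
          subst hs'
          exact ⟨T.one_mem, h1T⟩)
        have h2 := hs T hTH hTp
        obtain ⟨n, hn'⟩ := hTp.exists_card_eq
        rw [hn'] at h2 this
        have hna : n + 1 ≤ a := (Nat.pow_lt_pow_iff_right (by norm_num)).1 h2
        have h4 : 2 ^ (n + 1) ≤ 2 ^ a := Nat.pow_le_pow_right (by norm_num) hna
        rw [pow_succ] at h4
        rw [Finset.card_singleton] at this
        omega
      · have hvT : v ∈ T := by
          have hvv : (⟨v, hvH⟩ : H) ∈ (S : Subgroup H) := by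
            refine mem_of_commutes (p := 2) ⟨1, Subtype.ext (by simpa [pow_two] using hv)⟩ fun d _ => ?_
            exact Subtype.ext (hvc d d.2).symm.eq
          exact ⟨⟨v, hvH⟩, hvv, rfl⟩
        have hfix : ((g ^ 2 ^ i : H) : G) * v * ((g ^ 2 ^ i : H) : G)⁻¹ = v := by
          rw [(hvc _ (g ^ 2 ^ i : H).2).eq, mul_inv_cancel_right]
        have := orbit_bound h.pp hp' hn hwT hmove {1, v} (by
          intro s hs'
          rcases Finset.mem_insert.1 hs' with rfl | hs'
          · exact ⟨T.one_mem, h1T⟩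
          · rw [Finset.mem_singleton] at hs'
            subst hs'
            exact ⟨hvT, not_orbit_of_fixed hfix hmove⟩)
        rw [Finset.card_pair (Ne.symm hv1)] at this
        omega
    · -- the `2`-part
      have h2el : Pel 2 (g ^ m) := ⟨i, by rw [← pow_mul, mul_comm, ← him, pow_orderOf_eq_one]⟩
      have hmS : g ^ m ∈ (S : Subgroup H) := mem_of_normalizes h2el (Subgroup.pow_mem _ hg _)
      rw [Subgroup.mem_centralizer_iff]
      intro w hw
      have := h.two_comm hTp (Subgroup.mem_map_of_mem H.subtype hw)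
        (Subgroup.mem_map_of_mem H.subtype hmS)
      exact Subtype.ext this.eq
  set N := (MonoidHom.transferSylow S hle).ker
  have hc : N.IsComplement' (S : Subgroup H) := MonoidHom.ker_transferSylow_isComplement' S hle
  have hNp : IsPGroup p N := by
    have hnd := MonoidHom.not_dvd_card_ker_transferSylow S hle
    refine IsPGroup.of_card (n := (Nat.card N).primeFactorsList.length) ?_
    refine Nat.eq_prime_pow_of_unique_prime_dvd Nat.card_pos.ne' fun {l} hl hld => ?_
    rcases hH l hl (hld.trans (Subgroup.card_subgroup_dvd_card N)) with rfl | e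
    · exact absurd hld hnd
    · exact e
  have hmemN : ∀ w : H, Pel p (w : G) → w ∈ N := by
    intro w hw
    obtain ⟨k, hk⟩ := hw
    obtain ⟨n, hn⟩ := S.2.exists_card_eq
    refine mem_of_coprime_pow (m := p ^ k) (n := N.index) ?_ ?_ (Subgroup.pow_index_mem N w)
    · rw [hc.symm.index_eq_card, hn]
      exact ((Nat.coprime_primes h.pp Nat.prime_two).2 h.p2).pow k n
    · rw [show w ^ p ^ k = 1 from Subtype.ext (by simpa using hk)]
      exact N.one_mem
  obtain ⟨P, hP⟩ := (hNp.map H.subtype).exists_le_sylow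
  exact h.ab P x (hP ⟨⟨x, hx⟩, hmemN ⟨x, hx⟩ hxp, rfl⟩) z (hP ⟨⟨z, hz⟩, hmemN ⟨z, hz⟩ hzp, rfl⟩)

theorem mem_cent {x c : G} : c ∈ Subgroup.centralizer ({x} : Set G) ↔ c * x = x * c :=
  Subgroup.mem_centralizer_singleton_iff

/-- `p`-elements commuting with an involution commute. -/
theorem Ctx.comm_cent_invol (h : Ctx p a Q y) {v : G} (hv1 : v ≠ 1) (hv : v * v = 1) {x z : G}
    (hxv : Commute x v) (hzv : Commute z v) (hx : Pel p x) (hz : Pel p z) : Commute x z := by
  refine h.comm_of (Subgroup.centralizer {v}) (fun l hl hld => ?_)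
    (Or.inr ⟨v, mem_cent.2 rfl, hv1, hv, fun g hg => mem_cent.1 hg⟩) (mem_cent.2 hxv.eq)
    (mem_cent.2 hzv.eq) hx hz
  haveI := Fact.mk hl
  obtain ⟨g, hg⟩ := exists_prime_orderOf_dvd_card' (G := ↥(Subgroup.centralizer ({v} : Set G))) l hld
  rw [← Subgroup.orderOf_coe] at hg
  refine h.primes_of_conj (g := (g : G)) hv1 hv ?_ l hl (hg ▸ dvd_rfl)
  rw [← mem_cent.1 g.2, mul_inv_cancel_right]
  exact Subgroup.mem_zpowers _

theorem Real'.outside {x u : G} (hx : Real' p x u) (hp : p.Prime) (hp2 : p ≠ 2) :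
    u ∉ Subgroup.centralizer ({x} : Set G) := by
  intro hu
  obtain ⟨hxp, hx1, -, huu, hinv⟩ := hx
  rw [mem_cent] at hu
  refine hx1 (hxp.eq_one_of_sq hp hp2 ?_)
  rw [hu, mul_assoc, huu, mul_one] at hinv
  nth_rewrite 1 [hinv]
  exact inv_mul_cancel x

theorem Real'.conj_cent {x u : G} (hx : Real' p x u) :
    ∀ c ∈ Subgroup.centralizer ({x} : Set G), u * c * u ∈ Subgroup.centralizer ({x} : Set G) := by
  obtain ⟨-, -, -, huu, hinv⟩ := hx
  intro c hc
  rw [mem_cent] at hc ⊢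
  have h1 : c * x⁻¹ = x⁻¹ * c := (Commute.inv_right hc).eq
  have h3 : x = u * x⁻¹ * u := by
    rw [← hinv, show u * (u * x * u) * u = (u * u) * x * (u * u) by group, huu, one_mul, mul_one]
  calc u * c * u * x = u * c * u * (u * x⁻¹ * u) := by rw [← h3]
    _ = u * (c * x⁻¹) * u := by
      rw [show u * c * u * (u * x⁻¹ * u) = u * c * (u * u) * (x⁻¹ * u) by group, huu, mul_one]
      group
    _ = u * (x⁻¹ * c) * u := by rw [h1]
    _ = (u * x⁻¹ * u) * (u * c * u) := by
      rw [show (u * x⁻¹ * u) * (u * c * u) = u * x⁻¹ * (u * u) * (c * u) by group, huu, mul_one]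
      group
    _ = x * (u * c * u) := by rw [← h3]

theorem Ctx.cent_real_two_small (h : Ctx p a Q y) {x u : G} (hx : Real' p x u) {T : Subgroup G}
    (hTC : T ≤ Subgroup.centralizer ({x} : Set G)) (hT : IsPGroup 2 T) : Nat.card T < 2 ^ a := by
  haveI := Fact.mk Nat.prime_two
  rcases (h.card_two_group_le hT).lt_or_eq with hlt | heq
  · exact hlt
  exfalso
  set C := Subgroup.centralizer ({x} : Set G)
  obtain ⟨R, hR⟩ := (hT.comap_subtype (K := C)).exists_le_sylow
  obtain ⟨w, hw2, hwC, hwN⟩ :=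
    frattini_element (hx.outside h.pp h.p2) hx.2.2.2.1 hx.conj_cent 2 R
  have hRT : (R : Subgroup C).map C.subtype = T := by
    refine (Subgroup.eq_of_le_of_card_ge ?_ ?_).symm
    · intro v hv
      exact ⟨⟨v, hTC hv⟩, hR hv, rfl⟩
    · rw [heq]; exact h.card_two_group_le (R.2.map _)
  rw [hRT] at hwN
  have hS : IsPGroup 2 ↥(T ⊔ Subgroup.zpowers w) :=
    IsPGroup.to_sup_of_normal_left' hT (isPGroup_zpowers hw2) (Subgroup.zpowers_le.2 hwN)
  have hle : T = T ⊔ Subgroup.zpowers w :=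
    Subgroup.eq_of_le_of_card_ge le_sup_left (by rw [heq]; exact h.card_two_group_le hS)
  exact hwC (hTC (hle ▸ Subgroup.mem_sup_right (Subgroup.mem_zpowers w)))

theorem Ctx.cent_real_primes (h : Ctx p a Q y) {x u : G} (hx : Real' p x u) (l : ℕ) (hl : l.Prime)
    (hld : l ∣ Nat.card ↥(Subgroup.centralizer ({x} : Set G))) : l = 2 ∨ l = p := by
  by_contra hne
  obtain ⟨hl2, hlp⟩ : l ≠ 2 ∧ l ≠ p := not_or.1 hne
  haveI := Fact.mk hl
  set C := Subgroup.centralizer ({x} : Set G)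
  obtain ⟨R⟩ : Nonempty (Sylow l C) := inferInstance
  obtain ⟨w, hw2, hwC, hwN⟩ :=
    frattini_element (hx.outside h.pp h.p2) hx.2.2.2.1 hx.conj_cent l R
  refine h.no_r_norm hl hl2 hlp (R.2.map C.subtype) ?_ (fun e => hwC (by rw [e]; exact C.one_mem))
    (h.two_sq hw2) hwN
  intro e
  have h1 := (Subgroup.map_eq_bot_iff_of_injective _ C.subtype_injective).1 e
  have h2 : Nat.card ↥(R : Subgroup C) = 1 := by rw [h1]; simp
  rw [Sylow.card_eq_multiplicity, pow_eq_one_iff] at h2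
  rcases h2 with h2 | h2
  · exact hl.ne_one h2
  · exact absurd h2 (Nat.Prime.factorization_pos_of_dvd hl Nat.card_pos.ne' hld).ne'

theorem Ctx.comm_cent_real (h : Ctx p a Q y) {x u : G} (hx : Real' p x u) {c d : G}
    (hc : Commute c x) (hd : Commute d x) (hcp : Pel p c) (hdp : Pel p d) : Commute c d :=
  h.comm_of (Subgroup.centralizer {x}) (h.cent_real_primes hx)
    (Or.inl fun _ hT hTp => h.cent_real_two_small hx hT hTp) (mem_cent.2 hc.eq) (mem_cent.2 hd.eq)
    hcp hdp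

/-- A real element lies in a single Sylow `p`-subgroup, containing all `p`-elements commuting with it. -/
theorem Ctx.mem_sylow_of_real (h : Ctx p a Q y) {x u : G} (hx : Real' p x u) {P : Sylow p G}
    (hxP : x ∈ (P : Subgroup G)) {z : G} (hz : Pel p z) (hzx : Commute z x) :
    z ∈ (P : Subgroup G) := by
  haveI := Fact.mk h.pp
  exact mem_of_commutes hz fun d hd =>
    h.comm_cent_real hx hzx (h.ab P d hd x hxP) hz (pel_of_mem hd)

theorem Ctx.sylow_unique (h : Ctx p a Q y) {x u : G} (hx : Real' p x u) {P P' : Sylow p G}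
    (hxP : x ∈ (P : Subgroup G)) (hxP' : x ∈ (P' : Subgroup G)) : P = P' :=
  (Sylow.ext (P.3 P'.2 fun _ hz =>
    h.mem_sylow_of_real hx hxP' (pel_of_mem hz) (h.ab P _ hz x hxP))).symm

/-- A `p`-element normalising `Q` and a Sylow `p`-subgroup normalised by `Q` centralises `Q`. -/
theorem Ctx.norm_comm (h : Ctx p a Q y) {P : Sylow p G} {g : G} (hg : Pel p g)
    (hgQ : g ∈ Subgroup.normalizer (Q : Set G))
    (hgP : g ∈ Subgroup.normalizer ((P : Subgroup G) : Set G))
    (hQP : Q ≤ Subgroup.normalizer ((P : Subgroup G) : Set G)) {v : G} (hv : v ∈ Q) :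
    g * v * g⁻¹ = v := by
  haveI := Fact.mk h.pp
  have hgm := mem_of_normalizes hg hgP
  have hc1 : g * v * g⁻¹ * v⁻¹ ∈ (P : Subgroup G) := by
    rw [show g * v * g⁻¹ * v⁻¹ = g * (v * g⁻¹ * v⁻¹) by group]
    exact Subgroup.mul_mem _ hgm (conj_mem (hQP hv) (Subgroup.inv_mem _ hgm))
  have hc2 : g * v * g⁻¹ * v⁻¹ ∈ Q := Q.mul_mem (conj_mem hgQ hv) (Q.inv_mem hv)
  have h1 := (pel_of_mem hc1).eq_one_of_sq h.pp h.p2 (h.inv _ hc2)
  exact mul_inv_eq_one.1 h1

/-- `y` does not normalise a Sylow `p`-subgroup normalised by `Q`. -/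
theorem Ctx.y_not_norm (h : Ctx p a Q y) {P : Sylow p G}
    (hQP : Q ≤ Subgroup.normalizer ((P : Subgroup G) : Set G)) :
    y ∉ Subgroup.normalizer ((P : Subgroup G) : Set G) := by
  classical
  intro hyP
  have hfix := fun v hv => h.norm_comm (P := P) h.yp h.yN hyP hQP (v := v) hv
  have h4 : 4 ≤ Nat.card Q := by
    have h5 : 2 ^ a = p + 1 := h.ha
    have := h.pp.two_le
    have := h.p2
    rw [h.card]; omega
  obtain ⟨v, hv, hv1⟩ : ∃ v ∈ Q, v ≠ 1 := Q.bot_or_exists_ne_one.resolve_left (by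
    intro e; rw [e] at h4; simp at h4)
  obtain ⟨w, hw, hwne⟩ : ∃ w ∈ Q, w ≠ 1 ∧ w ≠ v := by
    by_contra hall
    push_neg at hall
    have hle : (Q : Set G) ⊆ ({1, v} : Set G) := fun w hw => by
      rcases eq_or_ne w 1 with e | e
      · exact Or.inl e
      · exact Or.inr (hall w hw e)
    have h2 := Set.ncard_le_ncard hle
    rw [Set.ncard_pair (Ne.symm hv1), ← Nat.card_coe_set_eq] at h2
    have : Nat.card Q = Nat.card (Q : Set G) := rfl
    omega
  obtain ⟨i, hi⟩ := h.ytr v hv hv1 w hw hwne.1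
  refine hwne.2 ?_
  rw [← hi]
  clear hi
  induction i with
  | zero => simp
  | succ i ih =>
    rw [pow_succ', show y * y ^ i * v * (y * y ^ i)⁻¹ = y * (y ^ i * v * (y ^ i)⁻¹) * y⁻¹ by group,
      ih, hfix v hv]

/-- The Sylow subgroup of a real element commuting with an involution of `Q` is normalised by `Q`. -/
theorem Ctx.norm_sylow (h : Ctx p a Q y) {x u s : G} (hu : u ∈ Q) (hx : Real' p x u) (hs : s ∈ Q)
    (hs1 : s ≠ 1) (hxs : Commute x s) {P : Sylow p G} (hxP : x ∈ (P : Subgroup G)) :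
    Q ≤ Subgroup.normalizer ((P : Subgroup G) : Set G) := by
  intro v hv
  refine Sylow.smul_eq_iff_mem_normalizer.1 ?_
  have hQc : ∀ s ∈ Q, ∀ t ∈ Q, s * t = t * s := fun s hs t ht =>
    (h.two_comm (IsPGroup.of_card h.card) hs ht).eq
  obtain ⟨hxp, hx1, hu1, huu, hinv⟩ := hx
  have hreal : Real' p (v * x * v⁻¹) u := by
    refine ⟨hxp.conj v, fun e => hx1 (conj_eq_one_iff.1 e), hu1, huu, ?_⟩
    have e1 : u * v = v * u := hQc u hu v hv
    have e2 : v⁻¹ * u = u * v⁻¹ := hQc _ (Q.inv_mem hv) u hu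
    rw [show u * (v * x * v⁻¹) * u = (u * v) * x * (v⁻¹ * u) by group, e1, e2,
      show v * u * x * (u * v⁻¹) = v * (u * x * u) * v⁻¹ by group, hinv, conj_inv]
  have hvs : Commute (v * x * v⁻¹) s := by
    have e1 : Commute v s := hQc v hv s hs
    exact (e1.mul_left hxs).mul_left e1.inv_left
  have hcomm : Commute (v * x * v⁻¹) x := h.comm_cent_invol hs1 (h.inv s hs) hvs hxs (hxp.conj v) hxp
  exact h.sylow_unique hreal (conj_mem_smul hxP)
    (h.mem_sylow_of_real ⟨hxp, hx1, hu1, huu, hinv⟩ hxP (hxp.conj v) hcomm)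

/-- Real elements of Sylow subgroups sharing an involution give the same Sylow subgroup. -/
theorem Ctx.sylow_eq_of_shared (h : Ctx p a Q y) {x u z u' s : G} (hx : Real' p x u)
    (hz : Real' p z u') (hs1 : s ≠ 1) (hs : s * s = 1) (hxs : Commute x s) (hzs : Commute z s)
    {P P' : Sylow p G} (hxP : x ∈ (P : Subgroup G)) (hzP : z ∈ (P' : Subgroup G)) : P = P' :=
  h.sylow_unique hz (h.mem_sylow_of_real hx hxP hz.1 (h.comm_cent_invol hs1 hs hzs hxs hz.1 hx.1)) hzP

/-- Splitting off a real element. -/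
theorem real_of_moved (hp : p.Prime) (hp2 : p ≠ 2) {d v : G} (hd : Pel p d) (hv : v * v = 1)
    (hc : Commute d (v * d * v)) (hne : v * d * v ≠ d) :
    Real' p (d * (v * d * v)⁻¹) v := by
  have hvi : v⁻¹ = v := inv_eq_of_mul_eq_one_right hv
  have hdv : Pel p (v * d * v) := by
    have := hd.conj v
    rwa [hvi] at this
  refine ⟨hd.mul hdv.inv hc.inv_right, fun e => hne (mul_inv_eq_one.1 e).symm, ?_, hv, ?_⟩
  · rintro rfl
    exact hne (by simp)
  · rw [show (d * (v * d * v)⁻¹)⁻¹ = v * d * v * d⁻¹ by group,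
      show (v * d * v)⁻¹ = v⁻¹ * (d⁻¹ * v⁻¹) by group, hvi]
    calc v * (d * (v * (d⁻¹ * v))) * v = v * d * v * d⁻¹ * (v * v) := by group
      _ = v * d * v * d⁻¹ := by rw [hv, mul_one]

end CfsgLib.MixedPrimes
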