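import Mathlib

/-!
Groups in which every subgroup of order divisible by `q` is a `q`-group or has order divisible by `p`.
-/

set_option autoImplicit false
set_option linter.style.haveILetI false

namespace CfsgLib.MixedPrimes

variable {G : Type*} [Group G]

/-- Being of `p`-power order. -/
def Pel (p : ℕ) (x : G) : Prop := ∃ k : ℕ, x ^ p ^ k = 1

/-- Every subgroup of order divisible by `q` has order divisible by `p` or is a `q`-group. -/
def NoMixed (G : Type*) [Group G] (q p : ℕ) : Prop :=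
  ∀ H : Subgroup G, q ∣ Nat.card H → p ∣ Nat.card H ∨ ∀ r : ℕ, r.Prime → r ∣ Nat.card H → r = q

theorem Pel.inv {p : ℕ} {x : G} (h : Pel p x) : Pel p x⁻¹ := by
  obtain ⟨k, hk⟩ := h
  exact ⟨k, by rw [inv_pow, hk, inv_one]⟩

theorem Pel.conj {p : ℕ} {x : G} (h : Pel p x) (g : G) : Pel p (g * x * g⁻¹) := by
  obtain ⟨k, hk⟩ := h
  exact ⟨k, by rw [conj_pow, hk, mul_one, mul_inv_cancel]⟩

theorem Pel.mul {p : ℕ} {x y : G} (hx : Pel p x) (hy : Pel p y) (hc : Commute x y) : Pel p (x * y) := by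
  obtain ⟨i, hi⟩ := hx
  obtain ⟨j, hj⟩ := hy
  refine ⟨i + j, ?_⟩
  rw [hc.mul_pow, pow_add, pow_mul, hi, one_pow, one_mul, mul_comm (p ^ i), pow_mul, hj, one_pow]

theorem Pel.pow {p : ℕ} {x : G} (h : Pel p x) (n : ℕ) : Pel p (x ^ n) := by
  obtain ⟨k, hk⟩ := h
  exact ⟨k, by rw [← pow_mul, mul_comm, pow_mul, hk, one_pow]⟩

theorem Pel.map {H : Type*} [Group H] {p : ℕ} {x : G} (h : Pel p x) (f : G →* H) : Pel p (f x) := by
  obtain ⟨k, hk⟩ := h
  exact ⟨k, by rw [← map_pow, hk, map_one]⟩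

/-- An element of coprime orders is trivial. -/
theorem eq_one_of_coprime {m n : ℕ} (hmn : m.Coprime n) {x : G} (hm : x ^ m = 1) (hn : x ^ n = 1) :
    x = 1 := by
  have h := pow_gcd_eq_one.2 ⟨hm, hn⟩
  rwa [hmn.gcd_eq_one, pow_one] at h

theorem Pel.eq_one_of_sq {p : ℕ} (hp : p.Prime) (hp2 : p ≠ 2) {x : G} (h : Pel p x) (h2 : x * x = 1) :
    x = 1 := by
  obtain ⟨k, hk⟩ := h
  exact eq_one_of_coprime (((Nat.coprime_primes hp Nat.prime_two).2 hp2).pow_left k) hk
    (by rw [pow_two]; exact h2)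

theorem Pel.of_primes [Finite G] {p : ℕ} {x : G} (hp : p.Prime)
    (h : ∀ r : ℕ, r.Prime → r ∣ orderOf x → r = p) : Pel p x := by
  refine ⟨(orderOf x).primeFactorsList.length, ?_⟩
  rw [← Nat.eq_prime_pow_of_unique_prime_dvd (orderOf_pos x).ne' (fun {d} hd hdd => h d hd hdd)]
  exact pow_orderOf_eq_one x

/-- An element lies in a subgroup containing two coprime powers of it. -/
theorem mem_of_coprime_pow {K : Subgroup G} {g : G} {m n : ℕ} (hmn : m.Coprime n) (hm : g ^ m ∈ K)
    (hn : g ^ n ∈ K) : g ∈ K := by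
  have h : g = (g ^ m) ^ (Nat.gcdA m n) * (g ^ n) ^ (Nat.gcdB m n) := by
    rw [← zpow_natCast g m, ← zpow_natCast g n, ← zpow_mul, ← zpow_mul, ← zpow_add,
      ← Nat.gcd_eq_gcd_ab, hmn.gcd_eq_one, Nat.cast_one, zpow_one]
  rw [h]
  exact K.mul_mem (K.zpow_mem hm _) (K.zpow_mem hn _)

/-- Conjugation by a normalising element. -/
theorem conj_mem {T : Subgroup G} {g : G} (hg : g ∈ Subgroup.normalizer (T : Set G)) {x : G}
    (hx : x ∈ T) : g * x * g⁻¹ ∈ T :=
  (Subgroup.mem_normalizer_iff.1 hg x).1 hx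

theorem mem_normalizer_zpowers_of_conj [Finite G] {z g : G} (h : g * z * g⁻¹ ∈ Subgroup.zpowers z) :
    g ∈ Subgroup.normalizer (Subgroup.zpowers z : Set G) := by
  refine Subgroup.mem_normalizer_fintype fun y hy => ?_
  obtain ⟨i, rfl⟩ := Subgroup.mem_zpowers_iff.1 hy
  rw [← conj_zpow]
  exact Subgroup.zpow_mem _ h i

/-- No element of prime order `v` normalises a non-trivial `u`-group when `{u, v} = {q, r}`. -/
theorem no_norm [Finite G] {q p r u v : ℕ} (hN : NoMixed G q p) (hp : p.Prime) (hq : q.Prime)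
    (hr : r.Prime) (hrq : r ≠ q) (hrp : r ≠ p) (hqp : q ≠ p)
    (huv : (u = q ∧ v = r) ∨ (u = r ∧ v = q)) {T : Subgroup G} (hT : IsPGroup u T) (hT1 : T ≠ ⊥)
    {x : G} (hx : orderOf x = v) (hxT : x ∈ Subgroup.normalizer (T : Set G)) : False := by
  have hu : u.Prime := by rcases huv with ⟨rfl, -⟩ | ⟨rfl, -⟩ <;> assumption
  haveI := Fact.mk hu
  set H : Subgroup G := T ⊔ Subgroup.zpowers x with hH
  have hHN : H ≤ Subgroup.normalizer (T : Set G) :=
    sup_le Subgroup.le_normalizer (Subgroup.zpowers_le.2 hxT)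
  have hud : u ∣ Nat.card T := by
    obtain ⟨n, hn⟩ := hT.exists_card_eq
    rcases Nat.eq_zero_or_pos n with rfl | h0
    · exact absurd (Subgroup.card_eq_one.1 (by simpa using hn)) hT1
    · exact hn ▸ dvd_pow_self u h0.ne'
  have huH : u ∣ Nat.card H := hud.trans (Subgroup.card_dvd_of_le le_sup_left)
  have hvH : v ∣ Nat.card H :=
    hx ▸ (Nat.card_zpowers x ▸ Subgroup.card_dvd_of_le (le_sup_right : Subgroup.zpowers x ≤ H))
  have hprimes : ∀ l : ℕ, l.Prime → l ∣ Nat.card H → l = u ∨ l = v := by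
    intro l hl hld
    haveI := Fact.mk hl
    obtain ⟨z, hz⟩ := exists_prime_orderOf_dvd_card' (G := H) l hld
    set N := Subgroup.normalizer (T : Set G)
    haveI : (T.subgroupOf N).Normal := Subgroup.normal_in_normalizer
    set π := QuotientGroup.mk' (T.subgroupOf N)
    have hmem : ∀ y (hy : y ∈ H), π ⟨y, hHN hy⟩ ∈ Subgroup.zpowers (π ⟨x, hxT⟩) := by
      have hle : H.subgroupOf N ≤ (Subgroup.zpowers (π ⟨x, hxT⟩)).comap π := by
        rw [hH, Subgroup.subgroupOf_sup Subgroup.le_normalizer (Subgroup.zpowers_le.2 hxT)]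
        refine sup_le ?_ ?_
        · intro y hy
          rw [Subgroup.mem_comap]
          rw [show π y = 1 from (QuotientGroup.eq_one_iff y).2 hy]
          exact one_mem _
        · intro y hy
          rw [Subgroup.mem_subgroupOf, Subgroup.mem_zpowers_iff] at hy
          obtain ⟨i, hi⟩ := hy
          rw [Subgroup.mem_comap, Subgroup.mem_zpowers_iff]
          refine ⟨i, ?_⟩
          rw [← map_zpow]
          congr 1
          exact Subtype.ext (by simpa using hi)
      intro y hy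
      exact hle (show (⟨y, hHN hy⟩ : N) ∈ H.subgroupOf N from hy)
    have hzx : π ⟨z, hHN z.2⟩ ^ v = 1 := by
      obtain ⟨i, hi⟩ := Subgroup.mem_zpowers_iff.1 (hmem z z.2)
      have h1 : π ⟨x, hxT⟩ ^ v = 1 := by
        rw [← map_pow, show (⟨x, hxT⟩ : N) ^ v = 1 from
          Subtype.ext (by simpa [← hx] using pow_orderOf_eq_one x), map_one]
      rw [← hi, ← zpow_natCast, ← zpow_mul, mul_comm, zpow_mul, zpow_natCast, h1, one_zpow]
    have hzl : π ⟨z, hHN z.2⟩ ^ l = 1 := by
      rw [← map_pow, show (⟨(z : G), hHN z.2⟩ : N) ^ l = 1 from Subtype.ext (by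
        have := pow_orderOf_eq_one z
        rw [hz] at this
        simpa using congrArg (Subtype.val) this), map_one]
    by_cases hzT : (z : G) ∈ T
    · left
      obtain ⟨k, hk⟩ := hT ⟨z, hzT⟩
      have h1 : l ∣ u ^ k := by
        rw [← hz, ← Subgroup.orderOf_coe]
        exact orderOf_dvd_of_pow_eq_one (by simpa using congrArg Subtype.val hk)
      exact (Nat.prime_dvd_prime_iff_eq hl hu).1 (hl.dvd_of_dvd_pow h1)
    · right
      have hne : π ⟨z, hHN z.2⟩ ≠ 1 := fun e => hzT (by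
        have := (QuotientGroup.eq_one_iff (N := T.subgroupOf N) (⟨z, hHN z.2⟩ : N)).1 e
        exact Subgroup.mem_subgroupOf.1 this)
      have hv : v.Prime := by rcases huv with ⟨-, rfl⟩ | ⟨-, rfl⟩ <;> assumption
      by_contra hlv
      exact hne (eq_one_of_coprime ((Nat.coprime_primes hl hv).2 hlv) hzl hzx)
  have hqH : q ∣ Nat.card H := by rcases huv with ⟨rfl, -⟩ | ⟨-, rfl⟩ <;> assumption
  have hrH : r ∣ Nat.card H := by rcases huv with ⟨-, rfl⟩ | ⟨rfl, -⟩ <;> assumption
  rcases hN H hqH with h | h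
  · rcases hprimes p hp h with e | e <;> rcases huv with ⟨h1, h2⟩ | ⟨h1, h2⟩ <;> omega
  · exact hrq (h r hr hrH)

/-- The orbit of a moved element under a `p`-element is at least as large as `p`. -/
theorem orbit_bound [Finite G] {p : ℕ} (hp : p.Prime) {T : Subgroup G} {g : G} (hg : Pel p g)
    (hgT : g ∈ Subgroup.normalizer (T : Set G)) {x : G} (hx : x ∈ T) (hmove : g * x * g⁻¹ ≠ x)
    (S : Finset G) (hS : ∀ s ∈ S, s ∈ T ∧ ∀ i : ℕ, g ^ i * x * (g ^ i)⁻¹ ≠ s) :
    p + S.card ≤ Nat.card T := by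
  classical
  haveI := Fintype.ofFinite G
  set f : G → G := fun y => g * y * g⁻¹ with hf
  have hiter : ∀ (i : ℕ) (y : G), f^[i] y = g ^ i * y * (g ^ i)⁻¹ := by
    intro i
    induction i with
    | zero => intro y; simp
    | succ i ih =>
      intro y
      rw [Function.iterate_succ_apply', ih, hf, pow_succ']
      group
  obtain ⟨k, hk⟩ := hg
  have hper : Function.IsPeriodicPt f (p ^ k) x := by
    show f^[p ^ k] x = x
    rw [hiter, hk]; group
  set n := Function.minimalPeriod f x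
  have hn1 : n ≠ 1 := fun e => hmove (Function.minimalPeriod_eq_one_iff_isFixedPt.1 e)
  have hpn : p ≤ n := by
    obtain ⟨j, -, hj⟩ := (Nat.dvd_prime_pow hp).1 hper.minimalPeriod_dvd
    rcases Nat.eq_zero_or_pos j with rfl | h0
    · exact absurd (by rw [pow_zero] at hj; exact hj) hn1
    · show p ≤ Function.minimalPeriod f x
      rw [hj]
      exact Nat.le_self_pow h0.ne' p
  have horb : ∀ i : ℕ, f^[i] x ∈ T := by
    intro i
    rw [hiter]
    exact conj_mem (Subgroup.pow_mem _ hgT i) hx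
  have hinj : Set.InjOn (fun i => f^[i] x) (Finset.range n : Finset ℕ) := by
    intro i hi j hj e
    rw [Finset.coe_range] at hi hj
    exact (Function.iterate_eq_iterate_iff_of_lt_minimalPeriod hi hj).1 e
  have hdisj : Disjoint ((Finset.range n).image fun i => f^[i] x) S := by
    rw [Finset.disjoint_left]
    intro y hy hyS
    obtain ⟨i, -, rfl⟩ := Finset.mem_image.1 hy
    exact (hS _ hyS).2 i (hiter i x).symm
  have hsub : ((Finset.range n).image fun i => f^[i] x) ∪ S ⊆ Finset.univ.filter (· ∈ T) := by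
    intro y hy
    rcases Finset.mem_union.1 hy with h | h
    · obtain ⟨i, -, rfl⟩ := Finset.mem_image.1 h
      simp [horb i]
    · simp [(hS y h).1]
  have h1 := Finset.card_le_card hsub
  rw [Finset.card_union_of_disjoint hdisj, Finset.card_image_of_injOn hinj, Finset.card_range] at h1
  have h2 : Nat.card T = (Finset.univ.filter (· ∈ T)).card := by
    rw [Nat.card_eq_fintype_card, ← Fintype.card_coe]
    exact Fintype.card_congr (Equiv.subtypeEquivRight (by simp))
  omega

/-- A fixed element is not in the orbit of a moved element. -/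
theorem not_orbit_of_fixed {g x s : G} (hs : g * s * g⁻¹ = s) (hmove : g * x * g⁻¹ ≠ x) (i : ℕ) :
    g ^ i * x * (g ^ i)⁻¹ ≠ s := by
  intro e
  have hc : Commute g s := mul_inv_eq_iff_eq_mul.1 hs
  have h2 : (g ^ i)⁻¹ * s * g ^ i = s := by
    rw [mul_assoc, ← (hc.pow_left i).eq, inv_mul_cancel_left]
  have hxs : x = s := by
    rw [← h2, ← e]; group
  exact hmove (hxs ▸ hs)

/-- A normal complement of the Sylow `q`-subgroup rules out a third prime. -/
theorem no_third_of_complement [Finite G] {q p r : ℕ} [Fact q.Prime] (hN : NoMixed G q p)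
    (hp : p.Prime) (hr : r.Prime) (hrq : r ≠ q) (hrp : r ≠ p) (hqp : q ≠ p) (hqG : q ∣ Nat.card G)
    (P : Sylow q G) (N : Subgroup G) [N.Normal] (hc : N.IsComplement' (P : Subgroup G)) :
    ¬ r ∣ Nat.card G := by
  intro hrG
  haveI := Fact.mk hr
  have hq : q.Prime := Fact.out
  have hidx : N.index = Nat.card ↥(P : Subgroup G) := hc.symm.index_eq_card
  obtain ⟨n, hn⟩ := P.2.exists_card_eq
  have hqP : q ∣ Nat.card ↥(P : Subgroup G) := by
    rw [Sylow.card_eq_multiplicity]
    exact dvd_pow_self q (Nat.Prime.factorization_pos_of_dvd hq Nat.card_pos.ne' hqG).ne'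
  have hrN : r ∣ Nat.card N := by
    rw [← Subgroup.card_mul_index N, hidx, hn] at hrG
    rcases hr.dvd_mul.1 hrG with h | h
    · exact h
    · exact absurd ((Nat.prime_dvd_prime_iff_eq hr hq).1 (hr.dvd_of_dvd_pow h)) hrq
  obtain ⟨R⟩ : Nonempty (Sylow r N) := inferInstance
  set R' : Subgroup G := (R : Subgroup N).map N.subtype
  have hsup : Subgroup.normalizer (R' : Set G) ⊔ N = ⊤ := Sylow.normalizer_sup_eq_top R
  have hsurj : Function.Surjective
      ((QuotientGroup.mk' N).comp (Subgroup.normalizer (R' : Set G)).subtype) := by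
    intro z
    obtain ⟨g, rfl⟩ := QuotientGroup.mk'_surjective N z
    have hg : g ∈ Subgroup.normalizer (R' : Set G) ⊔ N := by rw [hsup]; trivial
    obtain ⟨a, ha, b, hb, rfl⟩ := Subgroup.mem_sup_of_normal_right.1 hg
    refine ⟨⟨a, ha⟩, ?_⟩
    show QuotientGroup.mk' N a = QuotientGroup.mk' N (a * b)
    rw [map_mul, show QuotientGroup.mk' N b = 1 from (QuotientGroup.eq_one_iff b).2 hb, mul_one]
  have hqN : q ∣ Nat.card ↥(Subgroup.normalizer (R' : Set G)) := by
    refine hqP.trans (hidx ▸ ?_)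
    exact Subgroup.card_dvd_of_surjective _ hsurj
  obtain ⟨g, hg⟩ := exists_prime_orderOf_dvd_card' (G := ↥(Subgroup.normalizer (R' : Set G))) q hqN
  have hR1 : R' ≠ ⊥ := by
    intro e
    have h1 := (Subgroup.map_eq_bot_iff_of_injective _ N.subtype_injective).1 e
    have h2 : Nat.card ↥(R : Subgroup N) = 1 := by rw [h1]; simp
    rw [Sylow.card_eq_multiplicity, pow_eq_one_iff] at h2
    rcases h2 with h2 | h2
    · exact hr.ne_one h2
    · exact absurd h2 (Nat.Prime.factorization_pos_of_dvd hr Nat.card_pos.ne' hrN).ne'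
  exact no_norm hN hp hq hr hrq hrp hqp (Or.inr ⟨rfl, rfl⟩) (R.2.map _) hR1
    (by rw [Subgroup.orderOf_coe]; exact hg) g.2

end CfsgLib.MixedPrimes
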