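import Cfsg.Agent.Lib.Transfer.ThompsonComplement
import Cfsg.Agent.Lib.Transfer.Control
import Cfsg.Agent.Lib.Base.Fitting

/-!
# Nilpotent maximal subgroups and normal `p`-complements modulo the Fitting subgroup
-/

set_option autoImplicit false

open Subgroup Cfsg

namespace CfsgLib.FgsC

variable {G : Type*} [Group G] [Finite G] {p : ℕ} [hp : Fact p.Prime]

/-- A core-free nilpotent maximal subgroup containing a nontrivial Sylow `p`-subgroup, `p` odd,
forces a normal `p`-complement. -/
theorem hasNormalPComplement_of_coreFree_nilpotent_coatom (hp2 : p ≠ 2) {M : Subgroup G}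
    (hM : IsCoatom M) (hnil : Group.IsNilpotent M) (hcore : M.normalCore = ⊥) (P : Sylow p G)
    (hPM : (P : Subgroup G) ≤ M) (hP : (P : Subgroup G) ≠ ⊥) :
    HasNormalPComplement p G := by
  have hMpc : HasNormalPComplement p M := CfsgLib.Transfer.hasNormalPComplement_of_isNilpotent
  -- `M` normalizes `P`
  have hMP : M ≤ normalizer ((P : Subgroup G) : Set G) := by
    have hn : ((P : Subgroup G).subgroupOf M).Normal := by
      haveI := hnil
      exact Sylow.normal_of_normalizerCondition Group.normalizerCondition_of_isNilpotent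
        (P.subtype hPM)
    exact (normal_subgroupOf_iff_le_normalizer hPM).mp hn
  -- a nontrivial subgroup of `M` normalized by `M` is not normal in `G`
  have key : ∀ K : Subgroup G, K ≤ M → K ≠ ⊥ → M ≤ normalizer (K : Set G) →
      normalizer (K : Set G) = M := by
    intro K hKM hK hMK
    rcases eq_or_lt_of_le hMK with h | h
    · exact h.symm
    · exfalso
      have hKn : K.Normal := normalizer_eq_top_iff.mp (hM.2 _ h)
      exact hK (le_bot_iff.mp (hcore ▸ (normal_le_normalCore.mpr hKM)))
  refine CfsgLib.Transfer.hasNormalPComplement_of_thompson hp2 P ?_ ?_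
  · rw [key _ ?_ (CfsgLib.Transfer.thompsonSubgroupOf_ne_bot P.2 hP)
      (hMP.trans (CfsgLib.Transfer.normalizer_le_normalizer_thompsonSubgroupOf _))]
    · exact hMpc
    · exact le_trans (CfsgLib.PLocal.thompsonSubgroupOf_le _ _) hPM
  · set Z := (P : Subgroup G) ⊓ centralizer ((P : Subgroup G) : Set G) with hZdef
    have hZM : Z ≤ M := inf_le_left.trans hPM
    have hN : normalizer (Z : Set G) = M :=
      key Z hZM (CfsgLib.Transfer.inf_centralizer_ne_bot P.2 hP)
        (hMP.trans (CfsgLib.Transfer.normalizer_le_normalizer_inf_centralizer _))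
    refine CfsgLib.Transfer.hasNormalPComplement_of_le ?_ hMpc
    calc centralizer (Z : Set G) ≤ normalizer (Z : Set G) := centralizer_le_normalizer _
      _ = M := hN

/-- A nilpotent maximal subgroup that is the normalizer of a `p`-subgroup `R` (`p` odd) which is
Sylow in it forces a normal `p`-complement modulo the Fitting subgroup. -/
theorem hasNormalPComplement_quotient_of_nilpotent_coatom (hp2 : p ≠ 2) {M : Subgroup G}
    (hM : IsCoatom M) (hnil : Group.IsNilpotent M) (P : Sylow p G) (hPM : (P : Subgroup G) ≤ M)
    (F : Subgroup G) [F.Normal] (hF : M.normalCore ≤ F) :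
    HasNormalPComplement p (G ⧸ F) := by
  have hsur := QuotientGroup.mk'_surjective M.normalCore
  have hLM : M.normalCore ≤ M := M.normalCore_le
  set f := QuotientGroup.mk' M.normalCore with hf
  have hker : f.ker = M.normalCore := QuotientGroup.ker_mk' _
  have hcomap : (M.map f).comap f = M := by
    rw [Subgroup.comap_map_eq, hker, sup_eq_left.mpr hLM]
  have h1 : HasNormalPComplement p (G ⧸ M.normalCore) := by
    rcases eq_or_ne ((P : Subgroup G).map f) ⊥ with hbot | hne
    · refine CfsgLib.Transfer.hasNormalPComplement_of_not_dvd ?_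
      rw [← M.normalCore.index_eq_card]
      have hle : (P : Subgroup G) ≤ M.normalCore := hker ▸ (Subgroup.map_eq_bot_iff _).mp hbot
      exact fun hd => P.not_dvd_index (hd.trans (index_dvd_of_le hle))
    · refine hasNormalPComplement_of_coreFree_nilpotent_coatom hp2 (M := M.map f) ?_ ?_ ?_
        (P.mapSurjective hsur) ?_ ?_
      · constructor
        · intro h
          exact hM.1 (hcomap.symm.trans (by rw [h, comap_top]))
        · intro K hK
          have : M < K.comap f := by
            refine lt_of_le_of_ne (hcomap.symm.le.trans (comap_mono hK.le)) ?_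
            intro h
            apply hK.ne
            exact ((congrArg (fun S => S.map f) h).trans (map_comap_eq_self_of_surjective hsur K))
          have := hM.2 _ this
          rw [← map_comap_eq_self_of_surjective hsur K, this, map_top_of_surjective _ hsur]
      · haveI := hnil
        exact Group.nilpotent_of_surjective (f.subgroupMap M) (f.subgroupMap_surjective M)
      · rw [eq_bot_iff]
        intro x hx
        obtain ⟨g, rfl⟩ := hsur x
        have hn : ((M.map f).normalCore.comap f).Normal := inferInstance
        have hle : (M.map f).normalCore.comap f ≤ M :=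
          (comap_mono (normalCore_le _)).trans hcomap.le
        have := normal_le_normalCore.mpr hle (mem_comap.mpr hx)
        rw [mem_bot]
        exact (QuotientGroup.eq_one_iff g).mpr this
      · exact map_mono hPM
      · exact hne
  exact CfsgLib.Transfer.hasNormalPComplement_of_surjective
    (QuotientGroup.map M.normalCore F (MonoidHom.id G) (by simpa using hF))
    (fun x => by
      obtain ⟨g, rfl⟩ := QuotientGroup.mk'_surjective F x
      exact ⟨f g, rfl⟩) h1

/-- If `G / F` has a normal `p`-complement for every odd prime and `F` is soluble, so is `G`. -/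
theorem isSolvable_of_forall_hasNormalPComplement_quotient (F : Subgroup G) [F.Normal]
    (hFs : Group.IsSolvable F)
    (h : ∀ q : ℕ, ∀ _ : Fact q.Prime, q ≠ 2 → HasNormalPComplement q (G ⧸ F)) :
    Group.IsSolvable G := by
  have : Group.IsSolvable (G ⧸ F) := by
    obtain ⟨P, -⟩ : ∃ P : Sylow 2 (G ⧸ F), True := ⟨default, trivial⟩
    -- the intersection of the normal complements is a 2-group
    let K : Subgroup (G ⧸ F) :=
      ⨅ (q : ℕ) (hq : Fact q.Prime) (_ : q ≠ 2), Cfsg.pResidual q (G ⧸ F)
    haveI hKn : K.Normal :=
      normal_iInf_normal fun q => normal_iInf_normal fun hq => normal_iInf_normal fun _ =>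
        CfsgLib.Transfer.pResidual_normal
    have hK2 : IsPGroup 2 K := by
      refine IsPGroup.of_card (n := (Nat.card K).factorization 2) ?_
      have hK : Nat.card K ≠ 0 := Nat.card_pos.ne'
      refine Nat.eq_pow_of_factorization_eq_single hK ?_
      ext q
      by_cases hq2 : q = 2
      · subst hq2; simp
      rw [Finsupp.single_eq_of_ne hq2]
      by_cases hqp : q.Prime
      · haveI := Fact.mk hqp
        refine Nat.factorization_eq_zero_of_not_dvd fun hd => ?_
        have hle : K ≤ Cfsg.pResidual q (G ⧸ F) :=
          iInf_le_of_le q (iInf_le_of_le (Fact.mk hqp) (iInf_le _ hq2))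
        exact CfsgLib.Transfer.hasNormalPComplement_iff_pResidual.mp (h q (Fact.mk hqp) hq2)
          (hd.trans (card_dvd_of_le hle))
      · exact Nat.factorization_eq_zero_of_not_prime _ hqp
    haveI : Group.IsNilpotent K := hK2.isNilpotent
    haveI : Group.IsSolvable K := inferInstance
    have hder : ∀ (q : ℕ) (_ : Fact q.Prime), ∃ n,
        derivedSeries (G ⧸ F) n ≤ Cfsg.pResidual q (G ⧸ F) := by
      intro q hq
      haveI := CfsgLib.Transfer.pResidual_normal (G := G ⧸ F) (p := q)
      haveI : Group.IsNilpotent ((G ⧸ F) ⧸ Cfsg.pResidual q (G ⧸ F)) :=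
        (CfsgLib.Transfer.isPGroup_quotient_pResidual).isNilpotent
      haveI : Group.IsSolvable ((G ⧸ F) ⧸ Cfsg.pResidual q (G ⧸ F)) := inferInstance
      obtain ⟨n, hn⟩ := (Group.isSolvable_def _).mp this
      refine ⟨n, fun x hx => ?_⟩
      have hx' := map_derivedSeries_le_derivedSeries
        (QuotientGroup.mk' (Cfsg.pResidual q (G ⧸ F))) n (mem_map_of_mem _ hx)
      rw [hn, mem_bot] at hx'
      exact (QuotientGroup.eq_one_iff x).mp hx'
    choose n hn using hder
    let N : ℕ := ∑ q ∈ (Finset.range (Nat.card (G ⧸ F) + 1)).attach,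
      if hq : (q : ℕ).Prime then n q ⟨hq⟩ else 0
    have hle : derivedSeries (G ⧸ F) N ≤ K := by
      refine le_iInf fun q => le_iInf fun hq => le_iInf fun _ => ?_
      by_cases hd : q ∣ Nat.card (G ⧸ F)
      · have hmem : q ∈ Finset.range (Nat.card (G ⧸ F) + 1) :=
          Finset.mem_range.mpr (Nat.lt_succ_of_le (Nat.le_of_dvd Nat.card_pos hd))
        have : n q hq ≤ N := by
          refine le_trans ?_ (Finset.single_le_sum
            (f := fun x : { y // y ∈ Finset.range (Nat.card (G ⧸ F) + 1) } =>
              if hq : (x : ℕ).Prime then n x ⟨hq⟩ else 0)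
            (fun _ _ => Nat.zero_le _) (Finset.mem_attach _ ⟨q, hmem⟩))
          simp [hq.out]
        exact (derivedSeries_antitone _ this).trans (hn q hq)
      · intro x _
        exact CfsgLib.Transfer.mem_pResidual_of_coprime
          (CfsgLib.Transfer.coprime_orderOf_iff.mpr fun h => hd (h.trans (orderOf_dvd_natCard x)))
    obtain ⟨m, hm⟩ := (Group.isSolvable_def _).mp ‹Group.IsSolvable K›
    haveI : Group.IsSolvable ((G ⧸ F) ⧸ K) := by
      refine (Group.isSolvable_def _).mpr ⟨N, ?_⟩
      rw [← map_derivedSeries_eq (QuotientGroup.mk'_surjective K), Subgroup.map_eq_bot_iff,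
        QuotientGroup.ker_mk']
      exact hle
    exact (Group.isSolvable_iff_subgroup_quotient K).mpr ⟨inferInstance, inferInstance⟩
  exact (Group.isSolvable_iff_subgroup_quotient F).mpr ⟨hFs, this⟩

end CfsgLib.FgsC
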