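import Cfsg.Agent.Lib.PLocal.PSolvable
import Cfsg.Agent.Lib.Coprime.Hall
import Cfsg.Agent.Lib.Coprime.Action

/-!
`p`-solvable groups whose maximal subgroups are `p`-nilpotent or of prime index.
-/

set_option autoImplicit false
set_option linter.style.haveILetI false
set_option linter.unusedSectionVars false

namespace CfsgLib.FgsC.NilpotentOrPrimeIndex

open Subgroup Cfsg
open scoped commutatorElement Pointwise

universe u
variable {G : Type u} [Group G] [Finite G] {p : ℕ} [hp : Fact p.Prime]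

/-- Every maximal subgroup is `p`-nilpotent or of prime index. -/
def MaxCond (p : ℕ) (G : Type u) [Group G] : Prop :=
  ∀ M : Subgroup G, IsCoatom M →
    (∃ K : Subgroup ↥M, K.Normal ∧ ¬ p ∣ Nat.card K ∧ ∃ k : ℕ, K.index = p ^ k) ∨ (M.index).Prime

theorem relIndex_sup_eq (C N : Subgroup G) [N.Normal] : C.relIndex (N ⊔ C) = C.relIndex N := by
  have h1 := relIndex_mul_relIndex (C ⊓ N) N (N ⊔ C) inf_le_right le_sup_left
  have h2 := relIndex_mul_relIndex (C ⊓ N) C (N ⊔ C) inf_le_left le_sup_right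
  rw [relIndex_sup_left, inf_relIndex_right] at h1
  rw [inf_relIndex_left, ← h1, mul_comm (C.relIndex N)] at h2
  exact Nat.eq_of_mul_eq_mul_left (Nat.pos_of_ne_zero index_ne_zero_of_finite) h2

theorem maxCond_quotient (h : MaxCond p G) (N : Subgroup G) [N.Normal] : MaxCond p (G ⧸ N) := by
  intro Mb hMb
  set f := QuotientGroup.mk' N with hf
  have hsurj : Function.Surjective f := QuotientGroup.mk'_surjective N
  have hidx : (Mb.comap f).index = Mb.index := index_comap_of_surjective Mb hsurj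
  rcases h _ (Subgroup.isCoatom_comap_of_surjective hsurj hMb) with ⟨K, hK, hKp, k, hk⟩ | hq
  · refine Or.inl ?_
    haveI := hK
    let g : ↥(Mb.comap f) →* ↥Mb := f.subgroupComap Mb
    have hg : Function.Surjective g := f.subgroupComap_surjective_of_surjective Mb hsurj
    refine ⟨K.map g, hK.map g hg, fun hd => hKp (hd.trans (card_map_dvd _ _)), ?_⟩
    obtain ⟨j, -, hj⟩ := (Nat.dvd_prime_pow hp.out).mp (hk ▸ index_map_dvd K hg)
    exact ⟨j, hj⟩
  · exact Or.inr (hidx ▸ hq)

/-- The case `O_{p'}(G) = 1`. -/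
theorem of_pPrimeCore_eq_bot (hG : IsPSolvable p G) (hO : pPrimeCore p G = ⊥)
    (hmax : MaxCond p G) :
    ∃ K : Subgroup G, K.Normal ∧ pCore p G ≤ K ∧ ¬ p ∣ (pCore p G).relIndex K ∧
      ∃ k : ℕ, K.index = p ^ k := by
  set F : Subgroup G := pCore p G with hF
  haveI hFn : F.Normal := pCore_normal p G
  have hFp : IsPGroup p F := Base.isPGroup_pCore p G
  by_cases hex : ∃ M : Subgroup G, IsCoatom M ∧ ¬ F ≤ M ∧ ¬ (M.index).Prime
  · obtain ⟨M, hM, hFM, hMp⟩ := hex
    obtain ⟨K, hK, hKp, k, hk⟩ := (hmax M hM).resolve_right hMp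
    haveI := hK
    set K' : Subgroup G := K.map M.subtype with hK'
    have htop : M ⊔ F = ⊤ := hM.2 _ (left_lt_sup.mpr hFM)
    have hKn : (F ⊔ K').Normal := by
      rw [← normalizer_eq_top_iff, eq_top_iff, ← htop]
      refine sup_le ?_ (le_sup_left.trans le_normalizer)
      refine Coprime.le_normalizer_sup_sup ?_ ?_
      · rw [normalizer_eq_top]
        exact le_top
      · have h := Subgroup.le_normalizer_map (H := K) M.subtype
        rw [normalizer_eq_top, ← MonoidHom.range_eq_map, range_subtype] at h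
        exact h
    refine ⟨F ⊔ K', hKn, le_sup_left, ?_, ?_⟩
    · have h1 : F.relIndex (F ⊔ K') = F.relIndex K' := relIndex_sup_left (K := F) (H := K')
      rw [h1]
      have h2 : F.relIndex K' ∣ Nat.card K' := index_dvd_card _
      rw [hK', card_map_of_injective M.subtype_injective] at h2
      exact fun hd => hKp (hd.trans (by rwa [hK']))
    · have h1 : (F ⊔ K').relIndex M = (F ⊔ K').index := by
        rw [← relIndex_sup_left (K := F ⊔ K') (H := M), ← relIndex_top_right (H := F ⊔ K')]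
        congr 1
        exact top_le_iff.mp (htop ▸ sup_le le_sup_right (le_sup_left.trans le_sup_left))
      have h2 : (F ⊔ K').relIndex M ∣ p ^ k := by
        refine (relIndex_dvd_of_le_left M le_sup_right).trans (dvd_of_eq ?_)
        rw [hK', relIndex, subgroupOf, comap_map_eq_self_of_injective M.subtype_injective, hk]
      obtain ⟨j, -, hj⟩ := (Nat.dvd_prime_pow hp.out).mp (h1 ▸ h2)
      exact ⟨j, hj⟩
  push Not at hex
  -- every maximal subgroup missing `F` meets it in a normal subgroup of index `p`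
  have hNprop : ∀ M : Subgroup G, IsCoatom M → ¬ F ≤ M →
      (F ⊓ M).Normal ∧ (F ⊓ M).relIndex F = p := by
    intro M hM hFM
    have htop : F ⊔ M = ⊤ := by
      rw [sup_comm]; exact hM.2 _ (left_lt_sup.mpr hFM)
    have hidx : M.relIndex F = M.index := by
      rw [← relIndex_sup_eq, htop, relIndex_top_right]
    obtain ⟨n, hn⟩ := IsPGroup.iff_card.mp hFp
    have hd : M.index ∣ p ^ n := by
      rw [← hidx, ← hn]
      exact index_dvd_card _
    have hMi : M.index = p :=
      (Nat.prime_dvd_prime_iff_eq (hex M hM hFM) hp.out).mp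
        ((hex M hM hFM).dvd_of_dvd_pow hd)
    have hrel : (F ⊓ M).relIndex F = p := by rw [inf_relIndex_left, hidx, hMi]
    have hn0 : n ≠ 0 := by
      rintro rfl
      rw [pow_zero, card_eq_one] at hn
      exact hFM (hn ▸ bot_le)
    haveI : ((F ⊓ M).subgroupOf F).Normal := normal_of_index_eq_minFac_card (by
      rw [hn, Nat.pow_minFac hn0, hp.out.minFac_eq]; exact hrel)
    refine ⟨?_, hrel⟩
    rw [← normalizer_eq_top_iff, eq_top_iff, ← htop]
    refine sup_le ((normal_subgroupOf_iff_le_normalizer inf_le_left).mp inferInstance) ?_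
    refine Coprime.le_normalizer_inf_inf ?_ le_normalizer
    rw [normalizer_eq_top]
    exact le_top
  set C : Subgroup G :=
    { carrier := {g : G | ∀ M : Subgroup G, IsCoatom M → ¬ F ≤ M → ∀ f ∈ F, ⁅g, f⁆ ∈ F ⊓ M}
      mul_mem' := by
        intro g h hg hh M hM hFM f hf
        rw [show ⁅g * h, f⁆ = g * ⁅h, f⁆ * g⁻¹ * ⁅g, f⁆ by simp only [commutatorElement_def]; group]
        exact mul_mem ((hNprop M hM hFM).1.conj_mem _ (hh M hM hFM f hf) g) (hg M hM hFM f hf)
      one_mem' := fun M _ _ f _ => by rw [commutatorElement_one_left]; exact one_mem _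
      inv_mem' := by
        intro g hg M hM hFM f hf
        rw [show ⁅g⁻¹, f⁆ = g⁻¹ * ⁅g, f⁆⁻¹ * g⁻¹⁻¹ by simp only [commutatorElement_def]; group]
        exact (hNprop M hM hFM).1.conj_mem _ (inv_mem (hg M hM hFM f hf)) g⁻¹ } with hC
  have hmemC : ∀ g : G, g ∈ C ↔
      ∀ M : Subgroup G, IsCoatom M → ¬ F ≤ M → ∀ f ∈ F, ⁅g, f⁆ ∈ F ⊓ M := fun g => Iff.rfl
  haveI hCn : C.Normal := by
    refine ⟨fun c hc g => (hmemC _).mpr fun M hM hFM f hf => ?_⟩
    have h := (hNprop M hM hFM).1.conj_mem _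
      (hc M hM hFM (g⁻¹ * f * g⁻¹⁻¹) (hFn.conj_mem f hf g⁻¹)) g
    rwa [show g * ⁅c, g⁻¹ * f * g⁻¹⁻¹⁆ * g⁻¹ = ⁅g * c * g⁻¹, f⁆ by
      simp only [commutatorElement_def]; group] at h
  -- the action on each `F / (F ⊓ M)` is through an abelian group
  have hcyc : ∀ (M : Subgroup G) (hM : IsCoatom M) (hFM : ¬ F ≤ M) (g h f : G), f ∈ F →
      ⁅⁅g, h⁆, f⁆ ∈ F ⊓ M := by
    intro M hM hFM g h f hf
    obtain ⟨hn, hidx⟩ := hNprop M hM hFM
    haveI := hn
    set π := QuotientGroup.mk' (F ⊓ M) with hπ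
    have hcard : Nat.card (F.map π) = p := by
      rw [hπ, PLocal.card_map_mk'_eq_relIndex]
      exact hidx
    haveI : IsCyclic (F.map π) := isCyclic_of_prime_card hcard
    obtain ⟨⟨t, ht⟩, hgen⟩ := IsCyclic.exists_generator (α := F.map π)
    have hpow : ∀ x : G, ∃ a : ℤ, ∀ y ∈ F.map π, π x * y * (π x)⁻¹ = y ^ a := by
      intro x
      obtain ⟨f₀, hf₀, rfl⟩ := ht
      obtain ⟨a, ha⟩ := mem_zpowers_iff.mp
        (hgen ⟨π (x * f₀ * x⁻¹), mem_map_of_mem π (hFn.conj_mem f₀ hf₀ x)⟩)
      refine ⟨a, fun y hy => ?_⟩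
      obtain ⟨i, hi⟩ := mem_zpowers_iff.mp (hgen ⟨y, hy⟩)
      have hy' : (π f₀) ^ i = y := congrArg Subtype.val hi
      have ha' : (π f₀) ^ a = π (x * f₀ * x⁻¹) := congrArg Subtype.val ha
      rw [← hy', ← zpow_mul, mul_comm, zpow_mul, ha', map_mul, map_mul, map_inv, conj_zpow]
    obtain ⟨a, ha⟩ := hpow g
    obtain ⟨b, hb⟩ := hpow h
    have hmem : ∀ (x : G) (y : G ⧸ (F ⊓ M)), y ∈ F.map π → π x * y * (π x)⁻¹ ∈ F.map π := by
      rintro x _ ⟨f', hf', rfl⟩
      rw [← map_inv, ← map_mul, ← map_mul]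
      exact mem_map_of_mem π (hFn.conj_mem f' hf' x)
    have hcomm : ∀ y ∈ F.map π, π g * (π h * y * (π h)⁻¹) * (π g)⁻¹ =
        π h * (π g * y * (π g)⁻¹) * (π h)⁻¹ := by
      intro y hy
      rw [ha _ (hmem h y hy), hb _ (hmem g y hy), hb y hy, ha y hy, ← zpow_mul, ← zpow_mul,
        mul_comm]
    rw [← QuotientGroup.eq_one_iff, ← QuotientGroup.mk'_apply, ← hπ, map_commutatorElement,
      map_commutatorElement, commutatorElement_eq_one_iff_mul_comm]
    have hy := mem_map_of_mem π hf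
    set y := π f with hyf
    have hy'm : (π g)⁻¹ * ((π h)⁻¹ * y * π h) * π g ∈ F.map π := by
      have h1 := hmem g⁻¹ _ (hmem h⁻¹ y hy)
      simp only [map_inv, inv_inv] at h1
      exact h1
    have h2 := hcomm _ hy'm
    have h3 : π g * π h * (π g)⁻¹ * (π h)⁻¹ * y * (π g * π h * (π g)⁻¹ * (π h)⁻¹)⁻¹ = y :=
      calc π g * π h * (π g)⁻¹ * (π h)⁻¹ * y * (π g * π h * (π g)⁻¹ * (π h)⁻¹)⁻¹ =
          π g * (π h * ((π g)⁻¹ * ((π h)⁻¹ * y * π h) * π g) * (π h)⁻¹) * (π g)⁻¹ := by group
        _ = π h * (π g * ((π g)⁻¹ * ((π h)⁻¹ * y * π h) * π g) * (π g)⁻¹) * (π h)⁻¹ := h2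
        _ = y := by group
    rw [commutatorElement_def]
    exact mul_inv_eq_iff_eq_mul.mp h3
  have hder : _root_.commutator G ≤ C := by
    rw [commutator_eq_closure, closure_le]
    rintro _ ⟨g, h, rfl⟩
    exact (hmemC _).mpr fun M hM hFM f hf => hcyc M hM hFM g h f hf
  have hCF : C ≤ F := by
    by_contra hCF
    have hFC : F ≤ C ⊔ F := le_sup_right
    set π := QuotientGroup.mk' F with hπ
    haveI hCb : (C.map π).Normal := hCn.map π (QuotientGroup.mk'_surjective F)
    have hne : C.map π ≠ ⊥ := fun h => hCF (by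
      intro x hx
      exact (QuotientGroup.eq_one_iff x).mp (mem_bot.mp (h ▸ mem_map_of_mem π hx :)))
    haveI : Nontrivial ↥(C.map π) := (nontrivial_iff_ne_bot _).mpr hne
    have hcp : pCore p ↥(C.map π) = ⊥ := by
      have h := Base.map_pCore_eq_inf (p := p) (C.map π)
      rw [Base.pCore_quotient_pCore, bot_inf_eq, map_eq_bot_iff_of_injective _
        (subtype_injective _)] at h
      exact h
    have hpp : pPrimeCore p ↥(C.map π) ≠ ⊥ := by
      obtain ⟨N, hN, hNne, hNp | hNp⟩ := Coprime.pSolvable_step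
        (PLocal.isPSolvable_subgroup (PLocal.isPSolvable_quotient hG F) (C.map π))
      · exact absurd (le_bot_iff.mp (hcp ▸ Base.le_pCore hNp)) hNne
      · exact fun h => hNne (le_bot_iff.mp (h ▸ Base.le_pPrimeCore hNp))
    set Db : Subgroup (G ⧸ F) := pPrimeCore p (G ⧸ F) ⊓ C.map π with hDb
    have hDbne : Db ≠ ⊥ := by
      intro h
      rw [hDb, ← Base.map_pPrimeCore_eq_inf (p := p) (C.map π),
        map_eq_bot_iff_of_injective _ (subtype_injective _)] at h
      exact hpp h
    haveI hDbn : Db.Normal := by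
      haveI : (pPrimeCore p (G ⧸ F)).Normal := pPrimeCore_normal p _
      infer_instance
    have hDcop : (Nat.card Db).Coprime p :=
      (Base.pPrimeCore_coprime p (G ⧸ F)).coprime_dvd_left (card_dvd_of_le inf_le_left)
    set D : Subgroup G := Db.comap π with hD
    have hDC : D ≤ C ⊔ F := by
      intro x hx
      have h : π x ∈ C.map π := (mem_inf.mp hx).2
      rwa [← mem_comap, hπ, QuotientGroup.comap_map_mk', sup_comm] at h
    have hFD : F ≤ D := fun x hx => by
      rw [hD, mem_comap, hπ, QuotientGroup.mk'_apply, (QuotientGroup.eq_one_iff x).mpr hx]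
      exact one_mem _
    have hDidx : F.relIndex D = Nat.card Db := by
      rw [← PLocal.card_map_mk'_eq_relIndex, hD, map_comap_eq_self_of_surjective
        (QuotientGroup.mk'_surjective F)]
    have hDhall := Coprime.hallD_compl_of_pSolvable (PLocal.isPSolvable_subgroup hG D)
    obtain ⟨R₀, hR₀, -⟩ := id hDhall
    set R : Subgroup G := R₀.map D.subtype with hR
    have hRof : Cfsg.IsPiHallOf {p}ᶜ R D := Coprime.piHallOf_map_subtype hR₀
    have hRcop : (Nat.card R).Coprime p := by
      rw [hR, card_map_of_injective D.subtype_injective]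
      exact (Coprime.piSubgroup_compl_iff hp.out).mp hR₀.1
    -- `D = F R`
    have hRD : R ≤ D := map_subtype_le _
    have hFR : F ⊔ R = D := by
      refine eq_of_le_of_card_ge (sup_le hFD hRD) (le_of_eq ?_)
      have hFD2 : Nat.card F * F.relIndex D = Nat.card D := by
        rw [← relIndex_bot_left, ← relIndex_bot_left, relIndex_mul_relIndex _ _ _ bot_le hFD]
      have hR2 : Nat.card R * R.relIndex D = Nat.card D := by
        rw [← relIndex_bot_left, ← relIndex_bot_left, relIndex_mul_relIndex _ _ _ bot_le hRD]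
      obtain ⟨n, hn⟩ := IsPGroup.iff_card.mp hFp
      have hRidx : Nat.Coprime (R.relIndex D) (F.relIndex D) := by
        refine Nat.coprime_of_dvd fun q hq hq1 hq2 => ?_
        have hqp : q ≠ p := fun h => hq.ne_one (Nat.eq_one_of_dvd_coprimes hDcop
          (hDidx ▸ hq2) (h ▸ dvd_rfl))
        refine hR₀.2 q hq hqp ?_
        rwa [hR, relIndex, subgroupOf, comap_map_eq_self_of_injective D.subtype_injective] at hq1
      have h1 : F.relIndex D ∣ Nat.card R := by
        refine hRidx.symm.dvd_of_dvd_mul_right ?_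
        rw [hR2, ← hFD2]
        exact dvd_mul_left _ _
      have h2 : Nat.card F ∣ Nat.card ↥(F ⊔ R) := card_dvd_of_le le_sup_left
      have h3 : Nat.card R ∣ Nat.card ↥(F ⊔ R) := card_dvd_of_le le_sup_right
      refine (Nat.dvd_antisymm (card_dvd_of_le (sup_le hFD hRD)) ?_).symm
      rw [← hFD2]
      refine Nat.Coprime.mul_dvd_of_dvd_of_dvd ?_ h2 (h1.trans h3)
      rw [hDidx, hn]
      exact (hDcop.symm.pow_left n)
    have hRne : R ≠ ⊥ := by
      intro h
      rw [h, sup_bot_eq] at hFR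
      apply hDbne
      rw [← card_eq_one, ← hDidx, ← hFR, relIndex_self]
    haveI hDn : D.Normal := hDbn.comap π
    -- Frattini argument
    have hfr : F ⊔ normalizer (R : Set G) = ⊤ := by
      rw [eq_top_iff]
      intro g _
      have hg : g ∈ normalizer (D : Set G) := by rw [normalizer_eq_top]; trivial
      obtain ⟨d, hd, hde⟩ := hDhall.conj_piHallOf hRof
        (Coprime.piHallOf_conj_smul (g := g) hg hRof)
      have hn : d⁻¹ * g ∈ normalizer (R : Set G) := Coprime.mem_normalizer_iff_conj_smul.mpr (by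
        rw [map_mul, mul_smul, ← hde, ← mul_smul, ← map_mul, inv_mul_cancel, map_one, one_smul])
      have hd' : d ∈ F ⊔ normalizer (R : Set G) :=
        (sup_le le_sup_left (le_normalizer.trans le_sup_right) : F ⊔ R ≤ _) (hFR.ge hd)
      have := mul_mem hd' (mem_sup_right (S := F) hn)
      rwa [mul_inv_cancel_left] at this
    have hNR : normalizer (R : Set G) ≠ ⊤ := by
      intro h
      haveI : R.Normal := normalizer_eq_top_iff.mp h
      exact hRne (le_bot_iff.mp (hO ▸ Base.le_pPrimeCore hRcop))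
    obtain ⟨M, hM, hRM⟩ := (eq_top_or_exists_le_coatom _).resolve_left hNR
    have hFM : ¬ F ≤ M := fun h => hM.1 (top_le_iff.mp (hfr ▸ sup_le h hRM))
    apply hFM
    intro f hf
    haveI := (hFp.isNilpotent)
    have hcFR : (Nat.card R).Coprime (Nat.card F) := by
      obtain ⟨n, hn⟩ := IsPGroup.iff_card.mp hFp
      rw [hn]
      exact hRcop.pow_right n
    obtain ⟨c, hc, hfc⟩ := Coprime.exists_commutator_mul_centralizer (A := R) (K := F)
      (by rw [normalizer_eq_top]; exact le_top) hcFR (Or.inr inferInstance) hf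
    have hle : ⁅F, R⁆ ≤ M := by
      rw [commutator_le]
      intro x hx r hr
      rw [← commutatorElement_inv]
      refine inv_mem ?_
      obtain ⟨r₁, hr₁, f₁, hf₁, rfl⟩ := mem_sup_of_normal_right.mp (hDC (hRD hr))
      rw [show ⁅r₁ * f₁, x⁆ = r₁ * ⁅f₁, x⁆ * r₁⁻¹ * ⁅r₁, x⁆ by
        simp only [commutatorElement_def]; group]
      haveI := (hNprop M hM hFM).1
      refine mul_mem ((inferInstance : (F ⊓ M).Normal).conj_mem _ ?_ r₁).2 (hr₁ M hM hFM x hx).2
      -- `F / (F ⊓ M)` is abelian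
      have hcyc' : IsCyclic (F ⧸ (F ⊓ M).subgroupOf F) :=
        isCyclic_of_prime_card (p := p) (hNprop M hM hFM).2
      have hcomm : QuotientGroup.mk' ((F ⊓ M).subgroupOf F) ⁅(⟨f₁, hf₁⟩ : ↥F), (⟨x, hx⟩ : ↥F)⁆ = 1 := by
        rw [map_commutatorElement, commutatorElement_eq_one_iff_mul_comm]
        exact IsMulCommutative.is_comm.comm _ _
      exact mem_subgroupOf.mp ((QuotientGroup.eq_one_iff _).mp hcomm)
    have hcM : c ∈ M := hRM (centralizer_le_normalizer (R : Set G) hc.2)
    have := mul_mem (hle hfc) hcM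
    rwa [inv_mul_cancel_right] at this
  refine ⟨⊤, inferInstance, le_top, ?_, 0, by rw [index_top, pow_zero]⟩
  -- `G / F` is abelian with trivial `p`-core
  rw [relIndex_top_right, index_eq_card]
  intro hd
  obtain ⟨x, hx⟩ := exists_prime_orderOf_dvd_card' (G := G ⧸ F) p hd
  have hcen : center (G ⧸ F) = ⊤ := by
    refine eq_top_iff.mpr fun y _ => mem_center_iff.mpr fun z => ?_
    obtain ⟨a, rfl⟩ := QuotientGroup.mk'_surjective F y
    obtain ⟨b, rfl⟩ := QuotientGroup.mk'_surjective F z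
    rw [← commutatorElement_eq_one_iff_mul_comm, ← map_commutatorElement]
    exact (QuotientGroup.eq_one_iff _).mpr
      (hCF (hder (commutator_mem_commutator (mem_top b) (mem_top a))))
  haveI : (zpowers x).Normal := ⟨fun n hn g => by
    have hc : n ∈ center (G ⧸ F) := hcen ▸ mem_top n
    rwa [mem_center_iff.mp hc g, mul_inv_cancel_right]⟩
  have hxp : IsPGroup p ↥(zpowers x) := IsPGroup.of_card (n := 1) (by
    rw [Nat.card_zpowers, hx, pow_one])
  have := Base.le_pCore hxp (mem_zpowers x)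
  rw [Base.pCore_quotient_pCore, mem_bot] at this
  rw [this, orderOf_one] at hx
  exact hp.out.ne_one hx.symm

/-- The general case: `G` has series `O_{p'} ≤ O_{p',p} ≤ K ≤ G` with `G / K` a `p`-group and
`K / O_{p',p}` a `p'`-group. -/
theorem series (hG : IsPSolvable p G) (hmax : MaxCond p G) :
    ∃ A B C : Subgroup G, A.Normal ∧ B.Normal ∧ C.Normal ∧ A ≤ B ∧ B ≤ C ∧ ¬ p ∣ Nat.card A ∧
      (∃ k : ℕ, A.relIndex B = p ^ k) ∧ ¬ p ∣ B.relIndex C ∧ ∃ k : ℕ, C.index = p ^ k := by
  set A := pPrimeCore p G with hA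
  haveI : A.Normal := pPrimeCore_normal p G
  set π := QuotientGroup.mk' A with hπ
  have hsurj : Function.Surjective π := QuotientGroup.mk'_surjective A
  obtain ⟨K, hK, hFK, hKp, k, hk⟩ := of_pPrimeCore_eq_bot (PLocal.isPSolvable_quotient hG A)
    (Base.pPrimeCore_quotient_pPrimeCore p G) (maxCond_quotient hmax A)
  refine ⟨A, (pCore p (G ⧸ A)).comap π, K.comap π, inferInstance,
    (pCore_normal p _).comap π, hK.comap π, PLocal.le_comap_mk' A _, comap_mono hFK,
    Base.not_dvd_card_pPrimeCore p G, ?_, ?_, k, ?_⟩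
  · obtain ⟨n, hn⟩ := IsPGroup.iff_card.mp (Base.isPGroup_pCore p (G ⧸ A))
    refine ⟨n, ?_⟩
    rw [← PLocal.card_map_mk'_eq_relIndex, map_comap_eq_self_of_surjective hsurj, hn]
  · rwa [relIndex_comap, map_comap_eq_self_of_surjective hsurj]
  · rw [index_comap_of_surjective K hsurj, hk]

end CfsgLib.FgsC.NilpotentOrPrimeIndex
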