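import Cfsg.Prelude.Def_Transfer
import Mathlib

/-!
Faithful irreducible `F₂`-modules for `3² ⋊ D₈`.
-/

set_option autoImplicit false

namespace CfsgLib.FgsC.NineDih

variable {S : Type*} [Group S] [Finite S] {M : Type*} [AddCommGroup M] [Module (ZMod 2) M]
  (ρ : Representation (ZMod 2) S M)

theorem char_two_add (m : M) : m + m = 0 := by
  have h : (2 : ZMod 2) • m = 0 := by rw [show (2 : ZMod 2) = 0 from rfl, zero_smul]
  rwa [two_smul] at h

theorem rho_mul (g h : S) (m : M) : ρ g (ρ h m) = ρ (g * h) m := by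
  rw [map_mul]; rfl

theorem rho_one (m : M) : ρ 1 m = m := by
  rw [map_one]; rfl

theorem rho_inv_cancel (g : S) (m : M) : ρ g (ρ g⁻¹ m) = m := by
  rw [rho_mul, mul_inv_cancel, rho_one]

theorem rho_inj (g : S) {m m' : M} (h : ρ g m = ρ g m') : m = m' := by
  have := congrArg (ρ g⁻¹) h
  rwa [rho_mul, rho_mul, inv_mul_cancel, rho_one, rho_one] at this

/-- Invariance under generators. -/
theorem invariant_of_gen [Finite M] {T : Set S} (hT : Subgroup.closure T = ⊤)
    (N : Submodule (ZMod 2) M) (h : ∀ g ∈ T, ∀ m ∈ N, ρ g m ∈ N) (g : S) :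
    ∀ m ∈ N, ρ g m ∈ N := by
  have hg : g ∈ Subgroup.closure T := hT ▸ Subgroup.mem_top g
  induction hg using Subgroup.closure_induction with
  | mem x hx => exact h x hx
  | one => intro m hm; rwa [rho_one]
  | mul x y _ _ hx hy => intro m hm; rw [← rho_mul]; exact hx _ (hy _ hm)
  | inv x _ hx =>
    intro m hm
    let f : N → N := fun v => ⟨ρ x v, hx _ v.2⟩
    have hf : Function.Injective f := fun u v e => Subtype.ext (rho_inj ρ x (congrArg Subtype.val e))
    obtain ⟨⟨u, hu⟩, e⟩ := Finite.surjective_of_injective hf ⟨m, hm⟩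
    have e' : ρ x u = m := congrArg Subtype.val e
    rwa [← e', rho_mul, inv_mul_cancel, rho_one]

/-- The fixed space of an element. -/
def fix (g : S) : Submodule (ZMod 2) M := LinearMap.ker (ρ g - 1)

theorem mem_fix {g : S} {m : M} : m ∈ fix ρ g ↔ ρ g m = m := by
  rw [fix, LinearMap.mem_ker, LinearMap.sub_apply, sub_eq_zero]
  rfl

theorem add_add_eq_zero {k : S} (hk : k ^ 3 = 1) (hfix : ∀ m, ρ k m = m → m = 0) (m : M) :
    m + ρ k m + ρ k (ρ k m) = 0 := by
  refine hfix _ ?_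
  rw [map_add, map_add, rho_mul ρ k k, rho_mul ρ k (k * k),
    show k * (k * k) = 1 by rw [← hk, pow_succ', pow_two], rho_one]
  abel

/-- The configuration attached to a reflection. -/
structure Conf (A : Subgroup S) (s r k : S) : Prop where
  kA : k ∈ A
  k1 : k ≠ 1
  sk : s * k * s⁻¹ = k
  s2 : s * s = 1
  r4 : r * r * (r * r) = 1
  rs : r * s * r⁻¹ = s * (r * r)
  zA : ∀ a ∈ A, (r * r) * a * (r * r)⁻¹ = a⁻¹

namespace Conf

variable {ρ} {A : Subgroup S} [A.Normal] {s r k : S} (h : Conf A s r k)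
  (hA3 : ∀ a ∈ A, a ^ 3 = 1) (hA9 : Nat.card A = 9) (hAc : ∀ a ∈ A, ∀ b ∈ A, a * b = b * a)

include h

theorem commute_s_z : s * (r * r) = (r * r) * s := by
  have h2 : r * (r * s * r⁻¹) * r⁻¹ = s := by
    rw [h.rs]
    calc r * (s * (r * r)) * r⁻¹ = r * s * r⁻¹ * (r * r) := by group
      _ = s := by rw [h.rs, mul_assoc, h.r4, mul_one]
  calc s * (r * r) = r * (r * s * r⁻¹) * r⁻¹ * (r * r) := by rw [h2]
    _ = _ := by group

theorem k2A : r * k * r⁻¹ ∈ A := (inferInstance : A.Normal).conj_mem k h.kA r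

theorem r_k2 : r * (r * k * r⁻¹) * r⁻¹ = k⁻¹ := by
  rw [← h.zA k h.kA]; group

theorem s_k2 : s * (r * k * r⁻¹) * s⁻¹ = (r * k * r⁻¹)⁻¹ := by
  have h1 : (s * (r * r)) * (r * k * r⁻¹) * (s * (r * r))⁻¹ = r * k * r⁻¹ := by
    rw [← h.rs]
    calc r * s * r⁻¹ * (r * k * r⁻¹) * (r * s * r⁻¹)⁻¹ = r * (s * k * s⁻¹) * r⁻¹ := by group
      _ = _ := by rw [h.sk]
  have h2 : s * ((r * k * r⁻¹)⁻¹) * s⁻¹ = r * k * r⁻¹ := by
    calc s * ((r * k * r⁻¹)⁻¹) * s⁻¹ = s * ((r * r) * (r * k * r⁻¹) * (r * r)⁻¹) * s⁻¹ := by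
          rw [h.zA _ h.k2A]
      _ = (s * (r * r)) * (r * k * r⁻¹) * (s * (r * r))⁻¹ := by group
      _ = _ := h1
  calc s * (r * k * r⁻¹) * s⁻¹ = (s * ((r * k * r⁻¹)⁻¹) * s⁻¹)⁻¹ := by group
    _ = _ := by rw [h2]

include hA3 hA9

theorem closure_pair : Subgroup.closure {k, r * k * r⁻¹} = A := by
  have hle : Subgroup.closure {k, r * k * r⁻¹} ≤ A := by
    rw [Subgroup.closure_le]
    rintro v (rfl | rfl)
    exacts [h.kA, h.k2A]
  refine Subgroup.eq_of_le_of_card_ge hle ?_
  have hk : orderOf k = 3 := orderOf_eq_prime (hA3 k h.kA) h.k1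
  have hlt : Subgroup.zpowers k < Subgroup.closure {k, r * k * r⁻¹} := by
    refine lt_of_le_of_ne (Subgroup.zpowers_le.2 (Subgroup.subset_closure (by simp))) fun e => ?_
    obtain ⟨n, hn⟩ := Subgroup.mem_zpowers_iff.1
      (e ▸ Subgroup.subset_closure (by simp) : r * k * r⁻¹ ∈ Subgroup.zpowers k)
    have h1 := h.s_k2
    rw [← hn, ← conj_zpow, h.sk, hn] at h1
    have h2 : (r * k * r⁻¹) ^ 2 = 1 := by
      rw [sq]
      nth_rewrite 1 [h1]
      exact inv_mul_cancel _
    have h3 := hA3 _ h.k2A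
    rw [pow_succ, h2, one_mul] at h3
    exact h.k1 (conj_eq_one_iff.1 h3)
  have h1 : 3 < Nat.card (Subgroup.closure {k, r * k * r⁻¹}) := by
    rw [← hk, ← Nat.card_zpowers]
    exact lt_of_not_ge fun hge => hlt.ne (Subgroup.eq_of_le_of_card_ge hlt.le hge)
  have h2 := Subgroup.card_dvd_of_le hle
  rw [hA9] at h2 ⊢
  obtain ⟨i, hi, he⟩ := (Nat.dvd_prime_pow Nat.prime_three (m := 2)).1 h2
  rw [he] at h1 ⊢
  interval_cases i <;> simp_all

variable (hgen : Subgroup.closure (A ∪ {r, s} : Set S) = ⊤) [Finite M]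
  (hfaith : ∀ g ∈ A, (∀ m, ρ g m = m) → g = 1)
  (hirr : ∀ N : Submodule (ZMod 2) M, (∀ g : S, ∀ m ∈ N, ρ g m ∈ N) → N = ⊥ ∨ N = ⊤)
  (hM : Nontrivial M)

include hAc hgen hfaith hirr hM

theorem no_A_fixed (m : M) (hm : ∀ a ∈ A, ρ a m = m) : m = 0 := by
  let N : Submodule (ZMod 2) M :=
    { carrier := {v | ∀ a ∈ A, ρ a v = v}
      zero_mem' := fun a _ => map_zero _
      add_mem' := fun hu hv a ha => by rw [map_add, hu a ha, hv a ha]
      smul_mem' := fun c v hv a ha => by rw [map_smul, hv a ha] }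
  rcases hirr N (fun g v hv a ha => by
    have e := hv (g⁻¹ * a * g) (by simpa using (inferInstance : A.Normal).conj_mem a ha g⁻¹)
    rw [rho_mul, show a * g = g * (g⁻¹ * a * g) by group, ← rho_mul, e]) with hN | hN
  · have : m ∈ N := hm
    rwa [hN, Submodule.mem_bot] at this
  · exfalso
    exact h.k1 (hfaith k h.kA fun v => (hN ▸ Submodule.mem_top : v ∈ N) k h.kA)

theorem main_conf (hne : ∃ m, m ≠ 0 ∧ ρ k m = m) :
    Nat.card M = 16 ∧
      Nat.card {m : M // ρ (r * r) m = m ∧ ρ s m = m} = 4 ∧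
      Nat.card {m : M // ρ (r * r) m = m ∧ ρ (r * s) m = m} = 2 := by
  classical
  set k2 := r * k * r⁻¹ with hk2
  set z := r * r with hz
  have hzA := h.zA
  rw [← hz] at hzA
  have hcp := h.closure_pair hA3 hA9
  have hT : Subgroup.closure ({k, k2, r, s} : Set S) = ⊤ := by
    rw [eq_top_iff, ← hgen, Subgroup.closure_le]
    rintro v (hv | hv)
    · rw [SetLike.mem_coe, ← hcp] at hv
      refine Subgroup.closure_mono ?_ hv
      rintro w (rfl | rfl)
      exacts [Or.inl rfl, Or.inr (Or.inl rfl)]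
    · exact Subgroup.subset_closure (by rcases hv with rfl | rfl <;> simp)
  have both : ∀ m, ρ k m = m → ρ k2 m = m → m = 0 := by
    intro m h1 h2
    refine h.no_A_fixed hA3 hA9 hAc hgen hfaith hirr hM m fun a ha => ?_
    rw [← hcp] at ha
    induction ha using Subgroup.closure_induction with
    | mem x hx => rcases hx with rfl | rfl <;> assumption
    | one => exact rho_one ρ m
    | mul x y _ _ hx hy => rw [← rho_mul, hy, hx]
    | inv x _ hx => conv_lhs => rw [← hx, rho_mul, inv_mul_cancel, rho_one]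
  set M1 := fix ρ k
  set M2 := fix ρ k2
  have rM1 : ∀ m ∈ M1, ρ r m ∈ M2 := by
    intro m hm
    rw [mem_fix] at hm ⊢
    rw [rho_mul, show k2 * r = r * k by rw [hk2]; group, ← rho_mul, hm]
  have rM2 : ∀ m ∈ M2, ρ r m ∈ M1 := by
    intro m hm
    rw [mem_fix] at hm ⊢
    have e : k * r = r * k2⁻¹ := by
      have := h.r_k2
      rw [← hk2] at this
      rw [← inv_inv k, ← this]
      group
    have hm' : ρ k2⁻¹ m = m := by
      conv_lhs => rw [← hm, rho_mul, inv_mul_cancel, rho_one]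
    rw [rho_mul, e, ← rho_mul, hm']
  have sM1 : ∀ m ∈ M1, ρ s m ∈ M1 := by
    intro m hm
    rw [mem_fix] at hm ⊢
    rw [rho_mul, show k * s = s * k by
      conv_lhs => rw [← h.sk]
      group, ← rho_mul, hm]
  have kM1 : ∀ m ∈ M1, ρ k2 m ∈ M1 := by
    intro m hm
    rw [mem_fix] at hm ⊢
    rw [rho_mul, hAc k h.kA k2 h.k2A, ← rho_mul, hm]
  have zM1 : ∀ m ∈ M1, ρ z m ∈ M1 := fun m hm => by
    rw [hz, ← rho_mul]
    exact rM2 _ (rM1 _ hm)
  -- irreducibility of `M1` under `k2`, `s`, `z`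
  have irr1 : ∀ W : Submodule (ZMod 2) M, W ≤ M1 → W ≠ ⊥ → (∀ m ∈ W, ρ k2 m ∈ W) →
      (∀ m ∈ W, ρ s m ∈ W) → (∀ m ∈ W, ρ z m ∈ W) → W = M1 ∧ M1 ⊔ M1.map (ρ r) = ⊤ := by
    intro W hW hW0 hk2W hsW hzW
    set N := W ⊔ W.map (ρ r) with hN
    have hinv : ∀ g ∈ ({k, k2, r, s} : Set S), ∀ m ∈ N, ρ g m ∈ N := by
      intro g hg m hm
      obtain ⟨u, hu, w, hw, rfl⟩ := Submodule.mem_sup.1 hm
      obtain ⟨v, hv, rfl⟩ := Submodule.mem_map.1 hw
      rw [map_add]
      have imr : ∀ t ∈ W, ρ r t ∈ N := fun t ht => Submodule.mem_sup_right (Submodule.mem_map_of_mem ht)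
      have inl : ∀ t ∈ W, t ∈ N := fun t ht => Submodule.mem_sup_left ht
      refine add_mem ?_ ?_
      · rcases hg with rfl | rfl | rfl | rfl
        · rw [(mem_fix ρ).1 (hW hu)]; exact inl _ hu
        · exact inl _ (hk2W _ hu)
        · exact imr _ hu
        · exact inl _ (hsW _ hu)
      · rw [rho_mul]
        rcases hg with rfl | rfl | rfl | rfl
        · -- `k r = r k2⁻¹`
          have e : g * r = r * (k2 * k2) := by
            have h3 := hA3 _ h.k2A
            rw [← hk2, pow_succ', pow_two] at h3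
            have : k2 * k2 = k2⁻¹ := eq_inv_of_mul_eq_one_right h3
            rw [this]
            have h4 := h.r_k2
            rw [← hk2] at h4
            rw [← inv_inv g, ← h4]
            group
          rw [e, ← rho_mul, ← rho_mul]
          exact imr _ (hk2W _ (hk2W _ hv))
        · rw [show r * k * r⁻¹ * r = r * k by group, ← rho_mul, (mem_fix ρ).1 (hW hv)]
          exact imr _ hv
        · exact inl _ (hzW _ hv)
        · have e : g * r = r * (g * z) := by
            calc g * r = g * (r * r * (r * r)) * r := by rw [h.r4, mul_one]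
              _ = g * (r * r) * (r * r) * r := by group
              _ = (r * g * r⁻¹) * (r * r) * r := by rw [h.rs]
              _ = r * (g * z) := by rw [hz]; group
          rw [e, ← rho_mul, ← rho_mul]
          exact imr _ (hsW _ (hzW _ hv))
    rcases hirr N (invariant_of_gen ρ hT N hinv) with h0 | h0
    · exact absurd (eq_bot_iff.2 (le_sup_left.trans h0.le)) hW0
    refine ⟨le_antisymm hW fun m hm => ?_, ?_⟩
    · obtain ⟨u, hu, w, hw, rfl⟩ := Submodule.mem_sup.1 (show m ∈ N from h0 ▸ Submodule.mem_top)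
      obtain ⟨v, hv, rfl⟩ := Submodule.mem_map.1 hw
      have h1 : ρ r v ∈ M1 := by
        have := sub_mem hm (hW hu)
        rwa [add_sub_cancel_left] at this
      rw [both _ ((mem_fix ρ).1 h1) ((mem_fix ρ).1 (rM1 _ (hW hv))), add_zero]
      exact hu
    · rw [eq_top_iff, ← h0]
      exact sup_le_sup hW (Submodule.map_mono hW)
  obtain ⟨m0, hm0, hkm0⟩ := hne
  have hM1ne : M1 ≠ ⊥ := fun e => hm0 (by
    have : m0 ∈ M1 := (mem_fix ρ).2 hkm0
    rwa [e, Submodule.mem_bot] at this)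
  -- `u = s z` is trivial on `M1`
  set u := s * z with hu
  have hu2 : u * u = 1 := by
    rw [hu, mul_assoc, ← mul_assoc z s z, ← h.commute_s_z, mul_assoc s z z, ← mul_assoc, h.s2, one_mul, hz,
      h.r4]
  have hzs : s * z = z * s := h.commute_s_z
  have huz : u * z = z * u := by rw [hu, ← mul_assoc z s z, ← hzs]
  have hus : u * s = s * u := by rw [hu, mul_assoc s z s, ← hzs]
  have huk : u * k2 = k2 * u := by
    rw [hu, ← h.rs, hk2]
    calc r * s * r⁻¹ * (r * k * r⁻¹) = r * (s * k * s⁻¹) * r⁻¹ * (r * s * r⁻¹) := by group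
      _ = _ := by rw [h.sk]
  have uM1 : ∀ m ∈ M1, ρ u m ∈ M1 := fun m hm => by
    rw [hu, ← rho_mul]; exact sM1 _ (zM1 _ hm)
  have htriv : ∀ m ∈ M1, ρ u m = m := by
    have hW : (M1 ⊓ fix ρ u) = M1 ∧ _ := irr1 (M1 ⊓ fix ρ u) inf_le_left (by
      intro e
      obtain ⟨a, ha, ha0⟩ := (Submodule.ne_bot_iff _).1 hM1ne
      by_cases he : a + ρ u a = 0
      · have : a ∈ M1 ⊓ fix ρ u := ⟨ha, (mem_fix ρ).2 (by
          rw [eq_neg_of_add_eq_zero_right he, neg_eq_iff_add_eq_zero]; exact char_two_add a)⟩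
        rw [e, Submodule.mem_bot] at this
        exact ha0 this
      · have : a + ρ u a ∈ M1 ⊓ fix ρ u := ⟨add_mem ha (uM1 _ ha), (mem_fix ρ).2 (by
          rw [map_add, rho_mul ρ u u, hu2, rho_one, add_comm])⟩
        rw [e, Submodule.mem_bot] at this
        exact he this)
      (fun m hm => ⟨kM1 _ hm.1, (mem_fix ρ).2 (by
        rw [rho_mul, huk, ← rho_mul, (mem_fix ρ).1 hm.2])⟩)
      (fun m hm => ⟨sM1 _ hm.1, (mem_fix ρ).2 (by
        rw [rho_mul, hus, ← rho_mul, (mem_fix ρ).1 hm.2])⟩)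
      (fun m hm => ⟨zM1 _ hm.1, (mem_fix ρ).2 (by
        rw [rho_mul, huz, ← rho_mul, (mem_fix ρ).1 hm.2])⟩)
    intro m hm
    exact (mem_fix ρ).1 ((hW.1.symm ▸ hm : m ∈ M1 ⊓ fix ρ u)).2
  have hsz : ∀ m ∈ M1, ρ s m = ρ z m := by
    intro m hm
    have e : s = u * z := by rw [hu, mul_assoc, hz, h.r4, mul_one]
    rw [e, ← rho_mul, htriv _ (zM1 _ hm)]
  -- a vector of `M1` fixed by `z`
  have hz2 : ∀ m, ρ z (ρ z m) = m := fun m => by rw [rho_mul, hz, h.r4, rho_one]
  obtain ⟨v, hv, hv0, hzv⟩ : ∃ v ∈ M1, v ≠ 0 ∧ ρ z v = v := by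
    obtain ⟨a, ha, ha0⟩ := (Submodule.ne_bot_iff _).1 hM1ne
    by_cases he : a + ρ z a = 0
    · exact ⟨a, ha, ha0, by
        rw [eq_neg_of_add_eq_zero_right he, neg_eq_iff_add_eq_zero]; exact char_two_add a⟩
    · exact ⟨_, add_mem ha (zM1 _ ha), he, by rw [map_add, hz2, add_comm]⟩
  set w := ρ k2 v with hw
  have hw1 : w ∈ M1 := kM1 _ hv
  have hsum : ρ k2 w = v + w := by
    have h0 : ∀ m ∈ M1, ρ k2 m = m → m = 0 := fun m hm e => both m ((mem_fix ρ).1 hm) e
    have hmem : v + w + ρ k2 w ∈ M1 := add_mem (add_mem hv hw1) (kM1 _ hw1)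
    have h3 : v + w + ρ k2 w = 0 := by
      refine h0 _ hmem ?_
      have hk23 : k2 * (k2 * k2) = 1 := by
        have := hA3 _ h.k2A
        rwa [pow_succ', pow_two] at this
      rw [hw, map_add, map_add, rho_mul ρ k2 k2 v, rho_mul ρ k2 (k2 * k2) v, hk23, rho_one]
      abel
    rw [← add_right_inj (v + w), h3, char_two_add]
  have hzw : ρ z w = v + w := by
    have e : z * k2 = k2⁻¹ * z := by
      rw [← hzA k2 h.k2A, inv_mul_cancel_right]
    have e2 : k2⁻¹ = k2 * k2 := by
      have h3 := hA3 _ h.k2A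
      rw [← hk2, pow_succ', pow_two] at h3
      exact (eq_inv_of_mul_eq_one_right h3).symm
    rw [hw, rho_mul, e, ← rho_mul, hzv, e2, ← rho_mul, ← hw, hsum]
  let W : Submodule (ZMod 2) M := Submodule.span (ZMod 2) {v, w}
  have hWle : W ≤ M1 := Submodule.span_le.2 (by rintro x (rfl | rfl) <;> assumption)
  have hWinv : ∀ g : S, (ρ g v ∈ W) → (ρ g w ∈ W) → ∀ m ∈ W, ρ g m ∈ W := by
    intro g h1 h2 m hm
    have : W.map (ρ g) ≤ W := by
      rw [Submodule.map_span, Submodule.span_le]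
      rintro x ⟨y, (rfl | rfl), rfl⟩ <;> assumption
    exact this (Submodule.mem_map_of_mem hm)
  have hvW : v ∈ W := Submodule.subset_span (by simp)
  have hwW : w ∈ W := Submodule.subset_span (by simp)
  obtain ⟨hWM1, htop⟩ := irr1 W hWle
    (fun e => hv0 (by rwa [e, Submodule.mem_bot] at hvW))
    (hWinv k2 hwW (by rw [hsum]; exact add_mem hvW hwW))
    (hWinv s (by rw [hsz v hv, hzv]; exact hvW) (by rw [hsz w hw1, hzw]; exact add_mem hvW hwW))
    (hWinv z (by rw [hzv]; exact hvW) (by rw [hzw]; exact add_mem hvW hwW))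
  have hw0 : w ≠ 0 := fun e => hv0 (rho_inj ρ k2 (by rw [← hw, e, map_zero]))
  have hwv : w ≠ v := fun e => hv0 (both v ((mem_fix ρ).1 hv) (hw.symm.trans e))
  have hvw0 : v + w ≠ 0 := fun e => hwv (by
    rw [← add_right_inj v, e, char_two_add])
  have hM1set : (M1 : Set M) = {0, v, w, v + w} := by
    ext m
    constructor
    · intro hm
      rw [SetLike.mem_coe, ← hWM1] at hm
      obtain ⟨a, b, rfl⟩ := Submodule.mem_span_pair.1 hm
      have hz01 : ∀ a : ZMod 2, a = 0 ∨ a = 1 := by decide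
      rcases hz01 a with rfl | rfl <;> rcases hz01 b with rfl | rfl <;> simp
    · rintro (rfl | rfl | rfl | rfl)
      exacts [zero_mem _, hv, hw1, add_mem hv hw1]
  have hM1card : Nat.card M1 = 4 := by
    show Nat.card (M1 : Set M) = 4
    rw [hM1set, Nat.card_coe_set_eq, Set.ncard_insert_of_notMem, Set.ncard_insert_of_notMem,
      Set.ncard_pair]
    · intro e; exact hv0 (add_eq_right.1 e.symm)
    · rintro (e | e)
      · exact hwv e.symm
      · exact hw0 (left_eq_add.1 e)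
    · rintro (e | e | e)
      exacts [hv0 e.symm, hw0 e.symm, hvw0 e.symm]
  -- `M = M1 ⊕ r M1`
  let Φ : M1 × M1 → M := fun p => (p.1 : M) + ρ r p.2
  have hΦ : Function.Bijective Φ := by
    constructor
    · rintro ⟨a, b⟩ ⟨a', b'⟩ e
      change (a : M) + ρ r b = a' + ρ r b' at e
      have e' : (a : M) - a' = ρ r ((b' : M) - b) := by
        rw [map_sub, sub_eq_sub_iff_add_eq_add, e]
        exact add_comm _ _
      have h1 := both _ ((mem_fix ρ).1 (sub_mem a.2 a'.2))
        ((mem_fix ρ).1 (e' ▸ rM1 _ (sub_mem b'.2 b.2)))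
      rw [h1] at e'
      refine Prod.ext (Subtype.ext (sub_eq_zero.1 h1)) (Subtype.ext ?_)
      exact (sub_eq_zero.1 (rho_inj ρ r (by rw [← e', map_zero]))).symm
    · intro m
      obtain ⟨a, ha, b', hb', rfl⟩ := Submodule.mem_sup.1
        (show m ∈ M1 ⊔ M1.map (ρ r) from htop ▸ Submodule.mem_top)
      obtain ⟨b, hb, rfl⟩ := Submodule.mem_map.1 hb'
      exact ⟨(⟨a, ha⟩, ⟨b, hb⟩), rfl⟩
  refine ⟨by rw [← Nat.card_congr (Equiv.ofBijective Φ hΦ), Nat.card_prod, hM1card], ?_, ?_⟩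
  all_goals
    have hfixz : ∀ m ∈ M1, ρ z m = m → m = 0 ∨ m = v := by
      intro m hm e
      have hm' : m ∈ ({0, v, w, v + w} : Set M) := hM1set ▸ hm
      rcases hm' with rfl | rfl | rfl | rfl
      · exact Or.inl rfl
      · exact Or.inr rfl
      · rw [hzw, add_eq_right] at e; exact absurd e hv0
      · rw [map_add, hzv, hzw, ← add_assoc, char_two_add, zero_add] at e
        exact absurd (left_eq_add.1 (e.trans (add_comm v w))) hv0
    have hzr : ∀ a, ρ z (ρ r a) = ρ r (ρ z a) := fun a => by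
      rw [rho_mul, rho_mul, hz, mul_assoc]
    have split_ : ∀ a ∈ M1, ∀ b ∈ M1, ∀ a' ∈ M1, ∀ b' ∈ M1, a + ρ r b = a' + ρ r b' → a = a' ∧ b = b' := by
      intro a ha b hb a' ha' b' hb' e
      have := hΦ.1 (a₁ := (⟨a, ha⟩, ⟨b, hb⟩)) (a₂ := (⟨a', ha'⟩, ⟨b', hb'⟩)) e
      exact ⟨congrArg Subtype.val (congrArg Prod.fst this), congrArg Subtype.val (congrArg Prod.snd this)⟩
    have hdec : ∀ m, ρ z m = m → ∃ a b, (a = 0 ∨ a = v) ∧ (b = 0 ∨ b = v) ∧ m = a + ρ r b := by
      intro m e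
      obtain ⟨⟨⟨a, ha⟩, ⟨b, hb⟩⟩, rfl⟩ := hΦ.2 m
      change ρ z (a + ρ r b) = a + ρ r b at e
      rw [map_add, hzr] at e
      obtain ⟨e1, e2⟩ := split_ _ (zM1 _ ha) _ (zM1 _ hb) _ ha _ hb e
      exact ⟨a, b, hfixz _ ha e1, hfixz _ hb e2, rfl⟩
    have hs_r : ∀ a, ρ s (ρ r a) = ρ r (ρ s (ρ z a)) := fun a => by
      rw [rho_mul, rho_mul, rho_mul]
      congr 2
      calc s * r = s * (r * r * (r * r)) * r := by rw [h.r4, mul_one]
        _ = s * (r * r) * (r * r) * r := by group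
        _ = (r * s * r⁻¹) * (r * r) * r := by rw [h.rs]
        _ = r * (s * z) := by rw [hz]; group
        _ = r * s * z := (mul_assoc _ _ _).symm
    have hsv : ρ s v = v := by rw [hsz v hv, hzv]
  · -- fixed points of `⟨z, s⟩`
    have hset : {m : M | ρ z m = m ∧ ρ s m = m} = {0, v, ρ r v, v + ρ r v} := by
      ext m
      constructor
      · rintro ⟨e, -⟩
        obtain ⟨a, b, rfl | rfl, rfl | rfl, rfl⟩ := hdec m e <;> simp
      · rintro (rfl | rfl | rfl | rfl)
        · exact ⟨map_zero _, map_zero _⟩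
        · exact ⟨hzv, hsv⟩
        · exact ⟨by rw [hzr, hzv], by rw [hs_r, hzv, hsv]⟩
        · exact ⟨by rw [map_add, hzr, hzv], by rw [map_add, hs_r, hzv, hsv]⟩
    have h0 : ρ r v ≠ 0 := fun e => hv0 (rho_inj ρ r (by rw [e, map_zero]))
    have h1 : v ≠ ρ r v := fun e => hv0 (both v ((mem_fix ρ).1 hv) (e ▸ (mem_fix ρ).1 (rM1 _ hv)))
    show Nat.card ({m : M | ρ z m = m ∧ ρ s m = m} : Set M) = 4
    rw [hset, Nat.card_coe_set_eq, Set.ncard_insert_of_notMem, Set.ncard_insert_of_notMem, Set.ncard_pair]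
    · intro e; exact hv0 (right_eq_add.1 e)
    · rintro (e | e)
      · exact h1 e
      · exact h0 (left_eq_add.1 e)
    · rintro (e | e | e)
      · exact hv0 e.symm
      · exact h0 e.symm
      · exact h1 (by rw [← add_right_inj (ρ r v), char_two_add, add_comm]; exact e.symm)
  · -- fixed points of `⟨z, r s⟩`
    have hset : {m : M | ρ z m = m ∧ ρ (r * s) m = m} = {0, v + ρ r v} := by
      ext m
      constructor
      · rintro ⟨e, e'⟩
        obtain ⟨a, b, ha, hb, rfl⟩ := hdec m e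
        have ha1 : a ∈ M1 := by rcases ha with rfl | rfl; exacts [zero_mem _, hv]
        have hb1 : b ∈ M1 := by rcases hb with rfl | rfl; exacts [zero_mem _, hv]
        have hsa : ρ s a = a := by rcases ha with rfl | rfl; exacts [map_zero _, hsv]
        have hzsb : ρ z (ρ s (ρ z b)) = b := by
          rcases hb with rfl | rfl
          · simp
          · rw [hzv, hsv, hzv]
        rw [← rho_mul, map_add, hs_r, map_add, hsa, rho_mul ρ r r, ← hz, hzsb,
          add_comm (ρ r a)] at e'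
        obtain ⟨e1, -⟩ := split_ _ hb1 _ ha1 _ ha1 _ hb1 e'
        subst e1
        rcases ha with rfl | rfl <;> simp
      · rintro (rfl | rfl)
        · exact ⟨map_zero _, map_zero _⟩
        · refine ⟨by rw [map_add, hzr, hzv], ?_⟩
          rw [← rho_mul, map_add, hs_r, map_add, hzv, hsv, rho_mul ρ r r, ← hz, hzv, add_comm]
    have h1 : v + ρ r v ≠ 0 := fun e => by
      have e' : ρ r v = v := by rw [← add_right_inj v, e, char_two_add]
      exact hv0 (both v ((mem_fix ρ).1 hv) (e' ▸ (mem_fix ρ).1 (rM1 _ hv)))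
    show Nat.card ({m : M | ρ z m = m ∧ ρ (r * s) m = m} : Set M) = 2
    rw [hset, Nat.card_coe_set_eq, Set.ncard_pair h1.symm]

end Conf

theorem main [Finite M] (A : Subgroup S) [A.Normal] (hA : Cfsg.IsElementaryAbelian 3 A)
    (hA9 : Nat.card ↥A = 9)
    (hAC : Subgroup.centralizer (A : Set S) = A) (X : Subgroup S) (hX : Nonempty (↥X ≃* DihedralGroup 4))
    (hAX : A ⊔ X = ⊤) (hfaith : Function.Injective ρ)
    (hirr : ∀ N : Submodule (ZMod 2) M, (∀ s : S, ∀ m ∈ N, ρ s m ∈ N) → N = ⊥ ∨ N = ⊤) (hM : Nontrivial M) :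
    Nat.card M = 16 ∧
      ∃! B : Subgroup S, B ≤ X ∧ Nat.card ↥B = 4 ∧ (∀ b ∈ B, b ^ 2 = 1) ∧
        Nat.card {m : M // ∀ b ∈ B, ρ b m = m} = 2 := by
  obtain ⟨e⟩ := hX
  have hA3 : ∀ a ∈ A, a ^ 3 = 1 := hA.2
  have hAc : ∀ a ∈ A, ∀ b ∈ A, a * b = b * a := fun a ha b hb =>
    congrArg Subtype.val (hA.1.is_comm.comm ⟨a, ha⟩ ⟨b, hb⟩)
  let f : DihedralGroup 4 →* S := X.subtype.comp e.symm.toMonoidHom
  have hf : Function.Injective f := X.subtype_injective.comp e.symm.injective
  have hfX : ∀ d, f d ∈ X := fun d => (e.symm d).2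
  have hd8 : ∀ d : DihedralGroup 4, f d ^ 8 = 1 := fun d => by
    rw [← map_pow, show d ^ 8 = 1 by revert d; decide, map_one]
  have hnA : ∀ d, d ≠ 1 → f d ∉ A := by
    intro d hd hmem
    refine hd (hf ?_)
    rw [map_one]
    have h3 := hA3 _ hmem
    have h8 := hd8 d
    calc f d = (f d ^ 3) ^ 3 * (f d ^ 8)⁻¹ := by group
      _ = 1 := by rw [h3, h8]; simp
  have inv2 : ∀ t : S, t * t = 1 → (∀ a ∈ A, t * a * t⁻¹ = a → a = 1) → ∀ a ∈ A, t * a * t⁻¹ = a⁻¹ := by
    intro t ht hfp a ha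
    have hta : t * a * t⁻¹ ∈ A := (inferInstance : A.Normal).conj_mem a ha t
    have hti : t⁻¹ = t := inv_eq_of_mul_eq_one_right ht
    have h1 := hfp (a * (t * a * t⁻¹)) (mul_mem ha hta) (by
      calc t * (a * (t * a * t⁻¹)) * t⁻¹ = (t * a * t⁻¹) * ((t * t) * a * (t * t)⁻¹) := by group
        _ = (t * a * t⁻¹) * a := by rw [ht]; group
        _ = _ := (hAc a ha _ hta).symm)
    exact eq_inv_of_mul_eq_one_right h1
  set r := f (DihedralGroup.r 1) with hr
  have hzf : r * r = f (DihedralGroup.r 2) := by rw [hr, ← map_mul]; rfl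
  have hzz : r * r * (r * r) = 1 := by
    rw [hzf, ← map_mul, show DihedralGroup.r (2 : ZMod 4) * DihedralGroup.r 2 = 1 from rfl, map_one]
  have hzA : ∀ a ∈ A, (r * r) * a * (r * r)⁻¹ = a⁻¹ := by
    refine inv2 _ hzz fun a ha hza => ?_
    by_contra ha1
    -- `r` maps `a` into `⟨a⟩` or to a second fixed point of `r²`
    have hra : r * a * r⁻¹ ∈ A := (inferInstance : A.Normal).conj_mem a ha r
    have hfix : r * r * (r * a * r⁻¹) * (r * r)⁻¹ = r * a * r⁻¹ := by
      calc r * r * (r * a * r⁻¹) * (r * r)⁻¹ = r * ((r * r) * a * (r * r)⁻¹) * r⁻¹ := by group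
        _ = _ := by rw [hza]
    have hnall : ¬ ∀ b ∈ A, r * r * b * (r * r)⁻¹ = b := by
      intro hall
      refine hnA (DihedralGroup.r 2) (by decide) ?_
      rw [← hAC, ← hzf, Subgroup.mem_centralizer_iff]
      exact fun b hb => (mul_inv_eq_iff_eq_mul.1 (hall b hb)).symm
    have hpow : r * a * r⁻¹ ∈ Subgroup.zpowers a := by
      by_contra hn
      have ho : orderOf a = 3 := orderOf_eq_prime (hA3 a ha) ha1
      have hle : Subgroup.closure {a, r * a * r⁻¹} ≤ A := by
        rw [Subgroup.closure_le]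
        rintro v (rfl | rfl)
        exacts [ha, hra]
      have heq : Subgroup.closure {a, r * a * r⁻¹} = A := by
        refine Subgroup.eq_of_le_of_card_ge hle ?_
        have h1 : 3 < Nat.card (Subgroup.closure {a, r * a * r⁻¹}) := by
          rw [← ho, ← Nat.card_zpowers]
          refine lt_of_not_ge fun hge => hn ?_
          rw [Subgroup.eq_of_le_of_card_ge (Subgroup.zpowers_le.2 (Subgroup.subset_closure (by simp))) hge]
          exact Subgroup.subset_closure (by simp)
        have h2 := Subgroup.card_dvd_of_le hle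
        rw [hA9] at h2 ⊢
        obtain ⟨i, hi, he⟩ := (Nat.dvd_prime_pow Nat.prime_three (m := 2)).1 h2
        rw [he] at h1 ⊢
        interval_cases i <;> simp_all
      refine hnall fun b hb => ?_
      rw [← heq] at hb
      induction hb using Subgroup.closure_induction with
      | mem v hv => rcases hv with rfl | rfl; exacts [hza, hfix]
      | one => group
      | mul u v _ _ hu hv =>
        calc r * r * (u * v) * (r * r)⁻¹ = (r * r * u * (r * r)⁻¹) * (r * r * v * (r * r)⁻¹) := (conj_mul ..).symm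
          _ = u * v := by rw [hu, hv]
      | inv u _ hu =>
        calc r * r * u⁻¹ * (r * r)⁻¹ = (r * r * u * (r * r)⁻¹)⁻¹ := conj_inv.symm
          _ = u⁻¹ := by rw [hu]
    obtain ⟨n, hn⟩ := Subgroup.mem_zpowers_iff.1 hpow
    -- all of `A` is fixed by `r²`, as `r` induces `±1` on `⟨a⟩` and on a complement
    refine hnall fun b hb => ?_
    by_contra hb0
    set c := b * ((r * r) * b * (r * r)⁻¹)⁻¹ with hc
    have hcA : c ∈ A := mul_mem hb (inv_mem ((inferInstance : A.Normal).conj_mem b hb _))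
    have hc1 : c ≠ 1 := fun h => hb0 (mul_inv_eq_one.1 h).symm
    have hcinv : r * r * c * (r * r)⁻¹ = c⁻¹ := by
      have key : ∀ t : S, t * t = 1 →
          t * (b * (t * b * t⁻¹)⁻¹) * t⁻¹ = (b * (t * b * t⁻¹)⁻¹)⁻¹ := by
        intro t ht
        have hti : t⁻¹ = t := inv_eq_of_mul_eq_one_right ht
        simp only [mul_inv_rev, inv_inv, hti, mul_assoc]
        rw [ht, mul_one]
      exact key _ hzz
    -- `c` and its image generate a subgroup inverted by `r²`
    have hrc : r * c * r⁻¹ ∈ Subgroup.zpowers c := by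
      by_contra hn'
      have hrcA : r * c * r⁻¹ ∈ A := (inferInstance : A.Normal).conj_mem c hcA r
      have ho : orderOf c = 3 := orderOf_eq_prime (hA3 c hcA) hc1
      have hle : Subgroup.closure {c, r * c * r⁻¹} ≤ A := by
        rw [Subgroup.closure_le]
        rintro v (rfl | rfl)
        exacts [hcA, hrcA]
      have heq : Subgroup.closure {c, r * c * r⁻¹} = A := by
        refine Subgroup.eq_of_le_of_card_ge hle ?_
        have h1 : 3 < Nat.card (Subgroup.closure {c, r * c * r⁻¹}) := by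
          rw [← ho, ← Nat.card_zpowers]
          refine lt_of_not_ge fun hge => hn' ?_
          rw [Subgroup.eq_of_le_of_card_ge (Subgroup.zpowers_le.2 (Subgroup.subset_closure (by simp))) hge]
          exact Subgroup.subset_closure (by simp)
        have h2 := Subgroup.card_dvd_of_le hle
        rw [hA9] at h2 ⊢
        obtain ⟨i, hi, he⟩ := (Nat.dvd_prime_pow Nat.prime_three (m := 2)).1 h2
        rw [he] at h1 ⊢
        interval_cases i <;> simp_all
      have hall : ∀ w ∈ A, r * r * w * (r * r)⁻¹ = w⁻¹ := by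
        intro w hw
        rw [← heq] at hw
        induction hw using Subgroup.closure_induction with
        | mem v hv =>
          rcases hv with rfl | rfl
          · exact hcinv
          · calc r * r * (r * c * r⁻¹) * (r * r)⁻¹ = r * ((r * r) * c * (r * r)⁻¹) * r⁻¹ := by group
              _ = _ := by rw [hcinv]; group
        | one => group
        | mul u v hu' hv' hu hv =>
          calc r * r * (u * v) * (r * r)⁻¹
              = (r * r * u * (r * r)⁻¹) * (r * r * v * (r * r)⁻¹) := (conj_mul ..).symm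
            _ = u⁻¹ * v⁻¹ := by rw [hu, hv]
            _ = (u * v)⁻¹ := by
              rw [mul_inv_rev]
              exact hAc _ (inv_mem (heq.le hu')) _ (inv_mem (heq.le hv'))
        | inv u _ hu =>
          calc r * r * u⁻¹ * (r * r)⁻¹ = (r * r * u * (r * r)⁻¹)⁻¹ := conj_inv.symm
            _ = u⁻¹⁻¹ := by rw [hu]
      have := hall a ha
      rw [hza] at this
      exact ha1 (by
        have h3 := hA3 a ha
        rw [pow_succ, pow_two] at h3
        nth_rewrite 1 [this] at h3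
        rwa [inv_mul_cancel, one_mul] at h3)
    obtain ⟨n', hn'⟩ := Subgroup.mem_zpowers_iff.1 hrc
    -- `r²` fixes `c`
    have h2 : r * r * c * (r * r)⁻¹ = c ^ (n' * n') := by
      calc r * r * c * (r * r)⁻¹ = r * (r * c * r⁻¹) * r⁻¹ := by group
        _ = _ := by rw [← hn', ← conj_zpow, ← hn', ← zpow_mul]
    have ho : orderOf c = 3 := orderOf_eq_prime (hA3 c hcA) hc1
    have h3 : c ^ (n' * n') = c ∨ c ^ (n' * n') = 1 := by
      rcases (show n' % 3 = 0 ∨ n' % 3 = 1 ∨ n' % 3 = 2 by omega) with h | h | h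
      · right
        rw [← orderOf_dvd_iff_zpow_eq_one, ho]
        exact Dvd.dvd.mul_right (Int.dvd_of_emod_eq_zero h) _
      all_goals
        left
        rw [← zpow_mod_orderOf, ho, Int.mul_emod, show ((3 : ℕ) : ℤ) = 3 from rfl, h]
        simp
    rw [← h2, hcinv] at h3
    rcases h3 with h | h
    · have h3 := hA3 c hcA
      rw [pow_succ, pow_two] at h3
      nth_rewrite 1 [← h] at h3
      rw [inv_mul_cancel, one_mul] at h3
      exact hc1 h3
    · exact hc1 (inv_eq_one.1 h)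
  have hsrr : ∀ i : ZMod 4, DihedralGroup.r 1 * DihedralGroup.sr i * (DihedralGroup.r 1)⁻¹ =
      DihedralGroup.sr i * DihedralGroup.r 2 := by decide
  have hsrne : ∀ i : ZMod 4, DihedralGroup.sr i * DihedralGroup.r 2 ≠ 1 ∧
      DihedralGroup.sr i ≠ 1 ∧ DihedralGroup.sr i ≠ DihedralGroup.r 2 := by decide
  -- each reflection has a fixed line
  have hconf : ∀ i : ZMod 4, ∃ k, Conf A (f (DihedralGroup.sr i)) r k := by
    intro i
    set s := f (DihedralGroup.sr i) with hs
    have hs2 : s * s = 1 := by rw [hs, ← map_mul, DihedralGroup.sr_mul_self, map_one]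
    have hrs : r * s * r⁻¹ = s * (r * r) := by
      rw [hzf, hs, hr, ← map_inv, ← map_mul, ← map_mul, ← map_mul]
      congr 1
      exact hsrr i
    by_contra! hc
    have hsinv := inv2 s hs2 fun a ha hsa => by
      by_contra ha1
      exact hc a ⟨ha, ha1, hsa, hs2, hzz, hrs, hzA⟩
    -- `s z` centralises `A`
    refine hnA (DihedralGroup.sr i * DihedralGroup.r 2) (hsrne i).1 ?_
    rw [map_mul, ← hs, ← hzf, ← hAC, Subgroup.mem_centralizer_iff]
    intro b hb
    have : s * (r * r) * b * (s * (r * r))⁻¹ = b := by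
      calc s * (r * r) * b * (s * (r * r))⁻¹ = s * ((r * r) * b * (r * r)⁻¹) * s⁻¹ := by group
        _ = b := by rw [hzA b hb, hsinv _ (inv_mem hb), inv_inv]
    exact (mul_inv_eq_iff_eq_mul.1 this).symm
  have hgen : ∀ i : ZMod 4, Subgroup.closure ((A : Set S) ∪ {r, f (DihedralGroup.sr i)}) = ⊤ := by
    intro i
    rw [eq_top_iff, ← hAX]
    refine sup_le (fun a ha => Subgroup.subset_closure (Or.inl ha)) fun x hx => ?_
    obtain ⟨d, hd⟩ : ∃ d, f d = x := ⟨e ⟨x, hx⟩, by simp [f]⟩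
    rw [← hd]
    have h1 : r ∈ Subgroup.closure ((A : Set S) ∪ {r, f (DihedralGroup.sr i)}) :=
      Subgroup.subset_closure (Or.inr (by simp))
    have h2 : f (DihedralGroup.sr i) ∈ Subgroup.closure ((A : Set S) ∪ {r, f (DihedralGroup.sr i)}) :=
      Subgroup.subset_closure (Or.inr (by simp))
    have hr' : ∀ j : ZMod 4, f (DihedralGroup.r j) = r ^ j.val := fun j => by
      rw [hr, ← map_pow]
      congr 1
      revert j
      decide
    rcases d with j | j
    · rw [hr']; exact pow_mem h1 _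
    · have : DihedralGroup.sr j = DihedralGroup.sr i * DihedralGroup.r (j - i) := by
        rw [DihedralGroup.sr_mul_r, add_sub_cancel]
      rw [this, map_mul, hr']
      exact mul_mem h2 (pow_mem h1 _)
  have hfA : ∀ g ∈ A, (∀ m, ρ g m = m) → g = 1 := fun g _ hg => hfaith (by
    rw [map_one]; exact LinearMap.ext hg)
  -- some reflection's line has fixed vectors
  obtain ⟨i, k, hk, hne⟩ : ∃ i k, Conf A (f (DihedralGroup.sr i)) r k ∧ ∃ m, m ≠ 0 ∧ ρ k m = m := by
    obtain ⟨k, hk⟩ := hconf 0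
    set k2 := r * k * r⁻¹ with hk2
    by_cases h1 : ∃ m, m ≠ 0 ∧ ρ k m = m
    · exact ⟨0, k, hk, h1⟩
    push Not at h1
    -- `ρ k2` agrees with `ρ k` or its square on some vector
    obtain ⟨w, hw0, hw⟩ : ∃ w, w ≠ 0 ∧ (ρ k2 w = ρ k w ∨ ρ k2 w = ρ k (ρ k w)) := by
      by_cases h2 : ∃ m, m ≠ 0 ∧ ρ k2 m = m
      · obtain ⟨m, hm0, hm⟩ := h2
        exfalso
        refine h1 (ρ r⁻¹ m) (fun e => hm0 (by
          have := rho_inv_cancel ρ r m
          rw [e, map_zero] at this
          exact this.symm)) ?_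
        rw [rho_mul, show k * r⁻¹ = r⁻¹ * k2 by rw [hk2]; group, ← rho_mul, hm]
      push Not at h2
      obtain ⟨m, hm0⟩ := exists_ne (0 : M)
      by_cases h3 : ρ k2 m + ρ k m = 0
      · exact ⟨m, hm0, Or.inl (by
          rw [eq_neg_of_add_eq_zero_left h3, neg_eq_iff_add_eq_zero]; exact char_two_add _)⟩
      refine ⟨ρ k2 m + ρ k m, h3, Or.inr ?_⟩
      have hck : k2 * k = k * k2 := hAc _ hk.k2A _ hk.kA
      have e1 := add_add_eq_zero ρ (hA3 _ hk.k2A) (fun v hv => by
        by_contra h0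
        exact h2 v h0 hv) m
      have e2 : ρ k (ρ k (ρ k m)) = m := by
        rw [rho_mul, rho_mul, show k * k * k = k ^ 3 by rw [pow_succ, pow_two], hA3 _ hk.kA, rho_one]
      have e3 := add_add_eq_zero ρ (hA3 _ hk.kA) (fun v hv => by
        by_contra h0
        exact h1 v h0 hv) (ρ k2 m)
      have e4 : ρ k2 (ρ k2 m) = m + ρ k2 m := by
        rw [← add_right_inj (m + ρ k2 m), e1, char_two_add]
      have e5 : ρ k (ρ k (ρ k2 m)) = ρ k2 m + ρ k (ρ k2 m) := by
        rw [← add_right_inj (ρ k2 m + ρ k (ρ k2 m)), e3, char_two_add]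
      have e6 : ρ k2 (ρ k m) = ρ k (ρ k2 m) := by rw [rho_mul, hck, ← rho_mul]
      simp only [map_add, e4, e5, e2, e6]
      abel
    have hk3 : ρ k (ρ k (ρ k w)) = w := by
      rw [rho_mul, rho_mul, show k * k * k = k ^ 3 by rw [pow_succ, pow_two], hA3 _ hk.kA, rho_one]
    have hck : k * k2 = k2 * k := hAc _ hk.kA _ hk.k2A
    rcases hw with hw | hw
    · -- `k * k * k2` fixes `w`
      obtain ⟨i, hi⟩ : ∃ i : ZMod 4, f (DihedralGroup.sr i) = r * f (DihedralGroup.sr 0) * (r * r) :=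
        ⟨1, by rw [hzf, hr, ← map_mul, ← map_mul]; rfl⟩
      refine ⟨i, k * k * k2, ⟨mul_mem (mul_mem hk.kA hk.kA) hk.k2A, fun h1' => ?_, ?_, ?_, hzz, ?_, hzA⟩,
        w, hw0, by rw [← rho_mul, hw, ← rho_mul, hk3]⟩
      · have h := hk.s_k2
        rw [← hk2] at h
        have e : k2 = k := by
          have h3 := hA3 _ hk.kA
          rw [pow_succ, pow_two] at h3
          exact mul_left_cancel (h1'.trans h3.symm)
        rw [e, hk.sk] at h
        have h3 := hA3 _ hk.kA
        rw [pow_succ, pow_two] at h3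
        nth_rewrite 1 [h] at h3
        rw [inv_mul_cancel, one_mul] at h3
        exact hk.k1 h3
      · have e1 : f (DihedralGroup.sr i) * k * (f (DihedralGroup.sr i))⁻¹ = k2⁻¹ := by
          rw [hi]
          calc _ = r * (f (DihedralGroup.sr 0) * ((r * r) * k * (r * r)⁻¹) * (f (DihedralGroup.sr 0))⁻¹) * r⁻¹ := by group
            _ = _ := by rw [hzA k hk.kA, ← conj_inv, hk.sk, hk2]; group
        have e2 : f (DihedralGroup.sr i) * k2 * (f (DihedralGroup.sr i))⁻¹ = k⁻¹ := by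
          rw [hi]
          calc _ = r * (f (DihedralGroup.sr 0) * ((r * r) * k2 * (r * r)⁻¹) * (f (DihedralGroup.sr 0))⁻¹) * r⁻¹ := by group
            _ = r * k2 * r⁻¹ := by rw [hzA k2 hk.k2A, ← conj_inv, hk.s_k2, inv_inv]
            _ = _ := hk.r_k2
        calc f (DihedralGroup.sr i) * (k * k * k2) * (f (DihedralGroup.sr i))⁻¹
            = (f (DihedralGroup.sr i) * k * (f (DihedralGroup.sr i))⁻¹) *
              (f (DihedralGroup.sr i) * k * (f (DihedralGroup.sr i))⁻¹) *
              (f (DihedralGroup.sr i) * k2 * (f (DihedralGroup.sr i))⁻¹) := by group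
          _ = k2⁻¹ * k2⁻¹ * k⁻¹ := by rw [e1, e2]
          _ = k * k * k2 := by
              have h3 : k * k = k⁻¹ := eq_inv_of_mul_eq_one_right (by
                rw [← hA3 _ hk.kA, pow_succ', pow_two])
              have h4 : k2⁻¹ * k2⁻¹ = k2 := by
                rw [← mul_inv_rev]
                exact inv_eq_of_mul_eq_one_right (by rw [← hA3 _ hk.k2A, pow_succ, pow_two])
              rw [h3, h4]
              exact (hAc _ (inv_mem hk.kA) _ hk.k2A).symm
      · rw [← map_mul, DihedralGroup.sr_mul_self, map_one]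
      · rw [hzf, hr, ← map_inv, ← map_mul, ← map_mul, ← map_mul]
        congr 1
        exact hsrr i
    · -- `k * k2` fixes `w`
      obtain ⟨i, hi⟩ : ∃ i : ZMod 4, f (DihedralGroup.sr i) = r * f (DihedralGroup.sr 0) :=
        ⟨3, by rw [hr, ← map_mul]; rfl⟩
      refine ⟨i, k * k2, ⟨mul_mem hk.kA hk.k2A, fun h1' => ?_, ?_, ?_, hzz, ?_, hzA⟩, w, hw0, by
        rw [← rho_mul, hw, hk3]⟩
      · have h := hk.s_k2
        rw [← hk2, eq_inv_of_mul_eq_one_right h1', ← conj_inv, hk.sk, inv_inv] at h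
        have h3 := hA3 _ hk.kA
        rw [pow_succ, pow_two] at h3
        nth_rewrite 1 [← h] at h3
        rw [inv_mul_cancel, one_mul] at h3
        exact hk.k1 h3
      · have e1 : f (DihedralGroup.sr i) * k * (f (DihedralGroup.sr i))⁻¹ = k2 := by
          rw [hi]
          calc _ = r * (f (DihedralGroup.sr 0) * k * (f (DihedralGroup.sr 0))⁻¹) * r⁻¹ := by group
            _ = _ := by rw [hk.sk]
        have e2 : f (DihedralGroup.sr i) * k2 * (f (DihedralGroup.sr i))⁻¹ = k := by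
          rw [hi]
          calc _ = r * (f (DihedralGroup.sr 0) * k2 * (f (DihedralGroup.sr 0))⁻¹) * r⁻¹ := by group
            _ = r * k2⁻¹ * r⁻¹ := by rw [hk2, hk.s_k2]
            _ = (r * k2 * r⁻¹)⁻¹ := by group
            _ = k := by rw [hk2, hk.r_k2, inv_inv]
        calc f (DihedralGroup.sr i) * (k * k2) * (f (DihedralGroup.sr i))⁻¹
            = (f (DihedralGroup.sr i) * k * (f (DihedralGroup.sr i))⁻¹) *
              (f (DihedralGroup.sr i) * k2 * (f (DihedralGroup.sr i))⁻¹) := by group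
          _ = k * k2 := by rw [e1, e2, hck]
      · rw [← map_mul, DihedralGroup.sr_mul_self, map_one]
      · rw [hzf, hr, ← map_inv, ← map_mul, ← map_mul, ← map_mul]
        congr 1
        exact hsrr i
  obtain ⟨h16, h4, h2⟩ := hk.main_conf hA3 hA9 hAc (hgen i) hfA hirr hM hne
  set t : DihedralGroup 4 := DihedralGroup.r 1 * DihedralGroup.sr i with ht
  let B1 : Subgroup S := (Subgroup.closure {DihedralGroup.r 2, t}).map f
  let B0 : Subgroup S := (Subgroup.closure {DihedralGroup.r 2, DihedralGroup.sr i}).map f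
  have fixB : ∀ (d : DihedralGroup 4) (m : M),
      (∀ b ∈ (Subgroup.closure {DihedralGroup.r 2, d}).map f, ρ b m = m) ↔
        (ρ (r * r) m = m ∧ ρ (f d) m = m) := by
    intro d m
    constructor
    · intro hb
      exact ⟨hb _ ⟨_, Subgroup.subset_closure (by simp), hzf.symm⟩, hb _ ⟨d, Subgroup.subset_closure (by simp), rfl⟩⟩
    · rintro ⟨e1, e2⟩ _ ⟨b, hb, rfl⟩
      induction hb using Subgroup.closure_induction with
      | mem x hx =>
        rcases hx with rfl | rfl
        · rwa [← hzf]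
        · exact e2
      | one => rw [map_one, rho_one]
      | mul x y _ _ hx hy => rw [map_mul, ← rho_mul, hy, hx]
      | inv x _ hx => conv_lhs => rw [← hx, rho_mul, map_inv, inv_mul_cancel, rho_one]
  have hfour : ∀ d : DihedralGroup 4, d ≠ 1 → d ≠ DihedralGroup.r 2 → d * d = 1 →
      ((Subgroup.closure {DihedralGroup.r 2, d} : Subgroup (DihedralGroup 4)) : Set (DihedralGroup 4)) =
        {1, DihedralGroup.r 2, d, DihedralGroup.r 2 * d} := by
    intro d h1 h2 hd
    have hmulclosed : ∀ d : DihedralGroup 4, d ≠ 1 → d ≠ DihedralGroup.r 2 → d * d = 1 →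
        ∀ x ∈ ({1, DihedralGroup.r 2, d, DihedralGroup.r 2 * d} : Finset (DihedralGroup 4)),
        ∀ y ∈ ({1, DihedralGroup.r 2, d, DihedralGroup.r 2 * d} : Finset (DihedralGroup 4)),
        x * y ∈ ({1, DihedralGroup.r 2, d, DihedralGroup.r 2 * d} : Finset (DihedralGroup 4)) ∧
          x⁻¹ = x := by decide
    apply subset_antisymm
    · intro x hx
      rw [SetLike.mem_coe] at hx
      have : x ∈ ({1, DihedralGroup.r 2, d, DihedralGroup.r 2 * d} : Finset (DihedralGroup 4)) := by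
        induction hx using Subgroup.closure_induction with
        | mem v hv => rcases hv with rfl | rfl <;> simp
        | one => simp
        | mul u v _ _ hu hv => exact (hmulclosed d h1 h2 hd u hu v hv).1
        | inv u _ hu => rw [(hmulclosed d h1 h2 hd u hu u hu).2]; exact hu
      simpa using this
    · rintro x (rfl | rfl | rfl | rfl)
      · exact one_mem _
      · exact Subgroup.subset_closure (by simp)
      · exact Subgroup.subset_closure (by simp)
      · exact mul_mem (Subgroup.subset_closure (by simp)) (Subgroup.subset_closure (by simp))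
  have hcard4 : ∀ d : DihedralGroup 4, d ≠ 1 → d ≠ DihedralGroup.r 2 → d * d = 1 →
      Nat.card ((Subgroup.closure {DihedralGroup.r 2, d}).map f) = 4 ∧
      ∀ b ∈ (Subgroup.closure {DihedralGroup.r 2, d}).map f, b ^ 2 = 1 := by
    intro d h1 h2 hd
    have hall : ∀ d : DihedralGroup 4, d ≠ 1 → d ≠ DihedralGroup.r 2 → d * d = 1 →
        ({1, DihedralGroup.r 2, d, DihedralGroup.r 2 * d} : Finset (DihedralGroup 4)).card = 4 ∧
        ∀ b ∈ ({1, DihedralGroup.r 2, d, DihedralGroup.r 2 * d} : Finset (DihedralGroup 4)), b * b = 1 := by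
      decide
    refine ⟨?_, ?_⟩
    · rw [← Nat.card_congr ((Subgroup.closure {DihedralGroup.r 2, d}).equivMapOfInjective f hf).toEquiv]
      show Nat.card ((Subgroup.closure {DihedralGroup.r 2, d} : Subgroup (DihedralGroup 4)) :
        Set (DihedralGroup 4)) = 4
      rw [hfour d h1 h2 hd, Nat.card_coe_set_eq,
        show ({1, DihedralGroup.r 2, d, DihedralGroup.r 2 * d} : Set (DihedralGroup 4)) =
          (({1, DihedralGroup.r 2, d, DihedralGroup.r 2 * d} : Finset (DihedralGroup 4)) : Set _) by simp,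
        Set.ncard_coe_finset]
      exact (hall d h1 h2 hd).1
    · rintro _ ⟨b, hb, rfl⟩
      replace hb := (Set.ext_iff.1 (hfour d h1 h2 hd) b).1 hb
      rw [sq, ← map_mul, (hall d h1 h2 hd).2 b (by simpa using hb), map_one]
  have ht1 : t ≠ 1 ∧ t ≠ DihedralGroup.r 2 ∧ t * t = 1 := by
    rw [ht]; clear_value t; clear! t hk h4 h2; revert i; decide
  have hB1 : B1 ≤ X ∧ Nat.card ↥B1 = 4 ∧ (∀ b ∈ B1, b ^ 2 = 1) ∧
      Nat.card {m : M // ∀ b ∈ B1, ρ b m = m} = 2 := by
    refine ⟨fun b hb => ?_, (hcard4 t ht1.1 ht1.2.1 ht1.2.2).1, (hcard4 t ht1.1 ht1.2.1 ht1.2.2).2, ?_⟩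
    · obtain ⟨d, -, rfl⟩ := hb
      exact hfX d
    · rw [Nat.card_congr (Equiv.subtypeEquivRight (fixB t)),
        show f t = r * f (DihedralGroup.sr i) by rw [ht, map_mul]]
      exact h2
  refine ⟨h16, B1, hB1, ?_⟩
  rintro B ⟨hBX, hB4, hBexp, hBfix⟩
  have key : ∀ (i : ZMod 4) (x y : DihedralGroup 4), x * x = 1 → y * y = 1 → x * y = y * x →
      (x ∈ ({1, DihedralGroup.r 2, DihedralGroup.sr i, DihedralGroup.r 2 * DihedralGroup.sr i} : Finset _) ∧
        y ∈ ({1, DihedralGroup.r 2, DihedralGroup.sr i, DihedralGroup.r 2 * DihedralGroup.sr i} : Finset _)) ∨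
      (x ∈ ({1, DihedralGroup.r 2, DihedralGroup.r 1 * DihedralGroup.sr i,
          DihedralGroup.r 2 * (DihedralGroup.r 1 * DihedralGroup.sr i)} : Finset _) ∧
        y ∈ ({1, DihedralGroup.r 2, DihedralGroup.r 1 * DihedralGroup.sr i,
          DihedralGroup.r 2 * (DihedralGroup.r 1 * DihedralGroup.sr i)} : Finset _)) := by
    decide
  have hsr : DihedralGroup.sr i ≠ 1 ∧ DihedralGroup.sr i ≠ DihedralGroup.r 2 ∧
      DihedralGroup.sr i * DihedralGroup.sr i = 1 := ⟨(hsrne i).2.1, (hsrne i).2.2, DihedralGroup.sr_mul_self i⟩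
  have hBle : B ≤ B0 ∨ B ≤ B1 := by
    by_contra hcon
    rw [not_or, SetLike.not_le_iff_exists, SetLike.not_le_iff_exists] at hcon
    obtain ⟨⟨x, hxB, hx0⟩, y, hyB, hy1⟩ := hcon
    obtain ⟨dx, rfl⟩ : ∃ d, f d = x := ⟨e ⟨x, hBX hxB⟩, by simp [f]⟩
    obtain ⟨dy, rfl⟩ : ∃ d, f d = y := ⟨e ⟨y, hBX hyB⟩, by simp [f]⟩
    have sqd : ∀ d, f d ∈ B → d * d = 1 := fun d hd => hf (by rw [map_mul, map_one, ← sq]; exact hBexp _ hd)
    have hxy : dx * dy = dy * dx := by
      have h1 := sqd _ hxB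
      have h2 := sqd _ hyB
      have h3 := sqd (dx * dy) (by rw [map_mul]; exact mul_mem hxB hyB)
      calc dx * dy = (dx * dy)⁻¹ := (inv_eq_of_mul_eq_one_right h3).symm
        _ = dy * dx := by rw [mul_inv_rev, inv_eq_of_mul_eq_one_right h1, inv_eq_of_mul_eq_one_right h2]
    rcases key i dx dy (sqd _ hxB) (sqd _ hyB) hxy with ⟨hin, -⟩ | ⟨-, hin⟩
    · refine hx0 ⟨dx, ?_, rfl⟩
      rw [hfour _ hsr.1 hsr.2.1 hsr.2.2]
      simpa using hin
    · refine hy1 ⟨dy, ?_, rfl⟩
      rw [ht, hfour _ (ht ▸ ht1.1) (ht ▸ ht1.2.1) (ht ▸ ht1.2.2)]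
      simpa using hin
  rcases hBle with h0 | h0
  · exfalso
    have hBeq : B = B0 := Subgroup.eq_of_le_of_card_ge h0 (by
      rw [hB4]; exact (hcard4 _ hsr.1 hsr.2.1 hsr.2.2).1.le)
    rw [hBeq, Nat.card_congr (Equiv.subtypeEquivRight (fixB (DihedralGroup.sr i))), h4] at hBfix
    omega
  · exact Subgroup.eq_of_le_of_card_ge h0 (by
      rw [hB4]; exact (hcard4 t ht1.1 ht1.2.1 ht1.2.2).1.le)

end CfsgLib.FgsC.NineDih
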