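import Mathlib

/-!
# Normal elements in commutative Artinian rings

A finite group acting on a commutative Artinian ring so that no nontrivial element acts trivially
on a residue field it stabilises has a normal element: the matrix of its conjugates is invertible.
-/

set_option autoImplicit false
set_option linter.style.haveILetI false

open scoped Pointwise Matrix

namespace CfsgLib.FgsC.NormalElement

/-- The normal basis theorem as invertibility of the matrix of conjugates. -/
theorem exists_normal_of_field {L : Type*} [Field L] {S : Type*} [Group S] [Fintype S]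
    [DecidableEq S] [MulSemiringAction S L] [FaithfulSMul S L] :
    ∃ t : L, IsUnit (Matrix.of fun a b : S => (a * b) • t) := by
  classical
  let F := FixedPoints.subfield S L
  haveI : IsGalois F L := inferInstance
  let e := FixedPoints.toAlgAutMulEquiv S L
  let bas := IsGalois.normalBasis F L
  refine ⟨bas 1, ?_⟩
  rw [← Matrix.vecMul_injective_iff_isUnit]
  rintro c d hcd
  rw [← sub_eq_zero]
  have hz : ∀ b : S, ∑ a, (c a - d a) * (a * b) • bas 1 = 0 := by
    intro b
    have h := congrFun hcd b
    simp only [Matrix.vecMul, dotProduct, Matrix.of_apply] at h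
    simp only [sub_mul, Finset.sum_sub_distrib, h, sub_self]
  -- the functional `x ↦ ∑ (c a - d a) (a • x)` vanishes on the normal basis
  let Φ : L →ₗ[F] L := ∑ a : S, (c a - d a) • (e a).toLinearMap
  have hΦ : ∀ x, Φ x = ∑ a : S, (c a - d a) * a • x := fun x => by
    simp only [Φ, LinearMap.coe_sum, Finset.sum_apply, LinearMap.smul_apply, smul_eq_mul]
    rfl
  have hΦ0 : Φ = 0 := bas.ext fun g => by
    obtain ⟨b, rfl⟩ := e.surjective g
    rw [hΦ, LinearMap.zero_apply, IsGalois.normalBasis_apply, ← hz b]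
    refine Finset.sum_congr rfl fun a _ => ?_
    rw [show (e b) (bas 1) = b • bas 1 from rfl, mul_smul]
  have hli := linearIndependent_monoidHom L L
  let ψ : S → (L →* L) := fun a => ((MulSemiringAction.toRingHom S L a : L →+* L) : L →* L)
  have hψ : Function.Injective ψ := fun a b h =>
    FaithfulSMul.eq_of_smul_eq_smul (M := S) (α := L) fun x => DFunLike.congr_fun h x
  have hli' := Fintype.linearIndependent_iff.1 (hli.comp ψ hψ) (fun a => c a - d a) (by
    funext x
    simpa [ψ, hΦ] using LinearMap.congr_fun hΦ0 x)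
  exact funext hli'

variable {R : Type*} [CommRing R] {H : Type*} [Group H] [MulSemiringAction H R]

/-- The action of the stabiliser of an ideal on the quotient. -/
noncomputable def quotientHom (I : Ideal R) :
    MulAction.stabilizer H I →* RingAut (R ⧸ I) where
  toFun g := Ideal.quotientEquiv I I (MulSemiringAction.toRingAut H R g)
    (g.2.symm.trans (by rfl))
  map_one' := RingEquiv.ext fun x => by
    obtain ⟨x, rfl⟩ := Ideal.Quotient.mk_surjective x
    simp
  map_mul' g g' := RingEquiv.ext fun x => by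
    obtain ⟨x, rfl⟩ := Ideal.Quotient.mk_surjective x
    simp [mul_smul]

theorem quotientHom_apply (I : Ideal R) (g : MulAction.stabilizer H I) (x : R) :
    quotientHom I g (Ideal.Quotient.mk I x) = Ideal.Quotient.mk I ((g : H) • x) := by
  simp [quotientHom]

/-- Existence of a normal element. -/
theorem exists_normal_element [IsArtinianRing R] [Fintype H] [DecidableEq H]
    (hfree : ∀ m : Ideal R, m.IsMaximal → ∀ h : H, h ≠ 1 → ∃ x : R, h • x - x ∉ m) :
    ∃ θ : R, IsUnit (Matrix.of fun g h : H => (g * h) • θ) := by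
  classical
  let X := MaximalSpectrum R
  let r : Setoid X :=
    { r := fun a b => ∃ g : H, g • a.asIdeal = b.asIdeal
      iseqv := ⟨fun a => ⟨1, one_smul _ _⟩,
        fun {a b} ⟨g, hg⟩ => ⟨g⁻¹, by rw [← hg, inv_smul_smul]⟩,
        fun {a b c} ⟨g, hg⟩ ⟨g', hg'⟩ => ⟨g' * g, by rw [mul_smul, hg, hg']⟩⟩ }
  let rep : X → X := fun m => (Quotient.mk r m).out
  -- normal elements in the residue fields
  have hloc : ∀ m : X, ∃ t : R, IsUnit (Matrix.of fun a b : MulAction.stabilizer H m.asIdeal =>
      Ideal.Quotient.mk m.asIdeal (((a * b : MulAction.stabilizer H m.asIdeal) : H) • t)) := by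
    intro m
    letI : Field (R ⧸ m.asIdeal) := Ideal.Quotient.field m.asIdeal
    letI : MulSemiringAction (MulAction.stabilizer H m.asIdeal) (R ⧸ m.asIdeal) :=
      MulSemiringAction.compHom (R ⧸ m.asIdeal) (quotientHom m.asIdeal)
    haveI : FaithfulSMul (MulAction.stabilizer H m.asIdeal) (R ⧸ m.asIdeal) := by
      refine ⟨fun {a b} hab => by_contra fun hne => ?_⟩
      obtain ⟨x, hx⟩ := hfree m.asIdeal m.isMaximal ((b⁻¹ * a : MulAction.stabilizer H m.asIdeal) : H)
        (fun h1 => hne (inv_mul_eq_one.1 (Subtype.ext h1 : b⁻¹ * a = 1)).symm)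
      refine hx (Ideal.Quotient.eq.1 ?_)
      rw [← quotientHom_apply m.asIdeal (b⁻¹ * a) x]
      change (b⁻¹ * a) • (Ideal.Quotient.mk m.asIdeal x) = Ideal.Quotient.mk m.asIdeal x
      rw [mul_smul, hab, inv_smul_smul]
    obtain ⟨t, ht⟩ := exists_normal_of_field (L := R ⧸ m.asIdeal)
      (S := MulAction.stabilizer H m.asIdeal)
    obtain ⟨t, rfl⟩ := Ideal.Quotient.mk_surjective t
    refine ⟨t, ?_⟩
    convert ht using 1
    ext a b
    exact (quotientHom_apply m.asIdeal (a * b) t).symm
  choose t ht using hloc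
  obtain ⟨θ, hθ⟩ := Ideal.exists_forall_sub_mem_ideal (I := fun m : X => m.asIdeal)
    (fun a b hab => Ideal.isCoprime_iff_sup_eq.2 (a.isMaximal.coprime_of_ne b.isMaximal
      fun h => hab (MaximalSpectrum.ext h)))
    (fun m => if rep m = m then t m else 0)
  refine ⟨θ, ?_⟩
  rw [Matrix.isUnit_iff_isUnit_det]
  by_contra hdet
  obtain ⟨m, hm, hdm⟩ := exists_max_ideal_of_mem_nonunits hdet
  -- move to the representative of the orbit
  set m₀ : X := rep ⟨m, hm⟩ with hm₀
  have hrel : ∃ g : H, g • m₀.asIdeal = m := Quotient.mk_out (s := r) ⟨m, hm⟩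
  obtain ⟨g, hg⟩ := hrel
  set Q : Matrix H H R := Matrix.of fun a b : H => (a * b) • θ with hQ
  have hd0 : Q.det ∈ m₀.asIdeal := by
    have h1 : g⁻¹ • Q.det ∈ m₀.asIdeal := by
      rw [← Ideal.mem_pointwise_smul_iff_inv_smul_mem, hg]
      exact hdm
    have h2 : g⁻¹ • Q.det = (Q.submatrix (Equiv.mulLeft g⁻¹) id).det := by
      have h3 := RingHom.map_det (MulSemiringAction.toRingHom H R g⁻¹) Q
      rw [show g⁻¹ • Q.det = MulSemiringAction.toRingHom H R g⁻¹ Q.det from rfl, h3]
      congr 1
      ext a b
      simp [hQ, mul_smul, mul_assoc]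
    rw [h2, Matrix.det_permute] at h1
    rcases Int.units_eq_one_or (Equiv.Perm.sign (Equiv.mulLeft g⁻¹)) with h | h <;>
      simp [h] at h1 <;> exact h1
  have hrep : rep m₀ = m₀ := by
    rw [hm₀]
    show (Quotient.mk r (Quotient.mk r (⟨m, hm⟩ : X)).out).out = _
    rw [Quotient.out_eq]
  letI : Field (R ⧸ m₀.asIdeal) := Ideal.Quotient.field m₀.asIdeal
  set π := Ideal.Quotient.mk m₀.asIdeal with hπ
  set S := MulAction.stabilizer H m₀.asIdeal with hS
  have hval : ∀ c : H, π (c • θ) = if hc : c ∈ S then π (c • t m₀) else 0 := by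
    intro c
    split_ifs with hc
    · rw [hπ, Ideal.Quotient.eq, ← smul_sub]
      have := hθ m₀
      rw [if_pos hrep] at this
      have h' := Ideal.smul_mem_pointwise_smul c _ _ this
      rwa [MulAction.mem_stabilizer_iff.1 hc] at h'
    · rw [hπ, Ideal.Quotient.eq_zero_iff_mem]
      haveI : (c⁻¹ • m₀.asIdeal).IsMaximal := by
        rw [Ideal.pointwise_smul_eq_comap]
        haveI := m₀.isMaximal
        infer_instance
      let m₁ : X := ⟨c⁻¹ • m₀.asIdeal, inferInstance⟩
      have hne : rep m₁ ≠ m₁ := by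
        intro h
        have h1 : rep m₁ = rep m₀ :=
          congrArg Quotient.out (Quotient.sound (s := r) ⟨c, smul_inv_smul c m₀.asIdeal⟩)
        rw [h, hrep] at h1
        exact hc (inv_mem_iff.1 (MulAction.mem_stabilizer_iff.2 (congrArg (·.asIdeal) h1)))
      have := hθ m₁
      rw [if_neg hne, sub_zero] at this
      exact Ideal.mem_inv_pointwise_smul_iff.1 this
  have hunit : IsUnit (Q.map π) := by
    rw [← Matrix.mulVec_injective_iff_isUnit]
    intro c d hcd
    rw [← sub_eq_zero]
    set f := c - d with hf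
    have hf0 : (Q.map π) *ᵥ f = 0 := by rw [hf, Matrix.mulVec_sub, hcd, sub_self]
    funext u
    have hsub : ∀ a : S, ∑ b : S, π (((a * b : S) : H) • t m₀) * f (u * b) = 0 := by
      intro a
      have h := congrFun hf0 (a * u⁻¹)
      simp only [Matrix.mulVec, dotProduct, Matrix.map_apply, hQ, Matrix.of_apply,
        Pi.zero_apply] at h
      rw [← h]
      refine Fintype.sum_of_injective (fun b : S => u * (b : H))
        (fun x y hxy => Subtype.ext (mul_left_cancel hxy)) _ _ (fun v hv => ?_) fun b => ?_
      · rw [hval, dif_neg, zero_mul]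
        intro hmem
        refine hv ⟨⟨(a : H)⁻¹ * (a * u⁻¹ * v), S.mul_mem (S.inv_mem a.2) hmem⟩, ?_⟩
        group
      · rw [show (a : H) * u⁻¹ * (u * b) = ((a * b : S) : H) by simp [mul_assoc],
          hval, dif_pos (a * b).2]
    have hinj := (Matrix.mulVec_injective_iff_isUnit.2 (ht m₀))
    have h0 : (fun b : S => f (u * b)) = 0 := hinj (by
      rw [Matrix.mulVec_zero]
      funext a
      exact hsub a)
    simpa using congrFun h0 1
  rw [Matrix.isUnit_iff_isUnit_det, ← RingHom.mapMatrix_apply, ← RingHom.map_det] at hunit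
  exact hunit.ne_zero (Ideal.Quotient.eq_zero_iff_mem.2 hd0)

end CfsgLib.FgsC.NormalElement
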