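import Cfsg.Agent.Lib.Small.PSLPrimes

/-!
# Maximal normalizers in groups related to `PSL(2,13)`

A simple group of order 1092 with an element of order 6 has all normalizers of its proper nontrivial
subgroups maximal; the property passes to double covers with one involution and to coprime products with
abelian groups.
-/

set_option autoImplicit false

namespace FgsC

open Subgroup Pointwise

/-- All normalizers of subgroups that are not normal are maximal. -/
def HasMaxNormalizers (K : Type*) [Group K] : Prop :=
  ∀ A : Subgroup K, ¬ A.Normal → IsCoatom (normalizer (A : Set K))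

namespace Thirteen

variable {G : Type*} [Group G] [Finite G] [IsSimpleGroup G]

theorem index_ge {B : Subgroup G} (hG : Nat.card G = 1092) (hB : B ≠ ⊤) : 13 ≤ B.index := by
  classical
  have hinj : Function.Injective (MulAction.toPermHom G (G ⧸ B)) := by
    rw [← MonoidHom.ker_eq_bot_iff, ← Subgroup.normalCore_eq_ker]
    rcases (Subgroup.normalCore_normal B).eq_bot_or_eq_top with h | h
    · exact h
    · exact absurd (top_le_iff.1 (h ▸ Subgroup.normalCore_le B)) hB
  have hd := Subgroup.card_dvd_of_injective _ hinj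
  rw [hG, Nat.card_perm, ← Subgroup.index] at hd
  have h13 : (13 : ℕ).Prime := by norm_num
  exact (h13.dvd_factorial).1 (dvd_trans (by norm_num) hd)

theorem card_le_84 {B : Subgroup G} (hG : Nat.card G = 1092) (hB : B ≠ ⊤) : Nat.card B ≤ 84 := by
  have h1 := B.card_mul_index
  have h2 := index_ge hG hB
  rw [hG] at h1
  have h3 : Nat.card B * 13 ≤ 1092 := h1 ▸ Nat.mul_le_mul_left _ h2
  omega

/-- A proper subgroup of order divisible by `p` has a unique Sylow `p`-subgroup. -/
theorem exists_normal_sylow {B : Subgroup G} (hG : Nat.card G = 1092) (hB : B ≠ ⊤) (p : ℕ)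
    [Fact p.Prime] (hp : p = 13 ∨ p = 7) (hd : p ∣ Nat.card B) :
    ∃ P : Sylow p G, (P : Subgroup G) ≤ B ∧ B ≤ normalizer ((P : Subgroup G) : Set G) := by
  have h84 := card_le_84 hG hB
  have hdG : Nat.card B ∣ 1092 := hG ▸ B.card_subgroup_dvd_card
  let Q : Sylow p B := default
  have hmod : Nat.card (Sylow p B) ≡ 1 [MOD p] := card_sylow_modEq_one p B
  have hidx : Nat.card (Sylow p B) ∣ (Q : Subgroup B).index := Sylow.card_dvd_index Q
  have hQdvd : p ∣ Nat.card (Q : Subgroup B) := Q.dvd_card_of_dvd_card hd
  have hmul := (Q : Subgroup B).card_mul_index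
  have hQcard : Nat.card (Q : Subgroup B) = p := by
    have h1 : Nat.card (Q : Subgroup B) ∣ 1092 := ((Q : Subgroup B).card_subgroup_dvd_card).trans hdG
    obtain ⟨k, hk⟩ := Q.2.exists_card_eq
    rw [hk] at h1 hQdvd ⊢
    have hk1 : k ≤ 1 := by
      by_contra hc
      have : p ^ 2 ∣ 1092 := (pow_dvd_pow p (by omega)).trans h1
      rcases hp with rfl | rfl <;> norm_num at this
    interval_cases k
    · rw [pow_zero] at hQdvd
      exact absurd (Nat.dvd_one.1 hQdvd) (Fact.out : p.Prime).ne_one
    · simp
  have hn : Nat.card (Sylow p B) = 1 := by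
    rw [hQcard] at hmul
    obtain ⟨j, hj⟩ : ∃ j, (Q : Subgroup B).index = j := ⟨_, rfl⟩
    rw [hj] at hidx hmul
    have hj0 : 0 < j := by
      rcases Nat.eq_zero_or_pos j with h | h
      · subst h; rw [mul_zero] at hmul; exact absurd hmul.symm Nat.card_pos.ne'
      · exact h
    have hjd : p * j ∣ 1092 := hmul ▸ hdG
    have hjle : p * j ≤ 84 := hmul ▸ h84
    have hnle : Nat.card (Sylow p B) ≤ j := Nat.le_of_dvd hj0 hidx
    unfold Nat.ModEq at hmod
    rcases hp with rfl | rfl
    · omega
    · generalize hN : Nat.card (Sylow 7 B) = N at hidx hnle hmod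
      have hN12 : N ≤ 12 := by omega
      have hN8 : N = 1 ∨ N = 8 := by omega
      rcases hN8 with h | h
      · exact h
      · exfalso
        subst h
        have : 8 ∣ 1092 := (hidx.trans (dvd_mul_left j 7)).trans hjd
        norm_num at this
  obtain ⟨P, hP⟩ := (Q.2.map B.subtype).exists_le_sylow
  have hPcard : Nat.card (P : Subgroup G) = p := by
    obtain ⟨k, hk⟩ := P.2.exists_card_eq
    have h1 : Nat.card (P : Subgroup G) ∣ 1092 := hG ▸ (P : Subgroup G).card_subgroup_dvd_card
    have h2 : p ∣ Nat.card (P : Subgroup G) := by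
      have h3 := Subgroup.card_dvd_of_le hP
      have h4 : Nat.card ((Q : Subgroup B).map B.subtype) = p := by
        rw [Subgroup.card_map_of_injective B.subtype_injective]; exact hQcard
      exact (dvd_of_eq h4.symm).trans h3
    rw [hk] at h1 h2 ⊢
    have hk1 : k ≤ 1 := by
      by_contra hc
      have : p ^ 2 ∣ 1092 := (pow_dvd_pow p (by omega)).trans h1
      rcases hp with rfl | rfl <;> norm_num at this
    interval_cases k
    · rw [pow_zero] at h2
      exact absurd (Nat.dvd_one.1 h2) (Fact.out : p.Prime).ne_one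
    · simp
  have hPeq : (Q : Subgroup B).map B.subtype = (P : Subgroup G) :=
    Subgroup.eq_of_le_of_card_ge hP (by
      rw [hPcard, Subgroup.card_map_of_injective B.subtype_injective, hQcard])
  refine ⟨P, hPeq ▸ Subgroup.map_subtype_le _, fun b hb => ?_⟩
  haveI : Subsingleton (Sylow p B) := (Nat.card_eq_one_iff_unique.1 hn).1
  have hQn : (Q : Subgroup B).Normal := inferInstance
  rw [Subgroup.mem_normalizer_iff, ← hPeq]
  intro x
  constructor
  · rintro ⟨q, hq, rfl⟩
    exact ⟨⟨b, hb⟩ * q * ⟨b, hb⟩⁻¹, hQn.conj_mem q hq _, rfl⟩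
  · rintro ⟨q, hq, hqx⟩
    refine ⟨⟨b, hb⟩⁻¹ * q * ⟨b, hb⟩, ?_, ?_⟩
    · have := hQn.conj_mem q hq ⟨b, hb⟩⁻¹
      rw [inv_inv] at this
      exact this
    · change b⁻¹ * (q : G) * b = x
      change (q : G) = b * x * b⁻¹ at hqx
      rw [hqx]; group

theorem card_normalizer (hG : Nat.card G = 1092) (p : ℕ) [Fact p.Prime] (P : Sylow p G)
    (hp : p = 13 ∨ p = 7) :
    Nat.card (normalizer ((P : Subgroup G) : Set G)) = if p = 13 then 78 else 14 := by
  obtain ⟨N, hN⟩ : ∃ N, normalizer ((P : Subgroup G) : Set G) = N := ⟨_, rfl⟩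
  rw [hN]
  have hmod : Nat.card (Sylow p G) ≡ 1 [MOD p] := card_sylow_modEq_one p G
  rw [P.card_eq_index_normalizer] at hmod
  change (normalizer ((P : Subgroup G) : Set G)).index ≡ 1 [MOD p] at hmod
  rw [hN] at hmod
  have hmul := N.card_mul_index
  rw [hG] at hmul
  have hpG : p ∣ Nat.card G := by rw [hG]; rcases hp with rfl | rfl <;> norm_num
  have hpP : p ∣ Nat.card (P : Subgroup G) := P.dvd_card_of_dvd_card hpG
  have hpN : p ∣ Nat.card N := by
    refine hpP.trans (Subgroup.card_dvd_of_le ?_)
    rw [← hN]; exact Subgroup.le_normalizer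
  have hNtop : N ≠ ⊤ := by
    intro h
    rw [h] at hN
    have hnorm : (P : Subgroup G).Normal := Subgroup.normalizer_eq_top_iff.1 hN
    rcases hnorm.eq_bot_or_eq_top with h' | h'
    · rw [h', Subgroup.card_bot] at hpP
      exact absurd (Nat.dvd_one.1 hpP) (Fact.out : p.Prime).ne_one
    · have hall : ∃ k, Nat.card G = p ^ k := by
        obtain ⟨k, hk⟩ := P.2.exists_card_eq
        exact ⟨k, by rw [← hk, h', Subgroup.card_top]⟩
      obtain ⟨k, hk⟩ := hall
      have h2 : 2 ∣ p ^ k := hk ▸ hG ▸ (by norm_num)
      have := Nat.prime_two.dvd_of_dvd_pow h2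
      rcases hp with rfl | rfl <;> norm_num at this
  have hidx := index_ge hG hNtop
  unfold Nat.ModEq at hmod
  obtain ⟨j, hj⟩ := hpN
  generalize N.index = m at hmul hmod hidx
  rw [hj] at hmul ⊢
  rcases hp with rfl | rfl
  · have hd : m ∣ 84 := ⟨j, by nlinarith⟩
    have hm : m ≤ 84 := Nat.le_of_dvd (by norm_num) hd
    have : m = 14 := by
      interval_cases m <;> first | rfl | omega
    subst this
    simp; omega
  · have hd : m ∣ 156 := ⟨j, by nlinarith⟩
    have hm : m ≤ 156 := Nat.le_of_dvd (by norm_num) hd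
    have : m = 78 := by
      interval_cases m <;> first | rfl | omega
    subst this
    simp; omega

/-- The possible orders of proper subgroups. -/
theorem card_dvd (hG : Nat.card G = 1092) {B : Subgroup G} (hB : B ≠ ⊤) :
    Nat.card B ∣ 78 ∨ Nat.card B ∣ 14 ∨ Nat.card B ∣ 12 := by
  haveI : Fact (Nat.Prime 13) := ⟨by norm_num⟩
  haveI : Fact (Nat.Prime 7) := ⟨by norm_num⟩
  by_cases h13 : 13 ∣ Nat.card B
  · obtain ⟨P, -, hle⟩ := exists_normal_sylow hG hB 13 (Or.inl rfl) h13
    have := Subgroup.card_dvd_of_le hle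
    rw [card_normalizer hG 13 P (Or.inl rfl)] at this
    exact Or.inl (by simpa using this)
  by_cases h7 : 7 ∣ Nat.card B
  · obtain ⟨P, -, hle⟩ := exists_normal_sylow hG hB 7 (Or.inr rfl) h7
    have := Subgroup.card_dvd_of_le hle
    rw [card_normalizer hG 7 P (Or.inr rfl)] at this
    exact Or.inr (Or.inl (by simpa using this))
  · have hd : Nat.card B ∣ 12 * (7 * 13) := by
      have := B.card_subgroup_dvd_card
      rw [hG] at this
      simpa using this
    refine Or.inr (Or.inr ?_)
    have h1 : Nat.Coprime (Nat.card B) 7 :=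
      ((by norm_num : Nat.Prime 7).coprime_iff_not_dvd.2 h7).symm
    have h2 : Nat.Coprime (Nat.card B) 13 :=
      ((by norm_num : Nat.Prime 13).coprime_iff_not_dvd.2 h13).symm
    exact (h1.mul_right h2).dvd_of_dvd_mul_right hd

/-- Subgroups of order 78, 14 or 12 are maximal. -/
theorem isCoatom_of_card (hG : Nat.card G = 1092) {M : Subgroup G}
    (hM : Nat.card M = 78 ∨ Nat.card M = 14 ∨ Nat.card M = 12) : IsCoatom M := by
  refine ⟨fun h => ?_, fun B hlt => ?_⟩
  · rw [h, Subgroup.card_top, hG] at hM; omega
  · by_contra hB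
    have h1 := Subgroup.card_dvd_of_le hlt.le
    have h2 : Nat.card M ≠ Nat.card B := fun h =>
      hlt.ne (Subgroup.eq_of_le_of_card_ge hlt.le h.ge)
    rcases card_dvd hG hB with h | h | h <;> rcases hM with hM | hM | hM <;> rw [hM] at h1 h2
    all_goals
      first
      | exact h2 (Nat.dvd_antisymm h1 h)
      | exact absurd (h1.trans h) (by norm_num)

theorem normalizer_ne_top (hG : Nat.card G = 1092) {A : Subgroup G} (h1 : A ≠ ⊥) (h2 : A ≠ ⊤) :
    normalizer (A : Set G) ≠ ⊤ := fun h => by
  rcases (Subgroup.normalizer_eq_top_iff.1 h).eq_bot_or_eq_top with h' | h'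
  · exact h1 h'
  · exact h2 h'

/-- If a subgroup of order 12 normalises `A` then the normalizer has order 12. -/
theorem isCoatom_of_twelve (hG : Nat.card G = 1092) {A M : Subgroup G} (h1 : A ≠ ⊥) (h2 : A ≠ ⊤)
    (hM : Nat.card M = 12) (hle : M ≤ normalizer (A : Set G)) :
    IsCoatom (normalizer (A : Set G)) := by
  refine isCoatom_of_card hG (Or.inr (Or.inr ?_))
  have hd := Subgroup.card_dvd_of_le hle
  rw [hM] at hd
  rcases card_dvd hG (normalizer_ne_top hG h1 h2) with h | h | h
  · exact absurd (hd.trans h) (by norm_num)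
  · exact absurd (hd.trans h) (by norm_num)
  · exact Nat.dvd_antisymm h hd

theorem card_eq_of_dvd_six (hG : Nat.card G = 1092) {N : Subgroup G} (hN : N ≠ ⊤) (h6 : 6 ∣ Nat.card N) :
    Nat.card N = 6 ∨ Nat.card N = 12 ∨ Nat.card N = 78 := by
  rcases card_dvd hG hN with h | h | h
  all_goals
    have hle := Nat.le_of_dvd (by norm_num) h
    obtain ⟨j, hj⟩ := h6
    obtain ⟨i, hi⟩ := h
    generalize Nat.card N = c at *
    subst hj
  · have : j ≤ 13 := by omega
    interval_cases j <;> omega
  · have : j ≤ 2 := by omega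
    interval_cases j <;> omega
  · have : j ≤ 2 := by omega
    interval_cases j <;> omega

theorem conj_fix_of_mem_centralizer {S : Subgroup G} {x : G}
    (h : ∀ u ∈ S, x * u * x⁻¹ = u) : x ∈ centralizer (S : Set G) := by
  rw [Subgroup.mem_centralizer_iff]
  intro u hu
  have := h u hu
  calc u * x = (x * u * x⁻¹) * x := by rw [this]
    _ = x * u := by group

/-- The main classification of normalizers. -/
theorem hasMaxNormalizers (hG : Nat.card G = 1092) (g : G) (hg : orderOf g = 6) :
    HasMaxNormalizers G := by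
  classical
  haveI : Fact (Nat.Prime 2) := ⟨Nat.prime_two⟩
  haveI : Fact (Nat.Prime 3) := ⟨Nat.prime_three⟩
  haveI : Fact (Nat.Prime 7) := ⟨by norm_num⟩
  haveI : Fact (Nat.Prime 13) := ⟨by norm_num⟩
  have hproper : ∀ H : Subgroup G, Nat.card H ≠ 1092 → H ≠ ⊤ := fun H hH h => hH (by
    rw [h, Subgroup.card_top, hG])
  have hneb : ∀ H : Subgroup G, Nat.card H ≠ 1 → H ≠ ⊥ := fun H hH h => hH (by
    rw [h, Subgroup.card_bot])
  -- Sylow 3-subgroups
  have hP3 : ∀ P : Sylow 3 G, Nat.card (normalizer ((P : Subgroup G) : Set G)) = 12 := by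
    have hg2 : orderOf (g ^ 2) = 3 := by rw [orderOf_pow, hg]; rfl
    have hcard : Nat.card (zpowers (g ^ 2)) = 3 := by rw [Nat.card_zpowers, hg2]
    have hP : IsPGroup 3 (zpowers (g ^ 2)) := IsPGroup.of_card (n := 1) (by rw [hcard, pow_one])
    obtain ⟨P, hPle⟩ := hP.exists_le_sylow
    have hPcard : Nat.card (P : Subgroup G) = 3 := by
      rw [Sylow.card_eq_multiplicity, hG]
      rw [show (1092 : ℕ) = 3 * 364 from rfl, Nat.factorization_mul (by norm_num) (by norm_num)]
      rw [Finsupp.add_apply, Nat.Prime.factorization_self Nat.prime_three,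
        Nat.factorization_eq_zero_of_not_dvd (by norm_num : ¬ 3 ∣ 364)]
      norm_num
    have hPeq : zpowers (g ^ 2) = (P : Subgroup G) :=
      Subgroup.eq_of_le_of_card_ge hPle (by rw [hcard, hPcard])
    have hgN : zpowers g ≤ normalizer ((P : Subgroup G) : Set G) := by
      rw [Subgroup.zpowers_le, ← hPeq]
      refine (Subgroup.centralizer_le_normalizer _) ?_
      rw [Subgroup.mem_centralizer_iff]
      rintro _ ⟨k, rfl⟩
      exact ((Commute.pow_self g 2).zpow_left k).eq
    have h6 := Subgroup.card_dvd_of_le hgN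
    rw [Nat.card_zpowers, hg] at h6
    have hN : normalizer ((P : Subgroup G) : Set G) ≠ ⊤ :=
      normalizer_ne_top hG (hneb _ (by omega)) (hproper _ (by omega))
    have hmod : Nat.card (Sylow 3 G) ≡ 1 [MOD 3] := card_sylow_modEq_one 3 G
    rw [P.card_eq_index_normalizer] at hmod
    change (normalizer ((P : Subgroup G) : Set G)).index ≡ 1 [MOD 3] at hmod
    have hmul := (normalizer ((P : Subgroup G) : Set G)).card_mul_index
    rw [hG] at hmul
    have h12 : Nat.card (normalizer ((P : Subgroup G) : Set G)) = 12 := by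
      unfold Nat.ModEq at hmod
      rcases card_eq_of_dvd_six hG hN h6 with h | h | h
      · rw [h] at hmul; omega
      · exact h
      · rw [h] at hmul; omega
    intro P'
    have e1 := P.card_eq_index_normalizer
    have e2 := P'.card_eq_index_normalizer
    have hmul' := (normalizer ((P' : Subgroup G) : Set G)).card_mul_index
    change Nat.card (Sylow 3 G) = (normalizer ((P : Subgroup G) : Set G)).index at e1
    change Nat.card (Sylow 3 G) = (normalizer ((P' : Subgroup G) : Set G)).index at e2
    rw [← e2, hG] at hmul'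
    rw [← e1, h12] at hmul
    have : Nat.card (Sylow 3 G) = 91 := by omega
    rw [this] at hmul'
    omega
  -- Sylow 2-subgroups and involutions
  have hScard : ∀ S : Sylow 2 G, Nat.card (S : Subgroup G) = 4 := fun S => by
    rw [Sylow.card_eq_multiplicity, hG]
    rw [show (1092 : ℕ) = 2 ^ 2 * 273 from rfl, Nat.factorization_mul (by norm_num) (by norm_num),
      Finsupp.add_apply, Nat.Prime.factorization_pow Nat.prime_two,
      Nat.factorization_eq_zero_of_not_dvd (by norm_num : ¬ 2 ∣ 273)]
    simp
  have hScomm : ∀ S : Sylow 2 G, ∀ a ∈ (S : Subgroup G), ∀ b ∈ (S : Subgroup G), a * b = b * a := by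
    intro S a ha b hb
    have hc : Nat.card (S : Subgroup G) = 2 ^ 2 := by rw [hScard S]; norm_num
    exact congrArg Subtype.val
      (IsPGroup.commutative_of_card_eq_prime_sq hc (⟨a, ha⟩ : (S : Subgroup G)) ⟨b, hb⟩)
  have hSN : ∀ S : Sylow 2 G, Nat.card (normalizer ((S : Subgroup G) : Set G)) = 12 ∧
      ¬ normalizer ((S : Subgroup G) : Set G) ≤ centralizer ((S : Subgroup G) : Set G) := by
    intro S
    have hnot : ¬ normalizer ((S : Subgroup G) : Set G) ≤ centralizer ((S : Subgroup G) : Set G) := by
      intro h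
      have hc := MonoidHom.ker_transferSylow_isComplement' S h
      have hmul := hc.card_mul
      rw [hScard S, hG] at hmul
      rcases (MonoidHom.normal_ker (MonoidHom.transferSylow S h)).eq_bot_or_eq_top with h' | h'
      · rw [h', Subgroup.card_bot] at hmul; omega
      · rw [h', Subgroup.card_top, hG] at hmul; omega
    refine ⟨?_, hnot⟩
    have hd := Subgroup.card_dvd_of_le (Subgroup.le_normalizer (H := (S : Subgroup G)))
    rw [hScard S] at hd
    have hN : normalizer ((S : Subgroup G) : Set G) ≠ ⊤ :=
      normalizer_ne_top hG (hneb _ (by rw [hScard S]; omega)) (hproper _ (by rw [hScard S]; omega))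
    rcases card_dvd hG hN with h | h | h
    · exact absurd (hd.trans h) (by norm_num)
    · exact absurd (hd.trans h) (by norm_num)
    · have hle := Nat.le_of_dvd (by norm_num) h
      obtain ⟨j, hj⟩ := hd
      rw [hj] at h hle ⊢
      have hj3 : j ≤ 3 := by omega
      interval_cases j
      · simp at h
      · exfalso
        apply hnot
        intro x hx
        have heq : (S : Subgroup G) = normalizer ((S : Subgroup G) : Set G) :=
          Subgroup.eq_of_le_of_card_ge Subgroup.le_normalizer (by rw [hj, hScard S])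
        rw [← heq] at hx
        exact Subgroup.mem_centralizer_iff.2 fun u hu => hScomm S u hu x hx
      · norm_num at h
      · norm_num
  have ht : orderOf (g ^ 3) = 2 := by rw [orderOf_pow, hg]; rfl
  have hinv : ∀ u : G, orderOf u = 2 → Nat.card (centralizer (zpowers u : Set G)) = 12 := by
    have hex : ∀ u : G, orderOf u = 2 → ∃ S : Sylow 2 G, u ∈ (S : Subgroup G) := fun u hu => by
      obtain ⟨S, hS⟩ := (IsPGroup.of_card (n := 1) (G := zpowers u)
        (by rw [Nat.card_zpowers, hu, pow_one])).exists_le_sylow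
      exact ⟨S, hS (mem_zpowers u)⟩
    have hfix : ∀ u : G, orderOf u = 2 → 4 ∣ Nat.card (centralizer (zpowers u : Set G)) := by
      intro u hu
      obtain ⟨S, huS⟩ := hex u hu
      rw [← hScard S]
      refine Subgroup.card_dvd_of_le fun x hx => Subgroup.mem_centralizer_iff.2 ?_
      intro v hv
      exact hScomm S v ((Subgroup.zpowers_le.2 huS) hv) x hx
    have hprop : ∀ u : G, orderOf u = 2 → centralizer (zpowers u : Set G) ≠ ⊤ := by
      intro u hu h
      refine normalizer_ne_top hG (A := zpowers u) (hneb _ (by rw [Nat.card_zpowers, hu]; omega))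
        (hproper _ (by rw [Nat.card_zpowers, hu]; omega)) ?_
      exact top_le_iff.1 (h ▸ (Subgroup.centralizer_le_normalizer _))
    have ht12 : Nat.card (centralizer (zpowers (g ^ 3) : Set G)) = 12 := by
      have h4 := hfix _ ht
      have h6 : orderOf g ∣ Nat.card (centralizer (zpowers (g ^ 3) : Set G)) := by
        rw [← Nat.card_zpowers]
        refine Subgroup.card_dvd_of_le (Subgroup.zpowers_le.2 (Subgroup.mem_centralizer_iff.2 ?_))
        rintro _ ⟨k, rfl⟩
        exact ((Commute.pow_self g 3).zpow_left k).eq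
      rw [hg] at h6
      rcases card_eq_of_dvd_six hG (hprop _ ht) h6 with h | h | h <;> rw [h] at h4
      · norm_num at h4
      · exact h
      · norm_num at h4
    intro u hu
    obtain ⟨S, huS⟩ := hex (g ^ 3) ht
    obtain ⟨S', huS'⟩ := hex u hu
    obtain ⟨y, hy⟩ := MulAction.exists_smul_eq G S' S
    have hvS : y * u * y⁻¹ ∈ (S : Subgroup G) := by
      rw [← hy]
      exact ⟨u, huS', rfl⟩
    obtain ⟨hN12, hnc⟩ := hSN S
    obtain ⟨x, hxN, hxC⟩ := SetLike.not_le_iff_exists.1 hnc
    -- some `w` in `N(S)` has cube in `S` and moves an element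
    obtain ⟨w, hwN, hw3, hwC⟩ : ∃ w ∈ normalizer ((S : Subgroup G) : Set G), w ^ 3 ∈ (S : Subgroup G) ∧
        w ∉ centralizer ((S : Subgroup G) : Set G) := by
      refine ⟨x, hxN, ?_, hxC⟩
      haveI : ((S : Subgroup G).subgroupOf (normalizer ((S : Subgroup G) : Set G))).Normal :=
        Subgroup.normal_in_normalizer
      have hidx : ((S : Subgroup G).subgroupOf (normalizer ((S : Subgroup G) : Set G))).index = 3 := by
        have := ((S : Subgroup G).subgroupOf (normalizer ((S : Subgroup G) : Set G))).card_mul_index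
        rw [Nat.card_congr (Subgroup.subgroupOfEquivOfLe Subgroup.le_normalizer).toEquiv, hScard S,
          hN12] at this
        omega
      have := Subgroup.pow_index_mem ((S : Subgroup G).subgroupOf _) (⟨x, hxN⟩ : normalizer ((S : Subgroup G) : Set G))
      rw [hidx] at this
      exact this
    have hwS : ∀ v ∈ (S : Subgroup G), w * v * w⁻¹ ∈ (S : Subgroup G) := fun v hv =>
      (Subgroup.mem_normalizer_iff.1 hwN v).1 hv
    obtain ⟨c, hc⟩ : ∃ c : ↥(S : Subgroup G) → ↥(S : Subgroup G), ∀ v : (S : Subgroup G), ((c v : (S : Subgroup G)) : G) = w * (v : G) * w⁻¹ :=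
      ⟨fun v => ⟨w * v * w⁻¹, hwS v v.2⟩, fun _ => rfl⟩
    have hc3 : ∀ v, c (c (c v)) = v := fun v => by
      apply Subtype.ext
      rw [hc, hc, hc]
      have := hScomm S _ hw3 _ v.2
      calc w * (w * (w * v * w⁻¹) * w⁻¹) * w⁻¹ = w ^ 3 * v * (w ^ 3)⁻¹ := by simp only [pow_succ, pow_zero, one_mul, mul_inv_rev, mul_assoc]
        _ = v := by rw [this, mul_inv_cancel_right]
    have hcinj : Function.Injective c := fun a b h => by rw [← hc3 a, ← hc3 b, h]
    -- orbit of the non-trivial elements
    have key : ∀ (s a b : (S : Subgroup G)), s ≠ 1 → a ≠ 1 → a ≠ s → b ≠ 1 → b ≠ s → b ≠ a →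
        c s ≠ s := by
      intro s a b hs1 ha1 has hb1 hbs hba hcs
      apply hwC
      refine conj_fix_of_mem_centralizer fun v hv => ?_
      have huniv : ∀ v : (S : Subgroup G), v = 1 ∨ v = s ∨ v = a ∨ v = b := by
        haveI : Fintype (S : Subgroup G) := Fintype.ofFinite _
        have h4 : Fintype.card (S : Subgroup G) = 4 := by
          rw [← Nat.card_eq_fintype_card]; exact hScard S
        intro v
        by_contra hv
        push_neg at hv
        have : ({1, s, a, b, v} : Finset (S : Subgroup G)).card = 5 := by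
          simp [hs1.symm, ha1.symm, hb1.symm, hv.1.symm, hv.2.1.symm, hv.2.2.1.symm, hv.2.2.2.symm,
            has.symm, hbs.symm, hba.symm]
        have h5 := Finset.card_le_univ ({1, s, a, b, v} : Finset (S : Subgroup G))
        omega
      have hc1 : c 1 = 1 := Subtype.ext (by rw [hc]; simp)
      have hca : c a = a := by
        rcases huniv (c a) with h | h | h | h
        · exact absurd (hcinj (h.trans hc1.symm)) ha1
        · exact absurd (hcinj (h.trans hcs.symm)) has
        · exact h
        · rcases huniv (c b) with h' | h' | h' | h'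
          · exact absurd (hcinj (h'.trans hc1.symm)) hb1
          · exact absurd (hcinj (h'.trans hcs.symm)) hbs
          · exfalso
            have := hc3 a
            rw [h, h', h] at this
            exact hba this
          · exact absurd (hcinj (h'.trans h.symm)).symm (Ne.symm hba)
      have hcb : c b = b := by
        rcases huniv (c b) with h | h | h | h
        · exact absurd (hcinj (h.trans hc1.symm)) hb1
        · exact absurd (hcinj (h.trans hcs.symm)) hbs
        · exact absurd (hcinj (h.trans hca.symm)) hba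
        · exact h
      have hfixv : c ⟨v, hv⟩ = ⟨v, hv⟩ := by
        rcases huniv ⟨v, hv⟩ with h | h | h | h <;> rw [h]
        · exact hc1
        · exact hcs
        · exact hca
        · exact hcb
      have := congrArg Subtype.val hfixv
      rwa [hc] at this
    -- transfer to `u`
    have hconj : ∀ a b : G, a * b * a⁻¹ = g ^ 3 →
        Nat.card (centralizer (zpowers b : Set G)) = 12 := by
      intro a b hab
      rw [← ht12, ← hab, ← MulAut.conj_apply]
      refine Nat.card_congr (Equiv.subtypeEquiv (MulAut.conj a).toEquiv fun x => ?_)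
      simp only [Subgroup.mem_centralizer_iff_commutator_eq_one, SetLike.mem_coe]
      constructor
      · intro h z hz
        obtain ⟨k, rfl⟩ := hz
        have := congrArg (MulAut.conj a) (h _ ⟨k, rfl⟩)
        simpa [map_commutatorElement, map_zpow] using this
      · intro h z hz
        obtain ⟨k, rfl⟩ := hz
        apply (MulAut.conj a).injective
        rw [map_commutatorElement, map_zpow, map_one]
        exact h _ ⟨k, rfl⟩
    obtain ⟨t0, ht0⟩ : ∃ t0 : (S : Subgroup G), (t0 : G) = g ^ 3 := ⟨⟨_, huS⟩, rfl⟩
    obtain ⟨v0, hv0⟩ : ∃ v0 : (S : Subgroup G), (v0 : G) = y * u * y⁻¹ := ⟨⟨_, hvS⟩, rfl⟩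
    have ht1 : t0 ≠ 1 := fun h => by
      rw [h] at ht0; rw [← ht0] at ht; simp at ht
    have hv1 : v0 ≠ 1 := fun h => by
      rw [h] at hv0
      have : u = 1 := conj_eq_one_iff.1 hv0.symm
      rw [this] at hu; simp at hu
    -- the orbit of `v0` reaches `t0`
    have : v0 = t0 ∨ c v0 = t0 ∨ c (c v0) = t0 := by
      by_contra hcon
      push_neg at hcon
      obtain ⟨hne1, hne2, hne3⟩ := hcon
      have hcv : c v0 ≠ v0 := by
        intro hcv
        have hc1 : c 1 = 1 := Subtype.ext (by rw [hc]; simp)
        have hprod1 : v0 * t0 ≠ 1 := by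
          intro h
          have h' : (v0 : G) * g ^ 3 = 1 := by rw [← ht0]; exact congrArg Subtype.val h
          apply hne1
          apply Subtype.ext
          have hsq : (g ^ 3) * g ^ 3 = 1 := by
            rw [← pow_two]; exact orderOf_dvd_iff_pow_eq_one.1 (by rw [ht])
          rw [ht0]
          exact mul_right_cancel (h'.trans hsq.symm)
        exact key v0 t0 (v0 * t0) hv1 ht1 (Ne.symm hne1) hprod1 (by simpa using ht1)
          (by simpa using hv1) hcv
      have hc1 : c 1 = 1 := Subtype.ext (by rw [hc]; simp)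
      have hcv1 : c v0 ≠ 1 := fun h => hv1 (hcinj (h.trans hc1.symm))
      have hccv1 : c (c v0) ≠ 1 := fun h => hcv1 (hcinj (h.trans hc1.symm))
      haveI : Fintype (S : Subgroup G) := Fintype.ofFinite _
      have h4 : Fintype.card (S : Subgroup G) = 4 := by
        rw [← Nat.card_eq_fintype_card]; exact hScard S
      have hd1 : c (c v0) ≠ v0 := fun h => hcv (by
        have := hc3 v0
        rw [h] at this
        exact this)
      have hd2 : c (c v0) ≠ c v0 := fun h => hcv (hcinj h)
      have h5 : ({1, v0, c v0, c (c v0), t0} : Finset (S : Subgroup G)).card = 5 := by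
        simp [hv1.symm, hcv1.symm, hccv1.symm, ht1.symm, hcv.symm, hd1.symm, hd2.symm, hne1, hne2,
          hne3]
      have := Finset.card_le_univ ({1, v0, c v0, c (c v0), t0} : Finset (S : Subgroup G))
      omega
    rcases this with h | h | h
    · exact hconj y u (by rw [← hv0, h, ht0])
    · refine hconj (w * y) u ?_
      rw [← ht0, ← h, hc, hv0]; group
    · refine hconj (w * w * y) u ?_
      rw [← ht0, ← h, hc, hc, hv0]; group
  -- the case analysis
  intro A hA
  have hA1 : A ≠ ⊥ := fun h => hA (h ▸ Subgroup.normal_bot)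
  have hA2 : A ≠ ⊤ := fun h => hA (h ▸ Subgroup.normal_top)
  have hAN := normalizer_ne_top hG hA1 hA2
  by_cases h13 : 13 ∣ Nat.card A
  · obtain ⟨P, hPA, hAP⟩ := exists_normal_sylow hG hA2 13 (Or.inl rfl) h13
    have hN78 : Nat.card (normalizer ((P : Subgroup G) : Set G)) = 78 :=
      card_normalizer hG 13 P (Or.inl rfl)
    have hcomm : ∀ a ∈ normalizer ((P : Subgroup G) : Set G), ∀ b ∈ normalizer ((P : Subgroup G) : Set G),
        a * b * a⁻¹ * b⁻¹ ∈ (P : Subgroup G) := by
      have hPc : Nat.card (P : Subgroup G) = 13 := by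
        rw [Sylow.card_eq_multiplicity, hG]
        rw [show (1092 : ℕ) = 13 * 84 from rfl, Nat.factorization_mul (by norm_num) (by norm_num),
          Finsupp.add_apply, Nat.Prime.factorization_self (by norm_num),
          Nat.factorization_eq_zero_of_not_dvd (by norm_num : ¬ 13 ∣ 84)]
        norm_num
      haveI : IsCyclic (P : Subgroup G) := isCyclic_of_prime_card hPc
      have hC : centralizer ((P : Subgroup G) : Set G) ≤ (P : Subgroup G) := by
        have hPle : (P : Subgroup G) ≤ centralizer ((P : Subgroup G) : Set G) := fun a ha =>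
          Subgroup.mem_centralizer_iff.2 fun b hb => by
            letI := IsCyclic.commGroup (α := (P : Subgroup G))
            exact congrArg Subtype.val (mul_comm (⟨b, hb⟩ : (P : Subgroup G)) ⟨a, ha⟩)
        have hd : Nat.card (centralizer ((P : Subgroup G) : Set G)) ∣ 78 := hN78 ▸
          Subgroup.card_dvd_of_le (Subgroup.centralizer_le_normalizer _)
        have hno : ∀ q : ℕ, (q = 2 ∨ q = 3) → ¬ q ∣ Nat.card (centralizer ((P : Subgroup G) : Set G)) := by
          intro q hq hqd
          haveI : Fact q.Prime := ⟨by rcases hq with rfl | rfl <;> norm_num⟩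
          obtain ⟨z, hz⟩ := exists_prime_orderOf_dvd_card' q hqd
          have hzord : orderOf (z : G) = q := by rw [Subgroup.orderOf_coe]; exact hz
          have hPz : (P : Subgroup G) ≤ centralizer (zpowers (z : G) : Set G) := by
            intro a ha
            rw [Subgroup.mem_centralizer_iff]
            rintro _ ⟨k, rfl⟩
            exact ((show Commute (z : G) a from
              (Subgroup.mem_centralizer_iff.1 z.2 a ha).symm).zpow_left k).eq
          rcases hq with rfl | rfl
          · have := Subgroup.card_dvd_of_le hPz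
            rw [hPc, hinv _ hzord] at this
            norm_num at this
          · obtain ⟨R, hR⟩ := (IsPGroup.of_card (n := 1) (G := zpowers (z : G))
              (by rw [Nat.card_zpowers, hzord, pow_one])).exists_le_sylow
            have hRc : Nat.card (R : Subgroup G) = 3 := by
              rw [Sylow.card_eq_multiplicity, hG]
              rw [show (1092 : ℕ) = 3 * 364 from rfl, Nat.factorization_mul (by norm_num) (by norm_num),
                Finsupp.add_apply, Nat.Prime.factorization_self Nat.prime_three,
                Nat.factorization_eq_zero_of_not_dvd (by norm_num : ¬ 3 ∣ 364)]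
              norm_num
            have hReq : zpowers (z : G) = (R : Subgroup G) :=
              Subgroup.eq_of_le_of_card_ge hR (by rw [Nat.card_zpowers, hzord, hRc])
            have := Subgroup.card_dvd_of_le (hPz.trans (Subgroup.centralizer_le_normalizer _))
            rw [hPc, hReq, hP3 R] at this
            norm_num at this
        have h13' : Nat.card (centralizer ((P : Subgroup G) : Set G)) ∣ 13 := by
          have h2 := (Nat.prime_two.coprime_iff_not_dvd.2 (hno 2 (Or.inl rfl))).symm
          have h3 := (Nat.prime_three.coprime_iff_not_dvd.2 (hno 3 (Or.inr rfl))).symm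
          exact (h2.mul_right h3).dvd_of_dvd_mul_left (by simpa using hd)
        exact (Subgroup.eq_of_le_of_card_ge hPle
          ((Nat.le_of_dvd (by norm_num) h13').trans hPc.ge)).ge
      intro a ha b hb
      apply hC
      let f := (P : Subgroup G).normalizerMonoidHom
      have hcm : ∀ u v : MulAut (P : Subgroup G), u * v = v * u := fun u v =>
        (IsCyclic.mulAutMulEquiv (P : Subgroup G)).injective (by rw [map_mul, map_mul, mul_comm])
      have hk : (⟨a, ha⟩ * ⟨b, hb⟩ * ⟨a, ha⟩⁻¹ * ⟨b, hb⟩⁻¹ : normalizer ((P : Subgroup G) : Set G)) ∈ f.ker := by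
        rw [MonoidHom.mem_ker, map_mul, map_mul, map_mul, map_inv, map_inv,
          hcm (f _) (f _), mul_assoc, mul_assoc]
        simp
      rw [Subgroup.normalizerMonoidHom_ker, Subgroup.mem_subgroupOf] at hk
      simpa using hk
    have hNA : normalizer ((P : Subgroup G) : Set G) ≤ normalizer (A : Set G) := by
      intro a ha
      rw [Subgroup.mem_normalizer_iff]
      have hfwd : ∀ a ∈ normalizer ((P : Subgroup G) : Set G), ∀ b ∈ A, a * b * a⁻¹ ∈ A := by
        intro a ha b hb
        have := A.mul_mem (hPA (hcomm a ha b (hAP hb))) hb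
        simpa using this
      intro b
      refine ⟨hfwd a ha b, fun hb => ?_⟩
      have := hfwd a⁻¹ (inv_mem ha) _ hb
      simpa [mul_assoc] using this
    refine isCoatom_of_card hG (Or.inl ?_)
    have hd := Subgroup.card_dvd_of_le hNA
    rw [hN78] at hd
    rcases card_dvd hG hAN with h | h | h
    · exact Nat.dvd_antisymm h hd
    · exact absurd (hd.trans h) (by norm_num)
    · exact absurd (hd.trans h) (by norm_num)
  by_cases h7 : 7 ∣ Nat.card A
  · obtain ⟨P, hPA, hAP⟩ := exists_normal_sylow hG hA2 7 (Or.inr rfl) h7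
    have hN14 : Nat.card (normalizer ((P : Subgroup G) : Set G)) = 14 :=
      card_normalizer hG 7 P (Or.inr rfl)
    have hnorm : (A.subgroupOf (normalizer ((P : Subgroup G) : Set G))).Normal := by
      have hmul := (A.subgroupOf (normalizer ((P : Subgroup G) : Set G))).card_mul_index
      rw [Nat.card_congr (Subgroup.subgroupOfEquivOfLe hAP).toEquiv, hN14] at hmul
      obtain ⟨j, hj⟩ := h7
      rw [hj, mul_assoc] at hmul
      have h2 : j * (A.subgroupOf (normalizer ((P : Subgroup G) : Set G))).index = 2 := by omega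
      have hidx : (A.subgroupOf (normalizer ((P : Subgroup G) : Set G))).index ∣ 2 := Dvd.intro_left _ h2
      rcases (Nat.dvd_prime Nat.prime_two).1 hidx with h | h
      · rw [Subgroup.index_eq_one] at h; rw [h]; infer_instance
      · exact Subgroup.normal_of_index_eq_two h
    have hNA := (Subgroup.normal_subgroupOf_iff_le_normalizer hAP).1 hnorm
    refine isCoatom_of_card hG (Or.inr (Or.inl ?_))
    have hd := Subgroup.card_dvd_of_le hNA
    rw [hN14] at hd
    rcases card_dvd hG hAN with h | h | h
    · exact absurd (hd.trans h) (by norm_num)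
    · exact Nat.dvd_antisymm h hd
    · exact absurd (hd.trans h) (by norm_num)
  have h12 : Nat.card A ∣ 12 := by
    rcases card_dvd hG hA2 with h | h | h
    · have := ((by norm_num : Nat.Prime 13).coprime_iff_not_dvd.2 h13).symm
      exact ((this.dvd_of_dvd_mul_right (show Nat.card A ∣ 6 * 13 by simpa using h))).trans (by norm_num)
    · have := ((by norm_num : Nat.Prime 7).coprime_iff_not_dvd.2 h7).symm
      exact ((this.dvd_of_dvd_mul_right (show Nat.card A ∣ 2 * 7 by simpa using h))).trans (by norm_num)
    · exact h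
  have hcard1 : Nat.card A ≠ 1 := fun h => hA1 (Subgroup.eq_bot_of_card_eq A h)
  by_cases h3 : 3 ∣ Nat.card A
  · let Q : Sylow 3 A := default
    obtain ⟨R, hR⟩ := (Q.2.map A.subtype).exists_le_sylow
    by_cases hA12 : Nat.card A = 12
    · exact isCoatom_of_twelve hG hA1 hA2 hA12 Subgroup.le_normalizer
    · -- `A` has order 3 or 6 and a normal Sylow 3-subgroup
      have hA36 : Nat.card A = 3 ∨ Nat.card A = 6 := by
        have := Nat.le_of_dvd (by norm_num) h12
        obtain ⟨j, hj⟩ := h3
        rw [hj] at h12 hA12 this ⊢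
        have hj4 : j ≤ 4 := by omega
        interval_cases j
        · simp at h12
        · simp
        · simp
        · norm_num at h12
        · simp at hA12
      have hQc : Nat.card (Q : Subgroup A) = 3 := by
        rw [Sylow.card_eq_multiplicity]
        rcases hA36 with h | h <;> rw [h]
        · rw [Nat.Prime.factorization_self Nat.prime_three, pow_one]
        · rw [show (6 : ℕ) = 3 * 2 from rfl, Nat.factorization_mul (by norm_num) (by norm_num),
            Finsupp.add_apply, Nat.Prime.factorization_self Nat.prime_three,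
            Nat.factorization_eq_zero_of_not_dvd (by norm_num : ¬ 3 ∣ 2)]
          norm_num
      have hRc : Nat.card (R : Subgroup G) = 3 := by
        rw [Sylow.card_eq_multiplicity, hG]
        rw [show (1092 : ℕ) = 3 * 364 from rfl, Nat.factorization_mul (by norm_num) (by norm_num),
          Finsupp.add_apply, Nat.Prime.factorization_self Nat.prime_three,
          Nat.factorization_eq_zero_of_not_dvd (by norm_num : ¬ 3 ∣ 364)]
        norm_num
      have hReq : (Q : Subgroup A).map A.subtype = (R : Subgroup G) :=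
        Subgroup.eq_of_le_of_card_ge hR (by
          rw [Subgroup.card_map_of_injective A.subtype_injective, hQc, hRc])
      have hRA : (R : Subgroup G) ≤ A := hReq ▸ Subgroup.map_subtype_le _
      have hQn : (Q : Subgroup A).Normal := by
        have hm := (Q : Subgroup A).card_mul_index
        rw [hQc] at hm
        rcases hA36 with h | h <;> rw [h] at hm
        · have : (Q : Subgroup A) = ⊤ := Subgroup.index_eq_one.1 (by omega)
          rw [this]; exact Subgroup.normal_top
        · exact Subgroup.normal_of_index_eq_two (by omega)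
      have hAR : A ≤ normalizer ((R : Subgroup G) : Set G) := by
        refine (Subgroup.normal_subgroupOf_iff_le_normalizer hRA).1 ?_
        rw [← hReq, Subgroup.subgroupOf, Subgroup.comap_map_eq_self_of_injective A.subtype_injective]
        exact hQn
      refine isCoatom_of_twelve hG hA1 hA2 (hP3 R) ?_
      rcases hA36 with h | h
      · rw [show A = (R : Subgroup G) from (Subgroup.eq_of_le_of_card_ge hRA (by rw [h, hRc])).symm]
      · refine (Subgroup.normal_subgroupOf_iff_le_normalizer hAR).1 (Subgroup.normal_of_index_eq_two ?_)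
        have hm := (A.subgroupOf (normalizer ((R : Subgroup G) : Set G))).card_mul_index
        rw [Nat.card_congr (Subgroup.subgroupOfEquivOfLe hAR).toEquiv, h, hP3 R] at hm
        omega
  · have hA24 : Nat.card A = 2 ∨ Nat.card A = 4 := by
      have := (Nat.prime_three.coprime_iff_not_dvd.2 h3).symm
      have h4 := this.dvd_of_dvd_mul_right (show Nat.card A ∣ 4 * 3 by simpa using h12)
      have := Nat.le_of_dvd (by norm_num) h4
      have := Nat.card_pos (α := A)
      generalize Nat.card A = c at *
      interval_cases c <;> simp_all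
    rcases hA24 with h | h
    · haveI : IsCyclic A := isCyclic_of_prime_card h
      obtain ⟨a, ha⟩ := IsCyclic.exists_ofOrder_eq_natCard (α := A)
      rw [h] at ha
      have haG : orderOf (a : G) = 2 := by rw [Subgroup.orderOf_coe]; exact ha
      have hAeq : A = zpowers (a : G) := (Subgroup.eq_of_le_of_card_ge (Subgroup.zpowers_le.2 a.2)
        (by rw [Nat.card_zpowers, haG, h])).symm
      refine isCoatom_of_twelve hG hA1 hA2 (hinv _ haG) ?_
      obtain ⟨w, hw⟩ : ∃ w, (a : G) = w := ⟨_, rfl⟩
      rw [hw] at hAeq ⊢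
      subst hAeq
      exact (Subgroup.centralizer_le_normalizer _)
    · obtain ⟨S, hS⟩ := (IsPGroup.of_card (n := 2) (G := A) (p := 2) (by rw [h]; norm_num)).exists_le_sylow
      have hAeq : A = (S : Subgroup G) := Subgroup.eq_of_le_of_card_ge hS (by rw [h, hScard S])
      refine isCoatom_of_twelve hG hA1 hA2 (hSN S).1 ?_
      rw [hAeq]

end Thirteen

/-- Pull back along an isomorphism. -/
theorem HasMaxNormalizers.of_equiv {K L : Type*} [Group K] [Group L] (e : K ≃* L)
    (h : HasMaxNormalizers L) : HasMaxNormalizers K := by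
  intro A hA
  have hs : Function.Surjective e.toMonoidHom := e.surjective
  have hA' : (A.map e.toMonoidHom).comap e.toMonoidHom = A :=
    Subgroup.comap_map_eq_self_of_injective e.injective A
  have hn : ¬ (A.map e.toMonoidHom).Normal := fun hn => hA (hA' ▸ hn.comap e.toMonoidHom)
  rw [← hA', ← Subgroup.comap_normalizer_eq_of_surjective _ hs]
  exact Subgroup.isCoatom_comap_of_surjective hs (h _ hn)

/-- A central extension by the only involution. -/
theorem HasMaxNormalizers.of_double_cover {L Q : Type*} [Group L] [Finite L] [Group Q]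
    (f : L →* Q) (hs : Function.Surjective f) (z : L) (hz : z * z = 1) (hk : f.ker = zpowers z)
    (hc : z ∈ center L) (hu : ∀ x : L, x * x = 1 → x = 1 ∨ x = z) (h : HasMaxNormalizers Q) :
    HasMaxNormalizers L := by
  intro A hA
  have hbig : ∀ B : Subgroup L, f.ker ≤ B → ¬ B.Normal → IsCoatom (normalizer (B : Set L)) := by
    intro B hB hBn
    have hB' : (B.map f).comap f = B := Subgroup.comap_map_eq_self hB
    have hn : ¬ (B.map f).Normal := fun hn => hBn (hB' ▸ hn.comap f)
    rw [← hB', ← Subgroup.comap_normalizer_eq_of_surjective _ hs]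
    exact Subgroup.isCoatom_comap_of_surjective hs (h _ hn)
  by_cases hzA : z ∈ A
  · exact hbig A (hk ▸ Subgroup.zpowers_le.2 hzA) hA
  have hodd : ∀ a ∈ A, a ^ Nat.card A = 1 := fun a ha =>
    orderOf_dvd_iff_pow_eq_one.1 (Subgroup.orderOf_dvd_natCard A ha)
  have hAodd : ¬ 2 ∣ Nat.card A := fun h2 => by
    haveI : Fact (Nat.Prime 2) := ⟨Nat.prime_two⟩
    obtain ⟨a, ha⟩ := exists_prime_orderOf_dvd_card' 2 h2
    have haa : (a : L) * a = 1 := by
      rw [← pow_two]
      exact orderOf_dvd_iff_pow_eq_one.1 (by rw [Subgroup.orderOf_coe, ha])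
    rcases hu _ haa with h | h
    · have : a = 1 := Subtype.ext h
      rw [this] at ha; simp at ha
    · exact hzA (h ▸ a.2)
  have hcomm : ∀ x, x * z = z * x := Subgroup.mem_center_iff.1 hc
  obtain ⟨B, hBmem⟩ : ∃ B : Subgroup L, ∀ x, x ∈ B ↔ x ∈ A ∨ x * z ∈ A :=
    ⟨{ carrier := {x | x ∈ A ∨ x * z ∈ A}
       one_mem' := Or.inl A.one_mem
       mul_mem' := by
        rintro a b (ha | ha) (hb | hb)
        · exact Or.inl (A.mul_mem ha hb)
        · exact Or.inr (by rw [mul_assoc]; exact A.mul_mem ha hb)
        · refine Or.inr ?_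
          have := A.mul_mem ha hb
          rwa [mul_assoc, ← hcomm, ← mul_assoc] at this
        · refine Or.inl ?_
          have := A.mul_mem ha hb
          rwa [mul_assoc, ← mul_assoc z, ← hcomm b, mul_assoc b, hz, mul_one] at this
       inv_mem' := by
        rintro a (ha | ha)
        · exact Or.inl (A.inv_mem ha)
        · refine Or.inr ?_
          have := A.inv_mem ha
          rwa [mul_inv_rev, inv_eq_of_mul_eq_one_right hz, ← hcomm] at this }, fun _ => Iff.rfl⟩
  have hAB : ∀ x ∈ B, x ^ Nat.card A = 1 → x ∈ A := by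
    intro x hx hx1
    rcases (hBmem x).1 hx with h' | h'
    · exact h'
    · exfalso
      have hpow := hodd _ h'
      rw [(Commute.mul_pow (hcomm x) _), hx1, one_mul] at hpow
      obtain ⟨k, hk2⟩ := Nat.odd_iff.2 (by omega : Nat.card A % 2 = 1)
      rw [hk2, pow_succ, pow_mul, pow_two, hz, one_pow, one_mul] at hpow
      rw [hpow, mul_one] at h'
      exact hzA (hpow ▸ A.one_mem)
  have hN : normalizer (A : Set L) = normalizer (B : Set L) := by
    ext g
    rw [Subgroup.mem_normalizer_iff, Subgroup.mem_normalizer_iff]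
    have hgz : ∀ x, g * (x * z) * g⁻¹ = g * x * g⁻¹ * z := fun x => by
      rw [mul_assoc (g * x) g⁻¹, hcomm g⁻¹]; group
    constructor
    · intro hg x
      rw [hBmem, hBmem, hg x, hg (x * z), hgz]
    · intro hg x
      constructor
      · intro hx
        refine hAB _ ((hg x).1 ((hBmem x).2 (Or.inl hx))) ?_
        rw [conj_pow, hodd x hx]; simp
      · intro hx
        refine hAB _ ((hg x).2 ((hBmem _).2 (Or.inl hx))) ?_
        have := hodd _ hx
        rw [conj_pow] at this
        exact conj_eq_one_iff.1 this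
  rw [hN]
  refine hbig B ?_ fun hBn => hA ?_
  · rw [hk, Subgroup.zpowers_le, hBmem]
    exact Or.inr (hz ▸ A.one_mem)
  · rw [← Subgroup.normalizer_eq_top_iff, hN, Subgroup.normalizer_eq_top_iff]
    exact hBn

/-- Coprime products with abelian groups. -/
theorem HasMaxNormalizers.prod {K S : Type*} [Group K] [CommGroup S] [Finite K] [Finite S]
    (hco : (Nat.card K).Coprime (Nat.card S)) (h : HasMaxNormalizers K) :
    HasMaxNormalizers (K × S) := by
  intro H hH
  have hs : Function.Surjective (MonoidHom.fst K S) := fun k => ⟨(k, 1), rfl⟩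
  obtain ⟨e, he1, he2⟩ := Nat.chineseRemainder hco 1 0
  have hsplit : ∀ x : K × S, x ^ e = (x.1, 1) := by
    intro x
    refine Prod.ext ?_ ?_
    · rw [Prod.pow_fst, ← pow_mod_natCard x.1 e, he1, pow_mod_natCard, pow_one]
    · rw [Prod.pow_snd, ← pow_mod_natCard x.2 e, he2, Nat.zero_mod, pow_zero]
  have hmem : ∀ x : K × S, x ∈ H ↔ x.1 ∈ H.map (MonoidHom.fst K S) ∧ x.2 ∈ H.map (MonoidHom.snd K S) := by
    intro x
    refine ⟨fun hx => ⟨⟨x, hx, rfl⟩, ⟨x, hx, rfl⟩⟩, fun ⟨⟨a, ha, ha1⟩, ⟨b, hb, hb2⟩⟩ => ?_⟩
    simp only [MonoidHom.coe_fst, MonoidHom.coe_snd] at ha1 hb2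
    have h1 : ((x.1, 1) : K × S) ∈ H := by rw [← ha1, ← hsplit a]; exact H.pow_mem ha e
    have h2 : ((1, x.2) : K × S) ∈ H := by
      have : ((1, b.2) : K × S) = (b ^ e)⁻¹ * b := by rw [hsplit b]; ext <;> simp
      rw [← hb2, this]
      exact H.mul_mem (H.inv_mem (H.pow_mem hb e)) hb
    simpa using H.mul_mem h1 h2
  have hN : normalizer (H : Set (K × S)) =
      (normalizer ((H.map (MonoidHom.fst K S) : Subgroup K) : Set K)).comap (MonoidHom.fst K S) := by
    ext g
    rw [Subgroup.mem_comap, Subgroup.mem_normalizer_iff, Subgroup.mem_normalizer_iff]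
    constructor
    · intro hg k
      constructor
      · rintro ⟨a, ha, rfl⟩
        exact ⟨_, (hg a).1 ha, by simp⟩
      · rintro ⟨a, ha, hka⟩
        refine ⟨g⁻¹ * a * g, (hg _).2 (by simpa [mul_assoc] using ha), ?_⟩
        simp only [MonoidHom.coe_fst] at hka ⊢
        simp [hka, mul_assoc]
    · intro hg x
      rw [hmem x, hmem (g * x * g⁻¹)]
      simp only [Prod.fst_mul, Prod.snd_mul, Prod.fst_inv, Prod.snd_inv, MonoidHom.coe_fst] at hg ⊢
      rw [hg, mul_comm g.2 x.2, mul_inv_cancel_right]
  rw [hN]
  refine Subgroup.isCoatom_comap_of_surjective hs (h _ fun hn => hH ?_)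
  rw [← Subgroup.normalizer_eq_top_iff, hN, Subgroup.normalizer_eq_top_iff.2 hn, Subgroup.comap_top]

section Thirteen

attribute [local instance] CfsgLib.Small.fact_prime_13

local notation "SL13" => Matrix.SpecialLinearGroup (Fin 2) (ZMod 13)

theorem mem_center_SL13 (x : SL13) : x ∈ center SL13 ↔ x = 1 ∨ x = -1 := by
  rw [Matrix.SpecialLinearGroup.mem_center_iff]
  constructor
  · rintro ⟨r, hr, hx⟩
    simp only [Fintype.card_fin] at hr
    have : (r - 1) * (r + 1) = 0 := by ring_nf; rw [hr]; ring
    rcases mul_eq_zero.1 this with h | h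
    · refine Or.inl (Subtype.ext ?_)
      rw [← hx, show r = 1 by linear_combination h]
      simp
    · refine Or.inr (Subtype.ext ?_)
      rw [← hx, show r = -1 by linear_combination h]
      simp [Matrix.diagonal_neg, ← Matrix.diagonal_one]
  · rintro (rfl | rfl)
    · exact ⟨1, by simp, by simp⟩
    · exact ⟨-1, by simp, by simp [Matrix.diagonal_neg, ← Matrix.diagonal_one]⟩

theorem hasMaxNormalizers_PSL13 :
    HasMaxNormalizers (Matrix.ProjectiveSpecialLinearGroup (Fin 2) (ZMod 13)) := by
  haveI := CfsgLib.Small.isSimple_PSL_two (F := ZMod 13) (p := 13) (ZMod.card 13) (by norm_num)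
  have hcard : Nat.card (Matrix.ProjectiveSpecialLinearGroup (Fin 2) (ZMod 13)) = 1092 := by
    have := CfsgLib.Small.card_PSL_two_prime (F := ZMod 13) (p := 13) (ZMod.card 13) (by decide)
    omega
  obtain ⟨d, hd⟩ : ∃ d : SL13, (d : Matrix (Fin 2) (Fin 2) (ZMod 13)) = !![2, 0; 0, 7] :=
    ⟨⟨!![2, 0; 0, 7], by decide⟩, rfl⟩
  refine Thirteen.hasMaxNormalizers hcard (QuotientGroup.mk d) ?_
  rw [orderOf_eq_iff (by norm_num)]
  refine ⟨?_, fun m hm hm0 => ?_⟩
  · rw [← QuotientGroup.mk_pow, QuotientGroup.eq_one_iff, mem_center_SL13]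
    right
    apply Subtype.ext
    rw [Matrix.SpecialLinearGroup.coe_pow, hd, Matrix.SpecialLinearGroup.coe_neg,
      Matrix.SpecialLinearGroup.coe_one]
    decide
  · rw [← QuotientGroup.mk_pow, ne_eq, QuotientGroup.eq_one_iff, mem_center_SL13]
    rintro (h | h) <;>
    · have h' := congrArg Subtype.val h
      simp only [Matrix.SpecialLinearGroup.coe_pow, hd, Matrix.SpecialLinearGroup.coe_neg,
        Matrix.SpecialLinearGroup.coe_one] at h'
      revert h'
      interval_cases m <;> decide

theorem sq_eq_one_SL13 (x : SL13) (hx : x * x = 1) : x = 1 ∨ x = -1 := by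
  refine (mem_center_SL13 x).1 ?_
  have h := congrArg Subtype.val hx
  obtain ⟨a, b, c, d, he⟩ : ∃ a b c d, (x : Matrix (Fin 2) (Fin 2) (ZMod 13)) = !![a, b; c, d] :=
    ⟨_, _, _, _, Matrix.eta_fin_two _⟩
  have hdet : (x : Matrix (Fin 2) (Fin 2) (ZMod 13)).det = 1 := x.2
  rw [he, Matrix.det_fin_two_of] at hdet
  rw [Matrix.SpecialLinearGroup.coe_mul, Matrix.SpecialLinearGroup.coe_one, he, Matrix.mul_fin_two,
    Matrix.one_fin_two] at h
  have e00 := congrFun (congrFun h 0) 0
  have e01 := congrFun (congrFun h 0) 1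
  have e10 := congrFun (congrFun h 1) 0
  have e11 := congrFun (congrFun h 1) 1
  simp only [Matrix.of_apply, Matrix.cons_val', Matrix.cons_val_zero, Matrix.cons_val_one,
    Matrix.cons_val_fin_one] at e00 e01 e10 e11
  have hne : a + d ≠ 0 := by
    intro h0
    have : (2 : ZMod 13) = 0 := by linear_combination (a - 0) * h0 - e00 - hdet
    exact absurd this (by decide)
  have hb : b = 0 := (mul_eq_zero.1 (show b * (a + d) = 0 by linear_combination e01)).resolve_right hne
  have hc : c = 0 := (mul_eq_zero.1 (show c * (a + d) = 0 by linear_combination e10)).resolve_right hne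
  have had : a = d := by
    have : (a - d) * (a + d) = 0 := by subst hb hc; linear_combination e00 - e11
    linear_combination (mul_eq_zero.1 this).resolve_right hne
  rw [Matrix.SpecialLinearGroup.mem_center_iff]
  refine ⟨a, ?_, ?_⟩
  · subst hb hc had
    rw [Fintype.card_fin]; linear_combination hdet
  · rw [he, hb, hc, ← had]
    ext i j; fin_cases i <;> fin_cases j <;> simp

theorem hasMaxNormalizers_SL13 : HasMaxNormalizers SL13 := by
  refine HasMaxNormalizers.of_double_cover (QuotientGroup.mk' (center SL13))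
    (QuotientGroup.mk'_surjective _) (-1) ?_ ?_ ((mem_center_SL13 _).2 (Or.inr rfl)) sq_eq_one_SL13
    hasMaxNormalizers_PSL13
  · apply Subtype.ext; simp
  · rw [QuotientGroup.ker_mk']
    refine le_antisymm (fun x hx => ?_) (Subgroup.zpowers_le.2 ((mem_center_SL13 _).2 (Or.inr rfl)))
    rcases (mem_center_SL13 x).1 hx with rfl | rfl
    · exact one_mem _
    · exact mem_zpowers _

end Thirteen

end FgsC
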