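import Cfsg.Agent.Lib.PLocal.CyclicMaxApps
import Cfsg.Agent.Lib.PGroups.Omega
import Cfsg.Agent.Lib.Base.MinimalNormal

/-!
# An odd `p`-group all of whose invariant elementary abelian subgroups are cyclic

Its elements of order `p` lie in a subgroup of exponent `p` with commutators and centre of order `p`.
-/

set_option autoImplicit false
set_option linter.style.haveILetI false

open scoped commutatorElement

namespace CfsgLib.FgsC.OddCore

variable {G : Type*} [Group G] [Finite G] {p : ℕ} [hp : Fact p.Prime]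

theorem exists_core (hodd : p ≠ 2) (P M : Subgroup G) (hP : IsPGroup p P) (hPne : P ≠ ⊥)
    (hPM : P ≤ M) (hM : M ≤ Subgroup.normalizer (P : Set G))
    (hsmall : ∀ E : Subgroup G, E ≤ P → M ≤ Subgroup.normalizer (E : Set G) →
      (∀ a ∈ E, ∀ b ∈ E, a * b = b * a) → (∀ a ∈ E, a ^ p = 1) → Nat.card E ≤ p) :
    ∃ (z : G) (R : Subgroup G), orderOf z = p ∧ R ≤ P ∧ z ∈ R ∧
      M ≤ Subgroup.normalizer (Subgroup.zpowers z : Set G) ∧ (∀ x ∈ P, z * x = x * z) ∧
      (∀ r ∈ R, r ^ p = 1) ∧ (∀ x ∈ P, x ^ p = 1 → x ∈ R) ∧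
      (∀ r ∈ R, ∀ s ∈ R, ⁅r, s⁆ ∈ Subgroup.zpowers z) ∧
      (∀ r ∈ R, (∀ s ∈ R, r * s = s * r) → r ∈ Subgroup.zpowers z) := by
  classical
  set Z := P ⊓ Subgroup.centralizer (P : Set G) with hZ
  have hZc : ∀ w ∈ Z, ∀ x ∈ P, w * x = x * w := fun w hw x hx =>
    (Subgroup.mem_centralizer_iff.1 hw.2 x hx).symm
  have hconjP : ∀ g ∈ M, ∀ x ∈ P, g * x * g⁻¹ ∈ P := fun g hg x hx =>
    (Subgroup.mem_normalizer_iff.1 (hM hg) x).1 hx
  have hnorm : ∀ E : Subgroup G, (∀ g ∈ M, ∀ x ∈ E, g * x * g⁻¹ ∈ E) →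
      M ≤ Subgroup.normalizer (E : Set G) := by
    intro E hE g hg
    rw [Subgroup.mem_normalizer_iff]
    refine fun x => ⟨hE g hg x, fun hx => ?_⟩
    simpa [mul_assoc] using hE g⁻¹ (M.inv_mem hg) _ hx
  have hconjZ : ∀ g ∈ M, ∀ w ∈ Z, g * w * g⁻¹ ∈ Z := by
    intro g hg w hw
    refine ⟨hconjP g hg w hw.1, Subgroup.mem_centralizer_iff.2 fun x hx => ?_⟩
    have h := hZc w hw _ (hconjP g⁻¹ (M.inv_mem hg) x hx)
    rw [inv_inv] at h
    calc x * (g * w * g⁻¹) = g * ((g⁻¹ * x * g) * w) * g⁻¹ := by group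
      _ = g * w * g⁻¹ * x := by rw [← h]; group
  have hcomm : ∀ a ∈ P, ∀ b ∈ P, ⁅a, b⁆ ∈ P := fun a ha b hb => by
    rw [commutatorElement_def]
    exact P.mul_mem (P.mul_mem (P.mul_mem ha hb) (P.inv_mem ha)) (P.inv_mem hb)
  -- linearity of commutators with central values
  have hlin : ∀ r ∈ P, ∀ s ∈ P, ∀ x ∈ P, ⁅s, x⁆ ∈ Z → ⁅r * s, x⁆ = ⁅r, x⁆ * ⁅s, x⁆ := by
    intro r hr s hs x hx hc
    calc ⁅r * s, x⁆ = r * ⁅s, x⁆ * r⁻¹ * ⁅r, x⁆ := by simp only [commutatorElement_def]; group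
      _ = ⁅s, x⁆ * ⁅r, x⁆ := by rw [← hZc _ hc r hr, mul_inv_cancel_right]
      _ = ⁅r, x⁆ * ⁅s, x⁆ := hZc _ hc _ (hcomm r hr x hx)
  let R : Subgroup G :=
    { carrier := {r | r ∈ P ∧ r ^ p = 1 ∧ ∀ x ∈ P, ⁅r, x⁆ ∈ Z}
      one_mem' := ⟨P.one_mem, one_pow p, fun x _ => by
        rw [commutatorElement_one_left]; exact Z.one_mem⟩
      inv_mem' := by
        rintro r ⟨hr, hrp, hrc⟩
        refine ⟨P.inv_mem hr, by rw [inv_pow, hrp, inv_one], fun x hx => ?_⟩
        have h := hlin r⁻¹ (P.inv_mem hr) r hr x hx (hrc x hx)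
        rw [inv_mul_cancel, commutatorElement_one_left, eq_comm] at h
        rw [eq_inv_of_mul_eq_one_left h]
        exact Z.inv_mem (hrc x hx)
      mul_mem' := by
        rintro r s ⟨hr, hrp, hrc⟩ ⟨hs, hsp, hsc⟩
        refine ⟨P.mul_mem hr hs, ?_, fun x hx => by
          rw [hlin r hr s hs x hx (hsc x hx)]; exact Z.mul_mem (hrc x hx) (hsc x hx)⟩
        have hc := hsc r hr
        rw [CfsgLib.PGroups.mul_pow_of_commute (hZc _ hc r hr) (hZc _ hc s hs), hrp, hsp,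
          one_mul, one_mul]
        have hcp : ∀ n : ℕ, ⁅s ^ n, r⁆ = ⁅s, r⁆ ^ n := by
          intro n
          induction n with
          | zero => rw [pow_zero, pow_zero, commutatorElement_one_left]
          | succ n ih => rw [pow_succ, hlin _ (P.pow_mem hs n) s hs r hr hc, ih, pow_succ]
        obtain ⟨c, hch⟩ := hp.out.dvd_choose_self (k := 2) two_ne_zero
          (lt_of_le_of_ne hp.out.two_le (Ne.symm hodd))
        rw [hch, pow_mul, ← hcp, hsp, commutatorElement_one_left, one_pow] }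
  have hR : ∀ {r}, r ∈ R ↔ r ∈ P ∧ r ^ p = 1 ∧ ∀ x ∈ P, ⁅r, x⁆ ∈ Z := Iff.rfl
  have hRP : R ≤ P := fun r hr => hr.1
  have hZR : ∀ w ∈ Z, w ^ p = 1 → w ∈ R := fun w hw hwp => hR.2 ⟨hw.1, hwp, fun x hx => by
    rw [commutatorElement_eq_one_iff_mul_comm.2 (hZc w hw x hx)]; exact Z.one_mem⟩
  have hconjR : ∀ g ∈ M, ∀ r ∈ R, g * r * g⁻¹ ∈ R := by
    intro g hg r hr
    refine hR.2 ⟨hconjP g hg r hr.1, by rw [conj_pow, hr.2.1, mul_one, mul_inv_cancel],
      fun x hx => ?_⟩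
    have h := hconjZ g hg _ (hr.2.2 _ (hconjP g⁻¹ (M.inv_mem hg) x hx))
    convert h using 1
    simp only [commutatorElement_def]
    group
  set W := R ⊓ Subgroup.centralizer (R : Set G) with hW
  have hWcard : Nat.card W ≤ p := by
    refine hsmall W (inf_le_left.trans hRP) (hnorm W fun g hg w hw => ?_)
      (fun a ha b hb => Subgroup.mem_centralizer_iff.1 hb.2 a ha.1) fun a ha => ha.1.2.1
    refine ⟨hconjR g hg w hw.1, Subgroup.mem_centralizer_iff.2 fun r hr => ?_⟩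
    have h := Subgroup.mem_centralizer_iff.1 hw.2 _ (hconjR g⁻¹ (M.inv_mem hg) r hr)
    rw [inv_inv] at h
    calc r * (g * w * g⁻¹) = g * ((g⁻¹ * r * g) * w) * g⁻¹ := by group
      _ = g * w * g⁻¹ * r := by rw [h]; group
  haveI : Nontrivial P := (Subgroup.nontrivial_iff_ne_bot P).2 hPne
  haveI := hP.center_nontrivial
  obtain ⟨m, hm, hmc⟩ : ∃ m, 0 < m ∧ Nat.card (Subgroup.center P) = p ^ m := by
    obtain ⟨m, hm⟩ := IsPGroup.iff_card.1 (hP.to_subgroup (Subgroup.center P))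
    refine ⟨m, Nat.pos_of_ne_zero fun h0 => ?_, hm⟩
    rw [h0, pow_zero] at hm
    exact (Finite.one_lt_card (α := Subgroup.center P)).ne' hm
  obtain ⟨z₀, hz₀⟩ := exists_prime_orderOf_dvd_card' (G := Subgroup.center P) p
    (hmc ▸ dvd_pow_self p hm.ne')
  set z : G := ((z₀ : P) : G) with hz
  have hoz : orderOf z = p := by
    rw [hz, Subgroup.orderOf_coe, Subgroup.orderOf_coe, hz₀]
  have hzp : z ^ p = 1 := by rw [← hoz, pow_orderOf_eq_one]
  have hzZ : z ∈ Z := ⟨(z₀ : P).2, Subgroup.mem_centralizer_iff.2 fun x hx =>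
    congrArg Subtype.val (Subgroup.mem_center_iff.1 z₀.2 ⟨x, hx⟩)⟩
  have hWz : W = Subgroup.zpowers z := by
    have hle : Subgroup.zpowers z ≤ W := Subgroup.zpowers_le.2
      ⟨hZR z hzZ hzp, Subgroup.mem_centralizer_iff.2 fun r hr => (hZc z hzZ r hr.1).symm⟩
    exact (Subgroup.eq_of_le_of_card_ge hle (by rw [Nat.card_zpowers, hoz]; exact hWcard)).symm
  have hRW : ∀ w ∈ Z, w ^ p = 1 → w ∈ W := fun w hw hwp =>
    ⟨hZR w hw hwp, Subgroup.mem_centralizer_iff.2 fun r hr => (hZc w hw r hr.1).symm⟩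
  have hcW : ∀ r ∈ R, ∀ x ∈ P, ⁅r, x⁆ ∈ W := by
    intro r hr x hx
    refine hRW _ (hr.2.2 x hx) ?_
    have hcp : ∀ n : ℕ, ⁅r ^ n, x⁆ = ⁅r, x⁆ ^ n := by
      intro n
      induction n with
      | zero => rw [pow_zero, pow_zero, commutatorElement_one_left]
      | succ n ih => rw [pow_succ, hlin _ (P.pow_mem hr.1 n) r hr.1 x hx (hr.2.2 x hx), ih, pow_succ]
    rw [← hcp, hr.2.1, commutatorElement_one_left]
  have hright : ∀ r ∈ R, ∀ u ∈ P, ∀ v ∈ P, ⁅r, u * v⁆ = ⁅r, u⁆ * ⁅r, v⁆ := by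
    intro r hr u hu v hv
    calc ⁅r, u * v⁆ = ⁅r, u⁆ * (u * ⁅r, v⁆ * u⁻¹) := by simp only [commutatorElement_def]; group
      _ = ⁅r, u⁆ * ⁅r, v⁆ := by rw [← hZc _ (hr.2.2 v hv) u hu, mul_inv_cancel_right]
  -- the functional `r ↦ ⁅r, x⁆`
  let φ : ∀ x ∈ P, R →* W := fun x hx =>
    MonoidHom.mk' (fun r => ⟨⁅(r : G), x⁆, hcW r r.2 x hx⟩) fun r s => Subtype.ext
      (hlin r (hRP r.2) s (hRP s.2) x hx (s.2.2.2 x hx))
  have hφ : ∀ x hx (r : R), (φ x hx r : G) = ⁅(r : G), x⁆ := fun x hx r => rfl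
  have hWz' : ∀ {w}, w ∈ W → w ∈ Subgroup.zpowers z := fun h => hWz ▸ h
  have hWpos : Nat.card W = p := by rw [hWz, Nat.card_zpowers, hoz]
  -- centralisers in `R` are large
  have hbig : ∀ (n : ℕ) (S : Subgroup G), Nat.card S ≤ n → W ≤ S → S ≤ R →
      Nat.card R * p ≤ Nat.card (R ⊓ Subgroup.centralizer (S : Set G) : Subgroup G) * Nat.card S := by
    intro n
    induction n with
    | zero => intro S hS; exact absurd hS (not_le.2 Nat.card_pos)
    | succ n ih =>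
      intro S hS hWS hSR
      rcases eq_or_lt_of_le hWS with rfl | hlt
      · rw [hWpos]
        refine Nat.mul_le_mul_right p (Subgroup.card_le_of_le (le_inf le_rfl ?_))
        exact Subgroup.le_centralizer_iff.1 (inf_le_right : W ≤ _)
      obtain ⟨T, ⟨hWT, hTS⟩, hmax⟩ := Set.exists_max_image {T : Subgroup G | W ≤ T ∧ T < S}
        (fun T => Nat.card T) (Set.toFinite _) ⟨W, le_rfl, hlt⟩
      obtain ⟨s, hsS, hsT⟩ := SetLike.exists_of_lt hTS
      have hsup : T ⊔ Subgroup.zpowers s = S := by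
        by_contra hne
        have h1 : T ⊔ Subgroup.zpowers s < S :=
          lt_of_le_of_ne (sup_le hTS.le (Subgroup.zpowers_le.2 hsS)) hne
        have h2 := hmax _ ⟨hWT.trans le_sup_left, h1⟩
        have h3 := Subgroup.eq_of_le_of_card_ge le_sup_left h2
        exact hsT (h3 ▸ Subgroup.mem_sup_right (Subgroup.mem_zpowers s))
      have hcardlt : Nat.card T < Nat.card S := lt_of_not_ge fun h =>
        hTS.ne (Subgroup.eq_of_le_of_card_ge hTS.le h)
      have hTp : p * Nat.card T ≤ Nat.card S := by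
        obtain ⟨a, ha⟩ := CfsgLib.PGroups.card_subgroup_eq_pow hP (T.subgroupOf P)
        obtain ⟨b, hb⟩ := CfsgLib.PGroups.card_subgroup_eq_pow hP (S.subgroupOf P)
        rw [Nat.card_congr (Subgroup.subgroupOfEquivOfLe ((hTS.le.trans hSR).trans hRP)).toEquiv] at ha
        rw [Nat.card_congr (Subgroup.subgroupOfEquivOfLe (hSR.trans hRP)).toEquiv] at hb
        rw [ha, hb] at hcardlt ⊢
        rw [← pow_succ']
        exact Nat.pow_le_pow_right hp.out.pos
          ((Nat.pow_lt_pow_iff_right hp.out.one_lt).1 hcardlt)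
      have h := ih T (by omega) hWT (hTS.le.trans hSR)
      set C := R ⊓ Subgroup.centralizer (T : Set G) with hC
      let f : C →* W := (φ s (hRP (hSR hsS))).comp (Subgroup.inclusion (inf_le_left : C ≤ R))
      have hker : f.ker.map C.subtype ≤ R ⊓ Subgroup.centralizer (S : Set G) := by
        rintro _ ⟨⟨w, hw⟩, hwk, rfl⟩
        refine ⟨hw.1, Subgroup.mem_centralizer_iff.2 fun y hy => ?_⟩
        have hsw : ⁅w, s⁆ = 1 := congrArg Subtype.val (MonoidHom.mem_ker.1 hwk)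
        have hle : T ⊔ Subgroup.zpowers s ≤ Subgroup.centralizer {w} := sup_le
          (fun t ht => Subgroup.mem_centralizer_singleton_iff.2
            (Subgroup.mem_centralizer_iff.1 hw.2 t ht))
          (Subgroup.zpowers_le.2 (Subgroup.mem_centralizer_singleton_iff.2
            (commutatorElement_eq_one_iff_mul_comm.1 hsw).symm))
        exact Subgroup.mem_centralizer_singleton_iff.1 (hle (hsup.symm ▸ hy))
      have h1 := f.ker.card_mul_index
      rw [Subgroup.index_ker] at h1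
      have h2 : Nat.card f.range ≤ p := hWpos ▸ Subgroup.card_le_card_group _
      have h3 : Nat.card f.ker ≤ Nat.card (R ⊓ Subgroup.centralizer (S : Set G) : Subgroup G) := by
        rw [← CfsgLib.Base.card_map_subtype f.ker]
        exact Subgroup.card_le_of_le hker
      calc Nat.card R * p ≤ Nat.card C * Nat.card T := h
        _ ≤ Nat.card f.ker * p * Nat.card T :=
          Nat.mul_le_mul_right _ (h1 ▸ Nat.mul_le_mul_left _ h2)
        _ ≤ _ := by
          rw [mul_assoc]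
          exact Nat.mul_le_mul h3 hTp
  -- every element of `P` induces an inner automorphism on `R`
  have hinner : ∀ x ∈ P, ∃ s ∈ R, ∀ r ∈ R, ⁅r, x⁆ = ⁅r, s⁆ := by
    intro x hx
    by_cases hall : ∀ r ∈ R, ⁅r, x⁆ = 1
    · exact ⟨1, R.one_mem, fun r hr => by rw [hall r hr, commutatorElement_one_right]⟩
    push Not at hall
    obtain ⟨r₀, hr₀, hr₀x⟩ := hall
    set Rx := ((φ x hx).ker.map R.subtype) with hRx
    have hRxR : Rx ≤ R := Subgroup.map_subtype_le _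
    have hWRx : W ≤ Rx := fun w hw => ⟨⟨w, hw.1⟩, MonoidHom.mem_ker.2 (Subtype.ext (by
      have hwZ : w ∈ Subgroup.zpowers z := hWz' hw
      exact commutatorElement_eq_one_iff_mul_comm.2
        (hZc w ((Subgroup.zpowers_le.2 hzZ) hwZ) x hx))), rfl⟩
    have hgen : ∀ w ∈ W, ∀ u ∈ W, u ≠ 1 → ∃ j : ℕ, u ^ j = w := by
      intro w hw u hu hu1
      have hz1 : Subgroup.zpowers u = W := by
        have hle : Subgroup.zpowers u ≤ W := Subgroup.zpowers_le.2 hu
        refine Subgroup.eq_of_le_of_card_ge hle ?_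
        rw [hWpos, Nat.card_zpowers, orderOf_eq_prime (hu.1.2.1) hu1]
      rw [← hz1] at hw
      exact (mem_powers_iff_mem_zpowers.2 hw).imp fun j h => h
    have hdec : ∀ r ∈ R, ∃ j : ℕ, r * (r₀ ^ j)⁻¹ ∈ Rx := by
      intro r hr
      obtain ⟨j, hj⟩ := hgen _ (φ x hx ⟨r, hr⟩).2 _ (φ x hx ⟨r₀, hr₀⟩).2 hr₀x
      refine ⟨j, ⟨⟨r, hr⟩ * (⟨r₀, hr₀⟩ ^ j)⁻¹, MonoidHom.mem_ker.2 ?_, rfl⟩⟩
      rw [map_mul, map_inv, map_pow, mul_inv_eq_one]
      exact Subtype.ext (by rw [SubmonoidClass.coe_pow]; exact hj.symm)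
    have hRxlt : Nat.card Rx * p ≤ Nat.card R := by
      rw [hRx, CfsgLib.Base.card_map_subtype, ← (φ x hx).ker.card_mul_index]
      refine Nat.mul_le_mul_left _ ?_
      rw [Subgroup.index_ker]
      have hle : Subgroup.zpowers ((φ x hx) ⟨r₀, hr₀⟩) ≤ (φ x hx).range :=
        Subgroup.zpowers_le.2 ⟨_, rfl⟩
      refine le_trans (le_of_eq ?_) (Subgroup.card_le_of_le hle)
      rw [Nat.card_zpowers, ← Subgroup.orderOf_coe,
        orderOf_eq_prime (p := p) (φ x hx ⟨r₀, hr₀⟩).2.1.2.1 hr₀x]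
    have hlt : Nat.card (Subgroup.zpowers z) <
        Nat.card (R ⊓ Subgroup.centralizer (Rx : Set G) : Subgroup G) := by
      have h1 := hbig _ Rx le_rfl hWRx hRxR
      rw [Nat.card_zpowers, hoz]
      have h2 : 0 < Nat.card Rx := Nat.card_pos
      have h3 := hp.out.two_le
      by_contra hle
      push Not at hle
      have h4 := le_trans h1 (Nat.mul_le_mul_right (Nat.card Rx) hle)
      nlinarith
    obtain ⟨s, hs, hsW⟩ := SetLike.not_le_iff_exists.1 fun hle =>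
      hlt.not_ge (Subgroup.card_le_of_le (hWz ▸ hle : _ ≤ Subgroup.zpowers z))
    have hs0 : ⁅r₀, s⁆ ≠ 1 := by
      intro h0
      apply hsW
      refine ⟨hs.1, Subgroup.mem_centralizer_iff.2 fun r hr => ?_⟩
      obtain ⟨j, hj⟩ := hdec r hr
      have c1 : Commute (r * (r₀ ^ j)⁻¹) s := Subgroup.mem_centralizer_iff.1 hs.2 _ hj
      have c2 : Commute r₀ s := commutatorElement_eq_one_iff_mul_comm.1 h0
      have := c1.mul_left (c2.pow_left j)
      rwa [inv_mul_cancel_right] at this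
    obtain ⟨j, hj⟩ := hgen _ (hcW r₀ hr₀ x hx) _ (hcW r₀ hr₀ s hs.1.1) hs0
    have hsj : ∀ (n : ℕ) r, r ∈ R → ⁅r, s ^ n⁆ = ⁅r, s⁆ ^ n := by
      intro n r hr
      induction n with
      | zero => rw [pow_zero, pow_zero, commutatorElement_one_right]
      | succ n ih => rw [pow_succ, hright r hr _ (P.pow_mem hs.1.1 n) s hs.1.1, ih, pow_succ]
    refine ⟨s ^ j, R.pow_mem hs.1 j, fun r hr => ?_⟩
    rw [hsj j r hr]
    obtain ⟨i, hi⟩ := hdec r hr
    obtain ⟨w, hwk, hwe⟩ := hi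
    have hw1 : ⁅(w : G), x⁆ = 1 := congrArg Subtype.val (MonoidHom.mem_ker.1 hwk)
    have hw2 : ⁅(w : G), s⁆ = 1 := commutatorElement_eq_one_iff_mul_comm.2
      (Subgroup.mem_centralizer_iff.1 hs.2 _ ⟨w, hwk, rfl⟩)
    have hre : r = (w : G) * r₀ ^ i := by
      rw [show (w : G) = r * (r₀ ^ i)⁻¹ from hwe, inv_mul_cancel_right]
    have hlinr : ∀ y ∈ P, ⁅(r₀ ^ i : G), y⁆ = ⁅r₀, y⁆ ^ i := fun y hy => by
      rw [← hφ y hy ⟨r₀, hr₀⟩, ← SubmonoidClass.coe_pow, ← map_pow, hφ y hy, SubmonoidClass.coe_pow]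
    rw [hre, hlin _ (hRP w.2) _ (P.pow_mem hr₀.1 i) x hx ((R.pow_mem hr₀ i).2.2 x hx),
      hlin _ (hRP w.2) _ (P.pow_mem hr₀.1 i) s hs.1.1 ((R.pow_mem hr₀ i).2.2 s hs.1.1), hw1, hw2,
      one_mul, one_mul, hlinr x hx, hlinr s hs.1.1, ← hj, pow_right_comm]
  set K := P ⊓ Subgroup.centralizer (R : Set G) with hK
  have hdecP : ∀ x ∈ P, ∃ s ∈ R, s⁻¹ * x ∈ K := by
    intro x hx
    obtain ⟨s, hs, heq⟩ := hinner x hx
    refine ⟨s, hs, P.mul_mem (P.inv_mem hs.1) hx, Subgroup.mem_centralizer_iff.2 fun r hr => ?_⟩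
    have h := hright r hr s⁻¹ (P.inv_mem hs.1) x hx
    have h' := hright r hr s⁻¹ (P.inv_mem hs.1) s hs.1
    rw [inv_mul_cancel, commutatorElement_one_right] at h'
    rw [heq r hr, ← h'] at h
    exact commutatorElement_eq_one_iff_mul_comm.1 h
  have hKc : IsCyclic K := by
    by_contra hnc
    have hnc' : ¬ IsCyclic (⊤ : Subgroup K) := fun h =>
      hnc (isCyclic_of_surjective Subgroup.topEquiv.toMonoidHom Subgroup.topEquiv.surjective)
    have hKp : IsPGroup p K := hP.to_le inf_le_left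
    obtain ⟨A, -, hAn, hAe, hAc⟩ := CfsgLib.PLocal.exists_normal_elementary_sq hodd hKp ⊤ hnc'
    haveI := hAn
    have hAne : A ≠ ⊥ := fun h => by
      rw [h, Subgroup.card_bot] at hAc
      exact absurd hAc.symm (Nat.one_lt_pow two_ne_zero hp.out.one_lt).ne'
    have hlt := CfsgLib.PGroups.commutator_top_lt hKp hAne
    haveI : (⁅A, (⊤ : Subgroup K)⁆).Normal := inferInstance
    have hcent : ⁅A, (⊤ : Subgroup K)⁆ ≤ Subgroup.center K := by
      rcases eq_or_ne ⁅A, (⊤ : Subgroup K)⁆ ⊥ with h | h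
      · rw [h]; exact bot_le
      have h1 := CfsgLib.PGroups.inf_center_ne_bot hKp h
      obtain ⟨a, ha⟩ := CfsgLib.PGroups.card_subgroup_eq_pow hKp ⁅A, (⊤ : Subgroup K)⁆
      obtain ⟨b, hb⟩ := CfsgLib.PGroups.card_subgroup_eq_pow hKp
        (⁅A, (⊤ : Subgroup K)⁆ ⊓ Subgroup.center K)
      have ha2 : a < 2 := by
        have := lt_of_not_ge fun h2 : Nat.card A ≤ Nat.card (⁅A, (⊤ : Subgroup K)⁆ : Subgroup K) =>
          hlt.ne (Subgroup.eq_of_le_of_card_ge hlt.le h2)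
        rw [ha, hAc] at this
        exact (Nat.pow_lt_pow_iff_right hp.out.one_lt).1 this
      have hb0 : b ≠ 0 := fun h0 => h1 (Subgroup.card_eq_one.1 (by rw [hb, h0, pow_zero]))
      exact (Subgroup.eq_of_le_of_card_ge inf_le_left (by
        rw [ha, hb]
        exact Nat.pow_le_pow_right hp.out.pos (by omega))).symm.trans_le inf_le_right
    have hAW : A.map K.subtype ≤ W := by
      rintro _ ⟨a, ha, rfl⟩
      refine ⟨hR.2 ⟨a.2.1, by rw [← map_pow, hAe.2 a ha, map_one], fun x hx => ?_⟩, a.2.2⟩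
      obtain ⟨s, hs, hk⟩ := hdecP x hx
      have hx' : x = s * (s⁻¹ * x) := (mul_inv_cancel_left _ _).symm
      set k : K := ⟨s⁻¹ * x, hk⟩ with hkdef
      have hc := hcent (Subgroup.commutator_mem_commutator ha (Subgroup.mem_top k))
      have hcP : ((⁅a, k⁆ : K) : G) ∈ P := (⁅a, k⁆ : K).2.1
      have hcZ : ((⁅a, k⁆ : K) : G) ∈ Z := by
        refine ⟨hcP, Subgroup.mem_centralizer_iff.2 fun y hy => ?_⟩
        obtain ⟨t, ht, hl⟩ := hdecP y hy
        have c1 : Commute t ((⁅a, k⁆ : K) : G) :=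
          Subgroup.mem_centralizer_iff.1 (⁅a, k⁆ : K).2.2 t ht
        have c2 : Commute (t⁻¹ * y) ((⁅a, k⁆ : K) : G) :=
          congrArg Subtype.val (Subgroup.mem_center_iff.1 hc ⟨_, hl⟩)
        have := c1.mul_left c2
        rwa [mul_inv_cancel_left] at this
      have hac : Commute (a : G) s := (Subgroup.mem_centralizer_iff.1 a.2.2 s hs).symm
      convert hcZ using 1
      have hkc : Commute ((⁅a, k⁆ : K) : G) s :=
        (Subgroup.mem_centralizer_iff.1 (⁅a, k⁆ : K).2.2 s hs).symm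
      rw [hx']
      calc ⁅(K.subtype a : G), s * (s⁻¹ * x)⁆
          = ⁅(a : G), s⁆ * (s * ((⁅a, k⁆ : K) : G) * s⁻¹) := by
            rw [hkdef]
            simp only [Subgroup.coe_subtype, commutatorElement_def, Subgroup.coe_mul,
              InvMemClass.coe_inv]
            group
        _ = ((⁅a, k⁆ : K) : G) := by
            rw [commutatorElement_eq_one_iff_mul_comm.2 hac.eq, one_mul, ← hkc.eq,
              mul_inv_cancel_right]
    have := Subgroup.card_le_of_le hAW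
    rw [CfsgLib.Base.card_map_subtype, hAc, hWpos] at this
    exact absurd this (not_le.2 (lt_self_pow₀ hp.out.one_lt one_lt_two))
  refine ⟨z, R, hoz, hRP, hZR z hzZ hzp, hnorm _ fun g hg w hw => ?_, fun x hx => hZc z hzZ x hx,
    fun r hr => hr.2.1, fun x hx hxp => ?_, fun r hr s hs => hWz' (hcW r hr s hs.1),
    fun r hr h => hWz' ⟨hr, Subgroup.mem_centralizer_iff.2 fun s hs => (h s hs).symm⟩⟩
  · refine hWz' (hRW _ (hconjZ g hg w ((Subgroup.zpowers_le.2 hzZ) hw)) ?_)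
    obtain ⟨i, rfl⟩ := Subgroup.mem_zpowers_iff.1 hw
    rw [conj_pow, ← zpow_natCast, ← zpow_mul, mul_comm, zpow_mul, zpow_natCast, hzp, one_zpow,
      mul_one, mul_inv_cancel]
  · obtain ⟨s, hs, hk⟩ := hdecP x hx
    haveI : IsMulCommutative K := ⟨⟨hKc.commGroup.mul_comm⟩⟩
    have hkZ : s⁻¹ * x ∈ Z := by
      refine ⟨hk.1, Subgroup.mem_centralizer_iff.2 fun y hy => ?_⟩
      obtain ⟨t, ht, hl⟩ := hdecP y hy
      have c1 : Commute t (s⁻¹ * x) := Subgroup.mem_centralizer_iff.1 hk.2 t ht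
      have c2 : Commute (t⁻¹ * y) (s⁻¹ * x) :=
        congrArg Subtype.val (mul_comm' (⟨_, hl⟩ : K) ⟨_, hk⟩)
      have := c1.mul_left c2
      rwa [mul_inv_cancel_left] at this
    have hc : Commute s (s⁻¹ * x) := (hZc _ hkZ s hs.1).symm
    have hkp : (s⁻¹ * x) ^ p = 1 := by
      have h := hc.mul_pow p
      rw [mul_inv_cancel_left, hxp, hs.2.1, one_mul] at h
      exact h.symm
    have := R.mul_mem hs (hZR _ hkZ hkp)
    rwa [mul_inv_cancel_left] at this

end CfsgLib.FgsC.OddCore
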