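import Mathlib

/-!
# Counting solutions of `x ^ n = 1` in explicit metabelian groups

A block is a semidirect product of two homogeneous modules with a two-generated abelian group
acting through fixed-point-free cyclic groups of matrices.  The number of solutions of
`x ^ n = 1` has a closed form that the kernel can evaluate.
-/

set_option autoImplicit false

open scoped Matrix

namespace CfsgLib.FgsC.OrderType

/-- A module `(ZMod q) ^ r` with a matrix of order dividing `d` all whose proper powers are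
fixed-point-free. -/
structure Comp where
  q : ℕ
  r : ℕ
  d : ℕ
  [q0 : NeZero q]
  [d0 : NeZero d]
  M : Matrix (Fin r) (Fin r) (ZMod q)
  pow_d : M ^ d = 1
  fpf : ∀ e : Fin d, (e : ℕ) ≠ 0 → ∃ N, N * (M ^ (e : ℕ) - 1) = 1
  torsion : ∀ c : ZMod q, Fintype.card {x : ZMod q // c * x = 0} = Nat.gcd c.val q

attribute [instance] Comp.q0 Comp.d0

namespace Comp

variable (C : Comp)

/-- The underlying module. -/
abbrev V : Type := Fin C.r → ZMod C.q

theorem pow_mod (e : ℕ) : C.M ^ (e % C.d) = C.M ^ e := by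
  conv_rhs => rw [← Nat.mod_add_div e C.d, pow_add, pow_mul, C.pow_d, one_pow, mul_one]

theorem pow_congr {e e' : ℕ} (h : e ≡ e' [MOD C.d]) : C.M ^ e = C.M ^ e' := by
  rw [← C.pow_mod e, ← C.pow_mod e', h]

/-- The norm vector `∑_{t<n} M ^ (e t) v`. -/
def norm (e n : ℕ) (v : C.V) : C.V := ∑ t ∈ Finset.range n, (C.M ^ (e * t)) *ᵥ v

/-- The predicted number of vectors with trivial norm. -/
def cnt (e n : ℕ) : ℕ := if C.d ∣ e then Nat.gcd n C.q ^ C.r else C.q ^ C.r

theorem card_norm_eq_zero (e n : ℕ) (hn : C.d ∣ e * n) :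
    Nat.card {v : C.V // C.norm e n v = 0} = C.cnt e n := by
  unfold cnt
  split_ifs with hd
  · have hnorm : ∀ v : C.V, C.norm e n v = n • v := by
      intro v
      unfold norm
      rw [Finset.sum_congr rfl (fun t _ => show (C.M ^ (e * t)) *ᵥ v = v by
        rw [C.pow_congr (e' := 0) ((Nat.modEq_zero_iff_dvd).mpr (hd.mul_right t)), pow_zero,
          Matrix.one_mulVec]), Finset.sum_const, Finset.card_range]
    have h1 : Nat.card {v : C.V // C.norm e n v = 0} =
        Nat.card (Fin C.r → {x : ZMod C.q // (n : ZMod C.q) * x = 0}) := by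
      refine Nat.card_congr ⟨fun v i => ⟨v.1 i, ?_⟩, fun f => ⟨fun i => (f i).1, ?_⟩, ?_, ?_⟩
      · have := congrFun ((hnorm v.1).symm.trans v.2) i
        simpa [nsmul_eq_mul] using this
      · rw [hnorm]
        funext i
        simpa [nsmul_eq_mul] using (f i).2
      · intro v; rfl
      · intro f; rfl
    rw [h1, Nat.card_fun, Nat.card_eq_fintype_card (α := {x : ZMod C.q // (n : ZMod C.q) * x = 0}),
      Nat.card_fin, C.torsion, ZMod.val_natCast]
    congr 1
    rw [← Nat.gcd_rec, Nat.gcd_comm]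
  · have hz : ∀ v : C.V, C.norm e n v = 0 := by
      intro v
      obtain ⟨N, hN⟩ := C.fpf ⟨e % C.d, Nat.mod_lt _ (Nat.pos_of_ne_zero (NeZero.ne _))⟩
        (fun h => hd (Nat.dvd_of_mod_eq_zero h))
      have h1 : C.M ^ e *ᵥ C.norm e n v - C.norm e n v
          = C.M ^ (e * n) *ᵥ v - C.M ^ (e * 0) *ᵥ v := by
        unfold norm
        rw [Matrix.mulVec_sum, ← Finset.sum_range_sub (fun t => C.M ^ (e * t) *ᵥ v),
          ← Finset.sum_sub_distrib]
        refine Finset.sum_congr rfl fun t _ => ?_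
        rw [Matrix.mulVec_mulVec, ← pow_add, show e + e * t = e * (t + 1) by ring]
      rw [C.pow_congr (e' := 0) ((Nat.modEq_zero_iff_dvd).mpr hn), mul_zero, sub_self] at h1
      have h2 : (N * (C.M ^ e - 1)) *ᵥ C.norm e n v = 0 := by
        rw [← Matrix.mulVec_mulVec, Matrix.sub_mulVec, Matrix.one_mulVec, h1, Matrix.mulVec_zero]
      simp only at hN
      rw [C.pow_mod e] at hN
      rwa [hN, Matrix.one_mulVec] at h2
    rw [Nat.card_congr (Equiv.subtypeUnivEquiv hz), Nat.card_fun, Nat.card_fin, Nat.card_zmod]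

end Comp

/-- The data of a block. -/
structure Block where
  a : ℕ
  b : ℕ
  [a0 : NeZero a]
  [b0 : NeZero b]
  C₁ : Comp
  C₂ : Comp
  u₁ : ℕ
  w₁ : ℕ
  u₂ : ℕ
  w₂ : ℕ
  hu₁ : C₁.d ∣ a * u₁
  hw₁ : C₁.d ∣ b * w₁
  hu₂ : C₂.d ∣ a * u₂
  hw₂ : C₂.d ∣ b * w₂

attribute [instance] Block.a0 Block.b0

namespace Block

variable (B : Block)

/-- The kernel module. -/
abbrev W : Type := B.C₁.V × B.C₂.V

/-- The acting group. -/
abbrev H : Type := ZMod B.a × ZMod B.b

/-- Exponent of the action on the first module. -/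
def e₁ (h : B.H) : ℕ := h.1.val * B.u₁ + h.2.val * B.w₁

/-- Exponent of the action on the second module. -/
def e₂ (h : B.H) : ℕ := h.1.val * B.u₂ + h.2.val * B.w₂

theorem val_add_modEq {a d u : ℕ} [NeZero a] (hd : d ∣ a * u) (i j : ZMod a) :
    (i + j).val * u ≡ i.val * u + j.val * u [MOD d] := by
  rw [← add_mul, ZMod.val_add]
  exact ((Nat.mod_modEq _ a).mul_right' u).of_dvd hd

theorem e₁_add (h h' : B.H) : B.e₁ (h + h') ≡ B.e₁ h + B.e₁ h' [MOD B.C₁.d] := by
  refine ((val_add_modEq B.hu₁ h.1 h'.1).add (val_add_modEq B.hw₁ h.2 h'.2)).trans ?_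
  unfold e₁; rw [add_add_add_comm]

theorem e₂_add (h h' : B.H) : B.e₂ (h + h') ≡ B.e₂ h + B.e₂ h' [MOD B.C₂.d] := by
  refine ((val_add_modEq B.hu₂ h.1 h'.1).add (val_add_modEq B.hw₂ h.2 h'.2)).trans ?_
  unfold e₂; rw [add_add_add_comm]

/-- The action of an element of `H` on the kernel. -/
def act (h : B.H) (w : B.W) : B.W :=
  (B.C₁.M ^ B.e₁ h *ᵥ w.1, B.C₂.M ^ B.e₂ h *ᵥ w.2)

theorem act_add (h h' : B.H) (w : B.W) : B.act (h + h') w = B.act h (B.act h' w) := by
  simp only [act, Matrix.mulVec_mulVec, ← pow_add, B.C₁.pow_congr (B.e₁_add h h'),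
    B.C₂.pow_congr (B.e₂_add h h')]

theorem act_zero (w : B.W) : B.act 0 w = w := by
  simp [act, e₁, e₂]

/-- The action as an automorphism of the multiplicative kernel. -/
def actAut (h : B.H) : MulAut (Multiplicative B.W) where
  toFun w := Multiplicative.ofAdd (B.act h w.toAdd)
  invFun w := Multiplicative.ofAdd (B.act (-h) w.toAdd)
  left_inv w := by simp [← act_add, act_zero]
  right_inv w := by simp [← act_add, act_zero]
  map_mul' v w := by
    rw [← ofAdd_add]
    simp [act, Matrix.mulVec_add]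

/-- The defining homomorphism. -/
def φ : Multiplicative B.H →* MulAut (Multiplicative B.W) where
  toFun h := B.actAut h.toAdd
  map_one' := by
    ext w
    · simp [actAut, act_zero]
    · simp [actAut, act_zero]
  map_mul' h h' := by
    refine MulEquiv.ext fun w => ?_
    simp [actAut, act_add]

/-- The group of a block. -/
abbrev G : Type := Multiplicative B.W ⋊[B.φ] Multiplicative B.H

instance : Finite B.G :=
  Finite.of_injective (fun x : B.G => (x.left, x.right))
    fun _ _ h => SemidirectProduct.ext (congrArg Prod.fst h) (congrArg Prod.snd h)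

theorem isSolvable : Group.IsSolvable B.G :=
  Group.isSolvable_of_ker_le_range (SemidirectProduct.inl (φ := B.φ)) SemidirectProduct.rightHom
    (by rw [SemidirectProduct.range_inl_eq_ker_rightHom])

theorem e₁_nsmul (h : B.H) (t : ℕ) : B.e₁ (t • h) ≡ B.e₁ h * t [MOD B.C₁.d] := by
  induction t with
  | zero => simp [e₁, Nat.ModEq]
  | succ t ih =>
    rw [succ_nsmul, mul_add, mul_one]
    exact (B.e₁_add _ _).trans (ih.add_right _)

theorem e₂_nsmul (h : B.H) (t : ℕ) : B.e₂ (t • h) ≡ B.e₂ h * t [MOD B.C₂.d] := by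
  induction t with
  | zero => simp [e₂, Nat.ModEq]
  | succ t ih =>
    rw [succ_nsmul, mul_add, mul_one]
    exact (B.e₂_add _ _).trans (ih.add_right _)

theorem pow_eq (x : B.G) (n : ℕ) :
    (x ^ n).right.toAdd = n • x.right.toAdd ∧
      (x ^ n).left.toAdd = (B.C₁.norm (B.e₁ x.right.toAdd) n x.left.toAdd.1,
        B.C₂.norm (B.e₂ x.right.toAdd) n x.left.toAdd.2) := by
  induction n with
  | zero => simp [Comp.norm, Prod.zero_eq_mk]
  | succ n ih =>
    rw [pow_succ, SemidirectProduct.mul_right, SemidirectProduct.mul_left]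
    refine ⟨by rw [toAdd_mul, ih.1, succ_nsmul], ?_⟩
    rw [toAdd_mul, ih.2]
    show _ + B.act (x ^ n).right.toAdd x.left.toAdd = _
    rw [ih.1]
    simp only [act, Comp.norm, Finset.sum_range_succ, Prod.mk_add_mk,
      B.C₁.pow_congr (B.e₁_nsmul x.right.toAdd n), B.C₂.pow_congr (B.e₂_nsmul x.right.toAdd n)]

/-- The predicted number of solutions of `x ^ n = 1`. -/
def F (n : ℕ) : ℕ :=
  ∑ i : ZMod B.a, ∑ j : ZMod B.b,
    if n * i.val % B.a = 0 ∧ n * j.val % B.b = 0 then
      B.C₁.cnt (B.e₁ (i, j)) n * B.C₂.cnt (B.e₂ (i, j)) n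
    else 0

theorem nsmul_eq_zero_iff (n : ℕ) {a : ℕ} [NeZero a] (i : ZMod a) :
    n • i = 0 ↔ n * i.val % a = 0 := by
  rw [← Nat.dvd_iff_mod_eq_zero, ← (ZMod.natCast_eq_zero_iff (n * i.val) a), Nat.cast_mul,
    ZMod.natCast_zmod_val, nsmul_eq_mul]

theorem card_pow_eq_one (n : ℕ) : Nat.card {x : B.G // x ^ n = 1} = B.F n := by
  classical
  let T : B.H → Type := fun h =>
    {w : B.W // n • h = 0 ∧ B.C₁.norm (B.e₁ h) n w.1 = 0 ∧ B.C₂.norm (B.e₂ h) n w.2 = 0}
  have hiff : ∀ x : B.G, x ^ n = 1 ↔ n • x.right.toAdd = 0 ∧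
      B.C₁.norm (B.e₁ x.right.toAdd) n x.left.toAdd.1 = 0 ∧
        B.C₂.norm (B.e₂ x.right.toAdd) n x.left.toAdd.2 = 0 := by
    intro x
    obtain ⟨h1, h2⟩ := B.pow_eq x n
    constructor
    · intro hx
      rw [hx] at h1 h2
      exact ⟨h1.symm, congrArg Prod.fst h2.symm, congrArg Prod.snd h2.symm⟩
    · rintro ⟨a1, a2, a3⟩
      refine SemidirectProduct.ext (Multiplicative.toAdd.injective ?_)
        (Multiplicative.toAdd.injective ?_)
      · rw [h2, a2, a3]; rfl
      · rw [h1, a1]; rfl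
  have hc : Nat.card {x : B.G // x ^ n = 1} = Nat.card (Σ h : B.H, T h) := by
    refine Nat.card_congr ⟨fun x => ⟨x.1.right.toAdd, x.1.left.toAdd, (hiff x.1).mp x.2⟩,
      fun s => ⟨⟨Multiplicative.ofAdd s.2.1, Multiplicative.ofAdd s.1⟩, (hiff _).mpr s.2.2⟩,
      fun x => rfl, fun s => rfl⟩
  rw [hc, Nat.card_sigma, Fintype.sum_prod_type]
  refine Finset.sum_congr rfl fun i _ => Finset.sum_congr rfl fun j _ => ?_
  have hz : n • ((i, j) : B.H) = 0 ↔ n * i.val % B.a = 0 ∧ n * j.val % B.b = 0 := by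
    rw [Prod.smul_mk, Prod.mk_eq_zero, nsmul_eq_zero_iff, nsmul_eq_zero_iff]
  split_ifs with h
  · have hn := hz.mpr h
    have k1 : B.C₁.d ∣ B.e₁ (i, j) * n := by
      have := B.e₁_nsmul (i, j) n
      rw [hn] at this
      exact Nat.modEq_zero_iff_dvd.mp (by simpa [e₁] using this.symm)
    have k2 : B.C₂.d ∣ B.e₂ (i, j) * n := by
      have := B.e₂_nsmul (i, j) n
      rw [hn] at this
      exact Nat.modEq_zero_iff_dvd.mp (by simpa [e₂] using this.symm)
    rw [← B.C₁.card_norm_eq_zero _ _ k1, ← B.C₂.card_norm_eq_zero _ _ k2, ← Nat.card_prod]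
    exact Nat.card_congr ⟨fun w => (⟨w.1.1, w.2.2.1⟩, ⟨w.1.2, w.2.2.2⟩),
      fun w => ⟨(w.1.1, w.2.1), hn, w.1.2, w.2.2⟩, fun _ => rfl, fun _ => rfl⟩
  · haveI : IsEmpty (T (i, j)) := ⟨fun w => h (hz.mp w.2.1)⟩
    exact Nat.card_of_isEmpty

theorem card_eq : Nat.card B.G = B.C₁.q ^ B.C₁.r * B.C₂.q ^ B.C₂.r * (B.a * B.b) := by
  simp [SemidirectProduct.card, Nat.card_fun, Nat.card_zmod]

end Block

section general

/-- Solutions of `x ^ n = 1` in a product. -/
theorem card_pow_eq_one_prod (A B : Type*) [Group A] [Group B] (n : ℕ) :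
    Nat.card {x : A × B // x ^ n = 1} =
      Nat.card {x : A // x ^ n = 1} * Nat.card {x : B // x ^ n = 1} := by
  rw [← Nat.card_prod]
  exact Nat.card_congr ⟨fun x => (⟨x.1.1, congrArg Prod.fst x.2⟩, ⟨x.1.2, congrArg Prod.snd x.2⟩),
    fun x => ⟨(x.1.1, x.2.1), Prod.ext x.1.2 x.2.2⟩, fun _ => rfl, fun _ => rfl⟩

/-- Solutions of `x ^ n = 1` in a finite product. -/
theorem card_pow_eq_one_pi {ι : Type*} [Fintype ι] (A : ι → Type*) [∀ i, Group (A i)] (n : ℕ) :
    Nat.card {x : (i : ι) → A i // x ^ n = 1} = ∏ i, Nat.card {x : A i // x ^ n = 1} := by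
  rw [← Nat.card_pi]
  exact Nat.card_congr ⟨fun x i => ⟨x.1 i, congrFun x.2 i⟩,
    fun x => ⟨fun i => (x i).1, funext fun i => (x i).2⟩, fun _ => rfl, fun _ => rfl⟩

theorem isSolvable_pi {ι : Type*} [Finite ι] (A : ι → Type*) [∀ i, Group (A i)]
    (h : ∀ i, Group.IsSolvable (A i)) : Group.IsSolvable ((i : ι) → A i) := by
  classical
  haveI := Fintype.ofFinite ι
  have hd : ∀ i, ∃ n, derivedSeries (A i) n = ⊥ := fun i => (Group.isSolvable_def _).mp (h i)
  choose n hn using hd
  refine (Group.isSolvable_def _).mpr ⟨∑ i, n i, eq_bot_iff.mpr fun x hx => ?_⟩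
  rw [Subgroup.mem_bot]
  funext i
  have := map_derivedSeries_le_derivedSeries (Pi.evalMonoidHom A i) _ (Subgroup.mem_map_of_mem _ hx)
  have h2 := derivedSeries_antitone (A i)
    (Finset.single_le_sum (f := n) (fun _ _ => Nat.zero_le _) (Finset.mem_univ i)) this
  rw [hn i, Subgroup.mem_bot] at h2
  exact h2

theorem card_pow_eq_one_eq_sum (K : Type*) [Group K] [Finite K] (m : ℕ) (hm : 0 < m) :
    Nat.card {x : K // x ^ m = 1} = ∑ d ∈ m.divisors, Nat.card {x : K // orderOf x = d} := by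
  classical
  haveI := Fintype.ofFinite K
  simp only [Nat.card_eq_fintype_card, Fintype.card_subtype]
  exact (sum_card_orderOf_eq_card_pow_eq_one hm.ne').symm

/-- If all numbers of solutions of `x ^ n = 1` agree for `n` dividing a common exponent `L`,
the numbers of elements of each order agree. -/
theorem card_orderOf_congr {G H : Type*} [Group G] [Group H] [Finite G] [Finite H] {L : ℕ}
    (hG : ∀ x : G, x ^ L = 1) (hH : ∀ x : H, x ^ L = 1)
    (h : ∀ n, n ∣ L → Nat.card {x : G // x ^ n = 1} = Nat.card {x : H // x ^ n = 1}) (n : ℕ) :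
    Nat.card {g : G // orderOf g = n} = Nat.card {g : H // orderOf g = n} := by
  classical
  rcases Nat.eq_zero_or_pos n with rfl | hn
  · haveI : IsEmpty {g : G // orderOf g = 0} := ⟨fun g => (orderOf_pos g.1).ne' g.2⟩
    haveI : IsEmpty {g : H // orderOf g = 0} := ⟨fun g => (orderOf_pos g.1).ne' g.2⟩
    rw [Nat.card_of_isEmpty, Nat.card_of_isEmpty]
  have hall : ∀ m, Nat.card {x : G // x ^ m = 1} = Nat.card {x : H // x ^ m = 1} := by
    intro m
    have eG : Nat.card {x : G // x ^ m = 1} = Nat.card {x : G // x ^ Nat.gcd m L = 1} :=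
      Nat.card_congr (Equiv.subtypeEquivRight fun x =>
        ⟨fun hx => pow_gcd_eq_one.mpr ⟨hx, hG x⟩, fun hx => (pow_gcd_eq_one.mp hx).1⟩)
    have eH : Nat.card {x : H // x ^ m = 1} = Nat.card {x : H // x ^ Nat.gcd m L = 1} :=
      Nat.card_congr (Equiv.subtypeEquivRight fun x =>
        ⟨fun hx => pow_gcd_eq_one.mpr ⟨hx, hH x⟩, fun hx => (pow_gcd_eq_one.mp hx).1⟩)
    rw [eG, eH]
    exact h _ (Nat.gcd_dvd_right _ _)
  induction n using Nat.strong_induction_on with
  | _ n ih =>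
    have h1 := card_pow_eq_one_eq_sum G n hn
    have h2 := card_pow_eq_one_eq_sum H n hn
    rw [← Nat.cons_self_properDivisors hn.ne', Finset.sum_cons] at h1 h2
    have h3 : ∑ d ∈ n.properDivisors, Nat.card {x : G // orderOf x = d} =
        ∑ d ∈ n.properDivisors, Nat.card {x : H // orderOf x = d} :=
      Finset.sum_congr rfl fun d hd =>
        ih d (Nat.mem_properDivisors.mp hd).2 (Nat.pos_of_mem_properDivisors hd)
    have := hall n
    omega

end general

end CfsgLib.FgsC.OrderType
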