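import Cfsg.Agent.Lib.FgsC.OrderType

/-!
# The blocks of a solvable and a non-solvable group with the same order type

Found by linear algebra on the logarithms of the numbers of solutions of `x ^ n = 1`.
-/

set_option autoImplicit false

namespace CfsgLib.FgsC.OrderType.Data

def c2_2_3.M : Matrix (Fin 2) (Fin 2) (ZMod 2) := !![0, 1; 1, 1]

def c2_2_3.N : Fin 3 → Matrix (Fin 2) (Fin 2) (ZMod 2) :=
  ![!![1, 0; 0, 1], !![0, 1; 1, 1], !![1, 1; 1, 0]]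

def c2_2_3 : Comp where
  q := 2
  r := 2
  d := 3
  M := c2_2_3.M
  pow_d := by decide +kernel
  fpf := fun e he => ⟨c2_2_3.N e, by revert he; revert e; decide +kernel⟩
  torsion := by decide +kernel

def c2_3_7.M : Matrix (Fin 3) (Fin 3) (ZMod 2) := !![0, 0, 1; 1, 0, 1; 0, 1, 0]

def c2_3_7.N : Fin 7 → Matrix (Fin 3) (Fin 3) (ZMod 2) :=
  ![!![1, 0, 0; 0, 1, 0; 0, 0, 1], !![0, 1, 1; 1, 1, 0; 1, 1, 1], !![0, 0, 1; 1, 0, 1; 0, 1, 0], !![1, 1, 0; 0, 0, 1; 1, 0, 0], !![0, 1, 0; 0, 1, 1; 1, 0, 1], !![1, 0, 1; 1, 1, 1; 0, 1, 1], !![1, 1, 1; 1, 0, 0; 1, 1, 0]]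

def c2_3_7 : Comp where
  q := 2
  r := 3
  d := 7
  M := c2_3_7.M
  pow_d := by decide +kernel
  fpf := fun e he => ⟨c2_3_7.N e, by revert he; revert e; decide +kernel⟩
  torsion := by decide +kernel

def c2_4_3.M : Matrix (Fin 4) (Fin 4) (ZMod 2) := !![0, 1, 0, 0; 1, 1, 0, 0; 0, 0, 0, 1; 0, 0, 1, 1]

def c2_4_3.N : Fin 3 → Matrix (Fin 4) (Fin 4) (ZMod 2) :=
  ![!![1, 0, 0, 0; 0, 1, 0, 0; 0, 0, 1, 0; 0, 0, 0, 1], !![0, 1, 0, 0; 1, 1, 0, 0; 0, 0, 0, 1; 0, 0, 1, 1], !![1, 1, 0, 0; 1, 0, 0, 0; 0, 0, 1, 1; 0, 0, 1, 0]]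

def c2_4_3 : Comp where
  q := 2
  r := 4
  d := 3
  M := c2_4_3.M
  pow_d := by decide +kernel
  fpf := fun e he => ⟨c2_4_3.N e, by revert he; revert e; decide +kernel⟩
  torsion := by decide +kernel

def c2_6_7.M : Matrix (Fin 6) (Fin 6) (ZMod 2) := !![0, 0, 1, 0, 0, 0; 1, 0, 1, 0, 0, 0; 0, 1, 0, 0, 0, 0; 0, 0, 0, 0, 0, 1; 0, 0, 0, 1, 0, 1; 0, 0, 0, 0, 1, 0]

def c2_6_7.N : Fin 7 → Matrix (Fin 6) (Fin 6) (ZMod 2) :=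
  ![!![1, 0, 0, 0, 0, 0; 0, 1, 0, 0, 0, 0; 0, 0, 1, 0, 0, 0; 0, 0, 0, 1, 0, 0; 0, 0, 0, 0, 1, 0; 0, 0, 0, 0, 0, 1], !![0, 1, 1, 0, 0, 0; 1, 1, 0, 0, 0, 0; 1, 1, 1, 0, 0, 0; 0, 0, 0, 0, 1, 1; 0, 0, 0, 1, 1, 0; 0, 0, 0, 1, 1, 1], !![0, 0, 1, 0, 0, 0; 1, 0, 1, 0, 0, 0; 0, 1, 0, 0, 0, 0; 0, 0, 0, 0, 0, 1; 0, 0, 0, 1, 0, 1; 0, 0, 0, 0, 1, 0], !![1, 1, 0, 0, 0, 0; 0, 0, 1, 0, 0, 0; 1, 0, 0, 0, 0, 0; 0, 0, 0, 1, 1, 0; 0, 0, 0, 0, 0, 1; 0, 0, 0, 1, 0, 0], !![0, 1, 0, 0, 0, 0; 0, 1, 1, 0, 0, 0; 1, 0, 1, 0, 0, 0; 0, 0, 0, 0, 1, 0; 0, 0, 0, 0, 1, 1; 0, 0, 0, 1, 0, 1], !![1, 0, 1, 0, 0, 0; 1, 1, 1, 0, 0, 0; 0, 1, 1, 0, 0, 0; 0, 0, 0, 1, 0, 1; 0, 0, 0, 1, 1, 1; 0, 0, 0, 0, 1, 1], !![1, 1, 1, 0, 0, 0; 1, 0, 0, 0, 0, 0; 1, 1, 0, 0, 0, 0; 0, 0, 0, 1, 1, 1; 0, 0, 0, 1, 0, 0; 0, 0, 0, 1, 1, 0]]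

def c2_6_7 : Comp where
  q := 2
  r := 6
  d := 7
  M := c2_6_7.M
  pow_d := by decide +kernel
  fpf := fun e he => ⟨c2_6_7.N e, by revert he; revert e; decide +kernel⟩
  torsion := by decide +kernel

def c2_6_21.M : Matrix (Fin 6) (Fin 6) (ZMod 2) := !![0, 0, 0, 0, 0, 1; 0, 0, 0, 0, 1, 1; 0, 1, 0, 0, 0, 1; 1, 1, 0, 0, 1, 1; 0, 0, 0, 1, 0, 0; 0, 0, 1, 1, 0, 0]

def c2_6_21.N : Fin 21 → Matrix (Fin 6) (Fin 6) (ZMod 2) :=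
  ![!![1, 0, 0, 0, 0, 0; 0, 1, 0, 0, 0, 0; 0, 0, 1, 0, 0, 0; 0, 0, 0, 1, 0, 0; 0, 0, 0, 0, 1, 0; 0, 0, 0, 0, 0, 1], !![1, 1, 1, 0, 1, 1; 1, 0, 0, 1, 1, 0; 1, 1, 0, 1, 0, 1; 1, 0, 1, 1, 1, 1; 1, 0, 1, 1, 0, 1; 0, 1, 1, 0, 1, 1], !![0, 1, 1, 1, 1, 0; 1, 1, 1, 0, 0, 1; 1, 0, 1, 0, 0, 1; 0, 1, 0, 1, 1, 1; 1, 1, 1, 0, 1, 0; 1, 0, 0, 1, 0, 1], !![1, 0, 1, 0, 0, 0; 0, 1, 0, 1, 0, 0; 0, 0, 0, 0, 1, 0; 0, 0, 0, 0, 0, 1; 1, 0, 0, 0, 0, 0; 0, 1, 0, 0, 0, 0], !![1, 1, 1, 1, 0, 1; 1, 0, 1, 0, 1, 1; 0, 1, 0, 0, 1, 0; 1, 1, 0, 0, 0, 1; 1, 1, 0, 1, 0, 0; 1, 0, 1, 1, 0, 0], !![0, 1, 0, 1, 1, 0; 1, 1, 1, 1, 0, 1; 1, 0, 0, 0, 1, 1; 0, 1, 0, 0, 1, 0; 0, 1, 1, 0, 0, 0; 1, 1, 0, 1, 0, 0], !![1, 0, 1, 0, 1, 0; 0, 1, 0, 1, 0, 1; 1, 0, 0, 0, 0, 0; 0, 1, 0, 0, 0, 0; 1, 0, 1, 0, 0, 0; 0, 1, 0, 1, 0, 0], !![0, 1, 0, 0, 0, 0; 1, 1, 0, 0, 0, 0; 0, 0,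 0, 1, 0, 0; 0, 0, 1, 1, 0, 0; 0, 0, 0, 0, 0, 1; 0, 0, 0, 0, 1, 1], !![0, 1, 1, 0, 0, 1; 1, 1, 0, 1, 1, 1; 0, 1, 1, 1, 1, 1; 1, 1, 1, 0, 1, 0; 1, 0, 0, 1, 1, 1; 0, 1, 1, 1, 1, 0], !![0, 0, 0, 0, 1, 0; 0, 0, 0, 0, 0, 1; 1, 0, 0, 0, 1, 0; 0, 1, 0, 0, 0, 1; 0, 0, 1, 0, 0, 0; 0, 0, 0, 1, 0, 0], !![1, 1, 0, 1, 1, 1; 1, 0, 1, 1, 1, 0; 1, 1, 1, 0, 1, 0; 1, 0, 0, 1, 0, 1; 0, 1, 1, 1, 1, 0; 1, 1, 1, 0, 0, 1], !![0, 1, 0, 1, 1, 1; 1, 1, 1, 1, 1, 0; 1, 1, 0, 0, 1, 0; 1, 0, 0, 0, 0, 1; 0, 1, 1, 1, 0, 0; 1, 1, 1, 0, 0, 0], !![1, 0, 0, 0, 1, 0; 0, 1, 0, 0, 0, 1; 1, 0, 1, 0, 1, 0; 0, 1, 0, 1, 0, 1; 0, 0, 1, 0, 1, 0; 0, 0, 0, 1, 0, 1], !![1, 1, 1, 0, 0, 1; 1, 0, 0, 1, 1, 1; 0, 1, 0, 1, 1, 1; 1, 1, 1, 1, 1, 0; 1, 0, 0, 1, 0, 1; 0, 1, 1, 1, 1, 1], !![1, 1, 0, 0, 0, 0; 1, 0, 0, 0, 0, 0; 0, 0, 1, 1, 0, 0; 0, 0, 1, 0, 0, 0; 0, 0, 0, 0, 1, 1;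 0, 0, 0, 0, 1, 0], !![0, 0, 1, 0, 1, 0; 0, 0, 0, 1, 0, 1; 1, 0, 1, 0, 0, 0; 0, 1, 0, 1, 0, 0; 1, 0, 1, 0, 1, 0; 0, 1, 0, 1, 0, 1], !![1, 1, 0, 1, 1, 0; 1, 0, 1, 1, 0, 1; 1, 0, 1, 0, 1, 1; 0, 1, 0, 1, 1, 0; 0, 1, 1, 0, 1, 0; 1, 1, 0, 1, 0, 1], !![0, 1, 1, 1, 0, 1; 1, 1, 1, 0, 1, 1; 0, 1, 1, 0, 1, 0; 1, 1, 0, 1, 0, 1; 1, 1, 0, 1, 1, 0; 1, 0, 1, 1, 0, 1], !![0, 0, 1, 0, 0, 0; 0, 0, 0, 1, 0, 0; 0, 0, 1, 0, 1, 0; 0, 0, 0, 1, 0, 1; 1, 0, 0, 0, 1, 0; 0, 1, 0, 0, 0, 1], !![1, 1, 1, 1, 1, 0; 1, 0, 1, 0, 0, 1; 1, 0, 0, 0, 0, 1; 0, 1, 0, 0, 1, 1; 1, 1, 1, 0, 0, 0; 1, 0, 0, 1, 0, 0], !![0, 1, 1, 0, 1, 1; 1, 1, 0, 1, 1, 0; 1, 1, 1, 1, 0, 1; 1, 0, 1, 0, 1, 1; 1, 0, 1, 1, 1, 1; 0, 1, 1, 0, 1, 0]]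

def c2_6_21 : Comp where
  q := 2
  r := 6
  d := 21
  M := c2_6_21.M
  pow_d := by decide +kernel
  fpf := fun e he => ⟨c2_6_21.N e, by revert he; revert e; decide +kernel⟩
  torsion := by decide +kernel

def c4_2_3.M : Matrix (Fin 2) (Fin 2) (ZMod 4) := !![0, 3; 1, 3]

def c4_2_3.N : Fin 3 → Matrix (Fin 2) (Fin 2) (ZMod 4) :=
  ![!![1, 0; 0, 1], !![2, 3; 1, 1], !![1, 1; 3, 2]]

def c4_2_3 : Comp where
  q := 4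
  r := 2
  d := 3
  M := c4_2_3.M
  pow_d := by decide +kernel
  fpf := fun e he => ⟨c4_2_3.N e, by revert he; revert e; decide +kernel⟩
  torsion := by decide +kernel

def c3_1_2.M : Matrix (Fin 1) (Fin 1) (ZMod 3) := !![2]

def c3_1_2.N : Fin 2 → Matrix (Fin 1) (Fin 1) (ZMod 3) :=
  ![!![1], !![1]]

def c3_1_2 : Comp where
  q := 3
  r := 1
  d := 2
  M := c3_1_2.M
  pow_d := by decide +kernel
  fpf := fun e he => ⟨c3_1_2.N e, by revert he; revert e; decide +kernel⟩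
  torsion := by decide +kernel

def c3_2_2.M : Matrix (Fin 2) (Fin 2) (ZMod 3) := !![2, 0; 0, 2]

def c3_2_2.N : Fin 2 → Matrix (Fin 2) (Fin 2) (ZMod 3) :=
  ![!![1, 0; 0, 1], !![1, 0; 0, 1]]

def c3_2_2 : Comp where
  q := 3
  r := 2
  d := 2
  M := c3_2_2.M
  pow_d := by decide +kernel
  fpf := fun e he => ⟨c3_2_2.N e, by revert he; revert e; decide +kernel⟩
  torsion := by decide +kernel

def c7_1_2.M : Matrix (Fin 1) (Fin 1) (ZMod 7) := !![6]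

def c7_1_2.N : Fin 2 → Matrix (Fin 1) (Fin 1) (ZMod 7) :=
  ![!![1], !![3]]

def c7_1_2 : Comp where
  q := 7
  r := 1
  d := 2
  M := c7_1_2.M
  pow_d := by decide +kernel
  fpf := fun e he => ⟨c7_1_2.N e, by revert he; revert e; decide +kernel⟩
  torsion := by decide +kernel

def c7_1_3.M : Matrix (Fin 1) (Fin 1) (ZMod 7) := !![2]

def c7_1_3.N : Fin 3 → Matrix (Fin 1) (Fin 1) (ZMod 7) :=
  ![!![1], !![1], !![5]]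

def c7_1_3 : Comp where
  q := 7
  r := 1
  d := 3
  M := c7_1_3.M
  pow_d := by decide +kernel
  fpf := fun e he => ⟨c7_1_3.N e, by revert he; revert e; decide +kernel⟩
  torsion := by decide +kernel

def c7_1_6.M : Matrix (Fin 1) (Fin 1) (ZMod 7) := !![3]

def c7_1_6.N : Fin 6 → Matrix (Fin 1) (Fin 1) (ZMod 7) :=
  ![!![1], !![4], !![1], !![3], !![5], !![2]]

def c7_1_6 : Comp where
  q := 7
  r := 1
  d := 6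
  M := c7_1_6.M
  pow_d := by decide +kernel
  fpf := fun e he => ⟨c7_1_6.N e, by revert he; revert e; decide +kernel⟩
  torsion := by decide +kernel

def c7_2_2.M : Matrix (Fin 2) (Fin 2) (ZMod 7) := !![6, 0; 0, 6]

def c7_2_2.N : Fin 2 → Matrix (Fin 2) (Fin 2) (ZMod 7) :=
  ![!![1, 0; 0, 1], !![3, 0; 0, 3]]

def c7_2_2 : Comp where
  q := 7
  r := 2
  d := 2
  M := c7_2_2.M
  pow_d := by decide +kernel
  fpf := fun e he => ⟨c7_2_2.N e, by revert he; revert e; decide +kernel⟩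
  torsion := by decide +kernel

def c7_2_4.M : Matrix (Fin 2) (Fin 2) (ZMod 7) := !![0, 6; 1, 0]

def c7_2_4.N : Fin 4 → Matrix (Fin 2) (Fin 2) (ZMod 7) :=
  ![!![1, 0; 0, 1], !![3, 4; 3, 3], !![3, 0; 0, 3], !![3, 3; 4, 3]]

def c7_2_4 : Comp where
  q := 7
  r := 2
  d := 4
  M := c7_2_4.M
  pow_d := by decide +kernel
  fpf := fun e he => ⟨c7_2_4.N e, by revert he; revert e; decide +kernel⟩
  torsion := by decide +kernel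

def c7_2_6.M : Matrix (Fin 2) (Fin 2) (ZMod 7) := !![3, 0; 0, 3]

def c7_2_6.N : Fin 6 → Matrix (Fin 2) (Fin 2) (ZMod 7) :=
  ![!![1, 0; 0, 1], !![4, 0; 0, 4], !![1, 0; 0, 1], !![3, 0; 0, 3], !![5, 0; 0, 5], !![2, 0; 0, 2]]

def c7_2_6 : Comp where
  q := 7
  r := 2
  d := 6
  M := c7_2_6.M
  pow_d := by decide +kernel
  fpf := fun e he => ⟨c7_2_6.N e, by revert he; revert e; decide +kernel⟩
  torsion := by decide +kernel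

def c7_2_12.M : Matrix (Fin 2) (Fin 2) (ZMod 7) := !![0, 3; 1, 0]

def c7_2_12.N : Fin 12 → Matrix (Fin 2) (Fin 2) (ZMod 7) :=
  ![!![1, 0; 0, 1], !![4, 5; 4, 4], !![4, 0; 0, 4], !![3, 6; 2, 3], !![1, 0; 0, 1], !![2, 5; 4, 2], !![3, 0; 0, 3], !![4, 2; 3, 4], !![5, 0; 0, 5], !![3, 1; 5, 3], !![2, 0; 0, 2], !![2, 2; 3, 2]]

def c7_2_12 : Comp where
  q := 7
  r := 2
  d := 12
  M := c7_2_12.M
  pow_d := by decide +kernel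
  fpf := fun e he => ⟨c7_2_12.N e, by revert he; revert e; decide +kernel⟩
  torsion := by decide +kernel

def c7_3_6.M : Matrix (Fin 3) (Fin 3) (ZMod 7) := !![3, 0, 0; 0, 3, 0; 0, 0, 3]

def c7_3_6.N : Fin 6 → Matrix (Fin 3) (Fin 3) (ZMod 7) :=
  ![!![1, 0, 0; 0, 1, 0; 0, 0, 1], !![4, 0, 0; 0, 4, 0; 0, 0, 4], !![1, 0, 0; 0, 1, 0; 0, 0, 1], !![3, 0, 0; 0, 3, 0; 0, 0, 3], !![5, 0, 0; 0, 5, 0; 0, 0, 5], !![2, 0, 0; 0, 2, 0; 0, 0, 2]]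

def c7_3_6 : Comp where
  q := 7
  r := 3
  d := 6
  M := c7_3_6.M
  pow_d := by decide +kernel
  fpf := fun e he => ⟨c7_3_6.N e, by revert he; revert e; decide +kernel⟩
  torsion := by decide +kernel

def c0 : Comp where
  q := 1
  r := 0
  d := 1
  M := 1
  pow_d := by decide +kernel
  fpf := fun e he => absurd (Nat.lt_one_iff.mp e.isLt) he
  torsion := by decide +kernel

def b0 : Block where
  a := 21
  b := 1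
  C₁ := c2_2_3
  C₂ := c2_6_21
  u₁ := 1
  w₁ := 0
  u₂ := 1
  w₂ := 0
  hu₁ := by decide +kernel
  hw₁ := by decide +kernel
  hu₂ := by decide +kernel
  hw₂ := by decide +kernel

def b1 : Block where
  a := 6
  b := 1
  C₁ := c4_2_3
  C₂ := c7_3_6
  u₁ := 1
  w₁ := 0
  u₂ := 1
  w₂ := 0
  hu₁ := by decide +kernel
  hw₁ := by decide +kernel
  hu₂ := by decide +kernel
  hw₂ := by decide +kernel

def b2 : Block where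
  a := 6
  b := 1
  C₁ := c2_4_3
  C₂ := c7_3_6
  u₁ := 1
  w₁ := 0
  u₂ := 1
  w₂ := 0
  hu₁ := by decide +kernel
  hw₁ := by decide +kernel
  hu₂ := by decide +kernel
  hw₂ := by decide +kernel

def b3 : Block where
  a := 4
  b := 2
  C₁ := c3_1_2
  C₂ := c7_1_2
  u₁ := 1
  w₁ := 1
  u₂ := 0
  w₂ := 1
  hu₁ := by decide +kernel
  hw₁ := by decide +kernel
  hu₂ := by decide +kernel
  hw₂ := by decide +kernel

def b4 : Block where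
  a := 6
  b := 4
  C₁ := c7_1_6
  C₂ := c7_1_6
  u₁ := 5
  w₁ := 0
  u₂ := 5
  w₂ := 3
  hu₁ := by decide +kernel
  hw₁ := by decide +kernel
  hu₂ := by decide +kernel
  hw₂ := by decide +kernel

def b5 : Block where
  a := 6
  b := 3
  C₁ := c7_2_6
  C₂ := c0
  u₁ := 1
  w₁ := 0
  u₂ := 0
  w₂ := 0
  hu₁ := by decide +kernel
  hw₁ := by decide +kernel
  hu₂ := by decide +kernel
  hw₂ := by decide +kernel

def b6 : Block where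
  a := 12
  b := 3
  C₁ := c7_1_6
  C₂ := c7_1_6
  u₁ := 1
  w₁ := 2
  u₂ := 5
  w₂ := 4
  hu₁ := by decide +kernel
  hw₁ := by decide +kernel
  hu₂ := by decide +kernel
  hw₂ := by decide +kernel

def b7 : Block where
  a := 12
  b := 1
  C₁ := c4_2_3
  C₂ := c7_1_6
  u₁ := 1
  w₁ := 0
  u₂ := 1
  w₂ := 0
  hu₁ := by decide +kernel
  hw₁ := by decide +kernel
  hu₂ := by decide +kernel
  hw₂ := by decide +kernel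

def b8 : Block where
  a := 6
  b := 2
  C₁ := c7_1_6
  C₂ := c7_1_6
  u₁ := 4
  w₁ := 3
  u₂ := 5
  w₂ := 0
  hu₁ := by decide +kernel
  hw₁ := by decide +kernel
  hu₂ := by decide +kernel
  hw₂ := by decide +kernel

def b9 : Block where
  a := 7
  b := 1
  C₁ := c2_6_7
  C₂ := c0
  u₁ := 1
  w₁ := 0
  u₂ := 0
  w₂ := 0
  hu₁ := by decide +kernel
  hw₁ := by decide +kernel
  hu₂ := by decide +kernel
  hw₂ := by decide +kernel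

def b10 : Block where
  a := 3
  b := 2
  C₁ := c2_2_3
  C₂ := c7_1_6
  u₁ := 2
  w₁ := 0
  u₂ := 2
  w₂ := 3
  hu₁ := by decide +kernel
  hw₁ := by decide +kernel
  hu₂ := by decide +kernel
  hw₂ := by decide +kernel

def b11 : Block where
  a := 4
  b := 1
  C₁ := c7_2_2
  C₂ := c0
  u₁ := 1
  w₁ := 0
  u₂ := 0
  w₂ := 0
  hu₁ := by decide +kernel
  hw₁ := by decide +kernel
  hu₂ := by decide +kernel
  hw₂ := by decide +kernel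

def b12 : Block where
  a := 14
  b := 1
  C₁ := c2_3_7
  C₂ := c0
  u₁ := 1
  w₁ := 0
  u₂ := 0
  w₂ := 0
  hu₁ := by decide +kernel
  hw₁ := by decide +kernel
  hu₂ := by decide +kernel
  hw₂ := by decide +kernel

def b13 : Block where
  a := 12
  b := 1
  C₁ := c7_1_6
  C₂ := c0
  u₁ := 1
  w₁ := 0
  u₂ := 0
  w₂ := 0
  hu₁ := by decide +kernel
  hw₁ := by decide +kernel
  hu₂ := by decide +kernel
  hw₂ := by decide +kernel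

def b14 : Block where
  a := 3
  b := 2
  C₁ := c2_2_3
  C₂ := c3_2_2
  u₁ := 1
  w₁ := 0
  u₂ := 0
  w₂ := 1
  hu₁ := by decide +kernel
  hw₁ := by decide +kernel
  hu₂ := by decide +kernel
  hw₂ := by decide +kernel

def b15 : Block where
  a := 4
  b := 2
  C₁ := c3_1_2
  C₂ := c3_1_2
  u₁ := 0
  w₁ := 1
  u₂ := 1
  w₂ := 1
  hu₁ := by decide +kernel
  hw₁ := by decide +kernel
  hu₂ := by decide +kernel
  hw₂ := by decide +kernel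

def b16 : Block where
  a := 3
  b := 3
  C₁ := c7_1_3
  C₂ := c2_4_3
  u₁ := 1
  w₁ := 2
  u₂ := 2
  w₂ := 1
  hu₁ := by decide +kernel
  hw₁ := by decide +kernel
  hu₂ := by decide +kernel
  hw₂ := by decide +kernel

def b17 : Block where
  a := 3
  b := 3
  C₁ := c2_2_3
  C₂ := c2_2_3
  u₁ := 1
  w₁ := 0
  u₂ := 1
  w₂ := 0
  hu₁ := by decide +kernel
  hw₁ := by decide +kernel
  hu₂ := by decide +kernel
  hw₂ := by decide +kernel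

def b18 : Block where
  a := 12
  b := 3
  C₁ := c7_1_6
  C₂ := c7_1_6
  u₁ := 1
  w₁ := 4
  u₂ := 3
  w₂ := 2
  hu₁ := by decide +kernel
  hw₁ := by decide +kernel
  hu₂ := by decide +kernel
  hw₂ := by decide +kernel

def b19 : Block where
  a := 12
  b := 1
  C₁ := c7_2_12
  C₂ := c0
  u₁ := 1
  w₁ := 0
  u₂ := 0
  w₂ := 0
  hu₁ := by decide +kernel
  hw₁ := by decide +kernel
  hu₂ := by decide +kernel
  hw₂ := by decide +kernel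

def b20 : Block where
  a := 4
  b := 1
  C₁ := c7_2_4
  C₂ := c0
  u₁ := 1
  w₁ := 0
  u₂ := 0
  w₂ := 0
  hu₁ := by decide +kernel
  hw₁ := by decide +kernel
  hu₂ := by decide +kernel
  hw₂ := by decide +kernel

def b21 : Block where
  a := 4
  b := 2
  C₁ := c3_2_2
  C₂ := c7_1_2
  u₁ := 0
  w₁ := 1
  u₂ := 1
  w₂ := 1
  hu₁ := by decide +kernel
  hw₁ := by decide +kernel
  hu₂ := by decide +kernel
  hw₂ := by decide +kernel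

def b22 : Block where
  a := 4
  b := 1
  C₁ := c3_1_2
  C₂ := c0
  u₁ := 1
  w₁ := 0
  u₂ := 0
  w₂ := 0
  hu₁ := by decide +kernel
  hw₁ := by decide +kernel
  hu₂ := by decide +kernel
  hw₂ := by decide +kernel

def b23 : Block where
  a := 3
  b := 1
  C₁ := c4_2_3
  C₂ := c0
  u₁ := 1
  w₁ := 0
  u₂ := 0
  w₂ := 0
  hu₁ := by decide +kernel
  hw₁ := by decide +kernel
  hu₂ := by decide +kernel
  hw₂ := by decide +kernel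

def b24 : Block where
  a := 2
  b := 2
  C₁ := c3_1_2
  C₂ := c0
  u₁ := 1
  w₁ := 1
  u₂ := 0
  w₂ := 0
  hu₁ := by decide +kernel
  hw₁ := by decide +kernel
  hu₂ := by decide +kernel
  hw₂ := by decide +kernel

def b25 : Block where
  a := 7
  b := 1
  C₁ := c0
  C₂ := c0
  u₁ := 0
  w₁ := 0
  u₂ := 0
  w₂ := 0
  hu₁ := by decide +kernel
  hw₁ := by decide +kernel
  hu₂ := by decide +kernel
  hw₂ := by decide +kernel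

def b26 : Block where
  a := 4
  b := 1
  C₁ := c7_1_2
  C₂ := c0
  u₁ := 1
  w₁ := 0
  u₂ := 0
  w₂ := 0
  hu₁ := by decide +kernel
  hw₁ := by decide +kernel
  hu₂ := by decide +kernel
  hw₂ := by decide +kernel

def b27 : Block where
  a := 6
  b := 2
  C₁ := c7_1_6
  C₂ := c0
  u₁ := 5
  w₁ := 0
  u₂ := 0
  w₂ := 0
  hu₁ := by decide +kernel
  hw₁ := by decide +kernel
  hu₂ := by decide +kernel
  hw₂ := by decide +kernel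

def b28 : Block where
  a := 4
  b := 3
  C₁ := c7_1_2
  C₂ := c7_1_6
  u₁ := 1
  w₁ := 0
  u₂ := 3
  w₂ := 2
  hu₁ := by decide +kernel
  hw₁ := by decide +kernel
  hu₂ := by decide +kernel
  hw₂ := by decide +kernel

def b29 : Block where
  a := 12
  b := 2
  C₁ := c7_1_2
  C₂ := c7_1_6
  u₁ := 1
  w₁ := 1
  u₂ := 1
  w₂ := 3
  hu₁ := by decide +kernel
  hw₁ := by decide +kernel
  hu₂ := by decide +kernel
  hw₂ := by decide +kernel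

def b30 : Block where
  a := 2
  b := 1
  C₁ := c7_2_2
  C₂ := c0
  u₁ := 1
  w₁ := 0
  u₂ := 0
  w₂ := 0
  hu₁ := by decide +kernel
  hw₁ := by decide +kernel
  hu₂ := by decide +kernel
  hw₂ := by decide +kernel

def b31 : Block where
  a := 3
  b := 1
  C₁ := c7_1_3
  C₂ := c0
  u₁ := 1
  w₁ := 0
  u₂ := 0
  w₂ := 0
  hu₁ := by decide +kernel
  hw₁ := by decide +kernel
  hu₂ := by decide +kernel
  hw₂ := by decide +kernel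

def b32 : Block where
  a := 6
  b := 2
  C₁ := c3_1_2
  C₂ := c0
  u₁ := 0
  w₁ := 1
  u₂ := 0
  w₂ := 0
  hu₁ := by decide +kernel
  hw₁ := by decide +kernel
  hu₂ := by decide +kernel
  hw₂ := by decide +kernel

def posB : Fin 17 → Block :=
  ![b2, b3, b5, b8, b9, b10, b11, b12, b13, b14, b15, b16, b18, b19, b23, b29, b32]

def posE : Fin 17 → ℕ :=
  ![3, 3, 3, 6, 3, 6, 4, 3, 15, 3, 3, 6, 3, 3, 12, 3, 3]

def negB : Fin 16 → Block :=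
  ![b0, b1, b4, b6, b7, b17, b20, b21, b22, b24, b25, b26, b27, b28, b30, b31]

def negE : Fin 16 → ℕ :=
  ![3, 3, 6, 3, 6, 15, 3, 3, 3, 6, 1, 3, 9, 7, 3, 8]

end CfsgLib.FgsC.OrderType.Data
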