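import Cfsg.Agent.Lib.PGroups.ExtraspecialBasis

/-!
The automorphism group of the extraspecial group `D₈ * Q₈` of order `32`.
-/

set_option autoImplicit false

namespace CfsgLib.FgsC.MinusThirtyTwo

open scoped commutatorElement
open CfsgLib.PGroups

/-- A model of `D₈ * Q₈`, generated by four pairwise non-commuting involutions. -/
@[ext] structure MQ where
  a : ZMod 2
  b : ZMod 2
  c : ZMod 2
  d : ZMod 2
  s : ZMod 2
deriving DecidableEq, Fintype

namespace MQ

instance : One MQ := ⟨⟨0, 0, 0, 0, 0⟩⟩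
instance : Mul MQ := ⟨fun x y => ⟨x.a + y.a, x.b + y.b, x.c + y.c, x.d + y.d,
  x.s + y.s + (x.b * y.a + x.c * (y.a + y.b) + x.d * (y.a + y.b + y.c))⟩⟩
instance : Inv MQ := ⟨fun x => ⟨x.a, x.b, x.c, x.d,
  x.s + (x.b * x.a + x.c * (x.a + x.b) + x.d * (x.a + x.b + x.c))⟩⟩

theorem mul_def (x y : MQ) : x * y = ⟨x.a + y.a, x.b + y.b, x.c + y.c, x.d + y.d,
  x.s + y.s + (x.b * y.a + x.c * (y.a + y.b) + x.d * (y.a + y.b + y.c))⟩ := rfl

theorem one_def : (1 : MQ) = ⟨0, 0, 0, 0, 0⟩ := rfl

instance : Group MQ where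
  mul_assoc x y z := by simp only [mul_def, MQ.mk.injEq]; refine ⟨?_, ?_, ?_, ?_, ?_⟩ <;> ring
  one_mul x := by rw [mul_def, one_def]; ext <;> simp
  mul_one x := by rw [mul_def, one_def]; ext <;> simp
  inv_mul_cancel x := by
    revert x
    decide +kernel

/-- The central involution. -/
def zM : MQ := ⟨0, 0, 0, 0, 1⟩

/-- The five singular points. -/
def g : Fin 5 → MQ :=
  ![⟨1, 0, 0, 0, 0⟩, ⟨0, 1, 0, 0, 0⟩, ⟨0, 0, 1, 0, 0⟩, ⟨0, 0, 0, 1, 0⟩, ⟨1, 1, 1, 1, 0⟩]

/-- The image in the quotient by the centre. -/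
def vec (x : MQ) : ZMod 2 × ZMod 2 × ZMod 2 × ZMod 2 := (x.a, x.b, x.c, x.d)

/-- The index of a singular point. -/
def idx (x : MQ) : Fin 5 :=
  if vec x = vec (g 0) then 0 else if vec x = vec (g 1) then 1 else if vec x = vec (g 2) then 2
  else if vec x = vec (g 3) then 3 else 4

/-- The element with given images of the four generators. -/
def word {H : Type*} [Group H] (h0 h1 h2 h3 w : H) (x : MQ) : H :=
  (if x.a = 0 then 1 else h0) * (if x.b = 0 then 1 else h1) * (if x.c = 0 then 1 else h2) *
    (if x.d = 0 then 1 else h3) * (if x.s = 0 then 1 else w)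

theorem word_self : ∀ x : MQ, word (g 0) (g 1) (g 2) (g 3) zM x = x := by decide +kernel

theorem card_eq : Nat.card MQ = 32 := by
  rw [Nat.card_eq_fintype_card]
  rfl

theorem central_iff_vec : ∀ x : MQ, (∀ y : MQ, y * x = x * y) ↔ vec x = 0 := by decide +kernel

theorem mem_center {x : MQ} : x ∈ Subgroup.center MQ ↔ vec x = 0 := by
  rw [Subgroup.mem_center_iff]
  exact central_iff_vec x

theorem vec_eq_iff : ∀ x y : MQ, vec (x⁻¹ * y) = 0 ↔ vec x = vec y := by decide +kernel

theorem vec_zero_cases : ∀ x : MQ, vec x = 0 → x = 1 ∨ x = zM := by decide +kernel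

theorem sing_idx : ∀ x : MQ, x * x = 1 → vec x ≠ 0 → vec x = vec (g (idx x)) := by decide +kernel

theorem idx_congr {x y : MQ} (h : vec x = vec y) : idx x = idx y := by simp only [idx, h]

theorem g_sq : ∀ i, g i * g i = 1 := by decide +kernel

theorem g_vec : ∀ i, vec (g i) ≠ 0 := by decide +kernel

theorem idx_g : ∀ i, idx (g i) = i := by decide +kernel

theorem comm_cases : ∀ x y : MQ, x * y * x⁻¹ * y⁻¹ = 1 ∨ x * y * x⁻¹ * y⁻¹ = zM := by decide +kernel

theorem sq_cases : ∀ x : MQ, x * x = 1 ∨ x * x = zM := by decide +kernel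

theorem center_eq : Subgroup.center MQ = Subgroup.zpowers zM := by
  apply le_antisymm
  · intro x hx
    rcases vec_zero_cases x (mem_center.1 hx) with rfl | rfl
    · exact one_mem _
    · exact Subgroup.mem_zpowers _
  · rw [Subgroup.zpowers_le, mem_center]
    rfl

theorem orderOf_zM : orderOf zM = 2 :=
  orderOf_eq_prime (by rw [sq]; decide +kernel) (by decide +kernel)

theorem isSympGroup : IsSympGroup 2 zM 2 where
  card_eq := by rw [card_eq]; norm_num
  z_ord := orderOf_zM
  center_eq := center_eq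
  comm_mem x y := by
    rcases comm_cases x y with h | h <;> rw [commutatorElement_def, h]
    · exact one_mem _
    · exact Subgroup.mem_zpowers _
  pow_mem x := by
    rcases sq_cases x with h | h <;> rw [sq, h]
    · exact one_mem _
    · exact Subgroup.mem_zpowers _

theorem closure_gen : Subgroup.closure (insert zM (Set.range g)) = ⊤ := by
  rw [eq_top_iff]
  intro x _
  rw [← word_self x]
  have hg : ∀ i, g i ∈ Subgroup.closure (insert zM (Set.range g)) := fun i =>
    Subgroup.subset_closure (Or.inr ⟨i, rfl⟩)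
  have hz : zM ∈ Subgroup.closure (insert zM (Set.range g)) := Subgroup.subset_closure (Or.inl rfl)
  have key : ∀ (t : ZMod 2) (h : MQ), h ∈ Subgroup.closure (insert zM (Set.range g)) →
      (if t = 0 then 1 else h) ∈ Subgroup.closure (insert zM (Set.range g)) := by
    intro t h hh
    split_ifs
    · exact one_mem _
    · exact hh
  exact mul_mem (mul_mem (mul_mem (mul_mem (key _ _ (hg 0)) (key _ _ (hg 1))) (key _ _ (hg 2)))
    (key _ _ (hg 3))) (key _ _ hz)

theorem isSympBasis : IsSympBasis 2 zM ![g 0, g 0 * g 1 * g 2] ![g 1, g 0 * g 1 * g 3]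
    (lastData 2 true) where
  ab := by simp only [commutatorElement_def]; decide +kernel
  aa := by simp only [commutatorElement_def]; decide +kernel
  bb := by simp only [commutatorElement_def]; decide +kernel
  pow_a := by decide +kernel
  pow_b := by decide +kernel
  gen := by
    rw [eq_top_iff, ← closure_gen, Subgroup.closure_le]
    set a : Fin 2 → MQ := ![g 0, g 0 * g 1 * g 2] with ha
    set b : Fin 2 → MQ := ![g 1, g 0 * g 1 * g 3] with hb
    have hm : ∀ w ∈ insert zM (Set.range a ∪ Set.range b),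
        w ∈ Subgroup.closure (insert zM (Set.range a ∪ Set.range b)) := fun w h => Subgroup.subset_closure h
    have h0 := hm _ (Or.inr (Or.inl ⟨0, rfl⟩))
    have h1 := hm _ (Or.inr (Or.inr ⟨0, rfl⟩))
    have h2 := hm _ (Or.inr (Or.inl ⟨1, rfl⟩))
    have h3 := hm _ (Or.inr (Or.inr ⟨1, rfl⟩))
    have k0 : g 0 ∈ Subgroup.closure (insert zM (Set.range a ∪ Set.range b)) := h0
    have k1 : g 1 ∈ Subgroup.closure (insert zM (Set.range a ∪ Set.range b)) := h1
    have k2 : g 2 ∈ Subgroup.closure (insert zM (Set.range a ∪ Set.range b)) := by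
      have h := mul_mem (inv_mem (mul_mem k0 k1)) h2
      rwa [show a 1 = g 0 * g 1 * g 2 from rfl, inv_mul_cancel_left] at h
    have k3 : g 3 ∈ Subgroup.closure (insert zM (Set.range a ∪ Set.range b)) := by
      have h := mul_mem (inv_mem (mul_mem k0 k1)) h3
      rwa [show b 1 = g 0 * g 1 * g 3 from rfl, inv_mul_cancel_left] at h
    rintro w (rfl | ⟨i, rfl⟩)
    · exact hm _ (Or.inl rfl)
    · fin_cases i
      · exact k0
      · exact k1
      · exact k2
      · exact k3
      · show g 4 ∈ _
        rw [show g 4 = g 0 * g 1 * g 2 * g 3 by decide +kernel]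
        exact mul_mem (mul_mem (mul_mem k0 k1) k2) k3

/-- The map to permutations of the singular points. -/
def permFun (f : MulAut MQ) (i : Fin 5) : Fin 5 := idx (f (g i))

theorem map_vec (f : MulAut MQ) {x y : MQ} (h : vec x = vec y) : vec (f x) = vec (f y) := by
  rw [← vec_eq_iff, ← map_inv, ← map_mul, ← mem_center, Subgroup.mem_center_iff]
  intro w
  obtain ⟨v, rfl⟩ := f.surjective w
  rw [← map_mul, ← map_mul, Subgroup.mem_center_iff.1 (mem_center.2 ((vec_eq_iff x y).2 h)) v]

theorem vec_image (f : MulAut MQ) (i : Fin 5) : vec (f (g i)) = vec (g (permFun f i)) := by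
  refine sing_idx _ (by rw [← map_mul, g_sq, map_one]) fun h => g_vec i ?_
  have h' := map_vec f.symm (x := f (g i)) (y := 1) h
  rw [MulEquiv.symm_apply_apply, map_one] at h'
  exact h'

theorem permFun_mul (f h : MulAut MQ) (i : Fin 5) : permFun (f * h) i = permFun f (permFun h i) :=
  idx_congr (map_vec f (vec_image h i))

theorem permFun_one (i : Fin 5) : permFun 1 i = i := idx_g i

/-- The action on the five singular points. -/
def toPerm : MulAut MQ →* Equiv.Perm (Fin 5) where
  toFun f := ⟨permFun f, permFun f⁻¹,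
    fun i => by rw [← permFun_mul, inv_mul_cancel, permFun_one],
    fun i => by rw [← permFun_mul, mul_inv_cancel, permFun_one]⟩
  map_one' := Equiv.ext permFun_one
  map_mul' f h := Equiv.ext (permFun_mul f h)

theorem exists_aut (h0 h1 h2 h3 : MQ)
    (hmul : ∀ x y : MQ, word h0 h1 h2 h3 zM (x * y) = word h0 h1 h2 h3 zM x * word h0 h1 h2 h3 zM y)
    (hinj : ∀ x : MQ, word h0 h1 h2 h3 zM x = 1 → x = 1) :
    ∃ f : MulAut MQ, ∀ x, f x = word h0 h1 h2 h3 zM x := by
  have hi : Function.Injective (MonoidHom.mk' (word h0 h1 h2 h3 zM) hmul) :=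
    (injective_iff_map_eq_one _).2 hinj
  exact ⟨MulEquiv.ofBijective (MonoidHom.mk' (word h0 h1 h2 h3 zM) hmul)
    ⟨hi, Finite.surjective_of_injective hi⟩, fun _ => rfl⟩

theorem toPerm_surjective : Function.Surjective toPerm := by
  rw [← MonoidHom.range_eq_top, eq_top_iff]
  obtain ⟨f, hf⟩ := exists_aut (g 1) (g 2) (g 3) (g 4) (by decide +kernel) (by decide +kernel)
  obtain ⟨h, hh⟩ := exists_aut (g 1) (g 0) (g 2) (g 3) (by decide +kernel) (by decide +kernel)
  have e1 : toPerm f = finRotate 5 := by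
    refine Equiv.ext fun i => ?_
    show idx (f (g i)) = _
    rw [hf]
    revert i
    decide +kernel
  have e2 : toPerm h = Equiv.swap 0 (finRotate 5 0) := by
    refine Equiv.ext fun i => ?_
    show idx (h (g i)) = _
    rw [hh]
    revert i
    decide +kernel
  rw [← Equiv.Perm.closure_cycle_adjacent_swap (isCycle_finRotate (n := 3)) support_finRotate 0,
    Subgroup.closure_le]
  rintro s (rfl | rfl)
  · exact ⟨f, e1⟩
  · exact ⟨h, e2⟩

theorem card_ker_le : Nat.card toPerm.ker ≤ 16 := by
  let β : toPerm.ker → (Fin 4 → ZMod 2) := fun f i => ((f.1 : MulAut MQ) (g i.castSucc)).s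
  have hβ : Function.Injective β := by
    rintro ⟨f, hf⟩ ⟨h, hh⟩ he
    have key : ∀ i : Fin 4, f (g i.castSucc) = h (g i.castSucc) := by
      intro i
      have a1 := vec_image f i.castSucc
      have a2 := vec_image h i.castSucc
      have b1 : permFun f i.castSucc = i.castSucc := DFunLike.congr_fun hf i.castSucc
      have b2 : permFun h i.castSucc = i.castSucc := DFunLike.congr_fun hh i.castSucc
      rw [b1] at a1
      rw [b2] at a2
      have a := a1.trans a2.symm
      simp only [vec, Prod.mk.injEq] at a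
      exact MQ.ext a.1 a.2.1 a.2.2.1 a.2.2.2 (congrFun he i)
    have hz : ∀ f : MulAut MQ, f zM = zM := by
      intro f
      have h' := map_vec f (x := zM) (y := 1) rfl
      rw [map_one] at h'
      refine (vec_zero_cases _ h').resolve_left fun e => ?_
      exact absurd (f.injective (e.trans (map_one f).symm)) (by decide +kernel)
    refine Subtype.ext (MulEquiv.ext fun x => ?_)
    show f x = h x
    rw [← word_self x]
    have hif : ∀ (F : MulAut MQ) (t : ZMod 2) (w : MQ),
        F (if t = 0 then 1 else w) = if t = 0 then 1 else F w := by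
      intro F t w
      split_ifs <;> simp
    simp only [word, map_mul, hif, hz]
    rw [show f (g 0) = h (g 0) from key 0, show f (g 1) = h (g 1) from key 1,
      show f (g 2) = h (g 2) from key 2, show f (g 3) = h (g 3) from key 3]
  have h := Nat.card_le_card_of_injective β hβ
  simpa [Nat.card_eq_fintype_card] using h

theorem conj_mem_ker (x : MQ) : MulAut.conj x ∈ toPerm.ker := by
  refine Equiv.ext fun i => ?_
  show idx (x * g i * x⁻¹) = i
  revert x i
  decide +kernel

end MQ

open MQ

theorem main {P : Type*} [Group P] [Finite P]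
    (hex : Cfsg.IsExtraspecial 2 P) (h32 : Nat.card P = 32)
    (hminus : ∀ A : Subgroup P, Cfsg.IsElementaryAbelian 2 A → Nat.card ↥A ≤ 4)
    [(MulAut.conj : P →* MulAut P).range.Normal] :
    Nat.card ↥(MulAut.conj : P →* MulAut P).range = 16 ∧ Nat.card (MulAut P) = 1920 ∧
      Nonempty ((MulAut P ⧸ (MulAut.conj : P →* MulAut P).range) ≃* Equiv.Perm (Fin 5)) := by
  have : Fact (Nat.Prime 2) := ⟨Nat.prime_two⟩
  obtain ⟨z, m, -, S⟩ := exists_isSympGroup (p := 2) hex
  have hm : m = 2 := by
    have h := S.card_eq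
    rw [h32, show (32 : ℕ) = 2 ^ 5 by norm_num] at h
    have := Nat.pow_right_injective le_rfl h
    omega
  subst hm
  have hno : ¬ HasMaxElem P 2 := by
    rintro ⟨A, hA, hA2, hc⟩
    have := hminus A ⟨hA, hA2⟩
    norm_num at hc
    omega
  obtain ⟨-, ⟨a, b, B⟩, -⟩ := S.classify.2 hno
  obtain ⟨e⟩ := nonempty_mulEquiv_of_basis S MQ.isSympGroup B MQ.isSympBasis
  let φ : MulAut P →* Equiv.Perm (Fin 5) := MQ.toPerm.comp (MulAut.congr e).toMonoidHom
  have hφ : Function.Surjective φ := MQ.toPerm_surjective.comp (MulAut.congr e).surjective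
  set R := (MulAut.conj : P →* MulAut P).range with hRdef
  have hR : Nat.card R = 16 := by
    rw [hRdef]
    have h := Subgroup.card_eq_card_quotient_mul_card_subgroup (MulAut.conj : P →* MulAut P).ker
    rw [Nat.card_congr (QuotientGroup.quotientKerEquivRange _).toEquiv, h32] at h
    have hk : (MulAut.conj : P →* MulAut P).ker = Subgroup.center P := by
      ext x
      rw [MonoidHom.mem_ker, Subgroup.mem_center_iff, MulEquiv.ext_iff]
      exact forall_congr' fun y => ⟨fun h => (mul_inv_eq_iff_eq_mul.1 h).symm,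
        fun h => mul_inv_eq_iff_eq_mul.2 h.symm⟩
    rw [hk, hex.2] at h
    omega
  have hle : R ≤ φ.ker := by
    rintro _ ⟨x, rfl⟩
    have hx : MulAut.congr e (MulAut.conj x) = MulAut.conj (e x) := MulEquiv.ext fun y => by
      simp [MulAut.congr, map_mul, map_inv]
    rw [MonoidHom.mem_ker]
    show MQ.toPerm (MulAut.congr e (MulAut.conj x)) = 1
    rw [hx]
    exact MQ.conj_mem_ker _
  have hcard : Nat.card φ.ker ≤ 16 := by
    refine le_trans (Nat.card_le_card_of_injective
      (fun f => (⟨MulAut.congr e f.1, f.2⟩ : MQ.toPerm.ker)) ?_) MQ.card_ker_le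
    intro f h hfh
    exact Subtype.ext ((MulAut.congr e).injective (congrArg Subtype.val hfh))
  have hker : R = φ.ker := Subgroup.eq_of_le_of_card_ge hle (by rw [hR]; exact hcard)
  refine ⟨hR, ?_, ⟨(QuotientGroup.quotientMulEquivOfEq hker).trans
    (QuotientGroup.quotientKerEquivOfSurjective φ hφ)⟩⟩
  rw [Subgroup.card_eq_card_quotient_mul_card_subgroup φ.ker,
    Nat.card_congr (QuotientGroup.quotientKerEquivOfSurjective φ hφ).toEquiv, ← hker, hR,
    Nat.card_perm, Nat.card_eq_fintype_card, Fintype.card_fin]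
  rfl

end CfsgLib.FgsC.MinusThirtyTwo
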