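import Mathlib

/-!
A bound on the number of partitions, and the odd partition attached to a partition with distinct
odd parts.
-/

set_option autoImplicit false

namespace CfsgLib.FgsC.PartitionCount

open Multiset

/-- The two ways of shrinking a partition of `n + 1`. -/
theorem card_succ_le (n : ℕ) :
    Fintype.card (Nat.Partition (n + 1)) ≤ 2 * Fintype.card (Nat.Partition n) := by
  classical
  have hmin : ∀ P : Nat.Partition (n + 1), ∃ m ∈ P.parts, ∀ a ∈ P.parts, m ≤ a := by
    intro P
    have hne : P.parts.toFinset.Nonempty := by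
      rw [Finset.nonempty_iff_ne_empty]
      intro h
      rw [toFinset_eq_empty] at h
      have := P.parts_sum
      rw [h, sum_zero] at this
      omega
    exact ⟨_, mem_toFinset.mp (Finset.min'_mem _ hne),
      fun a ha => Finset.min'_le _ _ (mem_toFinset.mpr ha)⟩
  choose m hm hmle using hmin
  let g1 : ∀ P : Nat.Partition (n + 1), 1 ∈ P.parts → Nat.Partition n := fun P h =>
    { parts := P.parts.erase 1
      parts_pos := fun ha => P.parts_pos (mem_of_mem_erase ha)
      parts_sum := by
        have := sum_erase h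
        rw [P.parts_sum] at this
        omega }
  have hm2 : ∀ P : Nat.Partition (n + 1), 1 ∉ P.parts → 2 ≤ m P := fun P h => by
    have h1 := P.parts_pos (hm P)
    have h2 : m P ≠ 1 := fun e => h (by have := hm P; rwa [e] at this)
    omega
  let g2 : ∀ P : Nat.Partition (n + 1), 1 ∉ P.parts → Nat.Partition n := fun P h =>
    { parts := (m P - 1) ::ₘ P.parts.erase (m P)
      parts_pos := fun {a} ha => by
        rcases mem_cons.mp ha with rfl | ha
        · have := hm2 P h
          omega
        · exact P.parts_pos (mem_of_mem_erase ha)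
      parts_sum := by
        have := sum_erase (hm P)
        rw [P.parts_sum] at this
        rw [sum_cons]
        have := hm2 P h
        omega }
  let f : Nat.Partition (n + 1) → Nat.Partition n ⊕ Nat.Partition n := fun P =>
    if h : 1 ∈ P.parts then Sum.inl (g1 P h) else Sum.inr (g2 P h)
  have hf : Function.Injective f := by
    intro P Q hPQ
    by_cases hP : 1 ∈ P.parts <;> by_cases hQ : 1 ∈ Q.parts <;>
      simp only [f, dif_pos, dif_neg, not_false_iff, hP, hQ] at hPQ
    · have := congrArg Nat.Partition.parts (Sum.inl.inj hPQ)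
      refine Nat.Partition.ext ?_
      rw [← cons_erase hP, ← cons_erase hQ]
      exact congrArg (1 ::ₘ ·) this
    · exact absurd hPQ Sum.inl_ne_inr
    · exact absurd hPQ Sum.inr_ne_inl
    · have h := congrArg Nat.Partition.parts (Sum.inr.inj hPQ)
      have h' : (m P - 1) ::ₘ P.parts.erase (m P) = (m Q - 1) ::ₘ Q.parts.erase (m Q) := h
      have hle : ∀ {P Q : Nat.Partition (n + 1)},
          (m P - 1) ::ₘ P.parts.erase (m P) = (m Q - 1) ::ₘ Q.parts.erase (m Q) →
            1 ∉ P.parts → m Q - 1 ≤ m P - 1 := by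
        intro P Q h hP
        have hmem : m P - 1 ∈ (m Q - 1) ::ₘ Q.parts.erase (m Q) := h ▸ mem_cons_self _ _
        rcases mem_cons.mp hmem with e | e
        · exact e.ge
        · have := hmle Q _ (mem_of_mem_erase e)
          omega
      have h1 := hle h' hP
      have h2 := hle h'.symm hQ
      have hP2 := hm2 P hP
      have hQ2 := hm2 Q hQ
      have hmm : m P = m Q := by omega
      refine Nat.Partition.ext ?_
      rw [← cons_erase (hm P), ← cons_erase (hm Q), hmm]
      rw [hmm] at h'
      exact congrArg (m Q ::ₘ ·) ((cons_inj_right _).mp h')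
  refine (Fintype.card_le_of_injective f hf).trans ?_
  rw [Fintype.card_sum, two_mul]

theorem card_five_le : Fintype.card (Nat.Partition 5) ≤ 8 := by
  classical
  have hbound : ∀ (P : Nat.Partition 5) (i : ℕ), P.parts.count i * i ≤ 5 := by
    intro P i
    have h : replicate (P.parts.count i) i ≤ P.parts := le_count_iff_replicate_le.mp le_rfl
    obtain ⟨r, hr⟩ := Multiset.le_iff_exists_add.mp h
    have := congrArg Multiset.sum hr
    rw [P.parts_sum, sum_add, sum_replicate, smul_eq_mul] at this
    omega
  have hsum : ∀ P : Nat.Partition 5, P.parts.count 1 + P.parts.count 2 * 2 + P.parts.count 3 * 3 +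
      P.parts.count 4 * 4 + P.parts.count 5 * 5 = 5 := by
    intro P
    have hsub : P.parts.toFinset ⊆ ({1, 2, 3, 4, 5} : Finset ℕ) := by
      intro a ha
      rw [mem_toFinset] at ha
      have h1 := P.parts_pos ha
      have h2 := le_sum_of_mem ha
      rw [P.parts_sum] at h2
      simp only [Finset.mem_insert, Finset.mem_singleton]
      omega
    have h := Finset.sum_multiset_count_of_subset P.parts _ hsub
    rw [P.parts_sum] at h
    simp only [Finset.sum_insert, Finset.sum_singleton, Finset.mem_insert, Finset.mem_singleton,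
      OfNat.ofNat_ne_one, OfNat.one_ne_ofNat, Nat.reduceEqDiff, or_self, not_false_iff,
      smul_eq_mul] at h
    omega
  let S := {t : Fin 3 × Fin 2 × Fin 2 × Fin 2 //
    t.1.val * 2 + t.2.1.val * 3 + t.2.2.1.val * 4 + t.2.2.2.val * 5 ≤ 5}
  let f : Nat.Partition 5 → S := fun P =>
    ⟨(⟨P.parts.count 2, by have := hbound P 2; omega⟩, ⟨P.parts.count 3, by have := hbound P 3; omega⟩,
      ⟨P.parts.count 4, by have := hbound P 4; omega⟩, ⟨P.parts.count 5, by have := hbound P 5; omega⟩),
      by have := hsum P; simp only; omega⟩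
  have hf : Function.Injective f := by
    intro P Q h
    have h' := congrArg Subtype.val h
    simp only [f, Prod.mk.injEq, Fin.mk.injEq] at h'
    obtain ⟨e2, e3, e4, e5⟩ := h'
    refine Nat.Partition.ext (Multiset.ext.mpr fun a => ?_)
    have hout : ∀ (R : Nat.Partition 5), a = 0 ∨ 6 ≤ a → R.parts.count a = 0 := by
      intro R ha
      refine count_eq_zero.mpr fun hm => ?_
      have h1 := R.parts_pos hm
      have h2 := le_sum_of_mem hm
      rw [R.parts_sum] at h2
      omega
    rcases (show a = 0 ∨ 6 ≤ a ∨ a = 1 ∨ a = 2 ∨ a = 3 ∨ a = 4 ∨ a = 5 by omega) with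
      ha | ha | rfl | rfl | rfl | rfl | rfl
    · rw [hout P (Or.inl ha), hout Q (Or.inl ha)]
    · rw [hout P (Or.inr ha), hout Q (Or.inr ha)]
    · have := hsum P
      have := hsum Q
      omega
    · exact e2
    · exact e3
    · exact e4
    · exact e5
  refine (Fintype.card_le_of_injective f hf).trans ?_
  decide

/-- `p(n) ≤ 2 ^ (n - 2)` for `n ≥ 5`. -/
theorem card_le_two_pow {n : ℕ} (hn : 5 ≤ n) :
    Fintype.card (Nat.Partition n) ≤ 2 ^ (n - 2) := by
  induction n, hn using Nat.le_induction with
  | base => exact card_five_le.trans (by norm_num)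
  | succ n hn ih =>
    refine (card_succ_le n).trans ?_
    rw [show n + 1 - 2 = (n - 2) + 1 by omega, pow_succ, mul_comm (2 ^ _)]
    exact Nat.mul_le_mul le_rfl ih

/-- All parts odd and distinct. -/
def Distinct {n : ℕ} (P : Nat.Partition n) : Prop := (∀ a ∈ P.parts, Odd a) ∧ P.parts.Nodup

theorem shift_exists {n : ℕ} (hn : 2 ≤ n) {P : Nat.Partition n} (hP : Distinct P) :
    ∃ Q : Nat.Partition n, ∃ l ∈ P.parts, 3 ≤ l ∧ (∀ a ∈ P.parts, a ≤ l) ∧
      Q.parts = (l - 1) ::ₘ 1 ::ₘ P.parts.erase l := by
  classical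
  have hne : P.parts.toFinset.Nonempty := by
    rw [Finset.nonempty_iff_ne_empty]
    intro h
    rw [toFinset_eq_empty] at h
    have := P.parts_sum
    rw [h, sum_zero] at this
    omega
  set l := P.parts.toFinset.max' hne with hl
  have hmem : l ∈ P.parts := mem_toFinset.mp (Finset.max'_mem _ hne)
  have hmax : ∀ a ∈ P.parts, a ≤ l := fun a ha => Finset.le_max' _ _ (mem_toFinset.mpr ha)
  have h3 : 3 ≤ l := by
    obtain ⟨c, hc⟩ := hP.1 l hmem
    by_contra hlt
    have hall : ∀ a ∈ P.parts.erase l, False := fun a ha => by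
      have h1 := P.parts_pos (mem_of_mem_erase ha)
      have h2 := hmax a (mem_of_mem_erase ha)
      have : a = l := by omega
      exact hP.2.notMem_erase (this ▸ ha)
    have h0 : P.parts.erase l = 0 := eq_zero_of_forall_notMem hall
    have hs := sum_erase hmem
    rw [P.parts_sum, h0, sum_zero] at hs
    omega
  refine ⟨⟨(l - 1) ::ₘ 1 ::ₘ P.parts.erase l, ?_, ?_⟩, l, hmem, h3, hmax, rfl⟩
  · intro a ha
    rcases mem_cons.mp ha with rfl | ha
    · omega
    · rcases mem_cons.mp ha with rfl | ha
      · omega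
      · exact P.parts_pos (mem_of_mem_erase ha)
  · have := sum_erase hmem
    rw [P.parts_sum] at this
    rw [sum_cons, sum_cons]
    omega

open Classical in
/-- The shifted partition. -/
noncomputable def shift {n : ℕ} (P : Nat.Partition n) : Nat.Partition n :=
  if h : 2 ≤ n ∧ Distinct P then (shift_exists h.1 h.2).choose else P

theorem shift_spec {n : ℕ} (hn : 2 ≤ n) {P : Nat.Partition n} (hP : Distinct P) :
    ∃ l ∈ P.parts, 3 ≤ l ∧ (∀ a ∈ P.parts, a ≤ l) ∧
      (shift P).parts = (l - 1) ::ₘ 1 ::ₘ P.parts.erase l := by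
  rw [shift, dif_pos ⟨hn, hP⟩]
  exact (shift_exists hn hP).choose_spec

theorem card_shift {n : ℕ} (hn : 2 ≤ n) {P : Nat.Partition n} (hP : Distinct P) :
    (shift P).parts.card = P.parts.card + 1 := by
  obtain ⟨l, hl, -, -, he⟩ := shift_spec hn hP
  rw [he, card_cons, card_cons, ← card_erase_add_one hl]

theorem shift_injective {n : ℕ} (hn : 2 ≤ n) {P Q : Nat.Partition n} (hP : Distinct P)
    (hQ : Distinct Q) (h : shift P = shift Q) : P = Q := by
  classical
  obtain ⟨l, hl, hl3, -, he⟩ := shift_spec hn hP
  obtain ⟨k, hk, hk3, -, hf⟩ := shift_spec hn hQ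
  rw [h, hf] at he
  have hev : Even (l - 1) := by
    obtain ⟨c, hc⟩ := hP.1 l hl
    exact ⟨c, by omega⟩
  have hlk : l = k := by
    have hmem : l - 1 ∈ (k - 1) ::ₘ 1 ::ₘ Q.parts.erase k := he ▸ mem_cons_self _ _
    rcases mem_cons.mp hmem with e | e
    · omega
    rcases mem_cons.mp e with e | e
    · omega
    · obtain ⟨c, hc⟩ := hQ.1 _ (mem_of_mem_erase e)
      obtain ⟨d, hd⟩ := hev
      omega
  subst hlk
  rw [cons_inj_right, cons_inj_right] at he
  refine Nat.Partition.ext ?_
  rw [← cons_erase hl, ← cons_erase hk, he]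

/-- `(2, 1, …, 1)` is not a shifted partition for `n ≥ 5`. -/
theorem exists_not_shift {n : ℕ} (hn : 5 ≤ n) :
    ∃ Q : Nat.Partition n, Q.parts.card = n - 1 ∧
      ∀ P : Nat.Partition n, Distinct P → shift P ≠ Q := by
  classical
  refine ⟨⟨2 ::ₘ replicate (n - 2) 1, ?_, ?_⟩, ?_, ?_⟩
  · intro a ha
    rcases mem_cons.mp ha with rfl | ha
    · omega
    · rw [eq_of_mem_replicate ha]
      omega
  · rw [sum_cons, sum_replicate, smul_eq_mul, mul_one]
    omega
  · rw [card_cons, card_replicate]
    omega
  intro P hP h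
  obtain ⟨l, hl, hl3, -, he⟩ := shift_spec (show 2 ≤ n by omega) hP
  rw [h] at he
  change 2 ::ₘ replicate (n - 2) 1 = _ at he
  have hmem : l - 1 ∈ 2 ::ₘ replicate (n - 2) 1 := he ▸ mem_cons_self _ _
  have hl2 : l - 1 = 2 := by
    rcases mem_cons.mp hmem with e | e
    · exact e
    · have := eq_of_mem_replicate e
      omega
  rw [hl2, cons_inj_right, show n - 2 = (n - 3) + 1 by omega, replicate_succ, cons_inj_right] at he
  have hnd : (P.parts.erase l).Nodup := hP.2.erase l
  rw [← he, nodup_iff_count_le_one] at hnd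
  have := hnd 1
  rw [count_replicate_self] at this
  omega

end CfsgLib.FgsC.PartitionCount
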