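import Cfsg.Agent.Lib.FgsB.Basic
import Cfsg.Agent.Lib.FgsB.ClassPrimes

/-!
Finite groups all of whose class sizes are `1` or primes: either nilpotent of class at most two, or
the derived subgroup has prime order `p` and the central quotient has order `p q`.
-/

set_option autoImplicit false
set_option linter.style.haveILetI false
set_option linter.unusedSectionVars false

namespace CfsgLib.FgsC.PrimeClasses

variable {G : Type*} [Group G] [Finite G]

/-- The class of `x`. -/
def cls (x : G) : Set G := {z | ∃ g : G, g * x * g⁻¹ = z}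

/-- The centraliser index of `x`. -/
noncomputable def sz (x : G) : ℕ := (Subgroup.centralizer ({x} : Set G)).index

theorem ncard_cls (x : G) : (cls x).ncard = sz x := by
  rw [sz, ← CfsgLib.FgsB.card_isConj_eq_index, ← Nat.card_coe_set_eq]
  exact Nat.card_congr (Equiv.subtypeEquivRight fun z => isConj_iff.symm)

theorem sz_eq_one_iff (x : G) : sz x = 1 ↔ x ∈ Subgroup.center G := by
  rw [sz, Subgroup.index_eq_one, Subgroup.mem_center_iff]
  constructor
  · intro h g
    have hg : g ∈ Subgroup.centralizer ({x} : Set G) := by rw [h]; trivial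
    exact Subgroup.mem_centralizer_singleton_iff.1 hg
  · exact fun h => eq_top_iff.2 fun g _ => Subgroup.mem_centralizer_singleton_iff.2 (h g)

theorem ncard_conj_by (x : G) (H : Subgroup G) :
    {z | ∃ a ∈ H, a * x * a⁻¹ = z}.ncard =
      (Subgroup.centralizer ({x} : Set G)).relIndex H := by
  rw [← Nat.card_coe_set_eq, Subgroup.relIndex, Subgroup.index]
  symm
  refine Nat.card_congr (Equiv.ofBijective
    (Quotient.lift (fun a : H => (⟨(a : G) * x * (a : G)⁻¹, a, a.2, rfl⟩ :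
      {z | ∃ a ∈ H, a * x * a⁻¹ = z})) ?_) ⟨?_, ?_⟩)
  · intro a b h
    have h' := QuotientGroup.leftRel_apply.1 h
    rw [Subgroup.mem_subgroupOf, Subgroup.mem_centralizer_singleton_iff] at h'
    refine Subtype.ext ?_
    show (a : G) * x * (a : G)⁻¹ = (b : G) * x * (b : G)⁻¹
    have h2 := congrArg (fun z => (a : G) * z * (b : G)⁻¹) h'
    simpa [mul_assoc] using h2.symm
  · intro a b
    induction a using Quotient.inductionOn with | _ a => ?_
    induction b using Quotient.inductionOn with | _ b => ?_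
    intro h
    refine Quotient.sound (QuotientGroup.leftRel_apply.2 ?_)
    rw [Subgroup.mem_subgroupOf, Subgroup.mem_centralizer_singleton_iff]
    have h' : (a : G) * x * (a : G)⁻¹ = (b : G) * x * (b : G)⁻¹ := congrArg Subtype.val h
    have h2 := congrArg (fun z => (a : G)⁻¹ * z * (b : G)) h'
    simpa [mul_assoc] using h2.symm
  · rintro ⟨_, a, ha, rfl⟩
    exact ⟨Quotient.mk'' ⟨a, ha⟩, rfl⟩

/-- All classes of sizes `1` and `p`. -/
theorem upperCentralSeries_two_of_single {p : ℕ} [hp : Fact p.Prime]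
    (h : ∀ x : G, sz x = 1 ∨ sz x = p) : Subgroup.upperCentralSeries G 2 = ⊤ := by
  have hZ : IsPGroup p (G ⧸ Subgroup.center G) := by
    obtain ⟨e, he⟩ : ∃ e : ℕ, (Subgroup.center G).index = p ^ e := by
      refine ⟨_, Nat.eq_prime_pow_of_unique_prime_dvd Subgroup.index_ne_zero_of_finite
        fun {q} hq hd => ?_⟩
      by_contra hqp
      haveI := Fact.mk hq
      obtain ⟨Q⟩ : Nonempty (Sylow q G) := inferInstance
      have hC : Subgroup.centralizer ((Q : Subgroup G) : Set G) = ⊤ :=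
        CfsgLib.FgsB.eq_top_of_forall_exists_conj_mem fun x =>
          CfsgLib.FgsB.ClassPrimes.exists_conj_mem_centralizer Q (by
            rcases h x with e | e <;> rw [show (Subgroup.centralizer ({x} : Set G)).index = _ from e]
            · exact fun hd' => hq.ne_one (Nat.dvd_one.1 hd')
            · exact fun hd' => hqp ((Nat.prime_dvd_prime_iff_eq hq hp.out).1 hd'))
      have hQ : (Q : Subgroup G) ≤ Subgroup.center G := fun u hu =>
        Subgroup.mem_center_iff.2 fun g => by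
          have hg : g ∈ Subgroup.centralizer ((Q : Subgroup G) : Set G) := by rw [hC]; trivial
          exact (Subgroup.mem_centralizer_iff.1 hg u hu).symm
      exact Q.not_dvd_index (hd.trans (Subgroup.index_dvd_of_le hQ))
    exact IsPGroup.of_card (by rw [← Subgroup.index_eq_card, he])
  haveI : Group.IsNilpotent G := by
    haveI := hZ.isNilpotent
    exact Group.of_quotient_center_nilpotent inferInstance
  have hcomm : ∀ x a b : G, a * b * a⁻¹ * b⁻¹ ∈ Subgroup.centralizer ({x} : Set G) := by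
    intro x a b
    set C := Subgroup.centralizer ({x} : Set G)
    rcases h x with e | e
    · rw [show C = ⊤ from Subgroup.index_eq_one.1 e]; trivial
    have hC1 : C ≠ ⊤ := fun h1 => hp.out.ne_one (e.symm.trans (Subgroup.index_eq_one.2 h1))
    have hco : IsCoatom C := by
      refine ⟨hC1, fun K hK => ?_⟩
      have h1 := Subgroup.relIndex_mul_index hK.le
      rw [show C.index = p from e] at h1
      rcases hp.out.eq_one_or_self_of_dvd _ (Dvd.intro_left _ h1) with h2 | h2
      · exact Subgroup.index_eq_one.1 h2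
      · exfalso
        rw [h2] at h1
        exact hK.not_ge (Subgroup.relIndex_eq_one.1
          (Nat.eq_of_mul_eq_mul_right hp.out.pos (h1.trans (one_mul p).symm)))
    haveI : C.Normal := Subgroup.NormalizerCondition.normal_of_coatom C Group.normalizerCondition_of_isNilpotent hco
    haveI : IsCyclic (G ⧸ C) := isCyclic_of_prime_card (p := p) (by rw [← Subgroup.index_eq_card]; exact e)
    letI := IsCyclic.commGroup (α := G ⧸ C)
    rw [← QuotientGroup.eq_one_iff]
    simp
  refine eq_top_iff.2 fun a _ => ?_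
  rw [Subgroup.mem_upperCentralSeries_succ_iff]
  intro b
  rw [Subgroup.upperCentralSeries_one, commutatorElement_def, Subgroup.mem_center_iff]
  intro x
  exact (Subgroup.mem_centralizer_singleton_iff.1 (hcomm x a b)).symm

/-- Two class sizes `p > q`. -/
theorem cls_mul {p q : ℕ} (hp : p.Prime) (hq : q.Prime) (hqp : q < p)
    (hall : ∀ x : G, sz x = 1 ∨ (sz x).Prime) {x y : G} (hx : sz x = p) (hy : sz y = q) :
    ∀ x' ∈ cls x, ∀ y' ∈ cls y, x' * (y' * y⁻¹) ∈ cls x := by
  set Cx := Subgroup.centralizer ({x} : Set G)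
  set Cy := Subgroup.centralizer ({y} : Set G)
  set Cw := Subgroup.centralizer ({x * y} : Set G)
  have hcop : p.Coprime q := (Nat.coprime_primes hp hq).2 hqp.ne'
  have hD : (Cx ⊓ Cy).index = p * q := by
    refine le_antisymm ?_ ?_
    · rw [← hx, ← hy]; exact Subgroup.index_inf_le
    · refine Nat.le_of_dvd (Nat.pos_of_ne_zero Subgroup.index_ne_zero_of_finite) ?_
      exact hcop.mul_dvd_of_dvd_of_dvd (hx ▸ Subgroup.index_dvd_of_le inf_le_left)
        (hy ▸ Subgroup.index_dvd_of_le inf_le_right)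
  have hmem : ∀ {u v : G}, u ∈ Subgroup.centralizer ({v} : Set G) ↔ u * v = v * u :=
    fun {u v} => Subgroup.mem_centralizer_singleton_iff
  have h1 : Cw ⊓ Cy ≤ Cx ⊓ Cy := fun u ⟨hu, hu'⟩ => by
    refine ⟨hmem.2 ?_, hu'⟩
    have e1 := hmem.1 hu
    have e2 := hmem.1 hu'
    calc u * x = u * (x * y) * y⁻¹ := by group
      _ = x * y * u * y⁻¹ := by rw [e1]
      _ = x * (u * y) * y⁻¹ := by rw [e2]; group
      _ = x * u := by group
  have h2 : Cw ⊓ Cx ≤ Cx ⊓ Cy := fun u ⟨hu, hu'⟩ => by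
    refine ⟨hu', hmem.2 ?_⟩
    have e1 := hmem.1 hu
    have e2 := hmem.1 hu'
    calc u * y = x⁻¹ * (x * u) * y := by group
      _ = x⁻¹ * (u * (x * y)) := by rw [← e2]; group
      _ = y * u := by rw [e1]; group
  have h3 : Cx ⊓ Cy ≤ Cw := fun u ⟨hu, hu'⟩ => hmem.2 (by
    rw [← mul_assoc, hmem.1 hu, mul_assoc, hmem.1 hu', ← mul_assoc])
  have hw : sz (x * y) = p := by
    have hb1 : p * q ≤ sz (x * y) * p := by
      rw [← hD]
      exact (Nat.le_of_dvd (Nat.pos_of_ne_zero Subgroup.index_ne_zero_of_finite)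
        (Subgroup.index_dvd_of_le h2)).trans ((Subgroup.index_inf_le).trans
          (Nat.mul_le_mul le_rfl (le_of_eq hx)))
    have hb2 : p * q ≤ sz (x * y) * q := by
      rw [← hD]
      exact (Nat.le_of_dvd (Nat.pos_of_ne_zero Subgroup.index_ne_zero_of_finite)
        (Subgroup.index_dvd_of_le h1)).trans ((Subgroup.index_inf_le).trans
          (Nat.mul_le_mul le_rfl (le_of_eq hy)))
    have hdvd : sz (x * y) ∣ p * q := hD ▸ Subgroup.index_dvd_of_le h3
    rcases hall (x * y) with e | e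
    · rw [e] at hb1
      have := hq.two_le
      nlinarith
    · rcases e.dvd_mul.1 hdvd with e' | e'
      · exact (Nat.prime_dvd_prime_iff_eq e hp).1 e'
      · exfalso
        rw [(Nat.prime_dvd_prime_iff_eq e hq).1 e'] at hb2
        exact absurd (Nat.le_of_mul_le_mul_right hb2 hq.pos) (not_le.2 hqp)
  set S := {z | ∃ a ∈ Cy, a * x * a⁻¹ = z}
  have hScard : S.ncard = p := by
    rw [ncard_conj_by]
    have e := Subgroup.relIndex_mul_index (inf_le_right : Cx ⊓ Cy ≤ Cy)
    rw [hD, Subgroup.inf_relIndex_right, show Cy.index = q from hy] at e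
    exact Nat.eq_of_mul_eq_mul_right hq.pos e
  have hS : S = cls x := by
    refine Set.eq_of_subset_of_ncard_le (fun z ⟨a, _, e⟩ => ⟨a, e⟩) ?_
    rw [hScard, ncard_cls, hx]
  have hW : (fun z => z * y) '' S = cls (x * y) := by
    refine Set.eq_of_subset_of_ncard_le ?_ ?_
    · rintro _ ⟨_, ⟨a, ha, rfl⟩, rfl⟩
      refine ⟨a, ?_⟩
      calc a * (x * y) * a⁻¹ = a * x * a⁻¹ * (a * y) * a⁻¹ := by group
        _ = a * x * a⁻¹ * y := by rw [hmem.1 ha]; group
    · rw [Set.ncard_image_of_injective _ (mul_left_injective y), hScard, ncard_cls, hw]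
  rintro _ ⟨g, rfl⟩ _ ⟨h, rfl⟩
  -- split `g⁻¹ h` over the two centralisers
  obtain ⟨a, ha, e⟩ : (g⁻¹ * h)⁻¹ * x * (g⁻¹ * h) ∈ S := by
    rw [hS]; exact ⟨(g⁻¹ * h)⁻¹, by group⟩
  have hk : g⁻¹ * h * a ∈ Cx := hmem.2 (by
    calc g⁻¹ * h * a * x = g⁻¹ * h * (a * x * a⁻¹) * a := by group
      _ = x * (g⁻¹ * h * a) := by rw [e]; group)
  have hWm : g * x * g⁻¹ * (h * y * h⁻¹) ∈ cls (x * y) := by
    refine ⟨g * (g⁻¹ * h * a), ?_⟩
    calc g * (g⁻¹ * h * a) * (x * y) * (g * (g⁻¹ * h * a))⁻¹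
        = g * (g⁻¹ * h * a * x) * y * (g⁻¹ * h * a)⁻¹ * g⁻¹ := by group
      _ = g * x * g⁻¹ * (h * (a * y) * a⁻¹ * h⁻¹) := by rw [hmem.1 hk]; group
      _ = g * x * g⁻¹ * (h * y * h⁻¹) := by rw [hmem.1 ha]; group
  rw [← hW] at hWm
  obtain ⟨s, hs, hse⟩ := hWm
  rw [← hS]
  have : g * x * g⁻¹ * (h * y * h⁻¹ * y⁻¹) = s := by
    rw [show g * x * g⁻¹ * (h * y * h⁻¹ * y⁻¹) = g * x * g⁻¹ * (h * y * h⁻¹) * y⁻¹ by group, ← hse]
    group
  rw [this]
  exact hs

/-- The right stabiliser of a class. -/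
def stab (x : G) : Subgroup G where
  carrier := {t | ∀ z, z * t ∈ cls x ↔ z ∈ cls x}
  one_mem' := fun z => by rw [mul_one]
  mul_mem' := fun {s t} hs ht z => by rw [← mul_assoc, ht, hs]
  inv_mem' := fun {t} ht z => by rw [← ht (z * t⁻¹), inv_mul_cancel_right]

theorem mem_stab_of_maps {x t : G} (h : ∀ z ∈ cls x, z * t ∈ cls x) : t ∈ stab x := by
  have he : (fun z => z * t) '' cls x = cls x :=
    Set.eq_of_subset_of_ncard_le (by rintro _ ⟨z, hz, rfl⟩; exact h z hz)
      (by rw [Set.ncard_image_of_injective _ (mul_left_injective t)])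
  intro z
  constructor
  · intro hz
    rw [← he] at hz
    obtain ⟨w, hw, e⟩ := hz
    rwa [← mul_right_cancel e]
  · exact h z

theorem card_stab_dvd (x : G) : Nat.card (stab x) ∣ sz x := by
  have hpre : cls x = QuotientGroup.mk ⁻¹' ((QuotientGroup.mk : G → G ⧸ stab x) '' cls x) := by
    refine Set.Subset.antisymm (Set.subset_preimage_image _ _) ?_
    rintro z ⟨w, hw, e⟩
    have h := QuotientGroup.eq.1 e
    have := (h w).2 hw
    rwa [mul_inv_cancel_left] at this
  rw [← ncard_cls, hpre, ← Nat.card_coe_set_eq,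
    Nat.card_congr (QuotientGroup.preimageMkEquivSubgroupProdSet _ _), Nat.card_prod]
  exact Dvd.intro _ rfl

theorem main (hall : ∀ x : G, sz x = 1 ∨ (sz x).Prime) :
    Subgroup.upperCentralSeries G 2 = ⊤ ∨
      ∃ p q : ℕ, p.Prime ∧ q.Prime ∧ p ≠ q ∧ Nat.card (G ⧸ Subgroup.center G) = p * q ∧
        ¬ IsMulCommutative (G ⧸ Subgroup.center G) := by
  classical
  by_cases hall1 : ∀ x : G, sz x = 1
  · haveI := Fact.mk Nat.prime_two
    exact Or.inl (upperCentralSeries_two_of_single (p := 2) fun x => Or.inl (hall1 x))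
  push Not at hall1
  obtain ⟨x₀, hx₀, hmax⟩ : ∃ x₀ : G, sz x₀ ≠ 1 ∧ ∀ y, sz y ≤ sz x₀ := by
    obtain ⟨x₀, hx₀⟩ := Finite.exists_max (sz : G → ℕ)
    refine ⟨x₀, fun e => ?_, hx₀⟩
    obtain ⟨w, hw⟩ := hall1
    have h1 := hx₀ w
    have h2 := ((hall w).resolve_left hw).two_le
    omega
  set p := sz x₀
  have hp : p.Prime := (hall x₀).resolve_left hx₀
  haveI := Fact.mk hp
  by_cases hone : ∀ x : G, sz x = 1 ∨ sz x = p
  · exact Or.inl (upperCentralSeries_two_of_single hone)
  push Not at hone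
  obtain ⟨y₀, hy₁, hyp⟩ := hone
  have hq := (hall y₀).resolve_left hy₁
  have hqp : sz y₀ < p := lt_of_le_of_ne (hmax y₀) hyp
  obtain ⟨g₀, hg₀⟩ : ∃ g, g * y₀ * g⁻¹ * y₀⁻¹ ≠ 1 := by
    by_contra h
    push Not at h
    refine hy₁ ((sz_eq_one_iff y₀).2 (Subgroup.mem_center_iff.2 fun g => ?_))
    exact mul_inv_eq_iff_eq_mul.1 (mul_inv_eq_one.1 (h g))
  set t₀ := g₀ * y₀ * g₀⁻¹ * y₀⁻¹ with ht₀
  set T := Subgroup.zpowers t₀ with hT
  -- the class of an element of size `p` is a coset of `T`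
  have hstab : ∀ x, sz x = p → stab x = T ∧ ∀ y, sz y ≠ 1 → sz y ≠ p → ∀ g,
      g * y * g⁻¹ * y⁻¹ ∈ T := by
    intro x hx
    have hmem : ∀ y, sz y ≠ 1 → sz y ≠ p → ∀ g, g * y * g⁻¹ * y⁻¹ ∈ stab x := fun y h1 h2 g =>
      mem_stab_of_maps fun z hz => cls_mul hp ((hall y).resolve_left h1)
        (lt_of_le_of_ne (hmax y) h2) hall hx rfl z hz _ ⟨g, rfl⟩
    have hle : T ≤ stab x := Subgroup.zpowers_le.2 (hmem y₀ hy₁ hyp g₀)
    have hd : Nat.card (stab x) ∣ p := hx ▸ card_stab_dvd x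
    have hc : Nat.card T = p := by
      have h1 := (Subgroup.card_dvd_of_le hle).trans hd
      rcases hp.eq_one_or_self_of_dvd _ h1 with e | e
      · exact absurd (Subgroup.zpowers_eq_bot.1 (Subgroup.eq_bot_of_card_eq _ e)) hg₀
      · exact e
    have he : T = stab x :=
      Subgroup.eq_of_le_of_card_ge hle (hc ▸ Nat.le_of_dvd hp.pos hd)
    exact ⟨he.symm, fun y h1 h2 g => he ▸ hmem y h1 h2 g⟩
  have hT0 := (hstab x₀ rfl).1
  have hTcard : Nat.card T = p := by
    have h1 : Nat.card (stab x₀) ∣ p := card_stab_dvd x₀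
    rw [hT0] at h1
    rcases hp.eq_one_or_self_of_dvd _ h1 with e | e
    · exact absurd (Subgroup.zpowers_eq_bot.1 (Subgroup.eq_bot_of_card_eq _ e)) hg₀
    · exact e
  haveI hTn : T.Normal := ⟨fun t ht g => by
    rw [← hT0] at ht ⊢
    intro z
    have hc : ∀ w, g⁻¹ * w * g ∈ cls x₀ ↔ w ∈ cls x₀ := fun w => by
      constructor
      · rintro ⟨h, e⟩
        exact ⟨g * h, by
          calc g * h * x₀ * (g * h)⁻¹ = g * (h * x₀ * h⁻¹) * g⁻¹ := by group
            _ = w := by rw [e]; group⟩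
      · rintro ⟨h, rfl⟩
        exact ⟨g⁻¹ * h, by group⟩
    rw [← hc (z * (g * t * g⁻¹)), ← hc z,
      show g⁻¹ * (z * (g * t * g⁻¹)) * g = g⁻¹ * z * g * t by group]
    exact ht _⟩
  have hcomm : ∀ g x : G, g * x * g⁻¹ * x⁻¹ ∈ T := by
    intro g x
    by_cases h1 : sz x = 1
    · rw [Subgroup.mem_center_iff.1 ((sz_eq_one_iff x).1 h1) g, mul_inv_cancel_right, mul_inv_cancel]
      exact T.one_mem
    by_cases h2 : sz x = p
    · have hsub : (fun t => x * t) '' (T : Set G) = cls x := by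
        refine Set.eq_of_subset_of_ncard_le ?_ ?_
        · rintro _ ⟨t, ht, rfl⟩
          exact (((hstab x h2).1 ▸ ht : t ∈ stab x) x).2 ⟨1, by group⟩
        · rw [Set.ncard_image_of_injective _ (mul_right_injective x), ncard_cls, h2,
            ← Nat.card_coe_set_eq]
          exact hTcard.ge
      have hgx : g * x * g⁻¹ ∈ (fun t => x * t) '' (T : Set G) := by rw [hsub]; exact ⟨g, rfl⟩
      obtain ⟨t, ht, e⟩ := hgx
      simp only at e
      rw [← e]
      exact hTn.conj_mem t ht x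
    · exact (hstab x₀ rfl).2 x h1 h2 g
  have hTc : ∀ a ∈ T, ∀ b ∈ T, a * b = b * a := fun a ha b hb => by
    obtain ⟨i, rfl⟩ := Subgroup.mem_zpowers_iff.1 ha
    obtain ⟨j, rfl⟩ := Subgroup.mem_zpowers_iff.1 hb
    rw [← zpow_add, ← zpow_add, add_comm]
  -- `T` is not central
  obtain ⟨a, haT⟩ : ∃ a, a * t₀ ≠ t₀ * a := by
    by_contra hc
    push Not at hc
    have hcen : ∀ t ∈ T, ∀ g, g * t = t * g := fun t ht g => by
      obtain ⟨i, rfl⟩ := Subgroup.mem_zpowers_iff.1 ht
      exact ((show Commute g t₀ from hc g).zpow_right i).eq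
    let ψ : G →* G := MonoidHom.mk' (fun g => g * y₀ * g⁻¹ * y₀⁻¹) fun g h => by
      have e := hcen _ (hcomm h y₀) g
      calc g * h * y₀ * (g * h)⁻¹ * y₀⁻¹
          = g * (h * y₀ * h⁻¹ * y₀⁻¹) * (y₀ * g⁻¹ * y₀⁻¹) := by group
        _ = (h * y₀ * h⁻¹ * y₀⁻¹) * (g * y₀ * g⁻¹ * y₀⁻¹) := by rw [e]; group
        _ = _ := hTc _ (hcomm h y₀) _ (hcomm g y₀)
    have hker : ψ.ker = Subgroup.centralizer ({y₀} : Set G) := by
      ext g
      rw [MonoidHom.mem_ker, Subgroup.mem_centralizer_singleton_iff]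
      show g * y₀ * g⁻¹ * y₀⁻¹ = 1 ↔ _
      rw [mul_inv_eq_one, mul_inv_eq_iff_eq_mul]
    have hd : sz y₀ ∣ p := by
      rw [← hTcard, sz, ← hker, Subgroup.index_ker]
      exact Subgroup.card_dvd_of_le (by rintro _ ⟨g, rfl⟩; exact hcomm g y₀)
    exact hyp ((Nat.prime_dvd_prime_iff_eq hq hp).1 hd)
  set A := Subgroup.centralizer ({a} : Set G) with hA
  have hTgen : ∀ t ∈ T, t ≠ 1 → t₀ ∈ Subgroup.zpowers t := fun t ht h1 => by
    have hord : Nat.card (Subgroup.zpowers t) = p := by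
      rcases hp.eq_one_or_self_of_dvd _
        (hTcard ▸ Subgroup.card_dvd_of_le (Subgroup.zpowers_le.2 ht)) with e | e
      · exact absurd (Subgroup.zpowers_eq_bot.1 (Subgroup.eq_bot_of_card_eq _ e)) h1
      · exact e
    rw [Subgroup.eq_of_le_of_card_ge (Subgroup.zpowers_le.2 ht) (le_of_eq (hTcard.trans hord.symm))]
    exact Subgroup.mem_zpowers t₀
  have hAT : A ⊓ T = ⊥ := (Subgroup.eq_bot_iff_forall _).2 fun t ⟨hta, ht⟩ => by
    by_contra h1
    obtain ⟨i, hi⟩ := Subgroup.mem_zpowers_iff.1 (hTgen t ht h1)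
    exact haT (hi ▸ ((show Commute a t from
      (Subgroup.mem_centralizer_singleton_iff.1 hta).symm).zpow_right i).eq)
  have hsa : sz a = p := by
    refine le_antisymm (hmax a) ?_
    rw [← ncard_cls, ← hTcard, ← Nat.card_coe_set_eq (cls a)]
    refine Nat.card_le_card_of_injective (fun t : T => (⟨(t : G) * a * (t : G)⁻¹, t, rfl⟩ : cls a))
      fun s t h => ?_
    have h' : (s : G) * a * (s : G)⁻¹ = (t : G) * a * (t : G)⁻¹ := congrArg Subtype.val h
    have h2 := congrArg (fun z => (t : G)⁻¹ * z * (s : G)) h'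
    have h3 : (t : G)⁻¹ * (s : G) * a = a * ((t : G)⁻¹ * (s : G)) := by
      simpa [mul_assoc] using h2
    have : (t : G)⁻¹ * (s : G) ∈ A ⊓ T :=
      ⟨Subgroup.mem_centralizer_singleton_iff.2 h3, T.mul_mem (T.inv_mem t.2) s.2⟩
    rw [hAT, Subgroup.mem_bot, inv_mul_eq_one] at this
    exact Subtype.ext this.symm
  have hsup : A ⊔ T = ⊤ := by
    refine Subgroup.eq_top_of_card_eq _ (le_antisymm (Subgroup.card_le_card_group _) ?_)
    rw [← A.card_mul_index, show A.index = p from hsa]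
    have e := Subgroup.relIndex_sup_right A T
    have e2 : Nat.card ↥(A ⊔ T) = Nat.card T * T.relIndex A := by
      rw [← Subgroup.relIndex_bot_left, ← Subgroup.relIndex_bot_left, ← e,
        Subgroup.relIndex_mul_relIndex _ _ _ bot_le le_sup_right]
    have e3 : T.relIndex A = Nat.card A := by
      rw [← Subgroup.inf_relIndex_left, hAT, Subgroup.relIndex_bot_left]
    rw [e2, e3, hTcard, mul_comm]
  have hAc : ∀ u ∈ A, ∀ v ∈ A, u * v = v * u := fun u hu v hv => by
    have h1 : u * v * u⁻¹ * v⁻¹ ∈ A ⊓ T :=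
      ⟨A.mul_mem (A.mul_mem (A.mul_mem hu hv) (A.inv_mem hu)) (A.inv_mem hv), hcomm u v⟩
    rw [hAT, Subgroup.mem_bot, mul_inv_eq_one, mul_inv_eq_iff_eq_mul] at h1
    exact h1
  set C := Subgroup.centralizer ({t₀} : Set G) with hC
  have hcenter : Subgroup.center G = A ⊓ C := by
    apply le_antisymm
    · exact fun z hz => ⟨Subgroup.mem_centralizer_singleton_iff.2 (Subgroup.mem_center_iff.1 hz a).symm,
        Subgroup.mem_centralizer_singleton_iff.2 (Subgroup.mem_center_iff.1 hz t₀).symm⟩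
    · rintro z ⟨hzA, hzC⟩
      have hle : A ⊔ T ≤ Subgroup.centralizer ({z} : Set G) :=
        sup_le (fun u hu => Subgroup.mem_centralizer_singleton_iff.2 (hAc u hu z hzA))
          (Subgroup.zpowers_le.2 (Subgroup.mem_centralizer_singleton_iff.2
            (Subgroup.mem_centralizer_singleton_iff.1 hzC).symm))
      rw [hsup] at hle
      exact Subgroup.mem_center_iff.2 fun g =>
        Subgroup.mem_centralizer_singleton_iff.1 (hle (Subgroup.mem_top g))
  have hTC : T ≤ C := fun t ht =>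
    Subgroup.mem_centralizer_singleton_iff.2 (hTc t ht t₀ (Subgroup.mem_zpowers t₀))
  haveI : C.Normal := ⟨fun c hc g => by
    have ht : g⁻¹ * t₀ * g ∈ T := by
      simpa using hTn.conj_mem t₀ (Subgroup.mem_zpowers t₀) g⁻¹
    obtain ⟨i, hi⟩ := Subgroup.mem_zpowers_iff.1 ht
    have e : c * t₀ ^ i = t₀ ^ i * c :=
      ((show Commute c t₀ from Subgroup.mem_centralizer_singleton_iff.1 hc).zpow_right i).eq
    rw [hi] at e
    refine Subgroup.mem_centralizer_singleton_iff.2 ?_
    calc g * c * g⁻¹ * t₀ = g * (c * (g⁻¹ * t₀ * g)) * g⁻¹ := by group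
      _ = t₀ * (g * c * g⁻¹) := by rw [e]; group⟩
  have ht1 : sz t₀ ≠ 1 := fun e => haT (Subgroup.mem_center_iff.1 ((sz_eq_one_iff t₀).1 e) a)
  have htp : sz t₀ < p := by
    rw [← ncard_cls, ← hTcard, show Nat.card T = (T : Set G).ncard from Nat.card_coe_set_eq _]
    refine Set.ncard_lt_ncard (Set.ssubset_iff_subset_ne.2 ⟨?_, fun e => ?_⟩)
    · rintro _ ⟨g, rfl⟩
      exact hTn.conj_mem t₀ (Subgroup.mem_zpowers t₀) g
    · have h1 : (1 : G) ∈ cls t₀ := by rw [e]; exact T.one_mem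
      obtain ⟨g, hg⟩ := h1
      exact hg₀ (conj_eq_one_iff.1 hg)
  refine Or.inr ⟨p, sz t₀, hp, (hall t₀).resolve_left ht1, htp.ne', ?_, ?_⟩
  · rw [← Subgroup.index_eq_card, hcenter,
      ← Subgroup.relIndex_mul_index (inf_le_left : A ⊓ C ≤ A), show A.index = p from hsa,
      Subgroup.inf_relIndex_left, ← Subgroup.relIndex_sup_right A C]
    have : A ⊔ C = ⊤ := top_le_iff.1 (hsup ▸ sup_le_sup_left hTC A)
    rw [this, Subgroup.relIndex_top_right, mul_comm]
    rfl
  · intro hc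
    have h1 : (QuotientGroup.mk (g₀ * y₀ * g₀⁻¹ * y₀⁻¹) : G ⧸ Subgroup.center G) = 1 := by
      simp only [QuotientGroup.mk_mul, QuotientGroup.mk_inv]
      rw [hc.is_comm.comm (g₀ : G ⧸ Subgroup.center G) y₀, mul_inv_cancel_right, mul_inv_cancel]
    exact haT (Subgroup.mem_center_iff.1 ((QuotientGroup.eq_one_iff _).1 h1) a)

end CfsgLib.FgsC.PrimeClasses
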