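import Cfsg.Agent.Lib.FgsC.FrobeniusConfig

/-!
# Fixed points of an operator of prime order acting with an invariant group
-/

set_option autoImplicit false
set_option linter.style.haveILetI false

open Module
open scoped commutatorElement

namespace CfsgLib.FgsC.PrimeFixedPoints

open CfsgLib.FgsC.HallHigman CfsgLib.FgsC.HallHigmanB CfsgLib.FgsC.CoprimeWeights

section critical

variable {G : Type*} [Group G] [Finite G] {K : Type*} [Field K] {V : Type*} [AddCommGroup V] [Module K V]
  {ρ : Representation K G V}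

/-- The coprime critical case, with the index of the centre. -/
theorem exists_pow_eq_index [IsAlgClosed K] [FiniteDimensional K V] {p u : ℕ} [hp : Fact p.Prime]
    [hu : Fact u.Prime] (hpu : p ≠ u) (hpK : (p : K) ≠ 0) {Q : Subgroup G} (hQ : IsPGroup u Q)
    (hQK : (Nat.card Q : K) ≠ 0) (hne : ∃ k ∈ Q, ρ k ≠ 1) {x : G}
    (hxQ : x ∈ Subgroup.normalizer (Q : Set G)) (hxp : x ^ p = 1)
    (hN : normEnd ρ x p = 0) (hgen : Q ≤ ⁅Q, Subgroup.zpowers x⁆)
    (hclass : ∀ a ∈ Q, ∀ b ∈ Q, ∀ c ∈ Q, Commute c ⁅a, b⁆)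
    (hcent : ∀ k ∈ Q, Commute k x → ∀ g ∈ Q, Commute k g) (hder : ∀ a ∈ Q, ∀ b ∈ Q, ∀ c ∈ Q, ∀ d ∈ Q, ⁅a, b⁆ ≠ 1 → ⁅c, d⁆ ∈ Subgroup.zpowers ⁅a, b⁆) :
    ∃ b, 1 ≤ b ∧ p = u ^ b + 1 ∧
      (Q ⊓ Subgroup.centralizer (Q : Set G)).relIndex Q = u ^ b * u ^ b := by
  classical
  have hconj : ∀ {g k : G}, g ∈ Subgroup.normalizer (Q : Set G) → k ∈ Q → g * k * g⁻¹ ∈ Q :=
    fun hg hk => (Subgroup.mem_normalizer_iff.mp hg _).mp hk
  have hsub : ∀ {W : Submodule K V} (hW : IsGood ρ Q W), ∀ U : Submodule K W,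
      (∀ (k : G) (hk : k ∈ Q), ∀ u ∈ U, (⟨ρ k u, hW.inv k hk u u.2⟩ : W) ∈ U) →
      U = ⊥ ∨ U = ⊤ := by
    intro W hW U hU
    rcases hW.minimal (U.map W.subtype) (Submodule.map_subtype_le _ _) (by
      rintro k hk _ ⟨u, hu, rfl⟩
      exact ⟨_, hU k hk u hu, rfl⟩) with h | h
    · left
      refine Submodule.map_injective_of_injective W.injective_subtype ?_
      rw [h, Submodule.map_bot]
    · right
      refine Submodule.map_injective_of_injective W.injective_subtype ?_
      rw [h, Submodule.map_top, Submodule.range_subtype]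
  obtain ⟨W, hW, hyW⟩ := exists_invariant_good hQK hne hxQ hxp hN
  set y := x with hy
  set G₁ := Q ⊔ Subgroup.zpowers y with hG₁
  have hG₁W : ∀ g ∈ G₁, ∀ w ∈ W, ρ g w ∈ W := by
    let S : Subgroup G :=
      { carrier := {g | W.map (ρ g) = W}
        mul_mem' := fun {g h} hg hh => by
          show W.map (ρ (g * h)) = W
          rw [map_mul, End.mul_eq_comp, Submodule.map_comp, show W.map (ρ h) = W from hh]
          exact hg
        one_mem' := by show W.map (ρ 1) = W; rw [map_one]; exact Submodule.map_id W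
        inv_mem' := fun {g} hg => by
          show W.map (ρ g⁻¹) = W
          conv_lhs => rw [← show W.map (ρ g) = W from hg]
          rw [← Submodule.map_comp, ← End.mul_eq_comp, ← map_mul, inv_mul_cancel, map_one]
          exact Submodule.map_id W }
    have hin : ∀ g, (∀ w ∈ W, ρ g w ∈ W) → g ∈ S := fun g hg => by
      refine Submodule.eq_of_le_of_finrank_eq (Submodule.map_le_iff_le_comap.mpr hg) ?_
      exact (Submodule.equivMapOfInjective _
        (fun u v h => by rw [← rho_apply_inv (ρ := ρ) g u, h, rho_apply_inv]) W).finrank_eq.symm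
    have hle : G₁ ≤ S := sup_le (fun g hg => hin g (hW.inv g hg))
      (Subgroup.zpowers_le.mpr (hin y hyW))
    exact fun g hg w hw => (hle hg : W.map (ρ g) = W) ▸ Submodule.mem_map_of_mem hw
  let σ : Representation K G₁ W :=
    { toFun := fun g => (ρ (g : G)).restrict (hG₁W g g.2)
      map_one' := LinearMap.ext fun w => Subtype.ext (by simp)
      map_mul' := fun g h => LinearMap.ext fun w => Subtype.ext (by simp) }
  have hσ : ∀ (g : G₁) (w : W), (σ g w : V) = ρ (g : G) (w : V) := fun _ _ => rfl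
  haveI : Nontrivial W := Submodule.nontrivial_iff_ne_bot.mpr hW.ne_bot
  let x₁ : G₁ := ⟨x, Subgroup.mem_sup_right (Subgroup.mem_zpowers x)⟩
  haveI : (Q.subgroupOf G₁).Normal := Subgroup.normal_subgroupOf_iff le_sup_left |>.mpr
    fun k g hk hg => hconj ((sup_le Subgroup.le_normalizer (Subgroup.zpowers_le.mpr hxQ)) hg) hk
  have hQ₁ : IsPGroup u (Q.subgroupOf G₁) :=
    hQ.of_equiv (Subgroup.subgroupOfEquivOfLe le_sup_left).symm
  have hirr : IsIrredOn σ (Q.subgroupOf G₁) := fun U hU =>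
    hsub hW U fun k hk a ha => hU ⟨k, Subgroup.mem_sup_left hk⟩ hk a ha
  have hfix : ∀ i, 0 < i → i < p ^ 1 → ∀ k ∈ Q.subgroupOf G₁, Commute k (x₁ ^ i) →
      IsScalar σ k := by
    intro i hi0 hilt k hk hki
    rw [pow_one] at hilt
    have hki' : Commute (k : G) (x ^ i) := congrArg Subtype.val hki
    obtain ⟨c, hc⟩ := Nat.exists_mul_mod_eq_one_of_coprime
      (hp.out.coprime_iff_not_dvd.mpr (Nat.not_dvd_of_pos_of_lt hi0 hilt)).symm hp.out.one_lt
    have hkx : Commute (k : G) x := by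
      have h := hki'.pow_right c
      rwa [← pow_mul, pow_eq_pow_mod _ hxp, hc.2, pow_one] at h
    exact isScalar_of_commute hirr fun g hg => by
      rw [← map_mul, ← map_mul]
      exact congrArg σ (Subtype.ext (hcent k hk hkx g hg).eq).symm
  obtain ⟨⟨b, hb⟩, hcom⟩ := conj_orbits (ρ := σ) hpu hQ₁ hirr (x := x₁) (n := 1)
    (Subtype.ext (by rw [Subgroup.coe_pow, pow_one]; exact hxp)) hfix
    (fun t ht k hk => isScalar_of_commute hirr fun g hg => by
      rw [← map_mul, ← map_mul]
      exact congrArg σ (Subtype.ext (hclass t ht k hk g hg).eq))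
  obtain ⟨r, hr, hC⟩ := hcom 1 one_pos (by rw [pow_one]; exact hp.out.one_lt.le) (Nat.mod_one _)
  rw [pow_one, Nat.div_one] at hr
  rw [pow_one] at hC
  have hle := sq_finrank_le_of_norm hp.out.pos hpK (f := σ x₁)
    (by rw [← map_pow, show x₁ ^ p = 1 from Subtype.ext hxp, map_one])
    (LinearMap.ext fun w => Subtype.ext (by
      rw [LinearMap.sum_apply, Submodule.coe_sum, LinearMap.zero_apply, Submodule.coe_zero]
      have h := LinearMap.congr_fun hN (w : V)
      rw [normEnd, LinearMap.sum_apply, LinearMap.zero_apply] at h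
      refine Eq.trans (Finset.sum_congr rfl fun i _ => ?_) h
      rw [← map_pow, hσ, Subgroup.coe_pow]))
  rw [hC, sq] at hle
  set N := finrank K W with hNdef
  have hN2 : 2 ≤ N := by
    by_contra h
    push Not at h
    have h1 : N = 1 := by
      have : 0 < N := finrank_pos
      omega
    obtain ⟨k, hk, v, hv, hne'⟩ := hW.nontriv
    refine hne' ?_
    let S : Subgroup G :=
      { carrier := {g | ∀ v ∈ W, ρ g v = v}
        mul_mem' := fun {g h} hg hh v hv => by rw [← rho_mul_apply, hh v hv, hg v hv]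
        one_mem' := fun v _ => by rw [map_one]; rfl
        inv_mem' := fun {g} hg v hv => by
          conv_lhs => rw [← hg v hv, rho_apply_inv] }
    obtain ⟨e, he⟩ := exists_ne (0 : W)
    have hsc : ∀ g : G₁, IsScalar σ g := fun g => by
      obtain ⟨a, ha⟩ := (finrank_eq_one_iff_of_nonzero' e he).mp h1 (σ g e)
      refine ⟨a, LinearMap.ext fun w => ?_⟩
      obtain ⟨d, rfl⟩ := (finrank_eq_one_iff_of_nonzero' e he).mp h1 w
      rw [LinearMap.smul_apply, End.one_apply, map_smul, ← ha, smul_comm]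
    have hle' : ⁅Q, Subgroup.zpowers x⁆ ≤ S := by
      refine Subgroup.commutator_le.mpr fun k hk z hz v hv => ?_
      have h := LinearMap.congr_fun (rho_commutator_scalar (ρ := σ)
        (g := (⟨z, Subgroup.mem_sup_right hz⟩ : G₁))
        (hsc ⟨k, Subgroup.mem_sup_left hk⟩)) ⟨v, hv⟩
      exact congrArg Subtype.val h
    exact (hle' (hgen hk)) v hv
  have hidx : (Q ⊓ Subgroup.centralizer (Q : Set G)).relIndex Q = N * N := by
    obtain ⟨-, -, -, hcard, -⟩ := end_basis (ρ := σ) hQ₁ hirr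
      (fun t ht k hk => isScalar_of_commute hirr fun g hg => by
        rw [← map_mul, ← map_mul]
        exact congrArg σ (Subtype.ext (hclass t ht k hk g hg).eq))
    rw [← hcard, ← Subgroup.index_eq_card]
    have hS : scalarSubgroup σ (Q.subgroupOf G₁)
        = (Q ⊓ Subgroup.centralizer (Q : Set G)).subgroupOf G₁ := by
      refine le_antisymm (fun k hk => ?_) fun k hk => ⟨hk.1, isScalar_of_commute hirr fun g hg => ?_⟩
      · refine ⟨hk.1, Subgroup.mem_centralizer_iff.mpr fun g hg => ?_⟩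
        by_contra hne'
        set g₁ : G₁ := ⟨g, Subgroup.mem_sup_left hg⟩ with hg₁
        have h1 : ⁅(k : G), g⁆ ≠ 1 := fun h =>
          hne' (commutatorElement_eq_one_iff_mul_comm.mp h).symm
        have htriv : σ ⁅k, g₁⁆ = 1 := rho_commutator_scalar hk.2
        -- then `Q` acts as an abelian group, hence by scalars
        have hall : ∀ c ∈ Q.subgroupOf G₁, IsScalar σ c := fun c hc =>
          isScalar_of_commute hirr fun d hd => by
            obtain ⟨i, hi⟩ := hder k hk.1 g hg d hd c hc h1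
            have h2 : (⁅k, g₁⁆ : G₁) ^ i = ⁅d, c⁆ := Subtype.ext hi
            have h3 : ⁅d, c⁆ ∈ σ.ker := h2 ▸ zpow_mem (MonoidHom.mem_ker.mpr htriv) i
            have h4 : ⁅d, c⁆ * (c * d) = d * c := by rw [commutatorElement_def]; group
            rw [← map_mul, ← map_mul, ← h4, map_mul, MonoidHom.mem_ker.mp h3, one_mul]
        obtain ⟨e, he⟩ := exists_ne (0 : W)
        have hline : Submodule.span K {e} = ⊤ := by
          refine (hirr _ fun c hc w hw => ?_).resolve_left (by simpa using he)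
          obtain ⟨a, ha⟩ := hall c hc
          rw [ha, LinearMap.smul_apply, End.one_apply]
          exact Submodule.smul_mem _ _ hw
        have h5 : N = 1 := by
          rw [hNdef, ← finrank_top K W, ← hline, finrank_span_singleton he]
        omega
      · rw [← map_mul, ← map_mul]
        exact congrArg σ (Subtype.ext (Subgroup.mem_centralizer_iff.mp hk.2 (g : G) hg))
    rw [hS]
    show _ = ((Q ⊓ Subgroup.centralizer (Q : Set G)).subgroupOf G₁).relIndex (Q.subgroupOf G₁)
    rw [Subgroup.relIndex_subgroupOf le_sup_left]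
  refine ⟨b, ?_, ?_, ?_⟩
  · by_contra hb0
    rw [show b = 0 by omega, pow_zero] at hb
    omega
  rotate_left
  · rw [hidx, hb]
  obtain ⟨m, hm⟩ : ∃ m, p = m + 1 := ⟨p - 1, by have := hp.out.pos; omega⟩
  rw [hm, Nat.add_sub_cancel] at hle
  rw [hm] at hr
  have hNle : N ≤ m := by nlinarith
  have hdvd : p ∣ N + 1 := by
    have h : p ∣ (N - 1) * (N + 1) := ⟨r, by
      rw [mul_comm, ← Nat.sq_sub_sq, one_pow, sq, hr, Nat.add_sub_cancel_left, hm, mul_comm]⟩
    rcases (Nat.Prime.dvd_mul hp.out).mp h with h | h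
    · have := Nat.le_of_dvd (by omega) h
      omega
    · exact h
  have := Nat.le_of_dvd (by omega) hdvd
  omega

end critical

section setup

universe v

variable {G : Type v} [Group G] [Finite G]

open scoped IsMulCommutative in
/-- A representation of `⟨x⟩ Q` with vanishing norm, when `x` has no fixed points on `V`. -/
theorem exists_norm_rep {p r : ℕ} [Fact p.Prime] (hr : r.Prime) (X Q V : Subgroup G) (x : G)
    (hxX : x ∈ X) (hgenX : X ≤ Subgroup.zpowers x) (hxr : x ^ r = 1)
    (hV : Cfsg.IsElementaryAbelian p V) (hXV : X ≤ Subgroup.normalizer (V : Set G))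
    (hQV : Q ≤ Subgroup.normalizer (V : Set G))
    (hfaith : (X ⊔ Q) ⊓ Subgroup.centralizer (V : Set G) = ⊥)
    (hCV : V ⊓ Subgroup.centralizer (X : Set G) = ⊥) :
    ∃ (W : Type v) (_ : AddCommGroup W) (_ : Module (AlgebraicClosure (ZMod p)) W)
      (_ : FiniteDimensional (AlgebraicClosure (ZMod p)) W)
      (ρ : Representation (AlgebraicClosure (ZMod p)) ↥(X ⊔ Q) W),
      Function.Injective ρ ∧ normEnd ρ ⟨x, Subgroup.mem_sup_left hxX⟩ r = 0 := by
  classical
  haveI := hV.1
  obtain ⟨W, i1, i2, i3, ρ, hinj, -, -, hN, -⟩ :=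
    FrobeniusConfig.exists_rep (V := V) (r := p) fun v => Subtype.ext (hV.2 _ v.2)
  have hle : X ⊔ Q ≤ Subgroup.normalizer (V : Set G) := sup_le hXV hQV
  let c : ↥(X ⊔ Q) →* MulAut V := V.normalizerMonoidHom.comp (Subgroup.inclusion hle)
  have hc : Function.Injective c := by
    rw [injective_iff_map_eq_one]
    intro g hg
    have h1 : (g : G) ∈ (X ⊔ Q) ⊓ Subgroup.centralizer (V : Set G) := by
      refine ⟨g.2, Subgroup.mem_centralizer_iff.mpr fun v hv => ?_⟩
      have h : (g : G) * v * (g : G)⁻¹ = v := congrArg Subtype.val (MulEquiv.ext_iff.mp hg ⟨v, hv⟩)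
      exact (mul_inv_eq_iff_eq_mul.mp h).symm
    rw [hfaith, Subgroup.mem_bot] at h1
    exact Subtype.ext h1
  refine ⟨W, i1, i2, i3, ρ.comp c, hinj.comp hc, ?_⟩
  set z : MulAut V := c ⟨x, Subgroup.mem_sup_left hxX⟩ with hz
  have hn : normEnd (ρ.comp c) (⟨x, Subgroup.mem_sup_left hxX⟩ : ↥(X ⊔ Q)) r = normEnd ρ z r :=
    Finset.sum_congr rfl fun i _ => by rw [MonoidHom.comp_apply, map_pow]
  rw [hn]
  refine hN z r fun v => ?_
  set w := ∏ i ∈ Finset.range r, (z ^ i) v with hw
  have hzr : z ^ r = 1 := by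
    rw [hz, ← map_pow, show (⟨x, Subgroup.mem_sup_left hxX⟩ : ↥(X ⊔ Q)) ^ r = 1 from Subtype.ext hxr,
      map_one]
  have hfix : z w = w := by
    rw [hw, map_prod]
    have h1 := Finset.prod_range_succ (fun i => (z ^ i) v) r
    have h2 := Finset.prod_range_succ' (fun i => (z ^ i) v) r
    rw [h1, hzr, pow_zero] at h2
    rw [Finset.prod_congr rfl (fun i _ => show z ((z ^ i) v) = (z ^ (i + 1)) v by
      rw [pow_succ', MulAut.mul_apply])]
    exact (mul_right_cancel h2).symm
  have h1 : (w : G) ∈ V ⊓ Subgroup.centralizer (X : Set G) := by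
    refine ⟨w.2, Subgroup.mem_centralizer_iff.mpr fun y hy => ?_⟩
    obtain ⟨j, rfl⟩ := hgenX hy
    have h : x * (w : G) * x⁻¹ = w := congrArg Subtype.val hfix
    exact ((show Commute x (w : G) from mul_inv_eq_iff_eq_mul.mp h).zpow_left j).eq
  rw [hCV, Subgroup.mem_bot] at h1
  exact Subtype.ext h1

/-- An operator of prime order with vanishing norm centralises invariant abelian groups. -/
theorem commute_of_norm_zero_abelian {K : Type*} [Field K] [IsAlgClosed K] {W : Type*}
    [AddCommGroup W] [Module K W] [FiniteDimensional K W] {ρ : Representation K G W}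
    (hfaith : Function.Injective ρ) {r u : ℕ} [hr : Fact r.Prime] [hu : Fact u.Prime] (hru : r ≠ u)
    {z : G} (hzr : z ^ r = 1) (hN : normEnd ρ z r = 0) {A : Subgroup G} [IsMulCommutative A]
    (hA : IsPGroup u A) (hAK : (Nat.card A : K) ≠ 0)
    (hzA : z ∈ Subgroup.normalizer (A : Set G)) : ∀ a ∈ A, Commute a z := by
  classical
  set Z := Subgroup.zpowers z with hZ
  have hZA : Z ≤ Subgroup.normalizer (A : Set G) := Subgroup.zpowers_le.mpr hzA
  have hcop : (Nat.card Z).Coprime (Nat.card A) := by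
    obtain ⟨c, hc⟩ := IsPGroup.iff_card.mp hA
    obtain ⟨i, -, hi⟩ := (Nat.dvd_prime_pow hr.out).mp
      (orderOf_dvd_of_pow_eq_one (show z ^ r ^ 1 = 1 by rwa [pow_one]))
    rw [hc, Nat.card_zpowers, hi]
    exact Nat.coprime_pow_primes i c hr.out hu.out hru
  set B := ⁅A, Z⁆ with hB
  have hBA : B ≤ A := Coprime.commutator_le_of_le_normalizer hZA
  by_cases hB1 : B = ⊥
  · intro a ha
    exact (Subgroup.mem_centralizer_iff.mp
      (Subgroup.commutator_eq_bot_iff_le_centralizer.mp hB1 ha) z (Subgroup.mem_zpowers z)).symm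
  exfalso
  have hzB : z ∈ Subgroup.normalizer (B : Set G) :=
    Subgroup.normalizer_commutator_ge_right A Z (Subgroup.mem_zpowers z)
  have hfree : ∀ a ∈ B, z * a * z⁻¹ = a → a = 1 := by
    intro a ha h
    have h1 : a ∈ (A ⊓ Subgroup.centralizer (Z : Set G)) ⊓ B := by
      refine ⟨⟨hBA ha, Subgroup.mem_centralizer_iff.mpr fun y hy => ?_⟩, ha⟩
      obtain ⟨j, rfl⟩ := hy
      exact ((show Commute z a from mul_inv_eq_iff_eq_mul.mp h).zpow_left j).eq
    have h2 : a ∈ (⊥ : Subgroup G) := (Coprime.centralizer_inf_commutator_eq_bot hZA hcop).le h1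
    exact Subgroup.mem_bot.mp h2
  obtain ⟨⟨k, hk⟩, hk1⟩ := Subgroup.ne_bot_iff_exists_ne_one.mp hB1
  have hBK : (Nat.card B : K) ≠ 0 := fun h => hAK (by
    obtain ⟨c, hc⟩ := Subgroup.card_dvd_of_le hBA
    rw [hc, Nat.cast_mul, h, zero_mul])
  obtain ⟨χ, v, hv, hv0, hχ⟩ := exists_weight_ne (ρ := ρ) (A := B)
    (fun a ha b hb => by
      rw [← map_mul, ← map_mul]
      exact congrArg ρ (congrArg Subtype.val (mul_comm' (⟨a, hBA ha⟩ : A) ⟨b, hBA hb⟩))) hk
    (fun h => hk1 (Subtype.ext (hfaith (h.trans (map_one ρ).symm)))) hBK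
  have hmove := not_fixes_of_free hv hv0 hzB hfree hk hχ
  have hli := translates_li hr.out hzB hzr hmove hv hv0
  rw [Fintype.linearIndependent_iff] at hli
  have h1 : ∑ i : Fin r, (1 : K) • ρ (z ^ (i : ℕ)) v = 0 := by
    simp only [one_smul]
    rw [← normEnd_apply, hN, LinearMap.zero_apply]
  exact one_ne_zero (hli _ h1 ⟨0, hr.out.pos⟩)

end setup

end CfsgLib.FgsC.PrimeFixedPoints
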