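import Cfsg.Agent.Lib.FgsC.PrimePowerStable
import Cfsg.Agent.Lib.Base.FPFAut

/-!
# An operator of prime power order with vanishing norm: the configuration is impossible

`Q` is a group of class two on which `x`, of order dividing `p ^ n` (`p` odd), has no fixed points and
`τ = x ^ p ^ (n - 1)` only central ones, with `Q = [Q, τ]`. The norm of `x` cannot vanish.
-/

set_option autoImplicit false
set_option linter.style.haveILetI false

open Module
open scoped commutatorElement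

namespace CfsgLib.FgsC.PrimePower

open CfsgLib.FgsC.HallHigman CfsgLib.FgsC.HallHigmanB CfsgLib.FgsC.CoprimeWeights

/-- Commutators only depend on the elements up to scalars. -/
theorem rho_commutator_mul_scalar {G : Type*} [Group G] {K : Type*} [Field K] {V : Type*}
    [AddCommGroup V] [Module K V] {ρ : Representation K G V} {u s v t : G} (hs : IsScalar ρ s)
    (ht : IsScalar ρ t) : ρ ⁅u * s, v * t⁆ = ρ ⁅u, v⁆ := by
  have h1 : ∀ g, ρ (u * ⁅s, g⁆ * u⁻¹) = 1 := fun g => by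
    rw [map_mul, map_mul, rho_commutator_scalar hs, mul_one, ← map_mul, mul_inv_cancel, map_one]
  have h2 : ρ (v * ⁅u, t⁆ * v⁻¹) = 1 := by
    have h3 : ρ ⁅u, t⁆ = 1 := by
      have h4 : ρ ⁅t, u⁆ * ρ ⁅t, u⁆⁻¹ = 1 := by rw [← map_mul, mul_inv_cancel, map_one]
      rwa [rho_commutator_scalar ht, one_mul, commutatorElement_inv] at h4
    rw [map_mul, map_mul, h3, mul_one, ← map_mul, mul_inv_cancel, map_one]
  rw [show ⁅u * s, v * t⁆ = u * ⁅s, v * t⁆ * u⁻¹ * (⁅u, v⁆ * (v * ⁅u, t⁆ * v⁻¹)) by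
      simp only [commutatorElement_def]; group,
    map_mul ρ (u * ⁅s, v * t⁆ * u⁻¹), h1, one_mul, map_mul ρ ⁅u, v⁆, h2, mul_one]

/-- The configuration is impossible. -/
theorem no_prime_power_config {G : Type*} [Group G] [Finite G] {K : Type*} [Field K]
    [IsAlgClosed K] {V : Type*} [AddCommGroup V] [Module K V] [FiniteDimensional K V]
    {ρ : Representation K G V} {p q : ℕ} [hp : Fact p.Prime] [hq : Fact q.Prime] (hp2 : p ≠ 2)
    (hpq : p ≠ q) (hpK : (p : K) ≠ 0) {Q : Subgroup G} (hQ : IsPGroup q Q)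
    (hQK : (Nat.card Q : K) ≠ 0) (hne : ∃ k ∈ Q, ρ k ≠ 1) {x : G}
    (hxQ : x ∈ Subgroup.normalizer (Q : Set G)) {n : ℕ} (hxP : x ^ p ^ n = 1)
    (hN : normEnd ρ x (p ^ n) = 0) (hgen : Q ≤ ⁅Q, Subgroup.zpowers (x ^ p ^ (n - 1))⁆)
    (hclass : ∀ a ∈ Q, ∀ b ∈ Q, ∀ c ∈ Q, Commute c ⁅a, b⁆)
    (hcent : ∀ k ∈ Q, Commute k (x ^ p ^ (n - 1)) → ∀ g ∈ Q, Commute k g)
    (hfree : ∀ k ∈ Q, Commute k x → k = 1) : False := by
  classical
  have hconj : ∀ {g k : G}, g ∈ Subgroup.normalizer (Q : Set G) → k ∈ Q → g * k * g⁻¹ ∈ Q :=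
    fun hg hk => (Subgroup.mem_normalizer_iff.mp hg _).mp hk
  -- the least stable power
  obtain ⟨W₁, hW₁⟩ := exists_good hQK hne
  have hexn : ∃ W, IsGood ρ Q W ∧ IsStable ρ Q W (x ^ p ^ n) := ⟨W₁, hW₁, by
    rw [hxP]; exact isStable_of_invariant hW₁ fun w hw => by rw [map_one, End.one_apply]; exact hw⟩
  have hex : ∃ a, ∃ W, IsGood ρ Q W ∧ IsStable ρ Q W (x ^ p ^ a) := ⟨n, hexn⟩
  set a := Nat.find hex with hadef
  have han : a ≤ n := Nat.find_min' hex hexn
  obtain ⟨W₀, hW₀, hst⟩ := Nat.find_spec hex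
  obtain ⟨W, hW, hyW⟩ := exists_invariant_of_stable hW₀ (pow_mem hxQ (p ^ a)) hst
  have hind : ∀ i, 0 < i → i < p ^ a → ¬ IsStable ρ Q W (x ^ i) := fun i =>
    not_isStable_pow hW hp.out hxQ hxP fun e he hs => Nat.find_min hex he ⟨W, hW, hs⟩
  have hpa : 0 < p ^ a := pow_pos hp.out.pos _
  set y := x ^ p ^ a with hydef
  set P := p ^ (n - a) with hPdef
  have hPa : P * p ^ a = p ^ n := by rw [hPdef, ← pow_add, Nat.sub_add_cancel han]
  have hyP : y ^ P = 1 := by rw [hydef, ← pow_mul, mul_comm, hPa, hxP]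
  have hNW : ∀ w ∈ W, ∑ j ∈ Finset.range P, ρ (y ^ j) w = 0 := fun w hw =>
    norm_pow_eq_zero hW hxQ hpa hyW hind (by rw [hPa]; exact hN) hw
  haveI : Nontrivial W := Submodule.nontrivial_iff_ne_bot.mpr hW.ne_bot
  have hm : 0 < n - a := by
    refine Nat.pos_of_ne_zero fun h0 => hW.ne_bot ((Submodule.eq_bot_iff W).mpr fun w hw => ?_)
    have h := hNW w hw
    rwa [hPdef, h0, pow_zero, Finset.sum_range_one, pow_zero, map_one, End.one_apply] at h
  have hτy : y ^ p ^ (n - a - 1) = x ^ p ^ (n - 1) := by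
    rw [hydef, ← pow_mul, ← pow_add]; congr 2; omega
  -- the representation on `W`
  set G₁ := Q ⊔ Subgroup.zpowers y with hG₁
  have hyQ : y ∈ Subgroup.normalizer (Q : Set G) := pow_mem hxQ _
  have hG₁W : ∀ g ∈ G₁, ∀ w ∈ W, ρ g w ∈ W := by
    let T : Subgroup G :=
      { carrier := {g | W.map (ρ g) = W}
        mul_mem' := fun {g h} hg hh => by
          show W.map (ρ (g * h)) = W
          rw [map_mul, End.mul_eq_comp, Submodule.map_comp, show W.map (ρ h) = W from hh]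
          exact hg
        one_mem' := by show W.map (ρ 1) = W; rw [map_one]; exact Submodule.map_id W
        inv_mem' := fun {g} hg => by
          show W.map (ρ g⁻¹) = W
          conv_lhs => rw [← show W.map (ρ g) = W from hg]
          rw [← Submodule.map_comp, ← End.mul_eq_comp, ← map_mul, inv_mul_cancel, map_one]
          exact Submodule.map_id W }
    have hin : ∀ g, (∀ w ∈ W, ρ g w ∈ W) → g ∈ T := fun g hg => by
      refine Submodule.eq_of_le_of_finrank_eq (Submodule.map_le_iff_le_comap.mpr hg) ?_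
      exact (Submodule.equivMapOfInjective _
        (fun u v h => by rw [← rho_apply_inv (ρ := ρ) g u, h, rho_apply_inv]) W).finrank_eq.symm
    have hle : G₁ ≤ T := sup_le (fun g hg => hin g (hW.inv g hg))
      (Subgroup.zpowers_le.mpr (hin y hyW))
    exact fun g hg w hw => (hle hg : W.map (ρ g) = W) ▸ Submodule.mem_map_of_mem hw
  let σ : Representation K G₁ W :=
    { toFun := fun g => (ρ (g : G)).restrict (hG₁W g g.2)
      map_one' := LinearMap.ext fun w => Subtype.ext (by simp)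
      map_mul' := fun g h => LinearMap.ext fun w => Subtype.ext (by simp) }
  have hσ : ∀ (g : G₁) (w : W), (σ g w : V) = ρ (g : G) (w : V) := fun _ _ => rfl
  let y₁ : G₁ := ⟨y, Subgroup.mem_sup_right (Subgroup.mem_zpowers y)⟩
  set Q₁ := Q.subgroupOf G₁ with hQ₁def
  haveI hQ₁n : Q₁.Normal := Subgroup.normal_subgroupOf_iff le_sup_left |>.mpr
    fun k g hk hg => hconj ((sup_le Subgroup.le_normalizer (Subgroup.zpowers_le.mpr hyQ)) hg) hk
  have hQ₁ : IsPGroup q Q₁ := hQ.of_equiv (Subgroup.subgroupOfEquivOfLe le_sup_left).symm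
  have hirr : IsIrredOn σ Q₁ := fun U hU =>
    eq_bot_or_top hW U fun k hk u hu => hU ⟨k, Subgroup.mem_sup_left hk⟩ hk u hu
  have hcentral : ∀ k : G₁, k ∈ Q₁ → (∀ g ∈ Q, Commute (k : G) g) → IsScalar σ k := fun k _ h =>
    isScalar_of_commute hirr fun g hg => by
      rw [← map_mul, ← map_mul]
      exact congrArg σ (Subtype.ext (h g hg).eq).symm
  have hfix : ∀ i, 0 < i → i < P → ∀ k ∈ Q₁, Commute k (y₁ ^ i) → IsScalar σ k := by
    intro i hi0 hilt k hk hki
    have hki' : Commute (k : G) (y ^ i) := congrArg Subtype.val hki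
    refine hcentral k hk (hcent k hk ?_)
    obtain ⟨j, hj⟩ := pow_mem_zpowers_pow hp.out hyP hi0 hilt
    rw [← hτy, ← hj]
    exact hki'.zpow_right j
  -- `Q` is not scalar on `W`
  have hns : ∃ k ∈ Q₁, ¬ IsScalar σ k := by
    by_contra hall
    push Not at hall
    obtain ⟨k, hk, v, hv, hne'⟩ := hW.nontriv
    refine hne' ?_
    let T : Subgroup G :=
      { carrier := {g | ∀ v ∈ W, ρ g v = v}
        mul_mem' := fun {g h} hg hh v hv => by rw [← rho_mul_apply, hh v hv, hg v hv]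
        one_mem' := fun v _ => by rw [map_one]; rfl
        inv_mem' := fun {g} hg v hv => by
          conv_lhs => rw [← hg v hv, rho_apply_inv] }
    have hle : ⁅Q, Subgroup.zpowers (x ^ p ^ (n - 1))⁆ ≤ T := by
      refine Subgroup.commutator_le.mpr fun k hk z hz v hv => ?_
      have hz' : z ∈ G₁ := by
        refine Subgroup.mem_sup_right ((Subgroup.zpowers_le.mpr ?_) hz)
        rw [← hτy]
        exact pow_mem (Subgroup.mem_zpowers y) _
      have h := LinearMap.congr_fun (rho_commutator_scalar (ρ := σ) (g := (⟨z, hz'⟩ : G₁))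
        (hall ⟨k, Subgroup.mem_sup_left hk⟩ hk)) ⟨v, hv⟩
      exact congrArg Subtype.val h
    exact (hle (hgen hk)) v hv
  -- the dimension of `W`
  have hL1 : ∀ t ∈ Q₁, ∀ k ∈ Q₁, IsScalar σ ⁅t, k⁆ := fun t ht k hk =>
    isScalar_of_commute hirr fun g hg => by
      rw [← map_mul, ← map_mul]
      exact congrArg σ (Subtype.ext (hclass t ht k hk g hg).eq)
  obtain ⟨⟨b, hb⟩, hcom⟩ := conj_orbits (ρ := σ) hpq hQ₁ hirr (x := y₁) (n := n - a)
    (Subtype.ext (by rw [Subgroup.coe_pow]; exact hyP)) hfix hL1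
  obtain ⟨r, hr, hC⟩ := hcom 1 one_pos (pow_pos hp.out.pos _) (Nat.mod_one _)
  rw [pow_one] at hC
  rw [Nat.div_one] at hr
  have hle := sq_finrank_le_of_norm (pow_pos hp.out.pos (n - a))
    (by rw [Nat.cast_pow]; exact pow_ne_zero _ hpK) (f := σ y₁)
    (by rw [← map_pow, show y₁ ^ P = 1 from Subtype.ext hyP, map_one])
    (LinearMap.ext fun w => Subtype.ext (by
      rw [LinearMap.sum_apply, Submodule.coe_sum, LinearMap.zero_apply, Submodule.coe_zero]
      refine Eq.trans (Finset.sum_congr rfl fun i _ => ?_) (hNW w w.2)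
      rw [← map_pow, hσ, Subgroup.coe_pow]))
  rw [hC] at hle
  set N := finrank K W with hNdef
  have hN2 : 2 ≤ N := by
    by_contra h
    push Not at h
    obtain ⟨k, hk, hnk⟩ := hns
    have h1 : N = 1 := by
      have : 0 < N := finrank_pos
      omega
    obtain ⟨e, he⟩ := exists_ne (0 : W)
    obtain ⟨c, hc⟩ := (finrank_eq_one_iff_of_nonzero' e he).mp h1 (σ k e)
    refine hnk ⟨c, LinearMap.ext fun w => ?_⟩
    obtain ⟨d, rfl⟩ := (finrank_eq_one_iff_of_nonzero' e he).mp h1 w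
    rw [LinearMap.smul_apply, End.one_apply, map_smul, ← hc, smul_comm]
  have hPN : p ^ (n - a) = q ^ b + 1 := by
    rw [← hb]; exact (eq_sub_one hp.out hp2 hm hN2 hr hle).symm
  have hb1 : 1 ≤ b := by
    by_contra h
    rw [hb, show b = 0 by omega, pow_zero] at hN2
    omega
  -- the conjugates, modulo the scalars
  set SQ := (scalarSubgroup σ Q₁).subgroupOf Q₁ with hSQ
  haveI : SQ.Normal := by rw [hSQ]; infer_instance
  obtain ⟨-, -, -, hcardSQ, -⟩ := end_basis (ρ := σ) hQ₁ hirr hL1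
  let cj : ℕ → Q →* Q₁ := fun j =>
    { toFun := fun k => ⟨⟨(x ^ j)⁻¹ * k * x ^ j,
        Subgroup.mem_sup_left (conj_mem (pow_mem hxQ j) k.2)⟩, conj_mem (pow_mem hxQ j) k.2⟩
      map_one' := Subtype.ext (Subtype.ext (by simp))
      map_mul' := fun k l => Subtype.ext (Subtype.ext (by
        show (x ^ j)⁻¹ * ((k : G) * l) * x ^ j =
          (x ^ j)⁻¹ * k * x ^ j * ((x ^ j)⁻¹ * l * x ^ j)
        group)) }
  have hcj : ∀ j (k : Q), ((cj j k : G₁) : G) = (x ^ j)⁻¹ * k * x ^ j := fun j k => rfl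
  have hcjy : ∀ j (k : Q), (cj (j + p ^ a) k : G₁) = y₁⁻¹ * (cj j k : G₁) * y₁ := fun j k => by
    refine Subtype.ext ?_
    rw [hcj]
    show _ = y⁻¹ * ((x ^ j)⁻¹ * k * x ^ j) * y
    rw [pow_add, hydef]
    group
  have hxinv : x ^ (p ^ n - 1) = x⁻¹ := eq_inv_of_mul_eq_one_left (by
    rw [← pow_succ, Nat.sub_add_cancel (pow_pos hp.out.pos n), hxP])
  let α : MulAut Q := CfsgLib.Base.FPFAut.restrict (MulAut.conj x) (CfsgLib.Base.map_conj_eq_self_iff.2 hxQ)
  have hαv : ∀ (i : ℕ) (k : Q), (((α ^ i) k : Q) : G) = x ^ i * k * (x ^ i)⁻¹ := by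
    intro i
    induction i with
    | zero => intro k; simp
    | succ i ih =>
      intro k
      rw [pow_succ', MulAut.mul_apply]
      show x * (((α ^ i) k : Q) : G) * x⁻¹ = _
      rw [ih, pow_succ']
      group
  have hcjα : ∀ j (k : Q), cj j (α k) = cj (j + (p ^ n - 1)) k := fun j k => by
    refine Subtype.ext (Subtype.ext ?_)
    rw [hcj, hcj, pow_add, hxinv]
    show (x ^ j)⁻¹ * (x * k * x⁻¹) * x ^ j = _
    group
  let Ψ : Q →* (Fin (p ^ a) → Q₁ ⧸ SQ) :=
    { toFun := fun k i => QuotientGroup.mk (cj i k)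
      map_one' := funext fun i => by rw [map_one]; rfl
      map_mul' := fun k l => funext fun i => by rw [map_mul]; rfl }
  set S := Ψ.ker with hS
  have hmemSQ : ∀ k : Q₁, (QuotientGroup.mk k : Q₁ ⧸ SQ) = 1 ↔ IsScalar σ (k : G₁) := fun k => by
    rw [QuotientGroup.eq_one_iff]
    exact ⟨fun h => (Subgroup.mem_subgroupOf.mp h).2, fun h => Subgroup.mem_subgroupOf.mpr ⟨k.2, h⟩⟩
  have hSall : ∀ k, k ∈ S → ∀ j, IsScalar σ (cj j k : G₁) := by
    intro k hk j
    rw [← Nat.mod_add_div j (p ^ a)]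
    induction j / p ^ a with
    | zero =>
      rw [mul_zero, add_zero]
      exact (hmemSQ _).mp (congrFun (MonoidHom.mem_ker.mp hk) ⟨j % p ^ a, Nat.mod_lt _ hpa⟩)
    | succ t ih =>
      rw [mul_add, mul_one, ← add_assoc, hcjy]
      have h := (inferInstance : (scalarSubgroup σ Q₁).Normal).conj_mem _
        (⟨(cj _ k).2, ih⟩ : _ ∈ scalarSubgroup σ Q₁) y₁⁻¹
      rw [inv_inv] at h
      exact h.2
  have hSof : ∀ k, (∀ j, IsScalar σ (cj j k : G₁)) → k ∈ S := fun k h =>
    MonoidHom.mem_ker.mpr (funext fun i => (hmemSQ _).mpr (h i))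
  have hαS : S.map α.toMonoidHom = S := by
    refine Subgroup.eq_of_le_of_card_ge ?_ (Subgroup.card_map_of_injective α.injective).ge
    rintro _ ⟨k, hk, rfl⟩
    refine hSof _ fun j => ?_
    show IsScalar σ (cj j (α k) : G₁)
    rw [hcjα]
    exact hSall k hk _
  let π : Equiv.Perm (Q ⧸ S) := (QuotientGroup.congr S S α hαS).toEquiv
  have hπ : ∀ (i : ℕ) (k : Q), (π ^ i) (QuotientGroup.mk k) = QuotientGroup.mk ((α ^ i) k) := by
    intro i
    induction i with
    | zero => intro k; rfl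
    | succ i ih => intro k; rw [pow_succ', Equiv.Perm.mul_apply, ih, pow_succ', MulAut.mul_apply]; rfl
  set S' := S.map Q.subtype with hS'
  have hxS : x ∈ Subgroup.normalizer (S' : Set G) := by
    rw [← CfsgLib.Base.map_conj_eq_self_iff]
    refine Subgroup.eq_of_le_of_card_ge ?_ (Subgroup.card_map_of_injective (MulAut.conj x).injective).ge
    rintro _ ⟨_, ⟨k, hk, rfl⟩, rfl⟩
    exact ⟨α k, hαS.le ⟨k, hk, rfl⟩, rfl⟩
  have hπfix : ∀ c : Q ⧸ S, (π ^ p ^ (n - 1)) c = c → c = 1 := by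
    intro c hc
    obtain ⟨k, rfl⟩ := QuotientGroup.mk_surjective c
    rw [hπ, eq_comm, QuotientGroup.eq] at hc
    obtain ⟨c, hcτ, hkc⟩ := HallHigman.exists_fixed_in_coset hpq hQ (M := S')
      (Subgroup.map_subtype_le S) (y := x ^ p ^ (n - 1))
      (by
        obtain ⟨i, -, hi⟩ := (Nat.dvd_prime_pow hp.out).mp
          (orderOf_dvd_of_pow_eq_one (show (x ^ p ^ (n - 1)) ^ p ^ n = 1 by
            rw [← pow_mul, mul_comm, pow_mul, hxP, one_pow]))
        exact ⟨i, hi⟩)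
      (pow_mem hxS _) (k := (k : G))
      ⟨_, hc, by rw [Subgroup.coe_subtype, Subgroup.coe_mul, Subgroup.coe_inv, hαv]⟩
    obtain ⟨l, hl, hlc⟩ := hkc
    have hcQ : c = ((k * l : Q) : G) := by
      rw [Subgroup.coe_mul, show (l : G) = (k : G)⁻¹ * c from hlc, mul_inv_cancel_left]
    have hcS : k * l ∈ S := hSof _ fun j => hcentral _ (cj j (k * l)).2 fun g hg => by
      rw [hcj, ← hcQ]
      have hx' := (pow_mem hxQ j : x ^ j ∈ Subgroup.normalizer (Q : Set G))
      have hcg : Commute c (x ^ j * g * (x ^ j)⁻¹) :=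
        hcent c (hcQ ▸ (k * l).2) hcτ _ (hconj hx' hg)
      have h := congrArg (fun t => (x ^ j)⁻¹ * t * x ^ j) hcg.eq
      show (x ^ j)⁻¹ * c * x ^ j * g = g * ((x ^ j)⁻¹ * c * x ^ j)
      calc (x ^ j)⁻¹ * c * x ^ j * g = (x ^ j)⁻¹ * (c * (x ^ j * g * (x ^ j)⁻¹)) * x ^ j := by group
        _ = (x ^ j)⁻¹ * (x ^ j * g * (x ^ j)⁻¹ * c) * x ^ j := h
        _ = g * ((x ^ j)⁻¹ * c * x ^ j) := by group
    rw [QuotientGroup.eq_one_iff]
    exact (S.mul_mem_cancel_right hl).mp hcS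
  have hdvd : p ^ n ∣ Nat.card (Q ⧸ S) - 1 := by
    refine dvd_card_sub_one hp.out π 1 ?_ (Equiv.ext fun c => ?_) hπfix
    · show QuotientGroup.congr S S α hαS 1 = 1
      exact map_one _
    · obtain ⟨k, rfl⟩ := QuotientGroup.mk_surjective c
      rw [hπ, show (α ^ p ^ n) k = k from Subtype.ext (by rw [hαv, hxP, inv_one, mul_one, one_mul])]
      rfl
  -- so the conjugates are independent
  obtain ⟨d, hd⟩ := IsPGroup.iff_card.mp (hQ.to_quotient S)
  have hrange : Nat.card (Q ⧸ S) = Nat.card Ψ.range :=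
    Nat.card_congr (QuotientGroup.quotientKerEquivRange Ψ).toEquiv
  have hpi : Nat.card (Fin (p ^ a) → Q₁ ⧸ SQ) = q ^ (2 * b * p ^ a) := by
    rw [Nat.card_fun, Nat.card_fin, hcardSQ, ← hNdef, hb, ← pow_add, ← two_mul, ← pow_mul]
  have hd0 : 0 < d := by
    refine Nat.pos_of_ne_zero fun h0 => ?_
    obtain ⟨k, hk, hnk⟩ := hns
    rw [h0, pow_zero] at hd
    have hk' : (⟨(k : G), hk⟩ : Q) ∈ S := by
      rw [← QuotientGroup.eq_one_iff]
      exact (Nat.card_eq_one_iff_unique.mp hd).1.elim _ _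
    have h := hSall _ hk' 0
    rw [show (cj 0 (⟨(k : G), hk⟩ : Q) : G₁) = k from Subtype.ext (by rw [hcj]; simp)] at h
    exact hnk h
  have hexp : 2 * b * p ^ a ∣ d := by
    refine dvd_exponent hp.out hp2 hq.out.one_lt hb1 hm hPN ?_
    rwa [hd, show n = n - a + a from (Nat.sub_add_cancel han).symm] at hdvd
  have htop : Ψ.range = ⊤ := by
    refine Subgroup.eq_top_of_le_card _ ?_
    rw [hpi, ← hrange, hd]
    exact Nat.pow_le_pow_right hq.out.pos (Nat.le_of_dvd hd0 hexp)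
  -- a commutator acting by the same scalar on all translates
  obtain ⟨u, hu, hnu⟩ := hns
  obtain ⟨v, hv, hnv⟩ : ∃ v ∈ Q₁, σ u * σ v ≠ σ v * σ u := by
    by_contra hall
    push Not at hall
    exact hnu (isScalar_of_commute hirr fun g hg => (hall g hg).symm)
  obtain ⟨U, hU⟩ := (htop.symm ▸ Subgroup.mem_top _ :
    (fun _ => QuotientGroup.mk (⟨u, hu⟩ : Q₁)) ∈ Ψ.range)
  obtain ⟨V', hV'⟩ := (htop.symm ▸ Subgroup.mem_top _ :
    (fun _ => QuotientGroup.mk (⟨v, hv⟩ : Q₁)) ∈ Ψ.range)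
  set z := ⁅U, V'⁆ with hz
  obtain ⟨lam, hlam⟩ := hL1 u hu v hv
  have hzj : ∀ j, σ (cj j z : G₁) = lam • (1 : End K W) := by
    intro j
    rw [← Nat.mod_add_div j (p ^ a)]
    induction j / p ^ a with
    | zero =>
      rw [mul_zero, add_zero]
      set i : Fin (p ^ a) := ⟨j % p ^ a, Nat.mod_lt _ hpa⟩
      have h1 : ((⟨u, hu⟩ : Q₁) : Q₁ ⧸ SQ) = QuotientGroup.mk (cj i U) := (congrFun hU i).symm
      have h2 : ((⟨v, hv⟩ : Q₁) : Q₁ ⧸ SQ) = QuotientGroup.mk (cj i V') := (congrFun hV' i).symm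
      have hs := (Subgroup.mem_subgroupOf.mp (QuotientGroup.eq.mp h1)).2
      have ht := (Subgroup.mem_subgroupOf.mp (QuotientGroup.eq.mp h2)).2
      have e := rho_commutator_mul_scalar (u := u) (v := v) hs ht
      simp only [Subgroup.coe_mul, Subgroup.coe_inv, mul_inv_cancel_left] at e
      rw [hlam] at e
      rw [← e, hz, map_commutatorElement]
      rfl
    | succ t ih =>
      rw [mul_add, mul_one, ← add_assoc, hcjy, map_mul, map_mul, ih, mul_smul_comm, mul_one,
        smul_mul_assoc, ← map_mul, inv_mul_cancel, map_one]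
  -- it is fixed by `x` modulo the kernel, so lifts to a fixed point
  let R : Subgroup Q :=
    { carrier := {k | ∀ j, σ (cj j k : G₁) = 1}
      mul_mem' := fun {k l} hk hl j => by rw [map_mul, Subgroup.coe_mul, map_mul, hk j, hl j, one_mul]
      one_mem' := fun j => by rw [map_one, OneMemClass.coe_one, map_one]
      inv_mem' := fun {k} hk j => by
        have h : σ (cj j (k⁻¹ * k) : G₁) = 1 := by
          rw [inv_mul_cancel, map_one, OneMemClass.coe_one, map_one]
        rwa [map_mul, Subgroup.coe_mul, map_mul, hk j, mul_one] at h }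
  set R' := R.map Q.subtype with hR'
  have hxR : x ∈ Subgroup.normalizer (R' : Set G) := by
    rw [← CfsgLib.Base.map_conj_eq_self_iff]
    refine Subgroup.eq_of_le_of_card_ge ?_ (Subgroup.card_map_of_injective (MulAut.conj x).injective).ge
    rintro _ ⟨_, ⟨k, hk, rfl⟩, rfl⟩
    exact ⟨α k, fun j => by rw [hcjα]; exact hk _, rfl⟩
  obtain ⟨c, hcx, hzc⟩ := HallHigman.exists_fixed_in_coset hpq hQ (M := R')
    (Subgroup.map_subtype_le R) (y := x)
    (by
      obtain ⟨i, -, hi⟩ := (Nat.dvd_prime_pow hp.out).mp (orderOf_dvd_of_pow_eq_one hxP)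
      exact ⟨i, hi⟩)
    hxR (k := (z : G))
    ⟨z⁻¹ * α z, fun j => by
      rw [map_mul, Subgroup.coe_mul, map_mul, hcjα, hzj, ← hzj j, ← map_mul, ← Subgroup.coe_mul,
        ← map_mul, inv_mul_cancel, map_one, OneMemClass.coe_one, map_one], rfl⟩
  obtain ⟨l, hl, hlc⟩ := hzc
  have hc1 : c = 1 := hfree c (by
    have h := (z * l).2
    rwa [Subgroup.coe_mul, show (l : G) = (z : G)⁻¹ * c from hlc, mul_inv_cancel_left] at h) hcx
  have hzR : z ∈ R := by
    have hl' : l = z⁻¹ := Subtype.ext (by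
      rw [Subgroup.coe_inv, show (l : G) = (z : G)⁻¹ * c from hlc, hc1, mul_one])
    simpa [hl'] using R.inv_mem hl
  refine hnv ?_
  have h1 : σ ⁅u, v⁆ = 1 := by rw [hlam, ← hzj 0, hzR 0]
  calc σ u * σ v = σ (⁅u, v⁆ * (v * u)) := by
        rw [← map_mul, commutatorElement_def]; congr 1; group
    _ = σ v * σ u := by rw [map_mul, h1, one_mul, map_mul]

end CfsgLib.FgsC.PrimePower
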