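import Cfsg.Agent.Lib.FgsC.PrimePowerLinear
import Cfsg.Agent.Lib.Ward.Fitting

/-!
# Fixed-point-free operators of odd prime power order: the Fitting height
-/

set_option linter.style.haveILetI false
set_option autoImplicit false

namespace CfsgLib.FgsC.PrimePower

open Cfsg CfsgLib.Ward

universe u v

variable {A : Type v} [Group A] [Finite A]

/-- The reduction to irreducible linear groups: if the operator `t` centralises those, it centralises
the quotient by the Fitting subgroup. -/
theorem mem_fitting_of_linear (hAs : Group.IsSolvable A) (t : A)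
    (hlin : ∀ (Γ : Type (max u v)) [Group Γ] [Finite Γ] (V : Type u) [CommGroup V] [Finite V]
      [Nontrivial V] (φ : Γ →* MulAut V) (ι : A →* Γ) (L : Subgroup Γ),
      (∃ r, r.Prime ∧ ∀ v : V, v ^ r = 1) → ι.range ≤ Subgroup.normalizer (L : Set Γ) →
      Group.IsSolvable L → (Nat.card L).Coprime (Nat.card A) →
      (Nat.card V).Coprime (Nat.card A) → (∀ x ∈ L, φ x = 1 → x = 1) →
      (∀ v : V, (∀ a, φ (ι a) v = v) → v = 1) →
      (∀ x ∈ L, (∀ a, ι a * x = x * ι a) → x = 1) →
      (∀ W : Subgroup V, (∀ g, g ∈ ι.range ∨ g ∈ L → ∀ v ∈ W, φ g v ∈ W) → W = ⊥ ∨ W = ⊤) →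
      ∀ x ∈ L, Commute x (ι t)) :
    ∀ (n : ℕ) (G : Type u) [Group G] [Finite G], Nat.card G = n → Group.IsSolvable G →
      (Nat.card G).Coprime (Nat.card A) → ∀ ρ : A →* MulAut G, (∀ g, (∀ a, ρ a g = g) → g = 1) →
        ∀ g, g⁻¹ * ρ t g ∈ fittingSubgroup G := by
  intro n
  induction n using Nat.strong_induction_on with
  | _ n ih =>
    intro G _ _ hn hG hGA ρ hfpf
    classical
    haveI := hG
    rcases subsingleton_or_nontrivial G with hS | hS
    · intro g
      rw [Subsingleton.elim (g⁻¹ * ρ t g) 1]
      exact one_mem _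
    have hcopA : ∀ N : Subgroup G, (Nat.card A).Coprime (Nat.card N) := fun N =>
      (hGA.coprime_dvd_left (Subgroup.card_subgroup_dvd_card N)).symm
    -- a minimal invariant normal subgroup
    obtain ⟨V, ⟨hVne, hVn, hVinv⟩, hVmin⟩ := Set.exists_min_image
      {V : Subgroup G | V ≠ ⊥ ∧ V.Normal ∧ ∀ a, ∀ v ∈ V, ρ a v ∈ V} (fun V => Nat.card V)
      (Set.toFinite _) ⟨⊤, top_ne_bot, inferInstance, fun a v _ => Subgroup.mem_top _⟩
    haveI := hVn
    have hVmin' : ∀ U : Subgroup G, U ≤ V → U.Normal → (∀ a, ∀ v ∈ U, ρ a v ∈ U) → U ≠ ⊥ →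
        U = V := fun U h1 h2 h3 h4 => Subgroup.eq_of_le_of_card_ge h1 (hVmin U ⟨h4, h2, h3⟩)
    have hVab : ∀ v ∈ V, ∀ w ∈ V, v * w = w * v := by
      have hlt : ⁅V, V⁆ < V := CfsgLib.Base.commutator_self_lt_of_isSolvable hVne inferInstance
      have hbot : ⁅V, V⁆ = ⊥ := by
        by_contra h
        refine hlt.ne (hVmin' _ hlt.le inferInstance (fun a v hv => ?_) h)
        have h1 : (⁅V, V⁆).map (ρ a).toMonoidHom ≤ ⁅V, V⁆ := by
          rw [Subgroup.map_commutator]
          exact Subgroup.commutator_mono (by rintro _ ⟨w, hw, rfl⟩; exact hVinv a w hw)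
            (by rintro _ ⟨w, hw, rfl⟩; exact hVinv a w hw)
        exact h1 ⟨v, hv, rfl⟩
      intro v hv w hw
      exact (Subgroup.mem_centralizer_iff.mp
        (Subgroup.commutator_eq_bot_iff_le_centralizer.mp hbot hv) w hw).symm
    obtain ⟨r, hr, hrdvd⟩ : ∃ r, r.Prime ∧ r ∣ Nat.card V :=
      ⟨_, Nat.minFac_prime fun h => hVne (Subgroup.eq_bot_of_card_eq _ h), Nat.minFac_dvd _⟩
    haveI := Fact.mk hr
    have hVexp : ∀ v : V, v ^ r = 1 := by
      let R : Subgroup G :=
        { carrier := {v | v ∈ V ∧ v ^ r = 1}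
          mul_mem' := fun {u w} hu hw => ⟨V.mul_mem hu.1 hw.1, by
            rw [(show Commute u w from hVab u hu.1 w hw.1).mul_pow, hu.2, hw.2, one_mul]⟩
          one_mem' := ⟨V.one_mem, one_pow r⟩
          inv_mem' := fun {u} hu => ⟨V.inv_mem hu.1, by rw [inv_pow, hu.2, inv_one]⟩ }
      have hRn : R.Normal := ⟨fun u hu g => ⟨hVn.conj_mem u hu.1 g, by
        rw [conj_pow, hu.2, mul_one, mul_inv_cancel]⟩⟩
      obtain ⟨v, hv⟩ := exists_prime_orderOf_dvd_card' (G := V) r hrdvd
      have hv' : (v : G) ^ r = 1 := by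
        rw [← Subgroup.orderOf_coe] at hv
        rw [← hv, pow_orderOf_eq_one]
      have hRV : R = V := hVmin' R (fun u hu => hu.1) hRn
        (fun a u hu => ⟨hVinv a u hu.1, by rw [← map_pow, hu.2, map_one]⟩) fun h => by
          have hmem : (v : G) ∈ R := ⟨v.2, hv'⟩
          rw [h, Subgroup.mem_bot] at hmem
          rw [show v = 1 from Subtype.ext hmem, orderOf_one] at hv
          exact hr.ne_one hv.symm
      intro v
      have hmem : (v : G) ∈ R := hRV.symm ▸ v.2
      exact Subtype.ext hmem.2
    haveI : Nontrivial V := (Subgroup.nontrivial_iff_ne_bot V).mpr hVne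
    -- the quotient by `V`
    have hVfit : ∀ x : G ⧸ V, x⁻¹ * quotientOp ρ V hVinv t x ∈ fittingSubgroup (G ⧸ V) := by
      refine ih _ (hn ▸ CfsgLib.Coprime.card_quotient_lt hVne) (G ⧸ V) rfl inferInstance
        (hGA.coprime_dvd_left (Subgroup.card_quotient_dvd_card V))
        (quotientOp ρ V hVinv) fun x hx => ?_
      obtain ⟨g, rfl⟩ := QuotientGroup.mk_surjective x
      obtain ⟨c, hc, hgc⟩ := exists_fixed_in_coset hAs ρ V hVinv (hcopA V)
        (x := g) (fun a => QuotientGroup.eq.mp ((quotientOp_mk ρ V hVinv a g).symm.trans (hx a)).symm)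
      rw [hfpf c hc, mul_one] at hgc
      rw [QuotientGroup.eq_one_iff]
      simpa using V.inv_mem hgc
    -- the centralizer of `V`
    set C := Subgroup.centralizer (V : Set G) with hC
    haveI hCn : C.Normal := inferInstance
    have hCinv : ∀ a, ∀ c ∈ C, ρ a c ∈ C := fun a c hc => by
      rw [hC, Subgroup.mem_centralizer_iff]
      intro v hv
      have h1 := Subgroup.mem_centralizer_iff.mp hc (ρ a⁻¹ v) (hVinv a⁻¹ v hv)
      have h2 := congrArg (ρ a) h1
      rwa [map_mul, map_mul, ← MulAut.mul_apply, ← map_mul, mul_inv_cancel, map_one,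
        MulAut.one_apply] at h2
    have hGC : ∀ g : G, g⁻¹ * ρ t g ∈ C := by
      haveI : Finite ((G ⧸ C) ⋊[quotientOp ρ C hCinv] A) :=
        Finite.of_equiv _ SemidirectProduct.equivProd.symm
      letI : CommGroup V :=
        { (inferInstance : Group V) with mul_comm := fun v w => Subtype.ext (hVab v v.2 w w.2) }
      let τ : G →* MulAut V := MulAut.conjNormal
      let ψ : G ⧸ C →* MulAut V := QuotientGroup.lift C τ fun c hc => by
        refine MulEquiv.ext fun v => Subtype.ext ?_
        show c * (v : G) * c⁻¹ = v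
        rw [← Subgroup.mem_centralizer_iff.mp hc v v.2, mul_inv_cancel_right]
      have hψinj : Function.Injective ψ := by
        rw [injective_iff_map_eq_one]
        intro x hx
        obtain ⟨g, rfl⟩ := QuotientGroup.mk_surjective x
        rw [QuotientGroup.eq_one_iff, hC, Subgroup.mem_centralizer_iff]
        intro v hv
        have h0 := congrArg Subtype.val (DFunLike.congr_fun hx (⟨v, hv⟩ : V))
        have h1 : g * v * g⁻¹ = v := h0
        exact (mul_inv_eq_iff_eq_mul.mp h1).symm
      let σ : A →* MulAut V :=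
        { toFun := fun a =>
            { toFun := fun v => ⟨ρ a v, hVinv a v v.2⟩
              invFun := fun v => ⟨ρ a⁻¹ v, hVinv a⁻¹ v v.2⟩
              left_inv := fun v => Subtype.ext (by
                show ρ a⁻¹ (ρ a v) = v
                rw [← MulAut.mul_apply, ← map_mul, inv_mul_cancel, map_one, MulAut.one_apply])
              right_inv := fun v => Subtype.ext (by
                show ρ a (ρ a⁻¹ v) = v
                rw [← MulAut.mul_apply, ← map_mul, mul_inv_cancel, map_one, MulAut.one_apply])
              map_mul' := fun v w => Subtype.ext (map_mul (ρ a) _ _) }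
          map_one' := MulEquiv.ext fun v => Subtype.ext (by
            show ρ 1 v = v
            rw [map_one, MulAut.one_apply])
          map_mul' := fun a b => MulEquiv.ext fun v => Subtype.ext (by
            show ρ (a * b) v = ρ a (ρ b v)
            rw [map_mul, MulAut.mul_apply]) }
      let φ : (G ⧸ C) ⋊[quotientOp ρ C hCinv] A →* MulAut V :=
        SemidirectProduct.lift ψ σ fun a => by
          refine MonoidHom.ext fun x => ?_
          obtain ⟨g, rfl⟩ := QuotientGroup.mk_surjective x
          refine MulEquiv.ext fun v => Subtype.ext ?_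
          show ρ a g * (v : G) * (ρ a g)⁻¹ = ρ a (g * (ρ a⁻¹ v : G) * g⁻¹)
          simp only [map_mul, map_inv, MulAut.apply_inv_self]
      set Γ := (G ⧸ C) ⋊[quotientOp ρ C hCinv] A
      set A' := (SemidirectProduct.inr : A →* Γ).range with hA'
      set L := (SemidirectProduct.inl : G ⧸ C →* Γ).range with hL
      have hLcard : Nat.card L = Nat.card (G ⧸ C) :=
        (Nat.card_congr (MonoidHom.ofInjective (f := (SemidirectProduct.inl : G ⧸ C →* Γ))
          SemidirectProduct.inl_injective).toEquiv).symm
      have hLlcs : ∀ x ∈ L, Commute x (SemidirectProduct.inr t) := by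
        refine hlin Γ V φ SemidirectProduct.inr L ⟨r, hr, fun v => ?_⟩ ?_ ?_ ?_
          (hGA.coprime_dvd_left (Subgroup.card_subgroup_dvd_card V)) ?_ ?_ ?_ ?_
        · exact hVexp v
        · rw [hL, SemidirectProduct.range_inl_eq_ker_rightHom]
          exact le_top.trans_eq (Subgroup.normalizer_eq_top _).symm
        · exact Group.isSolvable_of_surjective
            (f := (SemidirectProduct.inl : G ⧸ C →* Γ).rangeRestrict) (MonoidHom.rangeRestrict_surjective _)
        · rw [hLcard]
          exact hGA.coprime_dvd_left (Subgroup.card_quotient_dvd_card C)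
        · rintro _ ⟨x, rfl⟩ hx
          rw [show φ (SemidirectProduct.inl x) = ψ x from SemidirectProduct.lift_inl _ _ _ x] at hx
          rw [hψinj (hx.trans (map_one ψ).symm), map_one]
        · intro v hv
          refine Subtype.ext (hfpf v fun a => ?_)
          have h1 := hv a
          rw [show φ (SemidirectProduct.inr a) = σ a from SemidirectProduct.lift_inr _ _ _ a] at h1
          exact congrArg Subtype.val h1
        · rintro _ ⟨x, rfl⟩ hx
          obtain ⟨g, rfl⟩ := QuotientGroup.mk_surjective x
          have hfix : ∀ a, g⁻¹ * ρ a g ∈ C := fun a => by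
            rw [← QuotientGroup.eq, ← quotientOp_mk ρ C hCinv a g]
            refine SemidirectProduct.inl_injective (φ := quotientOp ρ C hCinv) ?_
            rw [SemidirectProduct.inl_aut, map_inv, hx a, mul_inv_cancel_right]
          obtain ⟨c, hc, hgc⟩ := exists_fixed_in_coset hAs ρ C hCinv (hcopA C) hfix
          rw [hfpf c hc, mul_one] at hgc
          rw [(QuotientGroup.eq_one_iff g).mpr (by simpa using C.inv_mem hgc), map_one]
        · intro W hW
          have hn : (W.map V.subtype).Normal := ⟨by
            rintro _ ⟨w, hw, rfl⟩ g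
            refine ⟨φ (SemidirectProduct.inl (g : G ⧸ C)) w,
              hW _ (Or.inr ⟨_, rfl⟩) w hw, ?_⟩
            rw [show φ (SemidirectProduct.inl (g : G ⧸ C)) = ψ (g : G ⧸ C) from
              SemidirectProduct.lift_inl _ _ _ _]
            rfl⟩
          by_cases hWb : W = ⊥
          · exact Or.inl hWb
          · right
            have h1 : W.map V.subtype = V := hVmin' _ (Subgroup.map_subtype_le W) hn
              (by
                rintro a _ ⟨w, hw, rfl⟩
                refine ⟨φ (SemidirectProduct.inr a) w, hW _ (Or.inl ⟨a, rfl⟩) w hw, ?_⟩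
                rw [show φ (SemidirectProduct.inr a) = σ a from SemidirectProduct.lift_inr _ _ _ a]
                rfl)
              (fun h => hWb ((Subgroup.map_eq_bot_iff_of_injective _ V.subtype_injective).mp h))
            rw [eq_top_iff]
            intro w _
            have hw : (w : G) ∈ W.map V.subtype := h1.symm ▸ w.2
            obtain ⟨w', hw', e⟩ := hw
            rwa [← Subtype.ext (e : (w' : G) = w)]
      intro g
      rw [← QuotientGroup.eq, ← quotientOp_mk ρ C hCinv t g]
      refine SemidirectProduct.inl_injective (φ := quotientOp ρ C hCinv) ?_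
      rw [SemidirectProduct.inl_aut, map_inv, ← (hLlcs _ ⟨(g : G ⧸ C), rfl⟩).eq, mul_inv_cancel_right]
    -- assembling
    haveI hFn : (fittingSubgroup (G ⧸ V)).Normal := CfsgLib.Base.fittingSubgroup_normal' _
    set M := (fittingSubgroup (G ⧸ V)).comap (QuotientGroup.mk' V) ⊓ C with hM
    have hMfit : M ≤ fittingSubgroup G := by
      refine CfsgLib.Base.le_fittingSubgroup ?_
      let f : M →* G ⧸ V := (QuotientGroup.mk' V).comp M.subtype
      haveI : Group.IsNilpotent f.range := by
        refine CfsgLib.Base.isNilpotent_of_le ?_ (CfsgLib.Base.isNilpotent_fittingSubgroup (G ⧸ V))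
        rintro _ ⟨x, rfl⟩
        exact x.2.1
      refine Subgroup.isNilpotent_of_ker_le_center f.rangeRestrict ?_
      intro x hx
      rw [MonoidHom.mem_ker] at hx
      have hxV : (x : G) ∈ V := (QuotientGroup.eq_one_iff _).mp (congrArg Subtype.val hx)
      rw [Subgroup.mem_center_iff]
      exact fun y => Subtype.ext (Subgroup.mem_centralizer_iff.mp y.2.2 x hxV).symm
    exact fun g => hMfit ⟨hVfit g, hGC g⟩

/-- A fixed-point-free automorphism of `p`-power order forces the group to have order prime to `p`. -/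
theorem coprime_card_of_fpf {G : Type*} [Group G] [Finite G] {p : ℕ} [hp : Fact p.Prime]
    {σ : MulAut G} {n : ℕ} (hσ : σ ^ p ^ n = 1) (hfpf : ∀ g : G, σ g = g → g = 1) :
    (Nat.card G).Coprime p := by
  obtain ⟨i, -, hi⟩ := (Nat.dvd_prime_pow hp.out).mp (orderOf_dvd_of_pow_eq_one hσ)
  have hP : IsPGroup p (Subgroup.zpowers σ) := IsPGroup.of_card (n := i) (by rw [Nat.card_zpowers, hi])
  have h := hP.card_modEq_card_fixedPoints G
  have h1 : Nat.card (MulAction.fixedPoints (Subgroup.zpowers σ) G) = 1 := by
    rw [Nat.card_eq_one_iff_unique]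
    refine ⟨⟨fun a b => Subtype.ext ?_⟩, ⟨⟨1, fun g => map_one (g : MulAut G)⟩⟩⟩
    rw [hfpf a (a.2 ⟨σ, Subgroup.mem_zpowers σ⟩), hfpf b (b.2 ⟨σ, Subgroup.mem_zpowers σ⟩)]
  rw [h1] at h
  refine Nat.Coprime.symm (hp.out.coprime_iff_not_dvd.mpr fun hd => ?_)
  have h2 : Nat.card G % p = 1 % p := h
  rw [Nat.mod_eq_zero_of_dvd hd, Nat.one_mod_eq_one.mpr hp.out.ne_one] at h2
  exact zero_ne_one h2

/-- A solvable group with a fixed-point-free automorphism of order dividing `p ^ n`, `p` odd, has a
series of length `n` with nilpotent factors. -/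
theorem exists_series {p : ℕ} [hp : Fact p.Prime] (hp2 : p ≠ 2) :
    ∀ (n : ℕ) (G : Type u) [Group G] [Finite G], Group.IsSolvable G → ∀ σ : MulAut G,
      σ ^ p ^ n = 1 → (∀ g : G, σ g = g → g = 1) →
      ∃ F : Fin (n + 1) → Subgroup G, F 0 = ⊥ ∧ F (Fin.last n) = ⊤ ∧ Monotone F ∧
        (∀ i, (F i).Normal) ∧ ∀ i : Fin n, ∃ k : ℕ, (F i.succ).lowerCentralSeries k ≤ F i.castSucc := by
  intro n
  induction n with
  | zero =>
    intro G _ _ _ σ hσ hfpf
    rw [pow_zero, pow_one] at hσ
    refine ⟨fun _ => ⊥, rfl, ?_, monotone_const, fun _ => inferInstance, fun i => Fin.elim0 i⟩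
    rw [eq_comm, eq_bot_iff]
    exact fun g _ => Subgroup.mem_bot.mpr (hfpf g (by rw [hσ, MulAut.one_apply]))
  | succ n ih =>
    intro G _ _ hG σ hσ hfpf
    classical
    haveI := hG
    set A₀ := Subgroup.zpowers σ with hA₀
    let s : A₀ := ⟨σ, Subgroup.mem_zpowers σ⟩
    have hGp := coprime_card_of_fpf hσ hfpf
    have hcard : Nat.card A₀ ∣ p ^ (n + 1) := by
      rw [hA₀, Nat.card_zpowers]; exact orderOf_dvd_of_pow_eq_one hσ
    have hsp : s ^ p ^ (n + 1) = 1 := Subtype.ext hσ
    have hAs : Group.IsSolvable A₀ := FrobeniusFitting.isSolvable_zpowers σ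
    have hGA : (Nat.card G).Coprime (Nat.card A₀) := (hGp.pow_right (n + 1)).coprime_dvd_right hcard
    have hAgen : ∀ a : A₀, a ∈ Subgroup.zpowers s := fun a => by
      obtain ⟨i, hi⟩ := a.2
      exact ⟨i, Subtype.ext (by show ((s ^ i : A₀) : MulAut G) = a; rw [Subgroup.coe_zpow]; exact hi)⟩
    have hfix : ∀ g, (∀ a : A₀, A₀.subtype a g = g) → g = 1 := fun g hg => hfpf g (hg s)
    have hlin := mem_fitting_of_linear hAs (s ^ p ^ n)
      (fun Γ _ _ V _ _ _ φ ι L hr hι hL hLA hVA hinj hfV hfL hirr => by
        obtain ⟨r, hr, hexp⟩ := hr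
        rw [map_pow]
        by_cases hs1 : Nat.card A₀ = 1
        · intro x _
          have : s = 1 := (Nat.card_eq_one_iff_unique.mp hs1).1.elim _ _
          rw [this, map_one, one_pow]
          exact Commute.one_right x
        have hpA : p ∣ Nat.card A₀ := by
          obtain ⟨i, -, hi⟩ := (Nat.dvd_prime_pow hp.out).mp hcard
          rcases i with _ | i
          · exact absurd hi (by rw [pow_zero]; exact hs1)
          · exact hi ▸ dvd_pow_self p i.succ_ne_zero
        refine commute_of_fpf_linear φ hp.out hp2 hr n.succ_pos (s := ι s)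
          (by rw [← map_pow, hsp, map_one]) L (hι ⟨s, rfl⟩) hL (hLA.coprime_dvd_right hpA) hexp
          (hVA.coprime_dvd_right hpA) hinj (fun v hv => hfV v fun a => ?_)
          (fun x hx hxs => hfL x hx fun a => ?_) (fun W hW => hirr W fun g hg v hv => ?_)
        · obtain ⟨i, rfl⟩ := hAgen a
          have h : φ (ι s) ∈ MulAction.stabilizer (MulAut V) v := hv
          have h' := zpow_mem h i
          rw [← map_zpow, ← map_zpow] at h'
          exact h'
        · obtain ⟨i, rfl⟩ := hAgen a
          rw [map_zpow]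
          exact ((hxs.zpow_right i).eq).symm
        · rcases hg with ⟨a, rfl⟩ | hg
          · obtain ⟨i, hi⟩ := mem_powers_iff_mem_zpowers.mpr (hAgen a)
            dsimp only at hi
            subst hi
            induction i with
            | zero => rw [pow_zero, map_one, map_one, MulAut.one_apply]; exact hv
            | succ i ihi =>
              rw [pow_succ', map_mul, map_mul, MulAut.mul_apply]
              exact hW _ (Or.inl rfl) _ ihi
          · exact hW g (Or.inr hg) v hv) _ G rfl hG hGA A₀.subtype hfix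
    -- the quotient by the Fitting subgroup
    set N := fittingSubgroup G with hN
    haveI hNn : N.Normal := CfsgLib.Base.fittingSubgroup_normal' G
    have hNinv : ∀ a : A₀, ∀ g ∈ N, A₀.subtype a g ∈ N := fun a g hg =>
      (CfsgLib.Base.map_fittingSubgroup_mulEquiv (A₀.subtype a : G ≃* G)).le ⟨g, hg, rfl⟩
    set σ' := quotientOp A₀.subtype N hNinv s with hσ'
    have hσ'p : σ' ^ p ^ n = 1 := by
      rw [hσ', ← map_pow]
      refine MulEquiv.ext fun x => ?_
      obtain ⟨g, rfl⟩ := QuotientGroup.mk_surjective x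
      rw [quotientOp_mk, MulAut.one_apply, eq_comm, QuotientGroup.eq]
      exact hlin g
    have hfpf' : ∀ x : G ⧸ N, σ' x = x → x = 1 := by
      intro x hx
      obtain ⟨g, rfl⟩ := QuotientGroup.mk_surjective x
      have hmem : quotientOp A₀.subtype N hNinv s ∈ MulAction.stabilizer (MulAut (G ⧸ N)) (g : G ⧸ N) := hx
      obtain ⟨c, hc, hgc⟩ := exists_fixed_in_coset hAs A₀.subtype N hNinv
        (hGA.symm.coprime_dvd_right (Subgroup.card_subgroup_dvd_card N)) (x := g) (fun a => by
          obtain ⟨i, rfl⟩ := hAgen a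
          rw [← QuotientGroup.eq, ← quotientOp_mk A₀.subtype N hNinv, map_zpow]
          exact (show _ = (g : G ⧸ N) from zpow_mem hmem i).symm)
      rw [hfix c hc, mul_one] at hgc
      rw [QuotientGroup.eq_one_iff]
      simpa using N.inv_mem hgc
    obtain ⟨F, hF0, hFlast, hFm, hFn, hFk⟩ := ih (G ⧸ N) inferInstance σ' hσ'p hfpf'
    refine ⟨Fin.cons ⊥ fun i => (F i).comap (QuotientGroup.mk' N), Fin.cons_zero _ _, ?_, ?_, ?_, ?_⟩
    · rw [← Fin.succ_last, Fin.cons_succ, hFlast, Subgroup.comap_top]
    · intro i j hij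
      induction i using Fin.cases with
      | zero => rw [Fin.cons_zero]; exact bot_le
      | succ i =>
        induction j using Fin.cases with
        | zero => exact absurd hij (by simp [Fin.le_def])
        | succ j =>
          rw [Fin.cons_succ, Fin.cons_succ]
          exact Subgroup.comap_mono (hFm (Fin.succ_le_succ_iff.mp hij))
    · intro i
      induction i using Fin.cases with
      | zero => rw [Fin.cons_zero]; infer_instance
      | succ i => rw [Fin.cons_succ]; haveI := hFn i; infer_instance
    · intro i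
      induction i using Fin.cases with
      | zero =>
        rw [Fin.castSucc_zero, Fin.cons_zero, Fin.cons_succ, hF0, MonoidHom.comap_bot,
          QuotientGroup.ker_mk']
        obtain ⟨k, hk⟩ := (Subgroup.isNilpotent_iff_lowerCentralSeries N).1
          (CfsgLib.Base.isNilpotent_fittingSubgroup G)
        exact ⟨k, hk.le⟩
      | succ i =>
        obtain ⟨k, hk⟩ := hFk i
        refine ⟨k, ?_⟩
        rw [Fin.castSucc_succ, Fin.cons_succ, Fin.cons_succ, ← Subgroup.map_le_iff_le_comap,
          Subgroup.map_lowerCentralSeries,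
          Subgroup.map_comap_eq_self_of_surjective (QuotientGroup.mk'_surjective N)]
        exact hk

end CfsgLib.FgsC.PrimePower
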