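import Cfsg.Agent.Lib.FgsC.CoprimeWeights
import Mathlib.NumberTheory.Multiplicity

/-!
# Operators of prime power order: lemmas

Arithmetic of `p ^ m = q ^ b + 1`, semiregular permutations, and good subspaces stable under a power
of an operator.
-/

set_option autoImplicit false
set_option linter.style.haveILetI false

open Module
open scoped commutatorElement

namespace CfsgLib.FgsC.PrimePower

open CfsgLib.FgsC.HallHigman CfsgLib.FgsC.HallHigmanB CfsgLib.FgsC.CoprimeWeights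

/-- A proper power of `x` has `x ^ p ^ (n - 1)` as a power. -/
theorem pow_mem_zpowers_pow {G : Type*} [Group G] {p : ℕ} (hp : p.Prime) {x : G} {n : ℕ}
    (hx : x ^ p ^ n = 1) {i : ℕ} (hi0 : 0 < i) (hi : i < p ^ n) :
    x ^ p ^ (n - 1) ∈ Subgroup.zpowers (x ^ i) := by
  obtain ⟨e, -, hg⟩ := (Nat.dvd_prime_pow hp).mp (Nat.gcd_dvd_right i (p ^ n))
  have hen : e < n := by
    by_contra h
    push Not at h
    have h5 : Nat.gcd i (p ^ n) ≤ i := Nat.gcd_le_left _ hi0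
    have h6 := Nat.pow_le_pow_right hp.pos h
    omega
  have hx1 : x ^ Nat.gcd i (p ^ n) ∈ Subgroup.zpowers (x ^ i) := by
    refine ⟨Nat.gcdA i (p ^ n), ?_⟩
    show (x ^ i) ^ Nat.gcdA i (p ^ n) = _
    rw [← zpow_natCast x (Nat.gcd i (p ^ n)), Nat.gcd_eq_gcd_ab, zpow_add, zpow_mul, zpow_mul,
      zpow_natCast, zpow_natCast, hx, one_zpow, mul_one]
  rw [hg] at hx1
  rw [show p ^ (n - 1) = p ^ e * p ^ (n - 1 - e) by rw [← pow_add]; congr 1; omega, pow_mul]
  exact pow_mem hx1 _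

/-- A permutation of order dividing `p ^ n` whose `p ^ (n - 1)`-st power fixes only the point `x₀`
it fixes. -/
theorem dvd_card_sub_one {X : Type*} [Finite X] {p : ℕ} (hp : p.Prime) {n : ℕ}
    (π : Equiv.Perm X) (x₀ : X) (h₀ : π x₀ = x₀) (hπ : π ^ p ^ n = 1)
    (hfix : ∀ x, (π ^ p ^ (n - 1)) x = x → x = x₀) : p ^ n ∣ Nat.card X - 1 := by
  classical
  haveI := Fintype.ofFinite X
  have hP := pow_pos hp.pos n
  have hfree : ∀ i, 0 < i → i < p ^ n → ∀ x, (π ^ i) x = x → x = x₀ := by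
    intro i hi0 hi x hx
    refine hfix x ?_
    have h1 : (π ^ i) ∈ MulAction.stabilizer (Equiv.Perm X) x := hx
    exact (Subgroup.zpowers_le.mpr h1) (pow_mem_zpowers_pow hp hπ hi0 hi)
  obtain ⟨O, hO0, hcov, hinj⟩ := Commutant.exists_orbit_reps π x₀ hP hπ h₀ hfree
  have hne : ∀ o ∈ O, ∀ i : ℕ, (π ^ i) o ≠ x₀ := by
    intro o ho i h
    have h1 : (π ^ i) ∈ MulAction.stabilizer (Equiv.Perm X) x₀ := pow_mem (show π ∈ _ from h₀) i
    have h2 : (π ^ i) x₀ = x₀ := h1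
    exact hO0 ((π ^ i).injective (h.trans h2.symm) ▸ ho)
  let f : Option (O × Fin (p ^ n)) → X := fun a => a.elim x₀ fun a => (π ^ (a.2 : ℕ)) a.1
  have hf : Function.Bijective f := by
    constructor
    · rintro (_ | ⟨o, i⟩) (_ | ⟨o', j⟩) h
      · rfl
      · exact absurd h.symm (hne o' o'.2 j)
      · exact absurd h (hne o o.2 i)
      · obtain ⟨h1, h2⟩ := hinj o o.2 o' o'.2 i i.2 j j.2 h
        exact congrArg some (Prod.ext (Subtype.ext h1) (Fin.ext h2))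
    · intro x
      rcases eq_or_ne x x₀ with rfl | hx
      · exact ⟨none, rfl⟩
      · obtain ⟨o, ho, i, hi, rfl⟩ := hcov x hx
        exact ⟨some (⟨o, ho⟩, ⟨i, hi⟩), rfl⟩
  rw [← Nat.card_eq_of_bijective f hf, Finite.card_option, Nat.add_sub_cancel, Nat.card_prod,
    Nat.card_fin]
  exact dvd_mul_left _ _

/-- If `p ^ m = q ^ b + 1` and `p ^ (m + a)` divides `q ^ d - 1`, then `2 b p ^ a` divides `d`. -/
theorem dvd_exponent {p q m a b d : ℕ} (hp : p.Prime) (hp2 : p ≠ 2) (hq : 1 < q) (hb : 1 ≤ b)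
    (hm : 0 < m) (hP : p ^ m = q ^ b + 1) (hd : p ^ (m + a) ∣ q ^ d - 1) :
    2 * b * p ^ a ∣ d := by
  haveI := Fact.mk hp
  have hneg : (q : ZMod (p ^ m)) ^ b = -1 := by
    rw [eq_neg_iff_add_eq_zero, ← Nat.cast_pow, ← Nat.cast_one, ← Nat.cast_add, ← hP,
      ZMod.natCast_self]
  have hsq : (q : ZMod (p ^ m)) ^ (2 * b) = 1 := by
    rw [mul_comm, pow_mul, hneg, neg_one_sq]
  have hqd : 1 ≤ q ^ d := Nat.one_le_pow _ _ (by omega)
  have hd1 : (q : ZMod (p ^ m)) ^ d = 1 := by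
    have h := (ZMod.natCast_eq_zero_iff _ _).mpr ((pow_dvd_pow p (Nat.le_add_right m a)).trans hd)
    rwa [Nat.cast_sub hqd, Nat.cast_pow, Nat.cast_one, sub_eq_zero] at h
  obtain ⟨k, hk⟩ : 2 * b ∣ d := by
    refine Nat.dvd_of_mod_eq_zero ?_
    set t := d % (2 * b) with ht
    have htlt : t < 2 * b := Nat.mod_lt _ (by omega)
    have ht1 : (q : ZMod (p ^ m)) ^ t = 1 := by
      rw [← hd1]
      conv_rhs => rw [← Nat.mod_add_div d (2 * b), pow_add, pow_mul _ (2 * b), hsq, one_pow, mul_one]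
    by_contra ht0
    rcases le_or_gt t b with hle | hlt
    · have h1 : p ^ m ∣ q ^ t - 1 := by
        rw [← ZMod.natCast_eq_zero_iff, Nat.cast_sub (Nat.one_le_pow _ _ (by omega)), Nat.cast_pow,
          Nat.cast_one, ht1, sub_self]
      have h2 : q ^ t ≤ q ^ b := Nat.pow_le_pow_right (by omega) hle
      have h3 : 1 < q ^ t := Nat.one_lt_pow ht0 hq
      have := Nat.le_of_dvd (by omega) h1
      omega
    · have h1 : p ^ m ∣ q ^ (t - b) + 1 := by
        rw [← ZMod.natCast_eq_zero_iff, Nat.cast_add, Nat.cast_pow, Nat.cast_one]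
        have h2 : (q : ZMod (p ^ m)) ^ t = (q : ZMod (p ^ m)) ^ b * (q : ZMod (p ^ m)) ^ (t - b) := by
          rw [← pow_add, Nat.add_sub_cancel' hlt.le]
        rw [ht1, hneg, neg_one_mul] at h2
        rw [← neg_eq_iff_eq_neg.mpr h2, neg_add_cancel]
      have h2 : q ^ (t - b) < q ^ b := Nat.pow_lt_pow_right hq (by omega)
      have := Nat.le_of_dvd (by omega) h1
      omega
  rcases Nat.eq_zero_or_pos k with hk0 | hk0
  · rw [hk, hk0, mul_zero]; exact dvd_zero _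
  rw [hk]
  refine Nat.mul_dvd_mul_left _ ?_
  have hqb : 1 < q ^ b := Nat.one_lt_pow (by omega) hq
  have hfac : q ^ (2 * b) - 1 = (q ^ b - 1) * p ^ m := by
    rw [hP, mul_comm 2 b, pow_mul, mul_comm (q ^ b - 1), ← Nat.sq_sub_sq (q ^ b) 1, one_pow]
  have hc : ¬ p ∣ q ^ b - 1 := fun h => hp2 (by
    have h1 : p ∣ q ^ b + 1 := hP ▸ dvd_pow_self p hm.ne'
    have h2 := Nat.dvd_sub h1 h
    rw [show q ^ b + 1 - (q ^ b - 1) = 2 by omega] at h2
    exact (Nat.prime_dvd_prime_iff_eq hp Nat.prime_two).mp h2)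
  have hdvd : p ∣ q ^ (2 * b) - 1 := hfac ▸ Dvd.dvd.mul_left (dvd_pow_self p hm.ne') _
  have hqp : ¬ p ∣ q ^ (2 * b) := fun h => hp.ne_one (Nat.eq_one_of_dvd_one (by
    have h1 : 1 ≤ q ^ (2 * b) := Nat.one_le_pow _ _ (by omega)
    have h2 := Nat.dvd_sub h hdvd
    rwa [show q ^ (2 * b) - (q ^ (2 * b) - 1) = 1 by omega] at h2))
  have hv := padicValNat.pow_sub_pow (p := p) (x := q ^ (2 * b)) (y := 1) (hp.odd_of_ne_two hp2)
    (Nat.one_lt_pow (by omega) hq) hdvd hqp hk0.ne'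
  rw [one_pow, ← pow_mul, ← hk, hfac, padicValNat.mul (by omega) (pow_pos hp.pos m).ne',
    padicValNat.eq_zero_of_not_dvd hc, padicValNat.prime_pow, zero_add] at hv
  have hne : q ^ d - 1 ≠ 0 := by
    have := Nat.one_lt_pow (n := d) (by rw [hk]; exact (Nat.mul_pos (by omega) hk0).ne') hq
    omega
  have h1 := (padicValNat_dvd_iff_le hne).mp hd
  exact (padicValNat_dvd_iff_le hk0.ne').mpr (by omega)

/-- The solution of `N ^ 2 = 1 + r P` under the bound of the commutant. -/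
theorem eq_sub_one {p m N r : ℕ} (hp : p.Prime) (hp2 : p ≠ 2) (hm : 0 < m) (hN : 2 ≤ N)
    (hr : N * N = 1 + r * p ^ m) (hle : N ^ 2 ≤ (p ^ m - 1) * (1 + r)) : N + 1 = p ^ m := by
  set P := p ^ m with hPdef
  have hP1 : 1 < P := Nat.one_lt_pow hm.ne' hp.one_lt
  obtain ⟨c, hc⟩ : ∃ c, P = c + 1 := ⟨P - 1, by omega⟩
  have hNlt : N < P := by
    by_contra h
    push Not at h
    rw [hc, Nat.add_sub_cancel, sq] at hle
    nlinarith [Nat.mul_le_mul h h]
  obtain ⟨b, hb⟩ : P ∣ (N - 1) * (N + 1) :=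
    ⟨r, by rw [mul_comm, ← Nat.sq_sub_sq, one_pow, sq, hr, Nat.add_sub_cancel_left, mul_comm]⟩
  have hnot : ∀ {x y : ℕ}, x + 2 = y ∨ y + 2 = x → p ∣ x → ¬ p ∣ y := fun {x y} hxy hx hy => hp2 (by
    rcases hxy with e | e
    · have h2 := Nat.dvd_sub hy hx
      rw [show y - x = 2 by omega] at h2
      exact (Nat.prime_dvd_prime_iff_eq hp Nat.prime_two).mp h2
    · have h2 := Nat.dvd_sub hx hy
      rw [show x - y = 2 by omega] at h2
      exact (Nat.prime_dvd_prime_iff_eq hp Nat.prime_two).mp h2)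
  rcases (Nat.Prime.dvd_mul hp).mp ((dvd_pow_self p hm.ne').trans ⟨b, hb⟩) with h | h
  · have h' : P ∣ N - 1 := Nat.Coprime.dvd_of_dvd_mul_right
      (Nat.Coprime.pow_left m (hp.coprime_iff_not_dvd.mpr (hnot (Or.inl (by omega)) h))) ⟨b, hb⟩
    have := Nat.le_of_dvd (by omega) h'
    omega
  · have h' : P ∣ N + 1 := Nat.Coprime.dvd_of_dvd_mul_left
      (Nat.Coprime.pow_left m (hp.coprime_iff_not_dvd.mpr (hnot (Or.inr (by omega)) h))) ⟨b, hb⟩
    have := Nat.le_of_dvd (by omega) h'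
    omega

end CfsgLib.FgsC.PrimePower
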