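import Cfsg.Agent.Lib.FgsC.PrimePowerCore
import Cfsg.Agent.Lib.FgsC.BaseChangeRep
import Cfsg.Agent.Lib.FgsC.FrobeniusFitting

/-!
# An operator of prime power order on an irreducible solvable linear group
-/

set_option autoImplicit false
set_option linter.style.haveILetI false

namespace CfsgLib.FgsC.PrimePower

open Cfsg
open scoped commutatorElement

universe u v

variable {Γ : Type u} {V : Type v} [Group Γ] [Finite Γ] [CommGroup V] [Finite V]

/-- If `s`, of order dividing `p ^ n`, acts on an irreducible solvable linear group without fixed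
points on the group and on the space, `s ^ p ^ (n - 1)` centralises the group. -/
theorem commute_of_fpf_linear (φ : Γ →* MulAut V) {p r : ℕ} (hp : p.Prime) (hp2 : p ≠ 2)
    (hr : r.Prime) {n : ℕ} (hn : 0 < n) {s : Γ} (hs : s ^ p ^ n = 1) (L : Subgroup Γ)
    (hsL : s ∈ Subgroup.normalizer (L : Set Γ)) (hL : Group.IsSolvable L)
    (hLp : (Nat.card L).Coprime p) [Nontrivial V] (hexp : ∀ v : V, v ^ r = 1)
    (hVp : (Nat.card V).Coprime p) (hinj : ∀ x ∈ L, φ x = 1 → x = 1)
    (hfpfV : ∀ v : V, φ s v = v → v = 1) (hfpfL : ∀ x ∈ L, Commute x s → x = 1)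
    (hirr : ∀ W : Subgroup V, (∀ g, g = s ∨ g ∈ L → ∀ v ∈ W, φ g v ∈ W) → W = ⊥ ∨ W = ⊤) :
    ∀ x ∈ L, Commute x (s ^ p ^ (n - 1)) := by
  classical
  haveI := Fintype.ofFinite Γ
  haveI := Fact.mk hp
  haveI := Fact.mk hr
  haveI := hL
  by_contra hcon
  set τ := s ^ p ^ (n - 1) with hτ
  have hτp : τ ^ p = 1 := by
    rw [hτ, ← pow_mul, ← pow_succ, Nat.sub_add_cancel hn, hs]
  set A := Subgroup.zpowers s with hA
  set T := Subgroup.zpowers τ with hT
  have hτA : τ ∈ A := pow_mem (Subgroup.mem_zpowers s) _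
  have hAL : A ≤ Subgroup.normalizer (L : Set Γ) := Subgroup.zpowers_le.mpr hsL
  have hcompose : ∀ (a b : Γ) (v : V), φ a (φ b v) = φ (a * b) v := fun a b v => by
    rw [map_mul, MulAut.mul_apply]
  have hsA : s ∈ A := Subgroup.mem_zpowers s
  have hAT : A ≤ Subgroup.normalizer (T : Set Γ) := Subgroup.zpowers_le.mpr
    (FrobeniusConfig.mem_normalizer_zpowers (by
      rw [hτ, show s * s ^ p ^ (n - 1) * s⁻¹ = s ^ p ^ (n - 1) by
        rw [← pow_succ', pow_succ, mul_inv_cancel_right]]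
      exact Subgroup.mem_zpowers _))
  have hV : IsPGroup r V := fun v => ⟨1, by rw [pow_one, hexp]⟩
  have hrV : r ∣ Nat.card V := by
    obtain ⟨k, hk⟩ := IsPGroup.iff_card.mp hV
    rcases k with _ | k
    · have := Finite.one_lt_card (α := V)
      rw [hk, pow_zero] at this
      exact absurd this (lt_irrefl 1)
    · rw [hk]; exact dvd_pow_self r k.succ_ne_zero
  have hpr : p ≠ r := fun e => hp.ne_one (Nat.eq_one_of_dvd_coprimes hVp (e ▸ hrV) dvd_rfl)
  have hcoreA : ∀ w : ℕ, A ≤ Subgroup.normalizer (((pCore w L).map L.subtype : Subgroup Γ) : Set Γ) :=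
    fun w => hAL.trans (CfsgLib.Base.normalizer_le_normalizer_map_subtype L (pCore w L))
  have hcoreL : ∀ w : ℕ, L ≤ Subgroup.normalizer (((pCore w L).map L.subtype : Subgroup Γ) : Set Γ) :=
    fun w => Subgroup.le_normalizer.trans (CfsgLib.Base.normalizer_le_normalizer_map_subtype L (pCore w L))
  -- the normal `r`-subgroup of `L` is trivial
  have hOr : pCore r L = ⊥ := by
    set R := (pCore r L).map L.subtype with hR
    have hRp : IsPGroup r R := CfsgLib.Base.isPGroup_map_pCore r L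
    letI : MulAction R V :=
      { smul := fun a v => φ (a : Γ) v
        one_smul := fun v => by
          show φ ((1 : R) : Γ) v = v
          rw [OneMemClass.coe_one, map_one, MulAut.one_apply]
        mul_smul := fun a b v => (hcompose a b v).symm }
    obtain ⟨v, hv, hv1⟩ := hRp.exists_fixed_point_of_prime_dvd_card_of_fixed_point V hrV
      (a := (1 : V)) (fun a => map_one (φ (a : Γ)))
    let F : Subgroup V :=
      { carrier := {v | ∀ g ∈ R, φ g v = v}
        mul_mem' := fun {u w} hu hw g hg => by rw [map_mul, hu g hg, hw g hg]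
        one_mem' := fun g _ => map_one _
        inv_mem' := fun {u} hu g hg => by rw [map_inv, hu g hg] }
    rcases hirr F (fun g hg w hw x hx => by
      have hgN : g ∈ Subgroup.normalizer (R : Set Γ) := by
        rcases hg with e | e
        exacts [e ▸ hcoreA r hsA, hcoreL r e]
      have hmem : g⁻¹ * x * g ∈ R := CoprimeWeights.conj_mem hgN hx
      rw [hcompose, show x * g = g * (g⁻¹ * x * g) by group, ← hcompose, hw _ hmem]) with h | h
    · have hvF : v ∈ F := fun g hg => hv ⟨g, hg⟩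
      rw [h, Subgroup.mem_bot] at hvF
      exact absurd hvF.symm hv1
    · rw [eq_bot_iff]
      intro x hx
      refine Subgroup.mem_bot.mpr (Subtype.ext (hinj x x.2 (MulEquiv.ext fun w => ?_)))
      have hwF : w ∈ F := h ▸ Subgroup.mem_top w
      exact hwF x ⟨x, hx, rfl⟩
  -- `τ` moves some core
  obtain ⟨w, hw, hmoved⟩ : ∃ w : ℕ, w.Prime ∧
      ¬ (pCore w L).map L.subtype ≤ Subgroup.centralizer ({τ} : Set Γ) := by
    by_contra hall
    push Not at hall
    refine hcon fun x hx => ?_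
    have hF : ∀ f ∈ fittingSubgroup L, Commute (f : Γ) τ := by
      have hle : (fittingSubgroup L).map L.subtype ≤ Subgroup.centralizer ({τ} : Set Γ) := by
        rw [CfsgLib.Base.fittingSubgroup_eq_iSup_pCore, Subgroup.map_iSup]
        exact iSup_le fun w => hall w w.2
      exact fun f hf => Subgroup.mem_centralizer_singleton_iff.mp (hle ⟨f, hf, rfl⟩)
    have hτL : τ * x * τ⁻¹ ∈ L := (Subgroup.mem_normalizer_iff.mp (hAL hτA) x).mp hx
    set c : L := ⟨x, hx⟩⁻¹ * ⟨τ * x * τ⁻¹, hτL⟩ with hc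
    have hcF : c ∈ fittingSubgroup L := by
      refine CfsgLib.Base.centralizer_fittingSubgroup_le (Subgroup.mem_centralizer_iff.mpr fun f hf => ?_)
      haveI : (fittingSubgroup L).Normal := CfsgLib.Base.fittingSubgroup_normal' L
      have h1 := hF _ ((inferInstance : (fittingSubgroup L).Normal).conj_mem f hf ⟨x, hx⟩)
      simp only [Subgroup.coe_mul, Subgroup.coe_inv] at h1
      have h2 := (hF f hf).eq
      refine Subtype.ext ?_
      simp only [hc, Subgroup.coe_mul, Subgroup.coe_inv]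
      have e1 : τ * (x * f * x⁻¹) * τ⁻¹ = x * f * x⁻¹ := by rw [← h1.eq, mul_inv_cancel_right]
      have e2 : τ⁻¹ * (f : Γ) * τ = f := by rw [mul_assoc, h2, inv_mul_cancel_left]
      calc (f : Γ) * (x⁻¹ * (τ * x * τ⁻¹))
          = x⁻¹ * (x * f * x⁻¹) * (τ * x * τ⁻¹) := by group
        _ = x⁻¹ * (τ * (x * f * x⁻¹) * τ⁻¹) * (τ * x * τ⁻¹) := by rw [e1]
        _ = x⁻¹ * (τ * x * τ⁻¹) * (τ * f * τ⁻¹) := by group
        _ = x⁻¹ * (τ * x * τ⁻¹) * f := by rw [← h2, mul_inv_cancel_right]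
    have hcτ : Commute (c : Γ) τ := hF c hcF
    have hiter : ∀ k : ℕ, τ ^ k * x * (τ ^ k)⁻¹ = x * (c : Γ) ^ k := by
      intro k
      induction k with
      | zero => simp
      | succ k ih =>
        rw [pow_succ', show τ * τ ^ k * x * (τ * τ ^ k)⁻¹ = τ * (τ ^ k * x * (τ ^ k)⁻¹) * τ⁻¹ by group,
          ih, show τ * (x * (c : Γ) ^ k) * τ⁻¹ = (τ * x * τ⁻¹) * (τ * (c : Γ) ^ k * τ⁻¹) by group,
          ← (hcτ.pow_left k).eq, mul_inv_cancel_right, pow_succ', ← mul_assoc,
          show τ * x * τ⁻¹ = x * (c : Γ) by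
            simp only [hc, Subgroup.coe_mul, Subgroup.coe_inv]; group]
    have h3 := hiter p
    rw [hτp, inv_one, one_mul, mul_one, left_eq_mul] at h3
    have hc1 : c = 1 := orderOf_eq_one_iff.mp (Nat.eq_one_of_dvd_coprimes hLp
      (orderOf_dvd_natCard c) (orderOf_dvd_of_pow_eq_one (Subtype.ext (by
        rw [Subgroup.coe_pow, h3, OneMemClass.coe_one]))))
    have h4 := congrArg (Subtype.val) hc1
    simp only [hc, Subgroup.coe_mul, Subgroup.coe_inv, OneMemClass.coe_one] at h4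
    exact (inv_mul_eq_one.mp h4).trans rfl |> fun h => (mul_inv_eq_iff_eq_mul.mp h.symm).symm
  haveI := Fact.mk hw
  set Ou := (pCore w L).map L.subtype with hOu
  have hOune : pCore w L ≠ ⊥ := fun h => hmoved (by rw [hOu, h, Subgroup.map_bot]; exact bot_le)
  have hwr : w ≠ r := fun h => hOune (by rw [h]; exact hOr)
  have hwdvd : w ∣ Nat.card L := by
    obtain ⟨k, hk⟩ := IsPGroup.iff_card.mp (CfsgLib.Base.isPGroup_pCore w L)
    rcases k with _ | k
    · exact absurd (Subgroup.eq_bot_of_card_eq _ (by rw [hk, pow_zero])) hOune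
    · exact (dvd_pow_self w k.succ_ne_zero).trans (hk ▸ Subgroup.card_subgroup_dvd_card _)
  have hpw : p ≠ w := fun h => hp.ne_one (Nat.eq_one_of_dvd_coprimes hLp (h ▸ hwdvd) dvd_rfl)
  -- a minimal invariant subgroup moved by `τ`
  obtain ⟨Q, ⟨hQle, hQA, hQne⟩, hQmin⟩ := Set.exists_min_image
    {U : Subgroup Γ | U ≤ Ou ∧ A ≤ Subgroup.normalizer (U : Set Γ) ∧
      ¬ U ≤ Subgroup.centralizer ({τ} : Set Γ)} (fun U => Nat.card U) (Set.toFinite _)
    ⟨Ou, le_rfl, hcoreA w, hmoved⟩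
  have hQsmall : ∀ U : Subgroup Γ, U ≤ Q → A ≤ Subgroup.normalizer (U : Set Γ) → U ≠ Q →
      U ≤ Subgroup.centralizer ({τ} : Set Γ) := fun U h1 h2 h3 => by
    by_contra h4
    exact h3 (Subgroup.eq_of_le_of_card_ge h1 (hQmin U ⟨h1.trans hQle, h2, h4⟩))
  have hQL : Q ≤ L := hQle.trans (Subgroup.map_subtype_le _)
  have hQp : IsPGroup w Q := (CfsgLib.Base.isPGroup_map_pCore w L).to_le hQle
  have hTQ : T ≤ Subgroup.normalizer (Q : Set Γ) := Subgroup.zpowers_le.mpr (hQA hτA)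
  have hbot : ∀ {U : Subgroup Γ}, U ≤ Subgroup.centralizer ({τ} : Set Γ) → ⁅U, T⁆ = ⊥ := fun {U} hU => by
    rw [Subgroup.commutator_eq_bot_iff_le_centralizer, hT, Subgroup.zpowers_eq_closure,
      Subgroup.centralizer_closure]
    exact hU
  have hTQc : (Nat.card T).Coprime (Nat.card Q) := by
    rw [hT, Nat.card_zpowers]
    exact (hLp.symm.coprime_dvd_right (Subgroup.card_dvd_of_le hQL)).coprime_dvd_left
      (orderOf_dvd_of_pow_eq_one hτp)
  have hQTQ : ⁅Q, T⁆ ≤ Q := CfsgLib.Coprime.commutator_le_of_le_normalizer hTQ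
  have hQeq : ⁅Q, T⁆ = Q := by
    by_contra h
    have h1 := hbot (hQsmall _ hQTQ (FrobeniusConfig.le_normalizer_commutator hQA hAT) h)
    rw [CfsgLib.Coprime.commutator_commutator_eq hTQ hTQc
      (Or.inl (FrobeniusFitting.isSolvable_zpowers τ))] at h1
    rw [Subgroup.commutator_eq_bot_iff_le_centralizer, hT, Subgroup.zpowers_eq_closure,
      Subgroup.centralizer_closure] at h1
    exact hQne h1
  haveI := hQp.isNilpotent
  have hQne' : Q ≠ ⊥ := fun h => hQne (h ▸ bot_le)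
  have hlt : ⁅Q, Q⁆ < Q := CfsgLib.Base.commutator_self_lt_of_isSolvable hQne' inferInstance
  have hnormQQ : Subgroup.normalizer (Q : Set Γ) ≤
      Subgroup.normalizer ((⁅Q, Q⁆ : Subgroup Γ) : Set Γ) :=
    FrobeniusConfig.le_normalizer_commutator le_rfl le_rfl
  have hQ'T : ⁅⁅Q, Q⁆, T⁆ = ⊥ := hbot (hQsmall _ hlt.le (hQA.trans hnormQQ) hlt.ne)
  -- the subgroups centralised by `τ` are central
  have hcentral : ∀ U : Subgroup Γ, U ≤ Q → ⁅U, T⁆ = ⊥ → ⁅Q, U⁆ = ⊥ := by
    intro U hU hUT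
    have h1 : ⁅⁅Q, T⁆, U⁆ = ⊥ := by
      refine Subgroup.commutator_commutator_eq_bot_of_rotate ?_ ?_
      · rw [Subgroup.commutator_comm T, hUT, Subgroup.commutator_bot_left]
      · exact le_bot_iff.mp ((Subgroup.commutator_mono (Subgroup.commutator_mono hU le_rfl)
          le_rfl).trans_eq hQ'T)
    rwa [hQeq] at h1
  have hQ'Q := hcentral _ hlt.le hQ'T
  have hCQ : ⁅Q, Q ⊓ Subgroup.centralizer ({τ} : Set Γ)⁆ = ⊥ := hcentral _ inf_le_left (hbot inf_le_right)
  -- over the algebraic closure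
  obtain ⟨W, _, _, _, ρ, hρinj, -, -, hρzero, -, -, -, -⟩ := FrobeniusConfig.exists_rep (V := V) hexp
  haveI : CharP (AlgebraicClosure (ZMod r)) r := inferInstance
  set Qi := Q.map φ with hQi
  have hQip : IsPGroup w Qi := hQp.map φ
  obtain ⟨k, hk, hk1⟩ := (Subgroup.bot_or_exists_ne_one Q).resolve_left hQne'
  refine no_prime_power_config (ρ := ρ) (p := p) (q := w) hp2 hpw ?_ hQip
    (FrobeniusConfig.cast_card_ne_zero hr hwr hQip)
    ⟨φ k, ⟨k, hk, rfl⟩, fun h => hk1 (hinj k (hQL hk) (hρinj (h.trans (map_one ρ).symm)))⟩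
    (x := φ s) (Subgroup.le_normalizer_map φ ⟨s, hQA hsA, rfl⟩) (n := n)
    (by rw [← map_pow, hs, map_one]) ?_ ?_ ?_ ?_ ?_
  · intro h
    rw [CharP.cast_eq_zero_iff _ r] at h
    exact hpr ((Nat.prime_dvd_prime_iff_eq hr hp).mp h).symm
  · refine hρzero _ _ fun v => hfpfV _ ?_
    rw [map_prod]
    have e : ∀ i, φ s (((φ s) ^ i) v) = ((φ s) ^ (i + 1)) v := fun i => by
      rw [pow_succ', MulAut.mul_apply]
    simp only [e]
    obtain ⟨m, hm⟩ : ∃ m, p ^ n = m + 1 := ⟨p ^ n - 1, by have := pow_pos hp.pos n; omega⟩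
    have h0 : ((φ s) ^ (m + 1)) v = v := by
      rw [← hm, ← map_pow, hs, map_one, MulAut.one_apply]
    rw [hm, Finset.prod_range_succ, Finset.prod_range_succ' (fun i => ((φ s) ^ i) v), h0, pow_zero,
      MulAut.one_apply]
  · rw [← map_pow, ← hτ, hQi, ← MonoidHom.map_zpowers, ← Subgroup.map_commutator, ← hT, hQeq]
  · rintro _ ⟨a, ha, rfl⟩ _ ⟨b, hb, rfl⟩ _ ⟨c, hc, rfl⟩
    rw [← map_commutatorElement]
    exact Commute.map (Subgroup.mem_centralizer_iff.mp
      ((Subgroup.commutator_eq_bot_iff_le_centralizer.mp hQ'Q) hc) _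
      (Subgroup.commutator_mem_commutator ha hb)).symm φ
  · rintro _ ⟨a, ha, rfl⟩ haτ _ ⟨g, hg, rfl⟩
    have haC : a ∈ Q ⊓ Subgroup.centralizer ({τ} : Set Γ) := by
      refine ⟨ha, Subgroup.mem_centralizer_singleton_iff.mpr ?_⟩
      have hmem : a⁻¹ * (τ * a * τ⁻¹) ∈ L :=
        L.mul_mem (L.inv_mem (hQL ha)) ((Subgroup.mem_normalizer_iff.mp (hAL hτA) a).mp (hQL ha))
      rw [← map_pow, ← hτ] at haτ
      have h1 := hinj _ hmem (by
        rw [map_mul, map_mul, map_mul, ← haτ.eq, map_inv, map_inv, mul_inv_cancel_right, inv_mul_cancel])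
      exact (mul_inv_eq_iff_eq_mul.mp (inv_mul_eq_one.mp h1).symm).symm
    exact Commute.map (Subgroup.mem_centralizer_iff.mp
      ((Subgroup.commutator_eq_bot_iff_le_centralizer.mp hCQ) hg) a haC : Commute a g) φ
  · rintro _ ⟨a, ha, rfl⟩ has
    have hmem : a⁻¹ * (s * a * s⁻¹) ∈ L :=
      L.mul_mem (L.inv_mem (hQL ha)) ((Subgroup.mem_normalizer_iff.mp hsL a).mp (hQL ha))
    have h1 := hinj _ hmem (by
      rw [map_mul, map_mul, map_mul, ← has.eq, map_inv, map_inv, mul_inv_cancel_right, inv_mul_cancel])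
    rw [hfpfL a (hQL ha) (mul_inv_eq_iff_eq_mul.mp (inv_mul_eq_one.mp h1).symm).symm, map_one]

end CfsgLib.FgsC.PrimePower
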