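import Cfsg.Agent.Lib.FgsC.PrimePowerLemmas

/-!
# Good subspaces stable under a power of an operator, in coprime characteristic
-/

set_option autoImplicit false
set_option linter.style.haveILetI false

open Module
open scoped commutatorElement

namespace CfsgLib.FgsC.PrimePower

open CfsgLib.FgsC.HallHigman CfsgLib.FgsC.HallHigmanB CfsgLib.FgsC.CoprimeWeights

variable {G : Type*} [Group G] {K : Type*} [Field K] {V : Type*} [AddCommGroup V] [Module K V]
  {ρ : Representation K G V}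

/-- A subspace without proper invariant subspaces, as a statement about its submodules. -/
theorem eq_bot_or_top {Q : Subgroup G} {W : Submodule K V} (hW : IsGood ρ Q W) (U : Submodule K W)
    (hU : ∀ (k : G) (hk : k ∈ Q), ∀ u ∈ U, (⟨ρ k u, hW.inv k hk u u.2⟩ : W) ∈ U) :
    U = ⊥ ∨ U = ⊤ := by
  rcases hW.minimal (U.map W.subtype) (Submodule.map_subtype_le _ _) (by
    rintro k hk _ ⟨u, hu, rfl⟩
    exact ⟨_, hU k hk u hu, rfl⟩) with h | h
  · left
    refine Submodule.map_injective_of_injective W.injective_subtype ?_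
    rw [h, Submodule.map_bot]
  · right
    refine Submodule.map_injective_of_injective W.injective_subtype ?_
    rw [h, Submodule.map_top, Submodule.range_subtype]

/-- A good subspace whose twist by `x` is isomorphic to it yields an invariant good subspace. -/
theorem exists_invariant_of_stable [IsAlgClosed K] [FiniteDimensional K V] {Q : Subgroup G}
    {W₀ : Submodule K V} (hW₀ : IsGood ρ Q W₀) {x : G}
    (hxQ : x ∈ Subgroup.normalizer (Q : Set G)) (hstab : IsStable ρ Q W₀ x) :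
    ∃ W, IsGood ρ Q W ∧ ∀ w ∈ W, ρ x w ∈ W := by
  have hconj : ∀ {g k : G}, g ∈ Subgroup.normalizer (Q : Set G) → k ∈ Q → g * k * g⁻¹ ∈ Q :=
    fun hg hk => (Subgroup.mem_normalizer_iff.mp hg _).mp hk
  haveI : Nontrivial W₀ := Submodule.nontrivial_iff_ne_bot.mpr hW₀.ne_bot
  obtain ⟨T₀, hT₀W, hT₀ne, hT₀k⟩ := hstab
  let T : End K W₀ := T₀.restrict hT₀W
  have hTk : ∀ (k : G) (hk : k ∈ Q) (w : W₀), T ⟨ρ k w, hW₀.inv k hk w w.2⟩ =
      ⟨ρ (x * k * x⁻¹) (T w), hW₀.inv _ (hconj hxQ hk) _ (T w).2⟩ := fun k hk w =>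
    Subtype.ext (hT₀k k hk w w.2)
  have hTinj : LinearMap.ker T = ⊥ := by
    refine (eq_bot_or_top hW₀ _ fun k hk a ha => ?_).resolve_right fun h => ?_
    · rw [LinearMap.mem_ker] at ha ⊢
      rw [hTk k hk a, ha]
      exact Subtype.ext (map_zero _)
    · obtain ⟨w, hw, hw0⟩ := hT₀ne
      have hm : T ⟨w, hw⟩ = 0 := by
        rw [LinearMap.ker_eq_top.mp h]
        rfl
      exact hw0 (congrArg Subtype.val hm)
  let Te : W₀ ≃ₗ[K] W₀ := LinearEquiv.ofBijective T
    ⟨LinearMap.ker_eq_bot.mp hTinj,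
      LinearMap.injective_iff_surjective.mp (LinearMap.ker_eq_bot.mp hTinj)⟩
  have hTe : ∀ (k : G) (hk : k ∈ Q) (w : W₀), (Te.symm ⟨ρ k w, hW₀.inv k hk w w.2⟩ : W₀) =
      ⟨ρ (x⁻¹ * k * x) (Te.symm w : V),
        hW₀.inv _ (conj_mem hxQ hk) _ (Te.symm w).2⟩ := by
    intro k hk w
    apply Te.injective
    rw [Te.apply_symm_apply]
    show _ = T _
    rw [hTk _ (conj_mem hxQ hk) (Te.symm w)]
    apply Subtype.ext
    show ρ k (w : V) = ρ (x * (x⁻¹ * k * x) * x⁻¹) ((T (Te.symm w) : W₀) : V)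
    rw [show T (Te.symm w) = w from Te.apply_symm_apply w]
    congr 2
    group
  let M : Submodule K (W₀ →ₗ[K] V) :=
    { carrier := {φ | ∀ (k : G) (hk : k ∈ Q) (w : W₀),
        φ ⟨ρ k w, hW₀.inv k hk w w.2⟩ = ρ k (φ w)}
      add_mem' := fun {a b} ha hb k hk w => by
        rw [LinearMap.add_apply, LinearMap.add_apply, ha k hk w, hb k hk w, map_add]
      zero_mem' := fun k hk w => by simp
      smul_mem' := fun c a ha k hk w => by
        rw [LinearMap.smul_apply, LinearMap.smul_apply, ha k hk w, map_smul] }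
  let L : End K (W₀ →ₗ[K] V) :=
    (LinearMap.lcomp K V (Te.symm : W₀ →ₗ[K] W₀)).comp (LinearMap.compRight K (ρ x))
  have hLapply : ∀ φ w, L φ w = ρ x (φ (Te.symm w)) := fun φ w => rfl
  have hLM : ∀ φ ∈ M, L φ ∈ M := by
    intro φ hφ k hk w
    rw [hLapply, hLapply, hTe k hk w, hφ _ (conj_mem hxQ hk) _, rho_mul_apply, rho_mul_apply]
    congr 2
    group
  haveI : Nontrivial M := by
    refine ⟨⟨⟨W₀.subtype, fun k hk w => rfl⟩, 0, fun h => ?_⟩⟩
    obtain ⟨w, hw⟩ := exists_ne (0 : W₀)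
    exact hw (Subtype.ext (LinearMap.congr_fun (congrArg Subtype.val h) w))
  obtain ⟨c, hc⟩ := End.exists_eigenvalue (L.restrict hLM)
  obtain ⟨⟨φ, hφk⟩, hφ, hφ0'⟩ := Submodule.exists_mem_ne_zero_of_ne_bot hc
  have hφfix : L φ = c • φ := congrArg Subtype.val (End.mem_eigenspace_iff.mp hφ)
  have hφ0 : φ ≠ 0 := fun h => hφ0' (Subtype.ext h)
  have hφinj : LinearMap.ker φ = ⊥ := by
    refine (eq_bot_or_top hW₀ _ fun k hk a ha => ?_).resolve_right fun h => hφ0 ?_
    · rw [LinearMap.mem_ker] at ha ⊢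
      rw [hφk k hk a, ha, map_zero]
    · exact LinearMap.ker_eq_top.mp h
  refine ⟨LinearMap.range φ, ⟨fun h => hφ0 (LinearMap.range_eq_bot.mp h), ?_, fun U hU hUi => ?_, ?_⟩,
    ?_⟩
  · rintro k hk _ ⟨w, rfl⟩
    exact ⟨_, hφk k hk w⟩
  · rcases eq_bot_or_top hW₀ (U.comap φ) (fun k hk u hu => by
      rw [Submodule.mem_comap] at hu ⊢
      rw [hφk k hk u]
      exact hUi k hk _ hu) with h | h
    · left
      rw [← Submodule.map_comap_eq_self hU, h, Submodule.map_bot]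
    · right
      rw [← Submodule.map_comap_eq_self hU, h, Submodule.map_top]
  · obtain ⟨k, hk, w, hw, hne⟩ := hW₀.nontriv
    refine ⟨k, hk, φ ⟨w, hw⟩, ⟨_, rfl⟩, fun h => hne ?_⟩
    rw [← hφk k hk ⟨w, hw⟩] at h
    exact congrArg Subtype.val (LinearMap.ker_eq_bot.mp hφinj h)
  · rintro _ ⟨w, rfl⟩
    refine ⟨c • T w, ?_⟩
    have h := LinearMap.congr_fun hφfix (T w)
    rw [hLapply, show Te.symm (T w) = w from Te.symm_apply_apply w, LinearMap.smul_apply] at h
    rw [map_smul, h]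

/-- An invariant good subspace is stable. -/
theorem isStable_of_invariant {Q : Subgroup G} {W : Submodule K V} (hW : IsGood ρ Q W) {x : G}
    (hxW : ∀ w ∈ W, ρ x w ∈ W) : IsStable ρ Q W x := by
  obtain ⟨w, hw, hw0⟩ := Submodule.exists_mem_ne_zero_of_ne_bot hW.ne_bot
  refine ⟨ρ x, hxW, ⟨w, hw, rho_ne_zero hw0⟩, fun k hk v hv => ?_⟩
  rw [rho_mul_apply, rho_mul_apply]
  congr 2
  group

/-- If no good subspace is stable under `x ^ p ^ e` for `e < a`, none is under `x ^ i`, `i < p ^ a`. -/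
theorem not_isStable_pow {Q : Subgroup G} {W : Submodule K V} (hW : IsGood ρ Q W) {p : ℕ}
    (hp : p.Prime) {x : G} (hxQ : x ∈ Subgroup.normalizer (Q : Set G)) {n : ℕ}
    (hxP : x ^ p ^ n = 1) {a : ℕ} (hmin : ∀ e, e < a → ¬ IsStable ρ Q W (x ^ p ^ e)) {i : ℕ}
    (hi0 : 0 < i) (hilt : i < p ^ a) : ¬ IsStable ρ Q W (x ^ i) := by
  intro hst
  have hconj : ∀ {g k : G}, g ∈ Subgroup.normalizer (Q : Set G) → k ∈ Q → g * k * g⁻¹ ∈ Q :=
    fun hg hk => (Subgroup.mem_normalizer_iff.mp hg _).mp hk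
  have hmul : ∀ g h, h ∈ Subgroup.normalizer (Q : Set G) →
      IsStable ρ Q W g → IsStable ρ Q W h → IsStable ρ Q W (g * h) := by
    rintro g h hh ⟨S, hSW, ⟨u, hu, hu0⟩, hSk⟩ ⟨S', hS'W, ⟨u', hu', hu'0⟩, hS'k⟩
    refine ⟨S * S', fun w hw => hSW _ (hS'W w hw), ?_, fun k hk w hw => ?_⟩
    · refine ⟨u', hu', fun h0 => hu'0 ?_⟩
      let E : Submodule K V := W ⊓ LinearMap.ker S
      rcases hW.minimal E inf_le_left (fun k hk w hw => ⟨hW.inv k hk w hw.1,
        LinearMap.mem_ker.mpr (by rw [hSk k hk w hw.1, LinearMap.mem_ker.mp hw.2, map_zero])⟩)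
        with hE | hE
      · have : S' u' ∈ E := ⟨hS'W u' hu', h0⟩
        rwa [hE, Submodule.mem_bot] at this
      · exact absurd ((hE.symm ▸ hu : u ∈ E).2) hu0
    · rw [End.mul_apply, hS'k k hk w hw, hSk _ (hconj hh hk) _ (hS'W w hw), End.mul_apply]
      congr 2
      group
  have hpows : ∀ m, IsStable ρ Q W ((x ^ i) ^ m) := by
    intro m
    induction m with
    | zero =>
      rw [pow_zero]
      exact isStable_of_invariant hW fun w hw => by rw [map_one, End.one_apply]; exact hw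
    | succ m ih =>
      rw [pow_succ]
      exact hmul _ _ (pow_mem hxQ _) ih hst
  obtain ⟨e, -, hg⟩ := (Nat.dvd_prime_pow hp).mp (Nat.gcd_dvd_right i (p ^ n))
  have hea : e < a := by
    by_contra h
    push Not at h
    have h5 : Nat.gcd i (p ^ n) ≤ i := Nat.gcd_le_left _ hi0
    have h6 := Nat.pow_le_pow_right hp.pos h
    omega
  obtain ⟨m, hm⟩ : ∃ m : ℕ, (x ^ i) ^ m = x ^ Nat.gcd i (p ^ n) := by
    have hfin : IsOfFinOrder (x ^ i) := isOfFinOrder_iff_pow_eq_one.mpr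
      ⟨p ^ n, pow_pos hp.pos n, by rw [← pow_mul, mul_comm, pow_mul, hxP, one_pow]⟩
    refine hfin.mem_powers_iff_mem_zpowers.mpr ⟨Nat.gcdA i (p ^ n), ?_⟩
    show (x ^ i) ^ Nat.gcdA i (p ^ n) = _
    rw [← zpow_natCast x (Nat.gcd i (p ^ n)), Nat.gcd_eq_gcd_ab, zpow_add, zpow_mul, zpow_mul,
      zpow_natCast, zpow_natCast, hxP, one_zpow, mul_one]
  refine hmin e hea ?_
  rw [← hg, ← hm]
  exact hpows m

/-- The translates by the powers `x ^ i`, `0 < i < c`, meet `W` trivially. -/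
theorem inf_translates_eq_bot {Q : Subgroup G} {W : Submodule K V} (hW : IsGood ρ Q W) {x : G}
    (hxQ : x ∈ Subgroup.normalizer (Q : Set G)) {c : ℕ} (hc : ∀ w ∈ W, ρ (x ^ c) w ∈ W)
    (hind : ∀ i, 0 < i → i < c → ¬ IsStable ρ Q W (x ^ i)) :
    W ⊓ (Finset.range (c - 1)).sup (fun i => W.map (ρ (x ^ (i + 1)))) = ⊥ := by
  have hconj : ∀ {g k : G}, g ∈ Subgroup.normalizer (Q : Set G) → k ∈ Q → g * k * g⁻¹ ∈ Q :=
    fun hg hk => (Subgroup.mem_normalizer_iff.mp hg _).mp hk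
  let F : ℕ → Submodule K V := fun i => W.map (ρ (x ^ (i + 1)))
  set t := (Finset.range (c - 1)).sup F with ht
  have hFinv : ∀ i, IsInv ρ Q (F i) := by
    rintro i k hk _ ⟨v, hv, rfl⟩
    refine ⟨ρ ((x ^ (i + 1))⁻¹ * k * x ^ (i + 1)) v,
      hW.inv _ (conj_mem (pow_mem hxQ (i + 1)) hk) v hv, ?_⟩
    rw [rho_mul_apply, rho_mul_apply]
    congr 2
    group
  have hFmin : ∀ i, ∀ U ≤ F i, IsInv ρ Q U → U = ⊥ ∨ U = F i := by
    intro i U hU hUi
    have hU' : U.comap (ρ (x ^ (i + 1))) ≤ W := fun v hv => by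
      obtain ⟨v', hv', he⟩ := hU hv
      rwa [← rho_apply_inv (ρ := ρ) (x ^ (i + 1)) v, ← he, rho_apply_inv]
    rcases hW.minimal _ hU' (fun k hk v hv => by
      rw [Submodule.mem_comap] at hv ⊢
      rw [rho_mul_apply, show x ^ (i + 1) * k
        = x ^ (i + 1) * k * (x ^ (i + 1))⁻¹ * x ^ (i + 1) by group, ← rho_mul_apply]
      exact hUi _ (hconj (pow_mem hxQ (i + 1)) hk) _ hv) with h | h
    · left
      rw [← Submodule.map_comap_eq_self (hU.trans LinearMap.map_le_range), h, Submodule.map_bot]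
    · right
      rw [← Submodule.map_comap_eq_self (hU.trans LinearMap.map_le_range), h]
  rcases hW.minimal (W ⊓ t) inf_le_left (fun k hk v hv => ⟨hW.inv k hk v hv.1, by
    have : t ≤ t.comap (ρ k) := Finset.sup_le fun i hi z hz =>
      (Finset.le_sup (f := F) hi) (hFinv i k hk z hz)
    exact this hv.2⟩) with h | h
  · exact h
  exfalso
  have hWt : W ≤ t := h ▸ inf_le_right
  obtain ⟨i, hi, f, hf0, hfW, hfk⟩ :=
    exists_map_of_le_sup hW.inv hW.ne_bot F hFinv hFmin _ hWt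
  rw [Finset.mem_range] at hi
  refine hind (c - (i + 1)) (by omega) (by omega) ?_
  obtain ⟨C, hC⟩ := Submodule.exists_isCompl W
  let pr : V →ₗ[K] W := W.projectionOnto C hC
  set g := x ^ (c - (i + 1)) with hg
  have hgy : ∀ z, z ∈ F i → ρ g z ∈ W := by
    rintro _ ⟨v, hv, rfl⟩
    rw [rho_mul_apply, hg, ← pow_add, show c - (i + 1) + (i + 1) = c by omega]
    exact hc v hv
  refine ⟨(ρ g) ∘ₗ f ∘ₗ pr, fun v hv => hgy _ (hfW _), ?_, fun k hk v hv => ?_⟩
  · by_contra hall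
    push Not at hall
    refine hf0 (LinearMap.ext fun v => ?_)
    have h := hall v v.2
    simp only [LinearMap.comp_apply] at h
    rw [show pr (v : V) = v from Submodule.projectionOnto_apply_left hC v] at h
    by_contra hne
    exact rho_ne_zero hne h
  · simp only [LinearMap.comp_apply]
    rw [show pr v = (⟨v, hv⟩ : W) from Submodule.projectionOnto_apply_left hC ⟨v, hv⟩,
      show pr (ρ k v) = (⟨ρ k v, hW.inv k hk v hv⟩ : W) from
        Submodule.projectionOnto_apply_left hC ⟨ρ k v, hW.inv k hk v hv⟩,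
      hfk k hk ⟨v, hv⟩, rho_mul_apply, rho_mul_apply]
    congr 2
    group

/-- If the norm of `x` vanishes, so does the norm of the power stabilising `W` on `W`. -/
theorem norm_pow_eq_zero {Q : Subgroup G} {W : Submodule K V} (hW : IsGood ρ Q W) {x : G}
    (hxQ : x ∈ Subgroup.normalizer (Q : Set G)) {c P : ℕ} (hc0 : 0 < c)
    (hc : ∀ w ∈ W, ρ (x ^ c) w ∈ W) (hind : ∀ i, 0 < i → i < c → ¬ IsStable ρ Q W (x ^ i))
    (hN : normEnd ρ x (P * c) = 0) {w : V} (hw : w ∈ W) :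
    ∑ j ∈ Finset.range P, ρ ((x ^ c) ^ j) w = 0 := by
  classical
  set u := ∑ j ∈ Finset.range P, ρ ((x ^ c) ^ j) w with hu
  have huW : u ∈ W := by
    refine sum_mem fun j hj => ?_
    clear hj
    induction j with
    | zero => rw [pow_zero, map_one, End.one_apply]; exact hw
    | succ j ih => rw [pow_succ', map_mul, End.mul_apply]; exact hc _ ih
  have h0 : ∑ i ∈ Finset.range c, ρ (x ^ i) u = 0 := by
    have h1 := LinearMap.congr_fun hN w
    rw [normEnd_apply, LinearMap.zero_apply,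
      ← Fintype.sum_equiv (finProdFinEquiv (m := P) (n := c))
        (fun a => ρ (x ^ ((finProdFinEquiv a : Fin (P * c)) : ℕ)) w) _ (fun a => rfl),
      Fintype.sum_prod_type_right] at h1
    rw [← h1, ← Fin.sum_univ_eq_sum_range (fun i => ρ (x ^ i) u)]
    refine Finset.sum_congr rfl fun i _ => ?_
    rw [hu, map_sum, ← Fin.sum_univ_eq_sum_range (fun j => ρ (x ^ (i : ℕ)) (ρ ((x ^ c) ^ j) w))]
    refine Finset.sum_congr rfl fun j _ => ?_
    rw [rho_mul_apply, ← pow_mul, ← pow_add, finProdFinEquiv_apply_val]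
  have hmem : u ∈ W ⊓ (Finset.range (c - 1)).sup (fun i => W.map (ρ (x ^ (i + 1)))) := by
    refine ⟨huW, ?_⟩
    rw [show c = c - 1 + 1 from (Nat.sub_add_cancel hc0).symm, Finset.sum_range_succ', pow_zero,
      map_one, End.one_apply] at h0
    rw [eq_neg_of_add_eq_zero_right h0]
    refine neg_mem (sum_mem fun i hi => ?_)
    exact (Finset.le_sup (f := fun i => W.map (ρ (x ^ (i + 1)))) hi) (Submodule.mem_map_of_mem huW)
  rwa [inf_translates_eq_bot hW hxQ hc hind, Submodule.mem_bot] at hmem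

end CfsgLib.FgsC.PrimePower
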