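import Mathlib

/-!
The principal ideal theorem: the transfer `G → D / D'`, `D = G'`, is trivial.

`B = D/D' × I_Q` (`Q = G/D`) is the module of the extension with crossed homomorphism `δ`. A square
matrix over `ℤ[Q]` annihilates the values of `δ` and has augmentation of determinant `±|Q|`, so its
determinant is `±` the norm element, which turns `δ g` into the transfer of `g`.
-/

set_option autoImplicit false
set_option linter.style.haveILetI false

namespace CfsgLib.FgsC.PIT

open scoped Classical

variable {G : Type*} [Group G]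

/-- The abelianised derived subgroup, written additively. -/
abbrev DA (G : Type*) [Group G] := Additive (Abelianization ↥(commutator G))

/-- The class of an element of the derived subgroup. -/
def cls (d : commutator G) : DA G := Additive.ofMul (Abelianization.of d)

/-- Conjugation on the derived subgroup. -/
def cj (g : G) : commutator G →* commutator G where
  toFun d := ⟨g * d * g⁻¹, (inferInstance : (commutator G).Normal).conj_mem d d.2 g⟩
  map_one' := Subtype.ext (by simp)
  map_mul' a b := Subtype.ext (by simp [mul_assoc])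

/-- The action on the abelianised derived subgroup. -/
def act (g : G) : DA G →+ DA G :=
  MonoidHom.toAdditive (Abelianization.map (cj g))

theorem cls_mul (a b : commutator G) : cls (a * b) = cls a + cls b :=
  congrArg Additive.ofMul (map_mul Abelianization.of a b)

theorem act_cls (g : G) (d : commutator G) : act g (cls d) = cls (cj g d) := rfl

theorem exists_cls (a : DA G) : ∃ d, cls d = a := QuotientGroup.mk_surjective (Additive.toMul a)

theorem act_act (g h : G) (a : DA G) : act g (act h a) = act (g * h) a := by
  obtain ⟨d, rfl⟩ := exists_cls a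
  rw [act_cls, act_cls, act_cls]
  exact congrArg cls (Subtype.ext (by simp [cj, mul_assoc]))

theorem act_mem {g : G} (hg : g ∈ commutator G) (a : DA G) : act g a = a := by
  obtain ⟨d, rfl⟩ := exists_cls a
  rw [act_cls, show cj g d = ⟨g, hg⟩ * d * ⟨g, hg⟩⁻¹ from rfl, cls_mul, cls_mul]
  have h : cls (⟨g, hg⟩ : commutator G) + cls (⟨g, hg⟩ : commutator G)⁻¹ = 0 := by
    rw [← cls_mul, mul_inv_cancel]
    exact congrArg Additive.ofMul (map_one Abelianization.of)
  rw [add_right_comm, h, zero_add]

/-- The maximal abelian quotient, kept as a quotient. -/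
abbrev AQ (G : Type*) [Group G] := Abelianization G

/-- A section with `sec 1 = 1`. -/
noncomputable def sec (q : AQ G) : G :=
  Classical.epsilon fun g => Abelianization.of g = q ∧ (q = 1 → g = 1)

theorem sec_spec (q : AQ G) : Abelianization.of (sec q) = q ∧ (q = 1 → sec q = 1) := by
  refine Classical.epsilon_spec (p := fun g => Abelianization.of g = q ∧ (q = 1 → g = 1)) ?_
  by_cases h : q = 1
  · exact ⟨1, by rw [map_one, h], fun _ => rfl⟩
  · obtain ⟨g, hg⟩ := QuotientGroup.mk_surjective q
    exact ⟨g, hg, fun h' => absurd h' h⟩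

theorem mem_iff (g : G) : g ∈ commutator G ↔ Abelianization.of g = 1 :=
  (QuotientGroup.eq_one_iff g).symm

theorem of_sec (q : AQ G) : Abelianization.of (sec q) = q := (sec_spec q).1

theorem sec_one : sec (1 : AQ G) = 1 := (sec_spec 1).2 rfl

/-- The displacement of `g` from the section. -/
noncomputable def disp (g : G) : commutator G :=
  ⟨g * (sec (Abelianization.of g))⁻¹, (mem_iff _).2 (by rw [map_mul, map_inv, of_sec, mul_inv_cancel])⟩

/-- The factor set. -/
noncomputable def fset (q r : AQ G) : commutator G :=
  ⟨sec q * sec r * (sec (q * r))⁻¹,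
    (mem_iff _).2 (by rw [map_mul, map_mul, map_inv, of_sec, of_sec, of_sec, mul_inv_cancel])⟩

theorem fset_one_right (q : AQ G) : cls (fset q 1) = 0 := by
  have : fset q 1 = 1 := Subtype.ext (by simp [fset, sec_one])
  rw [this]
  exact congrArg Additive.ofMul (map_one Abelianization.of)

theorem cocycle (q r t : AQ G) : act (sec q) (cls (fset r t)) + cls (fset q (r * t)) =
    cls (fset q r) + cls (fset (q * r) t) := by
  rw [act_cls, ← cls_mul, ← cls_mul]
  refine congrArg cls (Subtype.ext ?_)
  simp [cj, fset, mul_assoc]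

theorem act_sec_mul (q r : AQ G) (a : DA G) : act (sec q) (act (sec r) a) = act (sec (q * r)) a := by
  rw [act_act, show sec q * sec r = (fset q r : G) * sec (q * r) by simp [fset], ← act_act,
    act_mem (fset q r).2]

variable [Fintype (AQ G)]

/-- Functions of augmentation zero. -/
def aug (G : Type*) [Group G] [Fintype (AQ G)] : AddSubgroup (AQ G → ℤ) where
  carrier := {f | ∑ q, f q = 0}
  add_mem' {f g} hf hg := by
    show ∑ q, (f + g) q = 0
    simp only [Pi.add_apply, Finset.sum_add_distrib]
    rw [hf, hg, add_zero]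
  zero_mem' := by simp
  neg_mem' {f} hf := by
    show ∑ q, (-f) q = 0
    simp only [Pi.neg_apply, Finset.sum_neg_distrib]
    rw [hf, neg_zero]

/-- The module of the extension. -/
abbrev EB (G : Type*) [Group G] [Fintype (AQ G)] := DA G × aug G

/-- Translation by an element of the quotient. -/
def shift (q : AQ G) (f : aug G) : aug G :=
  ⟨fun t => (f : AQ G → ℤ) (q⁻¹ * t), by
    show ∑ t, (f : AQ G → ℤ) (q⁻¹ * t) = 0
    exact (Equiv.sum_comp (Equiv.mulLeft q⁻¹) (f : AQ G → ℤ)).trans f.2⟩

/-- The action on the module of the extension. -/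
noncomputable def trans (q : AQ G) : EB G →+ EB G where
  toFun x := (act (sec q) x.1 + ∑ r, (x.2 : AQ G → ℤ) r • cls (fset q r), shift q x.2)
  map_zero' := Prod.ext (by simp) (Subtype.ext (funext fun t => rfl))
  map_add' x y := Prod.ext (by
    simp only [Prod.fst_add, Prod.snd_add, AddSubgroup.coe_add, Pi.add_apply, add_smul,
      Finset.sum_add_distrib, map_add]
    abel) (Subtype.ext (funext fun t => rfl))

theorem trans_one : trans (1 : AQ G) = AddMonoidHom.id _ := by
  refine AddMonoidHom.ext fun x => Prod.ext ?_ (Subtype.ext (funext fun t => ?_))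
  · show act (sec 1) x.1 + ∑ r, (x.2 : AQ G → ℤ) r • cls (fset 1 r) = x.1
    have h1 : ∀ r : AQ G, cls (fset 1 r) = 0 := fun r => by
      have : fset 1 r = 1 := Subtype.ext (by simp [fset, sec_one])
      rw [this]
      exact congrArg Additive.ofMul (map_one Abelianization.of)
    simp only [h1, smul_zero, Finset.sum_const_zero, add_zero, sec_one]
    exact act_mem (Subgroup.one_mem _) _
  · show (x.2 : AQ G → ℤ) (1⁻¹ * t) = (x.2 : AQ G → ℤ) t
    simp

theorem trans_mul (q r : AQ G) (x : EB G) : trans (q * r) x = trans q (trans r x) := by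
  refine Prod.ext ?_ (Subtype.ext (funext fun t => ?_))
  · show act (sec (q * r)) x.1 + ∑ t, (x.2 : AQ G → ℤ) t • cls (fset (q * r) t) =
      act (sec q) (act (sec r) x.1 + ∑ t, (x.2 : AQ G → ℤ) t • cls (fset r t)) +
        ∑ t, (x.2 : AQ G → ℤ) (r⁻¹ * t) • cls (fset q t)
    rw [map_add, act_sec_mul, map_sum,
      ← Equiv.sum_comp (Equiv.mulLeft r) (fun t => (x.2 : AQ G → ℤ) (r⁻¹ * t) • cls (fset q t)),
      add_assoc, ← Finset.sum_add_distrib]
    congr 1
    simp only [Equiv.coe_mulLeft, inv_mul_cancel_left, map_zsmul, ← smul_add, cocycle]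
    simp only [smul_add, Finset.sum_add_distrib, ← Finset.sum_smul]
    rw [show ∑ t, (x.2 : AQ G → ℤ) t = 0 from x.2.2, zero_smul, zero_add]
  · show (x.2 : AQ G → ℤ) ((q * r)⁻¹ * t) = (x.2 : AQ G → ℤ) (r⁻¹ * (q⁻¹ * t))
    rw [mul_inv_rev, mul_assoc]

/-- The representation of the quotient. -/
noncomputable def rep (G : Type*) [Group G] [Fintype (AQ G)] :
    AQ G →* AddMonoid.End (EB G) where
  toFun := trans
  map_one' := trans_one
  map_mul' q r := AddMonoidHom.ext fun x => trans_mul q r x

/-- The group ring of the quotient. -/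
abbrev ZQ (G : Type*) [Group G] := MonoidAlgebra ℤ (AQ G)

noncomputable instance ebModule : Module (ZQ G) (EB G) :=
  Module.compHom (EB G) (MonoidAlgebra.lift ℤ (AddMonoid.End (EB G)) (AQ G) (rep G)).toRingHom

theorem single_smul (q : AQ G) (n : ℤ) (x : EB G) :
    (MonoidAlgebra.single q n : ZQ G) • x = n • trans q x := by
  show (MonoidAlgebra.lift ℤ (AddMonoid.End (EB G)) (AQ G) (rep G)
    (MonoidAlgebra.single q n)) x = n • trans q x
  rw [MonoidAlgebra.lift_single]
  rfl

/-- The crossed homomorphism. -/
noncomputable def del (g : G) : EB G :=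
  (cls (disp g), ⟨fun t => (if t = Abelianization.of g then 1 else 0) - (if t = 1 then 1 else 0), by
    classical
    show ∑ t : AQ G, ((if t = Abelianization.of g then (1 : ℤ) else 0) - (if t = 1 then 1 else 0)) = 0
    simp [Finset.sum_sub_distrib]⟩)

theorem trans_del_fst (q : AQ G) (g : G) : (trans q (del g)).1 =
    cls ⟨sec q * g * (sec (q * Abelianization.of g))⁻¹,
      (mem_iff _).2 (by rw [map_mul, map_mul, map_inv, of_sec, of_sec, mul_inv_cancel])⟩ := by
  classical
  show act (sec q) (cls (disp g)) +
    ∑ r, ((if r = Abelianization.of g then (1 : ℤ) else 0) - (if r = 1 then 1 else 0)) • cls (fset q r) = _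
  simp only [sub_smul, ite_smul, one_smul, zero_smul, Finset.sum_sub_distrib, Finset.sum_ite_eq',
    Finset.mem_univ, if_true, fset_one_right, sub_zero]
  rw [act_cls, ← cls_mul]
  refine congrArg cls (Subtype.ext ?_)
  simp [cj, fset, disp, mul_assoc]

theorem del_mul (g h : G) : del (g * h) = del g + trans (Abelianization.of g) (del h) := by
  refine Prod.ext ?_ (Subtype.ext (funext fun t => ?_))
  · rw [Prod.fst_add, trans_del_fst]
    show cls (disp (g * h)) = cls (disp g) + _
    rw [← cls_mul]
    refine congrArg cls (Subtype.ext ?_)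
    simp [disp, mul_assoc]
  · show (if t = Abelianization.of (g * h) then (1 : ℤ) else 0) - (if t = 1 then 1 else 0) =
      ((if t = Abelianization.of g then (1 : ℤ) else 0) - (if t = 1 then 1 else 0)) +
      ((if (Abelianization.of g)⁻¹ * t = Abelianization.of h then (1 : ℤ) else 0) -
        (if (Abelianization.of g)⁻¹ * t = 1 then 1 else 0))
    simp only [inv_mul_eq_iff_eq_mul, map_mul, mul_one]
    ring

/-- The augmentation. -/
noncomputable def eps (G : Type*) [Group G] : ZQ G →+* ℤ :=
  (MonoidAlgebra.lift ℤ ℤ (AQ G) 1).toRingHom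

omit [Fintype (AQ G)] in
theorem eps_single (q : AQ G) (n : ℤ) : eps G (MonoidAlgebra.single q n) = n := by
  simp [eps, MonoidAlgebra.lift_single]

variable [Fintype G]

/-- The elements `∑ i g • δ g` with all `i g` in the augmentation ideal. -/
noncomputable def augSpan (G : Type*) [Group G] [Fintype (AQ G)] [Fintype G] :
    AddSubgroup (EB G) where
  carrier := {b | ∃ i : G → ZQ G, (∀ g, eps G (i g) = 0) ∧ ∑ g, i g • del g = b}
  add_mem' := by
    rintro _ _ ⟨i, hi, rfl⟩ ⟨j, hj, rfl⟩
    exact ⟨i + j, fun g => by rw [Pi.add_apply, map_add, hi, hj, add_zero],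
      by simp only [Pi.add_apply, add_smul, Finset.sum_add_distrib]⟩
  zero_mem' := ⟨0, fun g => map_zero _, by simp⟩
  neg_mem' := by
    rintro _ ⟨i, hi, rfl⟩
    exact ⟨-i, fun g => by rw [Pi.neg_apply, map_neg, hi, neg_zero],
      by simp only [Pi.neg_apply, neg_smul, Finset.sum_neg_distrib]⟩

/-- `δ` is a homomorphism modulo the augmentation span. -/
noncomputable def delBar : G →* Multiplicative (EB G ⧸ augSpan G) :=
  MonoidHom.mk' (fun g => Multiplicative.ofAdd (QuotientAddGroup.mk (del g))) fun g h => by
    classical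
    rw [← ofAdd_add, ← QuotientAddGroup.mk_add]
    refine congrArg Multiplicative.ofAdd ((QuotientAddGroup.eq).2 ?_)
    refine ⟨Pi.single h (1 - MonoidAlgebra.single (Abelianization.of g) 1), fun x => ?_, ?_⟩
    · by_cases hx : x = h
      · subst hx; rw [Pi.single_eq_same, map_sub, map_one, eps_single, sub_self]
      · rw [Pi.single_eq_of_ne hx, map_zero]
    · rw [Finset.sum_eq_single h (fun x _ hx => by rw [Pi.single_eq_of_ne hx, zero_smul])
        (by simp), Pi.single_eq_same, sub_smul, one_smul, single_smul, one_smul, del_mul]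
      abel

set_option maxHeartbeats 1000000 in
theorem sum_trans_del_eq_zero (g : G) : ∑ q : AQ G, trans q (del g) = 0 := by
  classical
  -- the lattice of relations
  let ψ : (G → ℤ) →+ Additive (AQ G) :=
    { toFun := fun v => ∑ x, v x • Additive.ofMul (Abelianization.of x)
      map_zero' := by simp
      map_add' := fun v w => by simp [add_smul, Finset.sum_add_distrib] }
  have hψ : Function.Surjective ψ := fun a => by
    obtain ⟨x, hx⟩ := QuotientGroup.mk_surjective (Additive.toMul a)
    refine ⟨Pi.single x 1, ?_⟩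
    show ∑ y, (Pi.single x 1 : G → ℤ) y • Additive.ofMul (Abelianization.of y) = a
    rw [Finset.sum_eq_single x (fun y _ hy => by rw [Pi.single_eq_of_ne hy, zero_smul]) (by simp),
      Pi.single_eq_same, one_smul]
    exact hx
  set L := ψ.ker with hL
  have hidx : L.index = Nat.card (AQ G) := by
    rw [AddSubgroup.index_eq_card, Nat.card_congr
      (QuotientAddGroup.quotientKerEquivOfSurjective ψ hψ).toEquiv]
    exact Nat.card_congr Additive.toMul
  have hn0 : Nat.card (AQ G) ≠ 0 := Nat.card_pos.ne'
  have hrank : Module.finrank ℤ L.toIntSubmodule = Fintype.card G := by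
    refine le_antisymm (le_of_le_of_eq (Submodule.finrank_le _) (by simp)) ?_
    let m : (G → ℤ) →ₗ[ℤ] L.toIntSubmodule :=
      LinearMap.codRestrict _ ((Nat.card (AQ G) : ℤ) • LinearMap.id) fun v => by
        show ψ ((Nat.card (AQ G) : ℤ) • v) = 0
        rw [map_zsmul, natCast_zsmul, ← Nat.card_congr (Additive.toMul : Additive (AQ G) ≃ AQ G)]
        exact card_nsmul_eq_zero'
    have hm : Function.Injective m := fun v w h => by
      have h2 := congrArg Subtype.val h
      change (Nat.card (AQ G) : ℤ) • v = (Nat.card (AQ G) : ℤ) • w at h2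
      exact smul_right_injective (G → ℤ) (by exact_mod_cast hn0) h2
    have := LinearMap.finrank_le_finrank_of_injective hm
    rwa [Module.finrank_fintype_fun_eq_card] at this
  let bN : Module.Basis G ℤ L.toIntSubmodule :=
    (Module.finBasisOfFinrankEq ℤ L.toIntSubmodule hrank).reindex (Fintype.equivFin G).symm
  have hdet := AddSubgroup.index_eq_natAbs_det (Pi.basisFun ℤ G) L bN
  rw [hidx] at hdet
  -- the relations
  have hrel : ∀ v : L, ∃ i : G → ZQ G, (∀ x, eps G (i x) = 0) ∧
      ∑ x, i x • del x = ∑ x, (v : G → ℤ) x • del x := fun v => by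
    have h0 : ∑ x, (v : G → ℤ) x • (QuotientAddGroup.mk (del x) : EB G ⧸ augSpan G) = 0 := by
      let Λ : Additive (AQ G) →+ (EB G ⧸ augSpan G) :=
        MonoidHom.toAdditiveLeft (Abelianization.lift (delBar (G := G)))
      have h2 : Λ (ψ v) = ∑ x, (v : G → ℤ) x • (QuotientAddGroup.mk (del x) : EB G ⧸ augSpan G) := by
        show Λ (∑ x, (v : G → ℤ) x • Additive.ofMul (Abelianization.of x)) = _
        rw [map_sum]
        exact Finset.sum_congr rfl fun x _ => by
          rw [map_zsmul]
          rfl
      rw [← h2, show ψ v = 0 from v.2, map_zero]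
    have h3 : ∑ x, (v : G → ℤ) x • del x ∈ augSpan G :=
      (QuotientAddGroup.eq_zero_iff _).1 (by
        rw [← h0]
        exact (map_sum (QuotientAddGroup.mk' (augSpan G)) _ _).trans
          (Finset.sum_congr rfl fun x _ => map_zsmul (QuotientAddGroup.mk' (augSpan G)) _ _))
    exact h3
  choose i hi hi' using hrel
  let A : Matrix G G (ZQ G) :=
    Matrix.of fun r x => (((bN r : L.toIntSubmodule) : G → ℤ) x : ZQ G) - i (bN r) x
  have hA : ∀ r, ∑ x, A r x • del x = 0 := fun r => by
    simp only [A, Matrix.of_apply, sub_smul, Finset.sum_sub_distrib]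
    rw [hi' (bN r), sub_eq_zero]
    exact Finset.sum_congr rfl fun x _ => Int.cast_smul_eq_zsmul _ _ _
  have hkill : ∀ x, A.det • del x = 0 := fun x => by
    have h1 : ∑ r, A.adjugate x r • ∑ y, A r y • del y = 0 := by simp [hA]
    simp only [Finset.smul_sum, smul_smul] at h1
    rw [Finset.sum_comm] at h1
    simp only [← Finset.sum_smul] at h1
    have h2 : ∀ y, ∑ r, A.adjugate x r * A r y = (if x = y then A.det else 0) := fun y => by
      rw [← Matrix.mul_apply, Matrix.adjugate_mul, Matrix.smul_apply, Matrix.one_apply,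
        smul_eq_mul, mul_ite, mul_one, mul_zero]
    simpa [h2, ite_smul] using h1
  -- the determinant is the norm element up to sign
  have heps : (eps G A.det).natAbs = Nat.card (AQ G) := by
    rw [RingHom.map_det, hdet, Module.Basis.det_apply]
    have : (eps G).mapMatrix A =
        (Module.Basis.toMatrix (Pi.basisFun ℤ G) fun r => ((bN r : L.toIntSubmodule) : G → ℤ)).transpose := by
      ext r x
      simp [A, Module.Basis.toMatrix_apply]
      exact hi (bN r) x
    rw [this, Matrix.det_transpose]
    rfl
  have hsnd : ∀ (a : ZQ G) (x : G) (t : AQ G), ((a • del x).2 : AQ G → ℤ) t =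
      a.coeff (t * (Abelianization.of x)⁻¹) - a.coeff t := fun a x t => by
    induction a using MonoidAlgebra.induction_linear with
    | zero => simp
    | add a b ha hb =>
      rw [add_smul, Prod.snd_add, AddSubgroup.coe_add, Pi.add_apply, ha, hb]
      simp only [MonoidAlgebra.coeff_add, Finsupp.add_apply]
      ring
    | single q n =>
      rw [single_smul, Prod.smul_snd, AddSubgroup.coe_zsmul, Pi.smul_apply]
      show n • ((if q⁻¹ * t = Abelianization.of x then (1 : ℤ) else 0) -
        (if q⁻¹ * t = 1 then 1 else 0)) = _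
      simp only [MonoidAlgebra.coeff_single, Finsupp.single_apply, inv_mul_eq_iff_eq_mul, mul_one, smul_eq_mul, mul_sub,
        mul_ite, mul_one, mul_zero, eq_mul_inv_iff_mul_eq, eq_comm]
  have hconst : ∀ t, A.det.coeff t = A.det.coeff 1 := fun t => by
    obtain ⟨x, hx⟩ := QuotientGroup.mk_surjective t
    have h := hsnd A.det x t
    rw [hkill x] at h
    simp only [show Abelianization.of x = t from hx, mul_inv_cancel, Prod.snd_zero,
      AddSubgroup.coe_zero, Pi.zero_apply] at h
    omega
  have hform : A.det = ∑ q : AQ G, MonoidAlgebra.single q (A.det.coeff 1) := by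
    ext t
    rw [hconst t]
    simp [Finsupp.finsetSum_apply]
  have hk : A.det.coeff 1 ≠ 0 := fun h0 => by
    rw [hform, map_sum] at heps
    simp [h0] at heps
    exact hn0 (by rw [Nat.card_eq_fintype_card]; exact heps.symm)
  have hunit : IsUnit (A.det.coeff 1) := by
    rw [Int.isUnit_iff_natAbs_eq]
    rw [hform, map_sum] at heps
    simp only [eps_single, Finset.sum_const, Finset.card_univ, nsmul_eq_mul, Int.natAbs_mul,
      Int.natAbs_natCast, ← Nat.card_eq_fintype_card] at heps
    exact (Nat.mul_eq_left hn0).1 heps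
  have h := hkill g
  rw [hform, Finset.sum_smul] at h
  simp only [single_smul, ← Finset.smul_sum] at h
  rcases Int.isUnit_iff.1 hunit with e | e
  · rwa [e, one_smul] at h
  · rwa [e, neg_one_smul, neg_eq_zero] at h

omit [Fintype (AQ G)] [Fintype G] in
/-- The principal ideal theorem. -/
theorem transfer_eq_one [Finite G] :
    MonoidHom.transfer (Abelianization.of : ↥(commutator G) →* Abelianization ↥(commutator G)) =
      (1 : G →* Abelianization ↥(commutator G)) := by
  classical
  haveI : Fintype G := Fintype.ofFinite G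
  letI : Fintype (AQ G) := Fintype.ofFinite _
  refine MonoidHom.ext fun g => ?_
  let t : G ⧸ commutator G → G := fun q => (sec (G := G) ((show AQ G from q))⁻¹)⁻¹
  have ht : ∀ q, (QuotientGroup.mk (t q) : G ⧸ commutator G) = q := fun q => by
    show Abelianization.of (sec (G := G) ((show AQ G from q))⁻¹)⁻¹ = (show AQ G from q)
    rw [map_inv, of_sec, inv_inv]
  let T : (commutator G).LeftTransversal :=
    ⟨Set.range t, Subgroup.isComplement_range_left ht⟩
  rw [MonoidHom.transfer_def _ T, MonoidHom.one_apply]
  apply Additive.ofMul.injective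
  have h := congrArg Prod.fst (sum_trans_del_eq_zero g)
  rw [Prod.fst_sum, Prod.fst_zero] at h
  rw [ofMul_one, ← h]
  simp only [Subgroup.leftTransversals.diff, ofMul_prod]
  let e : (G ⧸ commutator G) ≃ AQ G := Equiv.inv (AQ G)

  refine Finset.sum_equiv e (by simp) fun q _ => ?_
  rw [trans_del_fst]
  show cls _ = cls _
  refine congrArg cls (Subtype.ext ?_)
  show ((T.2.leftQuotientEquiv q : G))⁻¹ * ((g • T).2.leftQuotientEquiv q : G) =
    sec (show AQ G from q)⁻¹ * g * (sec ((show AQ G from q)⁻¹ * Abelianization.of g))⁻¹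
  rw [Subgroup.smul_apply_eq_smul_apply_inv_smul]
  simp only [T, Subgroup.IsComplement.leftQuotientEquiv_apply ht, smul_eq_mul, t, inv_inv]
  induction q using QuotientGroup.induction_on with
  | _ x =>
    show sec (Abelianization.of x)⁻¹ * (g * (sec (Abelianization.of (g⁻¹ * x))⁻¹)⁻¹) = _
    rw [map_mul, map_inv, mul_inv_rev, inv_inv, ← mul_assoc]
    rfl

end CfsgLib.FgsC.PIT
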