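import Mathlib

/-! A redundant Sylow `p`-subgroup of `GL_p(q)` when `p ∥ q - 1`. -/

set_option autoImplicit false
set_option linter.unusedSectionVars false

namespace Cfsg.FgsC.RedundantGL

open Matrix

variable {F : Type*} [Field F] {p : ℕ} [Fact p.Prime]

/-- The monomial matrix with entries `d i` at `(i, i - k)`. -/
def mon (d : ZMod p → F) (k : ZMod p) : Matrix (ZMod p) (ZMod p) F :=
  Matrix.of fun i j => if j + k = i then d i else 0

theorem mon_apply (d : ZMod p → F) (k i j : ZMod p) :
    mon d k i j = if j + k = i then d i else 0 := rfl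

theorem mon_mul (d e : ZMod p → F) (k l : ZMod p) :
    mon d k * mon e l = mon (fun i => d i * e (i - k)) (l + k) := by
  ext i j
  rw [Matrix.mul_apply, Finset.sum_eq_single (i - k)]
  · simp only [mon_apply, sub_add_cancel, if_true]
    by_cases h : j + l = i - k
    · rw [if_pos h, if_pos (by linear_combination h)]
    · rw [if_neg h, mul_zero, if_neg (fun h' => h (by linear_combination h'))]
  · intro m _ hm
    rw [mon_apply d, if_neg (fun h => hm (by linear_combination h)), zero_mul]
  · intro h; exact absurd (Finset.mem_univ _) h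

theorem mon_one : mon (fun _ : ZMod p => (1 : F)) 0 = 1 := by
  ext i j
  rw [mon_apply, add_zero, Matrix.one_apply]
  by_cases h : j = i
  · rw [if_pos h, if_pos h.symm]
  · rw [if_neg h, if_neg (Ne.symm h)]

theorem mon_inj {d e : ZMod p → F} {k l : ZMod p} (hd : ∀ i, d i ≠ 0)
    (h : mon d k = mon e l) : k = l ∧ d = e := by
  have hkl : k = l := by
    by_contra hne
    have h1 := congrFun (congrFun h k) 0
    rw [mon_apply, mon_apply, if_pos (zero_add k), if_neg (by rw [zero_add]; exact Ne.symm hne)] at h1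
    exact hd k h1
  subst hkl
  refine ⟨rfl, funext fun i => ?_⟩
  have h1 := congrFun (congrFun h i) (i - k)
  rwa [mon_apply, mon_apply, if_pos (sub_add_cancel i k), if_pos (sub_add_cancel i k)] at h1

variable {ω : F}

theorem root_ne_zero {x : F} (hx : x ^ p = 1) : x ≠ 0 := fun h => by
  rw [h, zero_pow (Fact.out : p.Prime).ne_zero] at hx
  exact zero_ne_one hx

theorem val_mon (d : ZMod p → F) (k : ZMod p) (hd : ∀ i, d i ^ p = 1) :
    mon d k * mon (fun i => (d (i + k))⁻¹) (-k) = 1 ∧ mon (fun i => (d (i + k))⁻¹) (-k) * mon d k = 1 := by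
  constructor
  · rw [mon_mul, neg_add_cancel, ← mon_one]
    congr 1
    funext i
    rw [sub_add_cancel, mul_inv_cancel₀ (root_ne_zero (hd i))]
  · rw [mon_mul, add_neg_cancel, ← mon_one]
    congr 1
    funext i
    rw [sub_neg_eq_add, inv_mul_cancel₀ (root_ne_zero (hd _))]

/-- The monomial subgroup. -/
def Q : Subgroup (GL (ZMod p) F) where
  carrier := {g | ∃ d : ZMod p → F, ∃ k : ZMod p, (∀ i, d i ^ p = 1) ∧
    (g : Matrix (ZMod p) (ZMod p) F) = mon d k}
  one_mem' := ⟨fun _ => 1, 0, fun _ => one_pow p, by rw [mon_one]; rfl⟩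
  mul_mem' := by
    rintro a b ⟨d, k, hd, ha⟩ ⟨e, l, he, hb⟩
    exact ⟨fun i => d i * e (i - k), l + k, fun i => by rw [mul_pow, hd, he, one_mul], by
      rw [Units.val_mul, ha, hb, mon_mul]⟩
  inv_mem' := by
    rintro a ⟨d, k, hd, ha⟩
    refine ⟨fun i => (d (i + k))⁻¹, -k, fun i => by rw [inv_pow, hd, inv_one], ?_⟩
    calc ((a⁻¹ : GL (ZMod p) F) : Matrix (ZMod p) (ZMod p) F)
        = (a⁻¹ : GL (ZMod p) F).val * (mon d k * mon (fun i => (d (i + k))⁻¹) (-k)) := by
          rw [(val_mon d k hd).1, mul_one]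
      _ = _ := by rw [← mul_assoc, ← ha, Units.inv_mul, one_mul]

/-- The element of `Q` with data `(d, k)`. -/
def el (d : ZMod p → F) (k : ZMod p) (hd : ∀ i, d i ^ p = 1) : GL (ZMod p) F :=
  ⟨mon d k, _, (val_mon d k hd).1, (val_mon d k hd).2⟩

theorem el_mem (d : ZMod p → F) (k : ZMod p) (hd : ∀ i, d i ^ p = 1) : el d k hd ∈ Q :=
  ⟨d, k, hd, rfl⟩

variable [Fintype F]

theorem omega_pow (hω : IsPrimitiveRoot ω p) (i : ℕ) : (ω ^ i) ^ p = 1 := by
  rw [← pow_mul, mul_comm, pow_mul, hω.pow_eq_one, one_pow]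

theorem exists_exp (hω : IsPrimitiveRoot ω p) {d : ZMod p → F} (hd : ∀ i, d i ^ p = 1) :
    ∃ e : ZMod p → ZMod p, d = fun i => ω ^ (e i).val := by
  choose n hn hn' using fun i => hω.eq_pow_of_pow_eq_one (hd i)
  exact ⟨fun i => (n i : ZMod p), funext fun i => by rw [ZMod.val_natCast_of_lt (hn i)]; exact (hn' i).symm⟩

theorem card_Q (hω : IsPrimitiveRoot ω p) : Nat.card (Q (F := F) (p := p)) = p ^ (p + 1) := by
  let f : (ZMod p → ZMod p) × ZMod p → Q (F := F) (p := p) := fun x =>
    ⟨el (fun i => ω ^ (x.1 i).val) x.2 fun i => omega_pow hω _, el_mem _ _ _⟩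
  have hf : Function.Bijective f := by
    constructor
    · rintro ⟨e, k⟩ ⟨e', k'⟩ h
      have h' : mon (fun i => ω ^ (e i).val) k = mon (fun i => ω ^ (e' i).val) k' :=
        congrArg (fun g => ((g : Q (F := F) (p := p)) : GL (ZMod p) F).val) h
      obtain ⟨hk, he⟩ := mon_inj (fun i => pow_ne_zero _ (hω.ne_zero (Fact.out : p.Prime).ne_zero)) h'
      refine Prod.ext (funext fun i => ZMod.val_injective p ?_) hk
      exact hω.pow_inj (ZMod.val_lt _) (ZMod.val_lt _) (congrFun he i)
    · rintro ⟨g, d, k, hd, hg⟩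
      obtain ⟨e, rfl⟩ := exists_exp hω hd
      exact ⟨(e, k), Subtype.ext (Units.ext hg.symm)⟩
  rw [← Nat.card_congr (Equiv.ofBijective f hf), Nat.card_prod, Nat.card_fun, Nat.card_zmod, pow_succ]

theorem factorization_card (hp : p ≠ 2) (h1 : p ∣ Fintype.card F - 1)
    (h2 : ¬ p ^ 2 ∣ Fintype.card F - 1) :
    (Nat.card (GL (ZMod p) F)).factorization p = p + 1 := by
  have hpp : p.Prime := Fact.out
  set q := Fintype.card F with hq
  have hq2 : 1 < q := Fintype.one_lt_card
  have hcop : ¬ p ∣ q := fun h => hpp.not_dvd_one ((Nat.dvd_sub h h1).trans (dvd_of_eq (by omega)))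
  have hv1 : (q - 1).factorization p = 1 := by
    have a : 1 ≤ (q - 1).factorization p := (hpp.dvd_iff_one_le_factorization (by omega)).1 h1
    have b : ¬ 2 ≤ (q - 1).factorization p := fun h =>
      h2 ((hpp.pow_dvd_iff_le_factorization (by omega)).2 h)
    omega
  have he : Nat.card (GL (ZMod p) F) = Nat.card (GL (Fin p) F) := by
    refine Nat.card_congr (Units.mapEquiv (Matrix.reindexAlgEquiv F F (ZMod.finEquiv p).symm.toEquiv).toMulEquiv).toEquiv
  rw [he, Matrix.card_GL_field, ← hq]
  have hne : ∀ i : Fin p, q ^ p - q ^ (i : ℕ) ≠ 0 := fun i =>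
    Nat.sub_ne_zero_of_lt (Nat.pow_lt_pow_right hq2 i.2)
  rw [Nat.factorization_prod_apply (fun i _ => hne i)]
  have hterm : ∀ i : Fin p, (q ^ p - q ^ (i : ℕ)).factorization p = 1 + if (i : ℕ) = 0 then 1 else 0 := by
    intro i
    have hj : p - (i : ℕ) ≠ 0 := Nat.sub_ne_zero_of_lt i.2
    have hfac : q ^ p - q ^ (i : ℕ) = q ^ (i : ℕ) * (q ^ (p - i) - 1) := by
      rw [Nat.mul_sub, mul_one, ← pow_add, Nat.add_sub_cancel' i.2.le]
    have hpo : Odd p := hpp.odd_of_ne_two hp
    have hl : (q ^ (p - (i : ℕ)) - 1).factorization p = 1 + (p - (i : ℕ)).factorization p := by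
      have := padicValNat.pow_sub_pow (p := p) (x := q) (y := 1) hpo hq2 h1 hcop hj
      rw [one_pow] at this
      rw [Nat.factorization_def _ hpp, Nat.factorization_def _ hpp, this,
        ← Nat.factorization_def _ hpp, hv1]
    rw [hfac, Nat.factorization_mul (pow_ne_zero _ (by omega))
      (Nat.sub_ne_zero_of_lt (Nat.one_lt_pow hj hq2)), Finsupp.add_apply, hl,
      Nat.factorization_eq_zero_of_not_dvd (fun h => hcop (hpp.dvd_of_dvd_pow h)), zero_add]
    congr 1
    split_ifs with h
    · rw [h, Nat.sub_zero, hpp.factorization_self]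
    · exact Nat.factorization_eq_zero_of_lt (Nat.sub_lt hpp.pos (Nat.pos_of_ne_zero h))
  rw [Finset.sum_congr rfl (fun i _ => hterm i), Finset.sum_add_distrib]
  simp only [Finset.sum_const, Finset.card_univ, Fintype.card_fin, smul_eq_mul, mul_one]
  rw [Finset.sum_eq_single (⟨0, hpp.pos⟩ : Fin p) (fun b _ hb => if_neg fun h => hb (Fin.ext h))
    (fun h => absurd (Finset.mem_univ _) h), if_pos rfl]

/-- An element of `Q` off the diagonal has centralizer of order at most `p²` in `Q`. -/
theorem not_many_commuting (hω : IsPrimitiveRoot ω p) (hp : p ≠ 2) {d : ZMod p → F} {k : ZMod p}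
    (hd : ∀ i, d i ^ p = 1) (hk : k ≠ 0) (φ : (ZMod p → ZMod p) → Q (F := F) (p := p))
    (hφ : Function.Injective φ) :
    ∃ e, (φ e : GL (ZMod p) F).val * mon d k ≠ mon d k * (φ e : GL (ZMod p) F).val := by
  by_contra hc
  push_neg at hc
  choose D L hD hg using fun e => (φ e).2
  obtain ⟨E, hE⟩ : ∃ E : (ZMod p → ZMod p) → ZMod p, ∀ e, D e 0 = ω ^ (E e).val := by
    refine ⟨fun e => (exists_exp hω (hD e)).choose 0, fun e => ?_⟩
    exact congrFun (exists_exp hω (hD e)).choose_spec 0
  have hinj : Function.Injective fun e => (E e, L e) := by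
    intro e e' h
    simp only [Prod.mk.injEq] at h
    apply hφ
    apply Subtype.ext; apply Units.ext
    rw [hg, hg, h.2]
    congr 1
    have step : ∀ e i, D e i * d (i - L e) = d i * D e (i - k) := by
      intro e i
      have := hc e
      rw [hg, mon_mul, mon_mul] at this
      exact congrFun (mon_inj (fun i => mul_ne_zero (root_ne_zero (hD e i)) (root_ne_zero (hd _))) this).2 i
    have hm : ∀ m : ℕ, D e (-((m : ZMod p) * k)) = D e' (-((m : ZMod p) * k)) := by
      intro m
      induction m with
      | zero => simp [hE, h.1]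
      | succ m ih =>
        have h1 := step e (-((m : ZMod p) * k))
        have h2 := step e' (-((m : ZMod p) * k))
        rw [ih, h.2] at h1
        have h3 := mul_left_cancel₀ (root_ne_zero (hd _)) (h1.symm.trans h2)
        rwa [show -((m : ZMod p) * k) - k = -(((m + 1 : ℕ) : ZMod p) * k) by push_cast; ring] at h3
    funext i
    have := hm (-i / k).val
    rwa [ZMod.natCast_zmod_val, div_mul_cancel₀ _ hk, neg_neg] at this
  have hle := Fintype.card_le_of_injective _ hinj
  rw [Fintype.card_fun, Fintype.card_prod, ZMod.card] at hle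
  have hp3 : 3 ≤ p := by have := (Fact.out : p.Prime).two_le; omega
  have : p * p < p ^ p := by
    rw [← pow_two]; exact Nat.pow_lt_pow_right (Fact.out : p.Prime).one_lt hp3
  omega

/-- The normalizer of `Q` consists of monomial matrices. -/
theorem monomial_of_mem_normalizer (hω : IsPrimitiveRoot ω p) (hp : p ≠ 2) {g : GL (ZMod p) F}
    (hg : g ∈ Subgroup.normalizer ((Q : Subgroup (GL (ZMod p) F)) : Set (GL (ZMod p) F)))
    {i i' j : ZMod p} (h1 : g.val i j ≠ 0) (h2 : g.val i' j ≠ 0) : i = i' := by
  by_contra hne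
  have hgi := Subgroup.inv_mem _ hg
  have hconj : ∀ x ∈ Q (F := F) (p := p), g⁻¹ * x * g ∈ Q := fun x hx => by
    have := (Subgroup.mem_normalizer_iff.1 hgi x).1 hx
    rwa [inv_inv] at this
  let diag : (ZMod p → ZMod p) → GL (ZMod p) F := fun e =>
    el (fun i => ω ^ (e i).val) 0 fun i => omega_pow hω _
  let e₀ : ZMod p → ZMod p := fun m => if m = i then 1 else 0
  obtain ⟨d', k', hd', hy⟩ := hconj _ (el_mem (fun m => ω ^ (e₀ m).val) 0 fun m => omega_pow hω _)
  have hk' : k' = 0 := by
    by_contra hk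
    obtain ⟨e, he⟩ := not_many_commuting hω hp hd' hk
      (fun e => ⟨g⁻¹ * diag e * g, hconj _ (el_mem _ _ _)⟩) (fun e e' h => by
        have h' : g⁻¹ * diag e * g = g⁻¹ * diag e' * g := congrArg Subtype.val h
        have h'' : diag e = diag e' := mul_left_cancel (mul_right_cancel h')
        obtain ⟨-, he⟩ := mon_inj (fun i => pow_ne_zero _ (hω.ne_zero (Fact.out : p.Prime).ne_zero))
          (congrArg Units.val h'')
        funext m
        exact ZMod.val_injective p (hω.pow_inj (ZMod.val_lt _) (ZMod.val_lt _) (congrFun he m)))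
    apply he
    rw [← hy, ← Units.val_mul, ← Units.val_mul]
    congr 1
    have hcomm : diag e * diag e₀ = diag e₀ * diag e := by
      apply Units.ext
      show mon _ _ * mon _ _ = mon _ _ * mon _ _
      rw [mon_mul, mon_mul]
      congr 1
      funext m; simp [mul_comm]
    change g⁻¹ * diag e * g * (g⁻¹ * diag e₀ * g) = g⁻¹ * diag e₀ * g * (g⁻¹ * diag e * g)
    simp only [mul_assoc, mul_inv_cancel_left]
    rw [← mul_assoc (diag e), hcomm, mul_assoc]
  subst hk'
  have heq : mon (fun m => ω ^ (e₀ m).val) 0 * g.val = g.val * mon d' 0 := by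
    rw [← hy, ← Units.val_mul]
    show ((el (fun m => ω ^ (e₀ m).val) 0 fun m => omega_pow hω _) * g).val = _
    congr 1
    group
  have hent : ∀ m, ω ^ (e₀ m).val * g.val m j = g.val m j * d' j := by
    intro m
    have h := congrFun (congrFun heq m) j
    rw [Matrix.mul_apply, Matrix.mul_apply, Finset.sum_eq_single m, Finset.sum_eq_single j] at h
    · simpa [mon_apply] using h
    · intro b _ hb; rw [mon_apply, if_neg (by simpa using Ne.symm hb), mul_zero]
    · intro h; exact absurd (Finset.mem_univ _) h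
    · intro b _ hb; rw [mon_apply, if_neg (by simpa using hb), zero_mul]
    · intro h; exact absurd (Finset.mem_univ _) h
  have a := hent i
  have b := hent i'
  rw [mul_comm (g.val i j)] at a
  rw [mul_comm (g.val i' j)] at b
  have ha := mul_right_cancel₀ h1 a
  have hb := mul_right_cancel₀ h2 b
  rw [← hb] at ha
  simp only [e₀, if_pos, if_neg (Ne.symm hne), ZMod.val_one, ZMod.val_zero, pow_one, pow_zero] at ha
  exact hω.ne_one (Fact.out : p.Prime).one_lt ha

theorem mon_pow (d : ZMod p → F) (k : ZMod p) (m : ℕ) :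
    mon d k ^ m = mon (fun i => ∏ j ∈ Finset.range m, d (i - (j : ZMod p) * k)) ((m : ZMod p) * k) := by
  induction m with
  | zero => simp [mon_one]
  | succ m ih =>
    rw [pow_succ, ih, mon_mul]
    congr 1
    · funext i; rw [Finset.prod_range_succ]
    · push_cast; ring

theorem mon_pow_p {d : ZMod p → F} {k : ZMod p} (hk : k ≠ 0) :
    mon d k ^ p = (∏ i, d i) • (1 : Matrix (ZMod p) (ZMod p) F) := by
  have hprod : ∀ i, ∏ j ∈ Finset.range p, d (i - (j : ZMod p) * k) = ∏ i, d i := by
    intro i
    refine Finset.prod_nbij' (fun j : ℕ => i - (j : ZMod p) * k) (fun x => ((i - x) / k).val)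
      (fun _ _ => Finset.mem_univ _) (fun x _ => Finset.mem_range.2 (ZMod.val_lt _)) ?_ ?_ (fun _ _ => rfl)
    · intro j hj
      simp only [sub_sub_cancel, mul_div_assoc, div_self hk, mul_one]
      exact ZMod.val_natCast_of_lt (Finset.mem_range.1 hj)
    · intro x _
      simp only [ZMod.natCast_zmod_val, div_mul_cancel₀ _ hk, sub_sub_cancel]
  rw [mon_pow, ZMod.natCast_self, zero_mul]
  ext a b
  rw [mon_apply, add_zero, Matrix.smul_apply, Matrix.one_apply, hprod]
  by_cases h : b = a
  · rw [if_pos h, if_pos h.symm, smul_eq_mul, mul_one]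
  · rw [if_neg h, if_neg (Ne.symm h), smul_zero]

theorem exists_outside (hω : IsPrimitiveRoot ω p) (hp : p ≠ 2) {x : GL (ZMod p) F} (hx : x ∈ Q) :
    ∃ g, g ∉ Subgroup.normalizer ((Q : Subgroup (GL (ZMod p) F)) : Set (GL (ZMod p) F)) ∧
      g⁻¹ * x * g ∈ Q := by
  obtain ⟨d, k, hd, hxv⟩ := hx
  have hpp : p.Prime := Fact.out
  have hpF : (p : F) ≠ 0 := (hω.neZero').out
  -- a commuting element with two non-zero entries in one column
  have mk_u : ∀ u : GL (ZMod p) F, u.val * x.val = x.val * u.val → ∀ i i' j : ZMod p, i ≠ i' →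
      u.val i j ≠ 0 → u.val i' j ≠ 0 → ∃ g, g ∉ Subgroup.normalizer
        ((Q : Subgroup (GL (ZMod p) F)) : Set (GL (ZMod p) F)) ∧ g⁻¹ * x * g ∈ Q := by
    intro u hu i i' j hne h1 h2
    refine ⟨u, fun h => hne (monomial_of_mem_normalizer hω hp h h1 h2), ?_⟩
    have : u * x = x * u := Units.ext hu
    rw [mul_assoc, ← this, inv_mul_cancel_left]
    exact ⟨d, k, hd, hxv⟩
  by_cases hk : k = 0
  · subst hk
    by_cases hrep : ∃ i j, i ≠ j ∧ d i = d j
    · obtain ⟨i, j, hij, hdij⟩ := hrep
      let T : Matrix (ZMod p) (ZMod p) F := Matrix.single i j 1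
      have hTT : T * T = 0 := by simp [T, hij.symm]
      let u : GL (ZMod p) F := ⟨1 + T, 1 - T,
        by simp [mul_sub, add_mul, hTT], by simp [mul_add, sub_mul, hTT]⟩
      refine mk_u u ?_ i j j hij ?_ ?_
      · show (1 + T) * x.val = x.val * (1 + T)
        rw [hxv, add_mul, mul_add, one_mul, mul_one]
        congr 1
        ext a b
        rw [Matrix.mul_apply, Matrix.mul_apply, Finset.sum_eq_single b, Finset.sum_eq_single a]
        · simp only [T, mon_apply, add_zero, if_true, Matrix.single_apply]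
          split_ifs with h
          · obtain ⟨rfl, rfl⟩ := h; rw [one_mul, mul_one, hdij]
          · simp
        · intro c _ hc; rw [mon_apply, if_neg (by simpa using hc), zero_mul]
        · intro h; exact absurd (Finset.mem_univ _) h
        · intro c _ hc; rw [mon_apply, if_neg (by simpa using Ne.symm hc), mul_zero]
        · intro h; exact absurd (Finset.mem_univ _) h
      · show (1 + T) i j ≠ 0
        simp [T, hij]
      · show (1 + T) j j ≠ 0
        simp [T, Matrix.single_apply, hij]
    · push_neg at hrep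
      have hinj : Function.Injective d := fun a b h => by_contra fun hne => hrep a b hne h
      let f : Fin p ≃ ZMod p := (ZMod.finEquiv p).toEquiv
      let V : Matrix (ZMod p) (ZMod p) F :=
        (Matrix.vandermonde fun m => d (f m)).submatrix f.symm f.symm
      have hV : IsUnit V := by
        rw [Matrix.isUnit_iff_isUnit_det, Matrix.det_submatrix_equiv_self, isUnit_iff_ne_zero,
          Matrix.det_vandermonde_ne_zero_iff]
        exact hinj.comp f.injective
      have hval : ∀ a : ZMod p, ((f.symm a : Fin p) : ℕ) = a.val := by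
        intro a
        obtain ⟨n, rfl⟩ : ∃ n, p = n + 1 := ⟨p - 1, by have := hpp.pos; omega⟩
        rfl
      have hVa : ∀ a b, V a b = d a ^ b.val := by
        intro a b
        simp only [V, Matrix.submatrix_apply, Matrix.vandermonde_apply, Equiv.apply_symm_apply, hval]
      obtain ⟨g, hg⟩ := hV
      refine ⟨g, fun h => zero_ne_one (α := ZMod p)
        (monomial_of_mem_normalizer hω hp h (i := 0) (i' := 1) (j := 0) ?_ ?_), ?_⟩
      · rw [hg, hVa]; exact pow_ne_zero _ (root_ne_zero (hd _))
      · rw [hg, hVa]; exact pow_ne_zero _ (root_ne_zero (hd _))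
      · have hc : g⁻¹ * x * g = el (fun _ => 1) (-1) (fun _ => one_pow p) ∨
            g⁻¹ * x * g = el (fun _ => 1) 1 (fun _ => one_pow p) := by
          right
          rw [mul_assoc, inv_mul_eq_iff_eq_mul]
          apply Units.ext
          show x.val * g.val = g.val * mon (fun _ => 1) 1
          rw [hxv, hg]
          ext a b
          rw [Matrix.mul_apply, Matrix.mul_apply, Finset.sum_eq_single a,
            Finset.sum_eq_single (b + 1)]
          · simp only [mon_apply, add_zero, if_true, mul_one, hVa]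
            rw [← pow_succ']
            exact pow_eq_pow_of_modEq (by
              rw [ZMod.val_add, ZMod.val_one]; exact (Nat.mod_modEq _ _).symm) (hd a)
          · intro c _ hc; rw [mon_apply, if_neg (Ne.symm hc), mul_zero]
          · intro h; exact absurd (Finset.mem_univ _) h
          · intro c _ hc; rw [mon_apply, if_neg (by simpa using hc), zero_mul]
          · intro h; exact absurd (Finset.mem_univ _) h
        rcases hc with h | h <;> rw [h] <;> exact el_mem _ _ _
  · set c := ∏ i, d i with hcdef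
    have hcp : c ^ p = 1 := by rw [hcdef, ← Finset.prod_pow]; simp [hd]
    have hxp : x.val ^ p = c • (1 : Matrix (ZMod p) (ZMod p) F) := by rw [hxv, mon_pow_p hk]
    by_cases hc : c = 1
    · rw [hc, one_smul] at hxp
      let J : Matrix (ZMod p) (ZMod p) F := ∑ m ∈ Finset.range p, x.val ^ m
      have hxJ : x.val * J = J := by
        have h := mul_geom_sum x.val p
        rw [hxp, sub_self, sub_mul, one_mul] at h
        exact sub_eq_zero.1 h
      have hxmJ : ∀ m : ℕ, x.val ^ m * J = J := by
        intro m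
        induction m with
        | zero => rw [pow_zero, one_mul]
        | succ m ih => rw [pow_succ, mul_assoc, hxJ, ih]
      have hJJ : J * J = (p : F) • J := by
        show (∑ m ∈ Finset.range p, x.val ^ m) * J = _
        rw [Finset.sum_mul, Finset.sum_congr rfl (fun m _ => hxmJ m), Finset.sum_const,
          Finset.card_range, Nat.cast_smul_eq_nsmul]
      let a : F := (ω - 1) / (p : F)
      have ha0 : a ≠ 0 := div_ne_zero (sub_ne_zero.2 (hω.ne_one hpp.one_lt)) hpF
      have hpa : 1 + (p : F) * a = ω := by simp only [a]; field_simp; ring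
      have hω0 : ω ≠ 0 := hω.ne_zero hpp.ne_zero
      let b : F := -a / ω
      have hab : a + b + a * b * p = 0 := by
        simp only [b]
        field_simp
        linear_combination a * hpa.symm
      have hprod : ∀ s t : F, s + t + s * t * p = 0 → (1 + s • J) * (1 + t • J) = 1 := by
        intro s t h
        rw [mul_add, mul_one, add_mul, one_mul, smul_mul_assoc, mul_smul_comm, hJJ, smul_smul,
          smul_smul, add_assoc, ← add_smul, ← add_smul,
          show s + (t + s * t * (p : F)) = 0 by rw [← h]; ring, zero_smul, add_zero]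
      let u : GL (ZMod p) F := ⟨1 + a • J, 1 + b • J, hprod a b hab,
        hprod b a (by rw [← hab]; ring)⟩
      have hJk : ∀ m : ℕ, m < p → J ((m : ZMod p) * k) 0 ≠ 0 := by
        intro m hm
        show (∑ m' ∈ Finset.range p, x.val ^ m') _ _ ≠ 0
        rw [Matrix.sum_apply, Finset.sum_eq_single m]
        · rw [hxv, mon_pow, mon_apply, zero_add, if_pos rfl]
          exact Finset.prod_ne_zero_iff.2 fun j _ => root_ne_zero (hd _)
        · intro b hb hbm
          rw [hxv, mon_pow, mon_apply, zero_add, if_neg]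
          intro h
          have := congrArg ZMod.val (mul_right_cancel₀ hk h)
          rw [ZMod.val_natCast_of_lt (Finset.mem_range.1 hb), ZMod.val_natCast_of_lt hm] at this
          exact hbm this
        · intro h; exact absurd (Finset.mem_range.2 hm) h
      have hp3 : 3 ≤ p := by have := hpp.two_le; omega
      have hne0 : ∀ m : ℕ, 0 < m → m < p → ((m : ZMod p) * k) ≠ 0 := by
        intro m h0 hm h
        rcases mul_eq_zero.1 h with h | h
        · have := congrArg ZMod.val h
          rw [ZMod.val_natCast_of_lt hm, ZMod.val_zero] at this; omega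
        · exact hk h
      refine mk_u u ?_ (((1 : ℕ) : ZMod p) * k) (((2 : ℕ) : ZMod p) * k) 0 ?_ ?_ ?_
      · show (1 + a • J) * x.val = x.val * (1 + a • J)
        rw [add_mul, mul_add, one_mul, mul_one, smul_mul_assoc, mul_smul_comm]
        congr 2
        show (∑ m ∈ Finset.range p, x.val ^ m) * x.val = x.val * ∑ m ∈ Finset.range p, x.val ^ m
        exact (Commute.sum_left _ _ _ fun m _ => (Commute.refl x.val).pow_left m).eq
      · intro h
        have := congrArg ZMod.val (mul_right_cancel₀ hk h)
        rw [ZMod.val_natCast_of_lt (by omega), ZMod.val_natCast_of_lt (by omega)] at this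
        omega
      · show (1 + a • J) _ _ ≠ 0
        rw [Matrix.add_apply, Matrix.one_apply_ne (hne0 1 (by omega) (by omega)), zero_add,
          Matrix.smul_apply, smul_eq_mul]
        exact mul_ne_zero ha0 (hJk 1 (by omega))
      · show (1 + a • J) _ _ ≠ 0
        rw [Matrix.add_apply, Matrix.one_apply_ne (hne0 2 (by omega) (by omega)), zero_add,
          Matrix.smul_apply, smul_eq_mul]
        exact mul_ne_zero ha0 (hJk 2 (by omega))
    · let S : Matrix (ZMod p) (ZMod p) F := ∑ m ∈ Finset.range p, (-x.val) ^ m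
      have hodd : Odd p := hpp.odd_of_ne_two hp
      have hc1 : 1 + c ≠ 0 := by
        intro h
        apply hc
        have hcm : c = -1 := by linear_combination h
        rw [hcm, hodd.neg_one_pow] at hcp
        rw [hcm, hcp]
      have hS : (1 + x.val) * S = (1 + c) • 1 := by
        have h : (-x.val - 1) * S = (-x.val) ^ p - 1 := mul_geom_sum _ _
        rw [hodd.neg_pow, hxp] at h
        rw [add_smul, one_smul, show (1 + x.val) = -(-x.val - 1) by abel, neg_mul, h]
        abel
      have hcomm : Commute (1 + x.val) S :=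
        Commute.sum_right _ _ _ fun m _ => ((Commute.one_left _).add_left
          ((Commute.refl x.val).neg_right)).pow_right m
      let u : GL (ZMod p) F := ⟨1 + x.val, (1 + c)⁻¹ • S,
        by rw [mul_smul_comm, hS, smul_smul, inv_mul_cancel₀ hc1, one_smul],
        by rw [smul_mul_assoc, ← hcomm.eq, hS, smul_smul, inv_mul_cancel₀ hc1, one_smul]⟩
      refine mk_u u ?_ 0 k 0 (Ne.symm hk) ?_ ?_
      · show (1 + x.val) * x.val = x.val * (1 + x.val)
        rw [add_mul, mul_add, one_mul, mul_one]
      · show (1 + x.val) 0 0 ≠ 0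
        rw [Matrix.add_apply, hxv, mon_apply, zero_add, if_neg hk, add_zero, Matrix.one_apply_eq]
        exact one_ne_zero
      · show (1 + x.val) k 0 ≠ 0
        rw [Matrix.add_apply, hxv, mon_apply, zero_add, if_pos rfl, Matrix.one_apply_ne hk, zero_add]
        exact root_ne_zero (hd k)

theorem redundant (hp : p ≠ 2) (h1 : p ∣ Fintype.card F - 1) (h2 : ¬ p ^ 2 ∣ Fintype.card F - 1) :
    ∃ S : Sylow p (GL (ZMod p) F), ∀ x : GL (ZMod p) F, (∃ k : ℕ, orderOf x = p ^ k) →
      ∃ P : Sylow p (GL (ZMod p) F), P ≠ S ∧ x ∈ P := by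
  obtain ⟨u, hu⟩ := exists_prime_orderOf_dvd_card' p (G := Fˣ)
    (by rwa [Nat.card_units, Nat.card_eq_fintype_card])
  have hω : IsPrimitiveRoot (u : F) p := by
    rw [IsPrimitiveRoot.iff_def]
    refine ⟨by rw [← Units.val_pow_eq_pow_val, ← hu, pow_orderOf_eq_one, Units.val_one], fun l hl => ?_⟩
    rw [← hu]
    exact orderOf_dvd_of_pow_eq_one (Units.ext (by rw [Units.val_pow_eq_pow_val, hl]; rfl))
  refine ⟨Sylow.ofCard Q (by rw [card_Q hω, factorization_card hp h1 h2]), ?_⟩
  rintro x ⟨n, hn⟩
  by_cases hxQ : x ∈ Q (F := F) (p := p)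
  · obtain ⟨g, hg, hgx⟩ := exists_outside hω hp hxQ
    refine ⟨g • Sylow.ofCard Q (by rw [card_Q hω, factorization_card hp h1 h2]), ?_, ?_⟩
    · intro h
      apply hg
      exact (Sylow.smul_eq_iff_mem_normalizer).1 h
    · show x ∈ ((g • Sylow.ofCard Q _ : Sylow p (GL (ZMod p) F)) : Subgroup _)
      rw [Sylow.coe_subgroup_smul]
      exact ⟨_, hgx, by show g * (g⁻¹ * x * g) * g⁻¹ = x; group⟩
  · obtain ⟨P, hP⟩ := (IsPGroup.of_card (p := p) (G := Subgroup.zpowers x)
      (by rw [Nat.card_zpowers, hn])).exists_le_sylow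
    exact ⟨P, fun h => hxQ (by
      have := hP (Subgroup.mem_zpowers x); rwa [h] at this), hP (Subgroup.mem_zpowers x)⟩

end Cfsg.FgsC.RedundantGL
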