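import Cfsg.Agent.Lib.GLTwo.Basic
import Cfsg.Agent.Lib.Classical.SL2Sylow

/-!
Redundant Sylow subgroups of `SL₂(q)` and `PSL₂(q)`.
-/

set_option autoImplicit false

namespace CfsgLib.FgsC.RedSL

open CfsgLib.GLTwo CfsgLib.Classical

/-- Some Sylow `p`-subgroup is covered by the others on `p`-elements. -/
def Red (G : Type*) [Group G] (p : ℕ) : Prop :=
  ∃ Q : Sylow p G, ∀ x : G, (∃ k : ℕ, orderOf x = p ^ k) → ∃ P : Sylow p G, P ≠ Q ∧ x ∈ P

/-- An element lying in exactly one Sylow `p`-subgroup. -/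
def Only (G : Type*) [Group G] (p : ℕ) : Prop :=
  ∃ (P : Sylow p G) (x : G), x ∈ P ∧ ∀ P' : Sylow p G, x ∈ P' → P' = P

variable {G : Type*} [Group G] {p : ℕ} [Fact p.Prime]

theorem exists_order_of_mem {P : Sylow p G} {x : G} (hx : x ∈ P) : ∃ k : ℕ, orderOf x = p ^ k := by
  obtain ⟨k, hk⟩ := P.isPGroup' ⟨x, hx⟩
  have h : x ^ p ^ k = 1 := congrArg Subtype.val hk
  obtain ⟨j, -, hj⟩ := (Nat.dvd_prime_pow Fact.out).1 (orderOf_dvd_of_pow_eq_one h)
  exact ⟨j, hj⟩

theorem exists_sylow_mem {x : G} (hx : ∃ k : ℕ, orderOf x = p ^ k) : ∃ P : Sylow p G, x ∈ P := by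
  obtain ⟨k, hk⟩ := hx
  obtain ⟨P, hP⟩ := (IsPGroup.of_card (n := k) (G := Subgroup.zpowers x)
    (by rw [Nat.card_zpowers, hk])).exists_le_sylow
  exact ⟨P, hP (Subgroup.mem_zpowers x)⟩

theorem red_iff [Finite G] : Red G p ↔ ¬ Only G p := by
  constructor
  · rintro ⟨Q, hQ⟩ ⟨P, x, hx, hu⟩
    obtain ⟨g, hg⟩ := MulAction.exists_smul_eq G P Q
    have hy : g * x * g⁻¹ ∈ Q := by
      rw [← hg]
      exact (mem_sylow_smul p).2 ⟨x, hx, rfl⟩
    obtain ⟨P', hne, hP'⟩ := hQ _ (exists_order_of_mem hy)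
    have h : x ∈ g⁻¹ • P' := (mem_sylow_smul p).2 ⟨g * x * g⁻¹, hP', by group⟩
    exact hne (by rw [← hg, ← hu _ h, smul_inv_smul])
  · intro h
    obtain ⟨Q⟩ : Nonempty (Sylow p G) := inferInstance
    refine ⟨Q, fun x hx => ?_⟩
    obtain ⟨P, hP⟩ := exists_sylow_mem hx
    by_cases hPQ : P = Q
    · by_contra hc
      push Not at hc
      exact h ⟨P, x, hP, fun P' hP' => by_contra fun hne => hc P' (hPQ ▸ hne) hP'⟩
    · exact ⟨P, hPQ, hP⟩

theorem mem_sylow_of_central {z : G} (hz : z ∈ Subgroup.center G) (ho : ∃ k : ℕ, orderOf z = p ^ k)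
    (P : Sylow p G) : z ∈ P := by
  obtain ⟨k, hk⟩ := ho
  have hn : (Subgroup.zpowers z).Normal := ⟨fun a ha g => by
    obtain ⟨n, rfl⟩ := Subgroup.mem_zpowers_iff.1 ha
    have := Subgroup.mem_center_iff.1 (zpow_mem hz n) g
    rw [this, mul_inv_cancel_right]
    exact ha⟩
  have h : IsPGroup p (↥((P : Subgroup G) ⊔ Subgroup.zpowers z)) :=
    IsPGroup.to_sup_of_normal_right P.isPGroup'
      (IsPGroup.of_card (n := k) (by rw [Nat.card_zpowers, hk]))
  have e := Subgroup.mem_sup_right (S := (P : Subgroup G)) (Subgroup.mem_zpowers z)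
  rw [P.3 h le_sup_left] at e
  exact e

/-- Commuting elements of a subgroup and of another Sylow differ by a `p`-element. -/
theorem mem_of_central_diff {P P' : Sylow p G} {u s : G} (hu : u ∈ P) (hs : s ∈ P')
    (hc : u⁻¹ * s ∈ Subgroup.center G) : s ∈ P := by
  have hus : Commute u⁻¹ s := by
    have h := (Subgroup.mem_center_iff.1 hc) u⁻¹
    exact mul_left_cancel (a := u⁻¹) (h.trans (mul_assoc _ _ _))
  obtain ⟨a, ha⟩ := exists_order_of_mem (inv_mem hu)
  obtain ⟨b, hb⟩ := exists_order_of_mem hs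
  have hpow : (u⁻¹ * s) ^ p ^ (a + b) = 1 := by
    rw [hus.mul_pow, orderOf_dvd_iff_pow_eq_one.1 (ha ▸ pow_dvd_pow p (Nat.le_add_right a b)),
      orderOf_dvd_iff_pow_eq_one.1 (hb ▸ pow_dvd_pow p (Nat.le_add_left b a)), one_mul]
  obtain ⟨j, -, hj⟩ := (Nat.dvd_prime_pow Fact.out).1 (orderOf_dvd_of_pow_eq_one hpow)
  have h := mul_mem hu (mem_sylow_of_central hc ⟨j, hj⟩ P)
  rwa [mul_inv_cancel_left] at h

theorem only_iff_of_central [Finite G] {H : Type*} [Group H] {f : G →* H}
    (hf : Function.Surjective f) (hker : f.ker ≤ Subgroup.center G) : Only H p ↔ Only G p := by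
  have hdiff : ∀ {u s : G}, f u = f s → u⁻¹ * s ∈ Subgroup.center G := fun h =>
    hker (by rw [MonoidHom.mem_ker, map_mul, map_inv, h, inv_mul_cancel])
  constructor
  · rintro ⟨Pb, y, hy, hu⟩
    obtain ⟨P, rfl⟩ := Sylow.mapSurjective_surjective hf p Pb
    obtain ⟨x, hx, rfl⟩ := hy
    refine ⟨P, x, hx, fun P' hP' => ?_⟩
    have h := hu (Sylow.mapSurjective hf P') ⟨x, hP', rfl⟩
    refine Sylow.ext (P'.3 P.isPGroup' ?_).symm
    intro s hs
    have hs' : f s ∈ Sylow.mapSurjective hf P := h ▸ (⟨s, hs, rfl⟩ : f s ∈ (P' : Subgroup G).map f)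
    obtain ⟨u, hu', he⟩ := hs'
    exact mem_of_central_diff hu' hs (hdiff he)
  · rintro ⟨P, x, hx, hu⟩
    refine ⟨Sylow.mapSurjective hf P, f x, ⟨x, hx, rfl⟩, fun Pb hPb => ?_⟩
    obtain ⟨P', rfl⟩ := Sylow.mapSurjective_surjective hf p Pb
    obtain ⟨u, hu', he⟩ := hPb
    rw [hu P' (mem_of_central_diff hu' hx (hdiff he))]

/-! ### `SL₂` -/

variable {F : Type*} [Field F]

local notation "S2" => Matrix.SpecialLinearGroup (Fin 2) F
local notation "M2" => Matrix (Fin 2) (Fin 2) F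

theorem central_of_scalar {x : S2} (h : IsScalar2 (x : M2)) : x ∈ Subgroup.center S2 := by
  rw [Subgroup.mem_center_iff]
  intro g
  apply Subtype.ext
  rw [Matrix.SpecialLinearGroup.coe_mul, Matrix.SpecialLinearGroup.coe_mul, (isScalar2_iff _).1 h]
  simp

theorem sq_eq_one_of_scalar {x : S2} (h : IsScalar2 (x : M2)) : x ^ 2 = 1 := by
  have hd := x.2
  rw [Matrix.det_fin_two, h.1, h.2.1, ← h.2.2, mul_zero, sub_zero] at hd
  refine Subtype.ext ?_
  rw [Matrix.SpecialLinearGroup.coe_pow, (isScalar2_iff _).1 h, smul_pow, one_pow, sq, hd, one_smul]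
  rfl

theorem commute_of_commute {x a b : S2} (hx : ¬ IsScalar2 (x : M2))
    (ha : a ∈ Subgroup.centralizer ({x} : Set S2)) (hb : b ∈ Subgroup.centralizer ({x} : Set S2)) :
    a * b = b * a := by
  rw [Subgroup.mem_centralizer_singleton_iff] at ha hb
  obtain ⟨a1, a2, ea⟩ := eq_add_smul_of_comm hx (congrArg Subtype.val ha)
  obtain ⟨b1, b2, eb⟩ := eq_add_smul_of_comm hx (congrArg Subtype.val hb)
  apply Subtype.ext
  rw [Matrix.SpecialLinearGroup.coe_mul, Matrix.SpecialLinearGroup.coe_mul, ea, eb]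
  simp only [add_mul, mul_add, smul_mul_assoc, mul_smul_comm, one_mul, mul_one, smul_smul, smul_add]
  module

/-- A nontrivial element of order a power of an odd prime, or of any order in characteristic
two, is not scalar. -/
theorem not_scalar_of_ne_one (h : p ≠ 2 ∨ (2 : F) = 0) {x : S2}
    (ho : ∃ k : ℕ, orderOf x = p ^ k) (h1 : x ≠ 1) : ¬ IsScalar2 (x : M2) := by
  intro hs
  rcases h with h | h
  · obtain ⟨k, hk⟩ := ho
    have h2 := orderOf_dvd_of_pow_eq_one (sq_eq_one_of_scalar hs)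
    rcases k with _ | k
    · exact h1 (orderOf_eq_one_iff.1 (by rw [hk, pow_zero]))
    · exact h ((Nat.prime_dvd_prime_iff_eq Fact.out Nat.prime_two).1
        ((dvd_pow_self p (Nat.succ_ne_zero k)).trans (hk ▸ h2)))
  · have hd := x.2
    rw [Matrix.det_fin_two, hs.1, hs.2.1, ← hs.2.2, mul_zero, sub_zero] at hd
    have h0 : ((x : M2) 0 0 - 1) * ((x : M2) 0 0 - 1) = 0 := by
      linear_combination hd - ((x : M2) 0 0 - 1) * h
    have h00 : (x : M2) 0 0 = 1 := sub_eq_zero.1 (mul_self_eq_zero.1 h0)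
    refine h1 (Subtype.ext ?_)
    rw [(isScalar2_iff _).1 hs, h00, one_smul]
    rfl

theorem only_of_abelian_case [Finite F] (h : p ≠ 2 ∨ (2 : F) = 0) : Only S2 p := by
  obtain ⟨P⟩ : Nonempty (Sylow p S2) := inferInstance
  by_cases hP : (P : Subgroup S2) = ⊥
  · refine ⟨P, 1, one_mem _, fun P' _ => Sylow.ext (P.3 P'.isPGroup' ?_)⟩
    rw [hP]
    exact bot_le
  have : Nontrivial (P : Subgroup S2) := (Subgroup.nontrivial_iff_ne_bot _).2 hP
  have : Nontrivial (Subgroup.center (P : Subgroup S2)) := P.isPGroup'.center_nontrivial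
  obtain ⟨⟨z, hz⟩, hz1⟩ := exists_ne (1 : Subgroup.center (P : Subgroup S2))
  have hzne : (z : S2) ≠ 1 := fun e => hz1 (Subtype.ext (Subtype.ext e))
  refine ⟨P, z, z.2, fun P' hP' => ?_⟩
  have hns : ∀ {R : Sylow p S2} {w : S2}, w ∈ R → w ≠ 1 → ¬ IsScalar2 (w : M2) :=
    fun hw hw1 => not_scalar_of_ne_one h (exists_order_of_mem hw) hw1
  set C := Subgroup.centralizer ({(z : S2)} : Set S2) with hC
  have hPC : (P : Subgroup S2) ≤ C := fun g hg => by
    rw [hC, Subgroup.mem_centralizer_singleton_iff]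
    exact congrArg Subtype.val (Subgroup.mem_center_iff.1 hz ⟨g, hg⟩)
  have hP'ab : ∀ a ∈ P', ∀ b ∈ P', a * b = b * a := by
    have : Nontrivial (P' : Subgroup S2) := ⟨⟨⟨z, hP'⟩, 1, fun e => hzne (congrArg Subtype.val e)⟩⟩
    have : Nontrivial (Subgroup.center (P' : Subgroup S2)) := P'.isPGroup'.center_nontrivial
    obtain ⟨⟨w, hw⟩, hw1⟩ := exists_ne (1 : Subgroup.center (P' : Subgroup S2))
    have hwne : (w : S2) ≠ 1 := fun e => hw1 (Subtype.ext (Subtype.ext e))
    intro a ha b hb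
    refine commute_of_commute (hns w.2 hwne) ?_ ?_ <;> rw [Subgroup.mem_centralizer_singleton_iff]
    · exact congrArg Subtype.val (Subgroup.mem_center_iff.1 hw ⟨a, ha⟩)
    · exact congrArg Subtype.val (Subgroup.mem_center_iff.1 hw ⟨b, hb⟩)
  have hP'C : (P' : Subgroup S2) ≤ C := fun g hg => by
    rw [hC, Subgroup.mem_centralizer_singleton_iff]
    exact hP'ab _ hg _ hP'
  have hle : (P' : Subgroup S2) ≤ Subgroup.normalizer ((P : Subgroup S2) : Set S2) := fun g hg => by
    rw [Subgroup.mem_normalizer_iff]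
    intro n
    constructor
    · intro hn
      rwa [commute_of_commute (hns z.2 hzne) (hP'C hg) (hPC hn), mul_inv_cancel_right]
    · intro hn
      have e := commute_of_commute (hns z.2 hzne) (hP'C hg) (hPC hn)
      have : g * n * g⁻¹ = n := by
        have e' : g * (g * n * g⁻¹) = g * n * g⁻¹ * g := e
        have := congrArg (fun t => g⁻¹ * t) e'
        simpa [mul_assoc] using this
      rwa [← this]
  have hs := IsPGroup.to_sup_of_normal_right' P'.isPGroup' P.isPGroup' hle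
  exact Sylow.ext ((P'.3 hs le_sup_left).symm.trans (P.3 hs le_sup_right))

section Odd

variable (h2 : (2 : F) ≠ 0)

theorem sq_conic_card [Finite F] {t : F} (ht : t ^ 2 ≠ 4) (h2 : (2 : F) ≠ 0) :
    Nat.card {q : F × F // q.1 ^ 2 + q.1 * q.2 * t + q.2 ^ 2 = 1} + 1 = Nat.card F ∨
    Nat.card {q : F × F // q.1 ^ 2 + q.1 * q.2 * t + q.2 ^ 2 = 1} = Nat.card F + 1 := by
  classical
  have : Fintype F := Fintype.ofFinite F
  let f : Option {m : F // m ^ 2 + t * m + 1 ≠ 0} → {q : F × F // q.1 ^ 2 + q.1 * q.2 * t + q.2 ^ 2 = 1}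
    | none => ⟨(1, -t), by ring⟩
    | some m => ⟨((m.1 ^ 2 - 1) / (m.1 ^ 2 + t * m.1 + 1),
        m.1 * (-(t * m.1) - 2) / (m.1 ^ 2 + t * m.1 + 1)), by
          have := m.2
          simp only
          rw [div_pow, div_pow, div_mul_div_comm, div_mul_eq_mul_div, ← sq, ← add_div, ← add_div,
            div_eq_one_iff_eq (pow_ne_zero 2 this)]
          ring⟩
  have hf : Function.Bijective f := by
    have one : ∀ m : {m : F // m ^ 2 + t * m + 1 ≠ 0},
        (f (some m)).1.1 = 1 → t * m.1 = -2 ∧ (f (some m)).1.2 = 0 := by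
      intro m h
      have h' : (m.1 ^ 2 - 1) / (m.1 ^ 2 + t * m.1 + 1) = 1 := h
      rw [div_eq_one_iff_eq m.2] at h'
      refine ⟨by linear_combination -h', ?_⟩
      show m.1 * (-(t * m.1) - 2) / (m.1 ^ 2 + t * m.1 + 1) = 0
      rw [show -(t * m.1) - 2 = (0 : F) by linear_combination h', mul_zero, zero_div]
    have slope : ∀ m : {m : F // m ^ 2 + t * m + 1 ≠ 0},
        (f (some m)).1.2 = m.1 * ((f (some m)).1.1 - 1) := by
      intro m
      have := m.2
      show m.1 * (-(t * m.1) - 2) / (m.1 ^ 2 + t * m.1 + 1) =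
        m.1 * ((m.1 ^ 2 - 1) / (m.1 ^ 2 + t * m.1 + 1) - 1)
      rw [div_sub_one this, mul_div_assoc']
      congr 1
      ring
    constructor
    · rintro (_ | m) (_ | m') he
      · rfl
      · obtain ⟨h1, h2'⟩ := one m' (by rw [← he])
        rw [← he] at h2'
        have h0 : t = 0 := neg_eq_zero.1 h2'
        rw [show t * m'.1 = 0 by simp [h0]] at h1
        exact absurd (by linear_combination h1) h2
      · obtain ⟨h1, h2'⟩ := one m (by rw [he])
        rw [he] at h2'
        have h0 : t = 0 := neg_eq_zero.1 h2'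
        rw [show t * m.1 = 0 by simp [h0]] at h1
        exact absurd (by linear_combination h1) h2
      · refine congrArg some (Subtype.ext ?_)
        by_cases h : (f (some m)).1.1 = 1
        · obtain ⟨a, -⟩ := one m h
          obtain ⟨b, -⟩ := one m' (by rw [← he]; exact h)
          have hne : t ≠ 0 := fun e => h2 (by rw [show t * m.1 = 0 by simp [e]] at a; linear_combination a)
          exact mul_left_cancel₀ hne (a.trans b.symm)
        · have a := slope m
          have b := slope m'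
          rw [← he, a] at b
          exact mul_right_cancel₀ (sub_ne_zero.2 h) b
    · rintro ⟨⟨a, b⟩, hab⟩
      simp only at hab
      by_cases ha : a = 1
      · subst ha
        have : b * (b + t) = 0 := by linear_combination hab
        rcases mul_eq_zero.1 this with hb | hb
        · subst hb
          by_cases h0 : t = 0
          · exact ⟨none, Subtype.ext (by simp [f, h0])⟩
          · have hden : (-2 / t) ^ 2 + t * (-2 / t) + 1 ≠ 0 := by
              intro e
              field_simp at e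
              exact ht (by linear_combination -e)
            refine ⟨some ⟨-2 / t, hden⟩, Subtype.ext (Prod.ext ?_ ?_)⟩
            · show ((-2 / t) ^ 2 - 1) / ((-2 / t) ^ 2 + t * (-2 / t) + 1) = 1
              rw [div_eq_one_iff_eq hden, mul_div_cancel₀ _ h0]
              ring
            · show (-2 / t) * (-(t * (-2 / t)) - 2) / ((-2 / t) ^ 2 + t * (-2 / t) + 1) = 0
              rw [mul_div_cancel₀ _ h0]
              ring
        · exact ⟨none, Subtype.ext (Prod.ext rfl (by simp [f]; linear_combination -hb))⟩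
      · have h1 : a - 1 ≠ 0 := sub_ne_zero.2 ha
        have hden : (b / (a - 1)) ^ 2 + t * (b / (a - 1)) + 1 ≠ 0 := by
          intro e
          have e' : b ^ 2 + t * b * (a - 1) + (a - 1) ^ 2 = 0 := by
            field_simp at e
            linear_combination e
          have htb : t * b = 2 * (1 - a) := by linear_combination hab - e'
          have hb2 : b ^ 2 = (a - 1) ^ 2 := by linear_combination hab - a * htb
          have h0 : (t ^ 2 - 4) * (a - 1) ^ 2 = 0 := by
            linear_combination (t * b + 2 * (1 - a)) * htb - t ^ 2 * hb2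
          rcases mul_eq_zero.1 h0 with h | h
          · exact ht (sub_eq_zero.1 h)
          · exact h1 (pow_eq_zero_iff two_ne_zero |>.1 h)
        refine ⟨some ⟨b / (a - 1), hden⟩, Subtype.ext (Prod.ext ?_ ?_)⟩
        · show ((b / (a - 1)) ^ 2 - 1) / ((b / (a - 1)) ^ 2 + t * (b / (a - 1)) + 1) = a
          rw [div_eq_iff hden]
          field_simp
          linear_combination (1 - a) * hab
        · show (b / (a - 1)) * (-(t * (b / (a - 1))) - 2) /
            ((b / (a - 1)) ^ 2 + t * (b / (a - 1)) + 1) = b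
          rw [div_eq_iff hden]
          field_simp
          linear_combination (-b) * hab
  have hS : Nat.card {q : F × F // q.1 ^ 2 + q.1 * q.2 * t + q.2 ^ 2 = 1} =
      Fintype.card {m : F // m ^ 2 + t * m + 1 ≠ 0} + 1 := by
    rw [← Nat.card_congr (Equiv.ofBijective f hf), Nat.card_eq_fintype_card, Fintype.card_option]
  have hc := Fintype.card_subtype_compl (fun m : F => m ^ 2 + t * m + 1 = 0)
  have hle := Fintype.card_subtype_le (fun m : F => m ^ 2 + t * m + 1 = 0)
  rw [← Nat.card_eq_fintype_card (α := F)] at hc hle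
  by_cases hr : ∃ r : F, r ^ 2 + t * r + 1 = 0
  · obtain ⟨r, hr⟩ := hr
    have hne : r ≠ -t - r := fun e => ht (by linear_combination (t + 2 * r) * e - 4 * hr)
    have h : Fintype.card {m : F // m ^ 2 + t * m + 1 = 0} = 2 := by
      rw [Fintype.card_subtype, Finset.card_eq_two]
      refine ⟨r, -t - r, hne, ?_⟩
      ext m
      simp only [Finset.mem_filter, Finset.mem_univ, true_and, Finset.mem_insert, Finset.mem_singleton]
      constructor
      · intro hm
        have : (m - r) * (m - (-t - r)) = 0 := by linear_combination hm - hr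
        rcases mul_eq_zero.1 this with e | e
        · exact Or.inl (sub_eq_zero.1 e)
        · exact Or.inr (sub_eq_zero.1 e)
      · rintro (rfl | rfl)
        · exact hr
        · linear_combination hr
    left
    simp only [ne_eq] at hc hS ⊢
    omega
  · have h : Fintype.card {m : F // m ^ 2 + t * m + 1 = 0} = 0 :=
      Fintype.card_eq_zero_iff.2 ⟨fun m => hr ⟨m.1, m.2⟩⟩
    right
    simp only [ne_eq] at hc hS ⊢
    omega

include h2

theorem trace_sq_ne_four {x : S2} (hx : ¬ IsScalar2 (x : M2)) {k : ℕ} (hk : x ^ 2 ^ k = 1) :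
    (x : M2).trace ^ 2 ≠ 4 := by
  intro h
  have hpow : ∀ n : ℕ, (x : M2) ^ (n + 1) = ((n + 1 : ℕ) : F) • ((((x : M2).trace / 2) ^ n) • (x : M2)) -
      (n : F) • ((((x : M2).trace / 2) ^ (n + 1)) • (1 : M2)) := by
    intro n
    have hc : ((x : M2).trace / 2) ^ 2 = 1 := by field_simp; linear_combination h
    induction n with
    | zero => simp
    | succ n ih =>
      rw [pow_succ, ih, sub_mul, smul_mul_assoc, smul_mul_assoc, smul_mul_assoc, smul_mul_assoc,
        one_mul, sq_eq, x.2, one_smul]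
      ext i j
      simp only [Matrix.sub_apply, Matrix.smul_apply, smul_eq_mul]
      push_cast
      have e : (x : M2).trace = 2 * ((x : M2).trace / 2) := by field_simp
      generalize (x : M2).trace / 2 = c at *
      rw [e]
      linear_combination (norm := ring_nf) (((n : F) + 1) * c ^ n * (1 : M2) i j) * hc
  obtain ⟨n, hn⟩ : ∃ n, 2 ^ k = n + 1 := ⟨2 ^ k - 1, by have := Nat.two_pow_pos k; omega⟩
  have h1 := congrArg Subtype.val hk
  rw [Matrix.SpecialLinearGroup.coe_pow, Matrix.SpecialLinearGroup.coe_one, hn, hpow, ← hn] at h1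
  have hm : ((2 ^ k : ℕ) : F) ≠ 0 := by push_cast; exact pow_ne_zero _ h2
  have hc0 : ((x : M2).trace / 2) ^ n ≠ 0 := by
    refine pow_ne_zero _ (div_ne_zero (fun e => ?_) h2)
    rw [e] at h
    exact mul_ne_zero h2 h2 (by linear_combination -h)
  refine hx ⟨?_, ?_, ?_⟩
  · have := congrFun (congrFun h1 0) 1
    simpa [hm, hc0, h2] using this
  · have := congrFun (congrFun h1 1) 0
    simpa [hm, hc0, h2] using this
  · have e0 := congrFun (congrFun h1 0) 0
    have e1 := congrFun (congrFun h1 1) 1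
    simp at e0 e1
    refine mul_left_cancel₀ hc0 (mul_left_cancel₀ (show (2 : F) ^ k ≠ 0 from pow_ne_zero _ h2) ?_)
    linear_combination e0 - e1

theorem card_centralizer_two [Finite F] {x : S2} (hx : ¬ IsScalar2 (x : M2))
    (ho : ∃ k : ℕ, orderOf x = 2 ^ k) :
    Nat.card (Subgroup.centralizer ({x} : Set S2)) + 1 = Nat.card F ∨
      Nat.card (Subgroup.centralizer ({x} : Set S2)) = Nat.card F + 1 := by
  obtain ⟨k, hk⟩ := ho
  rw [sl_card_centralizer hx]
  exact sq_conic_card (trace_sq_ne_four h2 hx (k := k) (by rw [← hk, pow_orderOf_eq_one])) h2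

theorem not_only_two [Finite F] (hm : ¬ ∃ k : ℕ, Nat.card F + 1 = 2 ^ k)
    (hp : ¬ ∃ k : ℕ, Nat.card F = 2 ^ k + 1) : ¬ Only S2 2 := by
  have hf2 : Fact (Nat.Prime 2) := ⟨Nat.prime_two⟩
  rintro ⟨P, x₀, hx₀, hu₀⟩
  -- a non-scalar element lying only in `P`
  obtain ⟨x, hxs, hx, hu⟩ : ∃ x : S2, ¬ IsScalar2 (x : M2) ∧ x ∈ P ∧
      ∀ P' : Sylow 2 S2, x ∈ P' → P' = P := by
    by_cases hs : IsScalar2 (x₀ : M2)
    · obtain ⟨x, hx, hxs⟩ : ∃ x ∈ P, ¬ IsScalar2 (x : M2) := by
        by_contra hc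
        push Not at hc
        refine sylow_two_SL2_not_commutative h2 P ⟨⟨fun a b => Subtype.ext ?_⟩⟩
        exact (Subgroup.mem_center_iff.1 (central_of_scalar (hc a a.2)) b).symm
      exact ⟨x, hxs, hx, fun P' _ => hu₀ P'
        (mem_sylow_of_central (central_of_scalar hs) (exists_order_of_mem hx₀) P')⟩
    · exact ⟨x₀, hs, hx₀, hu₀⟩
  set C := Subgroup.centralizer ({x} : Set S2) with hC
  obtain ⟨r, hr, hr2, hrd⟩ : ∃ r : ℕ, r.Prime ∧ r ≠ 2 ∧ r ∣ Nat.card C := by
    by_contra! hc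
    have h := Nat.eq_prime_pow_of_unique_prime_dvd (p := 2) (n := Nat.card C) Nat.card_pos.ne'
      (fun {d} hd hdd => by_contra fun hne => hc d hd hne hdd)
    rcases card_centralizer_two h2 hxs (exists_order_of_mem hx) with e | e
    · exact hp ⟨_, e.symm.trans (by rw [h])⟩
    · exact hm ⟨_, e.symm.trans h⟩
  have : Fact r.Prime := ⟨hr⟩
  obtain ⟨⟨τ, hτC⟩, hτ⟩ := exists_prime_orderOf_dvd_card' r hrd
  rw [Subgroup.orderOf_mk] at hτ
  have hτs : ¬ IsScalar2 (τ : M2) := by
    refine not_scalar_of_ne_one (p := r) (Or.inl hr2) ⟨1, by rw [hτ, pow_one]⟩ ?_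
    rintro rfl
    rw [orderOf_one] at hτ
    exact hr.ne_one hτ.symm
  have hcτ : τ * x = x * τ := Subgroup.mem_centralizer_singleton_iff.1 hτC
  have hnorm : ∀ y ∈ P, τ * y * τ⁻¹ ∈ P := by
    intro y hy
    have hmem : x ∈ τ • P := (mem_sylow_smul 2).2 ⟨x, hx, by rw [hcτ, mul_inv_cancel_right]⟩
    rw [← hu _ hmem]
    exact (mem_sylow_smul 2).2 ⟨y, hy, rfl⟩
  set D : Subgroup (P : Subgroup S2) :=
    (Subgroup.centralizer ({τ} : Set S2)).subgroupOf (P : Subgroup S2) with hD
  have hDtop : D ≠ ⊤ := by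
    intro h
    refine sylow_two_SL2_not_commutative h2 P ⟨⟨fun a b => Subtype.ext ?_⟩⟩
    exact commute_of_commute hτs (Subgroup.mem_subgroupOf.1 (h ▸ Subgroup.mem_top a : a ∈ D))
      (Subgroup.mem_subgroupOf.1 (h ▸ Subgroup.mem_top b : b ∈ D))
  have : Group.IsNilpotent (P : Subgroup S2) := P.isPGroup'.isNilpotent
  obtain ⟨y, hy, hyD⟩ := SetLike.exists_of_lt
    (Group.normalizerCondition_of_isNilpotent D (lt_top_iff_ne_top.2 hDtop))
  have hxD : (⟨x, hx⟩ : (P : Subgroup S2)) ∈ D := by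
    rw [hD, Subgroup.mem_subgroupOf, Subgroup.mem_centralizer_singleton_iff]
    exact hcτ.symm
  set c : S2 := (y : S2)⁻¹ * (τ * (y : S2) * τ⁻¹) with hc
  have hcP : c ∈ P := mul_mem (inv_mem y.2) (hnorm _ y.2)
  -- `c` centralises `x`
  have hcx : c * x = x * c := by
    have h := ((Subgroup.mem_normalizer_iff).1 hy ⟨x, hx⟩).1 hxD
    rw [hD, Subgroup.mem_subgroupOf, Subgroup.mem_centralizer_singleton_iff] at h
    have h' : (y : S2) * x * (y : S2)⁻¹ * τ = τ * ((y : S2) * x * (y : S2)⁻¹) := h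
    have e1 : τ * (y : S2) * τ⁻¹ * x * (τ * (y : S2) * τ⁻¹)⁻¹ = (y : S2) * x * (y : S2)⁻¹ := by
      rw [mul_inv_rev, mul_inv_rev, inv_inv]
      have e2 : τ⁻¹ * x * τ = x := by rw [mul_assoc, ← hcτ, inv_mul_cancel_left]
      calc _ = τ * ((y : S2) * (τ⁻¹ * x * τ) * (y : S2)⁻¹) * τ⁻¹ := by group
        _ = _ := by rw [e2, ← h', mul_inv_cancel_right]
    have e3 : c * x * c⁻¹ = x := by
      rw [hc]
      calc _ = (y : S2)⁻¹ * (τ * (y : S2) * τ⁻¹ * x * (τ * (y : S2) * τ⁻¹)⁻¹) * (y : S2) := by group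
        _ = _ := by rw [e1]; group
    calc c * x = c * x * c⁻¹ * c := by group
      _ = x * c := by rw [e3]
  have hcτ' : c * τ = τ * c :=
    commute_of_commute hxs (Subgroup.mem_centralizer_singleton_iff.2 hcx) hτC
  have hn : ∀ n : ℕ, τ ^ n * (y : S2) * (τ ^ n)⁻¹ = (y : S2) * c ^ n := by
    intro n
    induction n with
    | zero => simp
    | succ n ih =>
      calc τ ^ (n + 1) * (y : S2) * (τ ^ (n + 1))⁻¹
          = τ * (τ ^ n * (y : S2) * (τ ^ n)⁻¹) * τ⁻¹ := by rw [pow_succ']; group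
        _ = τ * (y : S2) * τ⁻¹ * (τ * c ^ n * τ⁻¹) := by rw [ih]; group
        _ = (y : S2) * c * c ^ n := by
            rw [← (Commute.pow_left hcτ' n).eq, mul_inv_cancel_right, hc, mul_inv_cancel_left]
        _ = _ := by rw [mul_assoc, pow_succ']
  have hcr : c ^ r = 1 := by
    have h := hn r
    rw [← hτ, pow_orderOf_eq_one] at h
    simpa [hτ] using h.symm
  have hc1 : c = 1 := by
    obtain ⟨j, hj⟩ := exists_order_of_mem hcP
    refine orderOf_eq_one_iff.1 (Nat.eq_one_of_dvd_coprimes ?_ (orderOf_dvd_of_pow_eq_one hcr) hj.dvd)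
    exact Nat.Coprime.pow_right j ((Nat.coprime_primes hr Nat.prime_two).2 hr2)
  refine hyD ?_
  rw [hD, Subgroup.mem_subgroupOf, Subgroup.mem_centralizer_singleton_iff]
  rw [hc, inv_mul_eq_one] at hc1
  calc (y : S2) * τ = τ * (y : S2) * τ⁻¹ * τ := by rw [← hc1]
    _ = _ := inv_mul_cancel_right _ _

theorem conj_eq_of_centralizer {x w : S2} (hx : ¬ IsScalar2 (x : M2)) (ht : (x : M2).trace ^ 2 ≠ 4)
    (hwc : w ∈ Subgroup.centralizer ({x} : Set S2)) {y : S2} (hw : w = y * x * y⁻¹) :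
    (w : M2) = x ∨ (w : M2) = (x : M2).trace • (1 : M2) - x := by
  have hwx : w * x = x * w := Subgroup.mem_centralizer_singleton_iff.1 hwc
  obtain ⟨a, b, hab⟩ := eq_add_smul_of_comm hx (congrArg Subtype.val hwx)
  have htr : (w : M2).trace = (x : M2).trace := by
    refine (trace_eq_of_conj (g := (x : M2)) (h := (w : M2)) (X := (y : M2))
      (by rw [y.2]; exact one_ne_zero) ?_).symm
    have : y * x = w * y := by rw [hw, inv_mul_cancel_right]
    exact congrArg Subtype.val this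
  have hd := det_add_smul (x : M2) a b
  rw [← hab, w.2, x.2, mul_one] at hd
  rw [hab, Matrix.trace_add, Matrix.trace_smul, Matrix.trace_smul, Matrix.trace_one, Fintype.card_fin,
    smul_eq_mul, smul_eq_mul] at htr
  push_cast at htr
  have h : (b - 1) * (b + 1) * ((x : M2).trace ^ 2 - 4) = 0 := by
    linear_combination 4 * hd + (2 * a + (x : M2).trace * b + (x : M2).trace) * htr
  rcases mul_eq_zero.1 h with h | h
  · rcases mul_eq_zero.1 h with h | h
    · left
      have hb : b = 1 := sub_eq_zero.1 h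
      have ha : a = 0 := mul_left_cancel₀ h2 (by rw [hb] at htr; linear_combination htr)
      rw [hab, ha, hb, zero_smul, one_smul, zero_add]
    · right
      have hb : b = -1 := eq_neg_of_add_eq_zero_left h
      have ha : a = (x : M2).trace := mul_left_cancel₀ h2 (by rw [hb] at htr; linear_combination htr)
      rw [hab, ha, hb, neg_smul, one_smul, sub_eq_add_neg]
  · exact absurd (sub_eq_zero.1 h) ht

theorem only_of_cyclic [Finite F] {C : Subgroup S2} (hC : IsCyclic C) {k : ℕ} (hk : 2 ≤ k)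
    (hcard : Nat.card C = 2 ^ k)
    (hq : Nat.card F + 1 = 2 ^ k ∨ Nat.card F = 2 ^ k + 1) : Only S2 2 := by
  have hf2 : Fact (Nat.Prime 2) := ⟨Nat.prime_two⟩
  obtain ⟨⟨x, hxC⟩, hgen⟩ := hC.exists_generator
  have hzC : Subgroup.zpowers x = C := by
    refine le_antisymm (Subgroup.zpowers_le.2 hxC) fun g hg => ?_
    obtain ⟨n, hn⟩ := hgen ⟨g, hg⟩
    exact ⟨n, congrArg Subtype.val hn⟩
  have hord : orderOf x = 2 ^ k := by rw [← Nat.card_zpowers, hzC, hcard]
  have h4 : 4 ≤ 2 ^ k := le_trans (by norm_num) (Nat.pow_le_pow_right (by norm_num) hk)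
  have hxs : ¬ IsScalar2 (x : M2) := fun h => by
    have := Nat.le_of_dvd two_pos (hord ▸ orderOf_dvd_of_pow_eq_one (sq_eq_one_of_scalar h))
    omega
  have ht := trace_sq_ne_four h2 hxs (k := k) (by rw [← hord, pow_orderOf_eq_one])
  have hcent : Subgroup.centralizer ({x} : Set S2) = C := by
    have hle : C ≤ Subgroup.centralizer ({x} : Set S2) := by
      rw [← hzC, Subgroup.zpowers_le, Subgroup.mem_centralizer_singleton_iff]
    refine (Subgroup.eq_of_le_of_card_ge hle ?_).symm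
    have hd := Subgroup.card_dvd_of_le hle
    rw [hcard] at hd ⊢
    rcases card_centralizer_two h2 hxs ⟨k, hord⟩ with e | e <;> rcases hq with e' | e'
    · have := Nat.dvd_sub (dvd_refl (2 ^ k)) hd
      rw [show 2 ^ k - Nat.card (Subgroup.centralizer ({x} : Set S2)) = 2 by omega] at this
      have := Nat.le_of_dvd two_pos this
      omega
    · omega
    · omega
    · have := Nat.dvd_sub hd (dvd_refl (2 ^ k))
      rw [show Nat.card (Subgroup.centralizer ({x} : Set S2)) - 2 ^ k = 2 by omega] at this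
      have := Nat.le_of_dvd two_pos this
      omega
  obtain ⟨P, hP⟩ := exists_sylow_mem (p := 2) (x := x) ⟨k, hord⟩
  refine ⟨P, x, hP, fun P' hP' => ?_⟩
  have hfac : (Nat.card S2).factorization 2 = k + 1 := by
    obtain ⟨m, hm, he⟩ : ∃ m, ¬ 2 ∣ m ∧ Nat.card F * (Nat.card F ^ 2 - 1) = 2 ^ (k + 1) * m := by
      obtain ⟨j, rfl⟩ : ∃ j, k = j + 1 + 1 := ⟨k - 2, by omega⟩
      have h1 : 2 ≤ 2 ^ (j + 1) := le_trans (by norm_num) (Nat.pow_le_pow_right two_pos (Nat.le_add_left 1 j))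
      have he : 2 ∣ 2 ^ (j + 1) := dvd_pow_self 2 (Nat.succ_ne_zero j)
      rw [pow_succ] at hq
      rcases hq with e | e
      · obtain ⟨u, hu⟩ : ∃ u, 2 ^ (j + 1) = u + 1 := ⟨2 ^ (j + 1) - 1, by omega⟩
        refine ⟨(2 * u + 1) * u, ?_, ?_⟩
        · rw [← even_iff_two_dvd, Nat.even_mul, not_or]
          exact ⟨by simp [parity_simps], by rw [Nat.not_even_iff]; omega⟩
        · rw [pow_succ 2 (j + 1 + 1), pow_succ 2 (j + 1), hu, show Nat.card F = 2 * u + 1 by omega,
            show (2 * u + 1) ^ 2 - 1 = 4 * u * (u + 1) from Nat.sub_eq_of_eq_add (by ring)]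
          ring
      · obtain ⟨u, hu⟩ : ∃ u, 2 ^ (j + 1) = u := ⟨_, rfl⟩
        refine ⟨(2 * u + 1) * (u + 1), ?_, ?_⟩
        · rw [← even_iff_two_dvd, Nat.even_mul, not_or]
          exact ⟨by simp [parity_simps], by rw [Nat.not_even_iff]; omega⟩
        · rw [pow_succ 2 (j + 1 + 1), pow_succ 2 (j + 1), hu, show Nat.card F = 2 * u + 1 by omega,
            show (2 * u + 1) ^ 2 - 1 = 4 * u * (u + 1) from Nat.sub_eq_of_eq_add (by ring)]
          ring
    rw [card_SL_two, he, Nat.factorization_mul (by positivity) (fun h0 => hm (by rw [h0]; exact dvd_zero 2)),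
      Finsupp.add_apply, Nat.prime_two.factorization_pow, Finsupp.single_eq_same,
      Nat.factorization_eq_zero_of_not_dvd hm, add_zero]
  have key : ∀ R : Sylow 2 S2, x ∈ R → (∀ g ∈ R, g * x * g⁻¹ ∈ C) ∧ ∃ g ∈ R, g ∉ C := by
    intro R hR
    have hle : C ≤ (R : Subgroup S2) := hzC ▸ Subgroup.zpowers_le.2 hR
    have hidx : (C.subgroupOf (R : Subgroup S2)).index = 2 := by
      have h := Subgroup.card_mul_index (C.subgroupOf (R : Subgroup S2))
      rw [Nat.card_congr (Subgroup.subgroupOfEquivOfLe hle).toEquiv, hcard,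
        Sylow.card_eq_multiplicity, hfac, pow_succ] at h
      exact Nat.eq_of_mul_eq_mul_left (Nat.two_pow_pos k) h
    have hn := Subgroup.normal_of_index_eq_two hidx
    refine ⟨fun g hg => ?_, ?_⟩
    · exact Subgroup.mem_subgroupOf.1 (hn.conj_mem ⟨x, hR⟩ (Subgroup.mem_subgroupOf.2 hxC) ⟨g, hg⟩)
    · by_contra! hc
      have : C.subgroupOf (R : Subgroup S2) = ⊤ := Subgroup.subgroupOf_eq_top.2 hc
      rw [this, Subgroup.index_top] at hidx
      omega
  obtain ⟨hconjP, g₀, hg₀, hg₀C⟩ := key P hP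
  obtain ⟨hconjP', -⟩ := key P' hP'
  refine Sylow.ext (P'.3 P.isPGroup' fun y hy => ?_).symm
  by_cases hyC : y ∈ C
  · exact (hzC ▸ Subgroup.zpowers_le.2 hP : C ≤ (P : Subgroup S2)) hyC
  have fix_ : ∀ g : S2, g ∉ C → g * x * g⁻¹ ∈ C →
      ((g * x * g⁻¹ : S2) : M2) = (x : M2).trace • (1 : M2) - x := by
    intro g hg hgc
    refine (conj_eq_of_centralizer h2 hxs ht (hcent.symm ▸ hgc) rfl).resolve_left fun e => hg ?_
    rw [← hcent, Subgroup.mem_centralizer_singleton_iff, ← mul_inv_eq_iff_eq_mul]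
    exact Subtype.ext e
  have e : y * x * y⁻¹ = g₀ * x * g₀⁻¹ :=
    Subtype.ext ((fix_ y hyC (hconjP' y hy)).trans (fix_ g₀ hg₀C (hconjP g₀ hg₀)).symm)
  have : g₀⁻¹ * y ∈ C := by
    rw [← hcent, Subgroup.mem_centralizer_singleton_iff]
    calc g₀⁻¹ * y * x = g₀⁻¹ * (y * x * y⁻¹) * y := by group
      _ = x * (g₀⁻¹ * y) := by rw [e]; group
  have := mul_mem hg₀ ((hzC ▸ Subgroup.zpowers_le.2 hP : C ≤ (P : Subgroup S2)) this)
  rwa [mul_inv_cancel_left] at this

end Odd

theorem red_sl_iff [Fintype F] (p : ℕ) [Fact p.Prime] : Red S2 p ↔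
    (p = 2 ∧ (¬ ∃ k : ℕ, Fintype.card F + 1 = 2 ^ k) ∧ (¬ ∃ k : ℕ, Fintype.card F = 2 ^ k) ∧
      ¬ ∃ k : ℕ, Fintype.card F = 2 ^ k + 1) := by
  rw [red_iff, ← Nat.card_eq_fintype_card]
  constructor
  · intro h
    have hp : p = 2 := by_contra fun hp => h (only_of_abelian_case (Or.inl hp))
    subst hp
    have h2 : (2 : F) ≠ 0 := fun h2 => h (only_of_abelian_case (Or.inr h2))
    refine ⟨rfl, ?_, ?_, ?_⟩
    · rintro ⟨k, hk⟩
      refine h ?_
      obtain ⟨C, hC, hc⟩ := exists_cyclic_card_add_one (F := F)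
      refine only_of_cyclic h2 hC ?_ (hc.trans hk) (Or.inl hk)
      have h1 : 1 < Nat.card F := Finite.one_lt_card
      rcases k with _ | _ | k
      · omega
      · omega
      · omega
    · rintro ⟨k, hk⟩
      obtain ⟨q, hq⟩ := CharP.exists F
      obtain ⟨n, hn, he⟩ := FiniteField.card F q
      rw [← Nat.card_eq_fintype_card, hk] at he
      rcases k with _ | k
      · have : 1 < Nat.card F := Finite.one_lt_card
        omega
      · have : (2 : ℕ) ∣ q ^ (n : ℕ) := he ▸ dvd_pow_self 2 (Nat.succ_ne_zero k)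
        have hq2 := (Nat.prime_dvd_prime_iff_eq Nat.prime_two hn).1 (Nat.prime_two.dvd_of_dvd_pow this)
        subst hq2
        exact h2 (by exact_mod_cast CharP.cast_eq_zero F 2)
    · rintro ⟨k, hk⟩
      have hk2 : 2 ≤ k ∨ k = 1 ∨ k = 0 := by omega
      rcases hk2 with hk2 | rfl | rfl
      · refine h ?_
        obtain ⟨C, hC, hc⟩ := exists_cyclic_card_sub_one (F := F)
        exact only_of_cyclic h2 hC hk2 (by rw [hc, hk, Nat.add_sub_cancel]) (Or.inr hk)
      · refine h ?_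
        obtain ⟨C, hC, hc⟩ := exists_cyclic_card_add_one (F := F)
        exact only_of_cyclic h2 (k := 2) hC le_rfl (by rw [hc, hk]; norm_num) (Or.inl (by rw [hk]; norm_num))
      · refine h2 ?_
        obtain ⟨q, hq⟩ := CharP.exists F
        have h0 : ((Nat.card F : ℕ) : F) = 0 := FiniteField.cast_card_eq_zero F |> fun e => by
          rw [Nat.card_eq_fintype_card]; exact e
        rw [hk] at h0
        exact_mod_cast h0
  · rintro ⟨rfl, hm, he, hp⟩
    have h2 : (2 : F) ≠ 0 := by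
      intro h0
      obtain ⟨q, hq⟩ := CharP.exists F
      obtain ⟨n, hn, hc⟩ := FiniteField.card F q
      have : q ∣ 2 := (CharP.cast_eq_zero_iff F q 2).1 (by exact_mod_cast h0)
      rw [(Nat.prime_dvd_prime_iff_eq hn Nat.prime_two).1 this, ← Nat.card_eq_fintype_card] at hc
      exact he ⟨_, hc⟩
    exact not_only_two h2 hm hp

theorem red_psl_iff [Fintype F] (p : ℕ) [Fact p.Prime] :
    Red (Matrix.ProjectiveSpecialLinearGroup (Fin 2) F) p ↔
    (p = 2 ∧ (¬ ∃ k : ℕ, Fintype.card F + 1 = 2 ^ k) ∧ (¬ ∃ k : ℕ, Fintype.card F = 2 ^ k) ∧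
      ¬ ∃ k : ℕ, Fintype.card F = 2 ^ k + 1) := by
  rw [← red_sl_iff (F := F) p, red_iff, red_iff,
    only_iff_of_central (f := QuotientGroup.mk' (Subgroup.center S2)) (QuotientGroup.mk'_surjective _)
      (le_of_eq (QuotientGroup.ker_mk' _))]

end CfsgLib.FgsC.RedSL
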