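import Cfsg.Agent.Lib.PGroups.TwoSizesSylow
import Cfsg.Agent.Lib.Base.Cores
import Cfsg.Agent.Lib.FgsB.Basic
import Cfsg.Prelude.Def_CaseTheorems

/-!
A group with the class sizes of a nilpotent group is nilpotent.

For a set `π` of primes the number of elements whose class size avoids `π` is determined. For
`π = {p}` the conjugation action of a Sylow subgroup `P` modulo `Z(G)_p` shows `Z(P) ≤ Z(G)`; then
for `π = q'` all such elements lie in `O_q(G) Z(G)`, which forces a normal Sylow `q`-subgroup.
-/

set_option autoImplicit false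
set_option linter.style.haveILetI false

open scoped _root_.Classical

namespace CfsgLib.FgsC.SameSizes

open Subgroup

variable {G : Type*} [Group G]

/-- The class size avoids the primes satisfying `π`. -/
def Avoid (π : ℕ → Prop) (x : G) : Prop :=
  ∀ r : ℕ, r.Prime → π r → ¬ r ∣ (centralizer ({x} : Set G)).index

/-- The number of elements whose class size avoids `π`. -/
noncomputable def count (G : Type*) [Group G] (π : ℕ → Prop) : ℕ := Nat.card {x : G // Avoid π x}

theorem count_eq_sum [Finite G] [Fintype (ConjClasses G)] (π : ℕ → Prop) :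
    count G π = ∑ C : ConjClasses G,
      if (∀ r : ℕ, r.Prime → π r → ¬ r ∣ Nat.card C.carrier) then Nat.card C.carrier else 0 := by
  rw [count, ← Nat.card_congr (Equiv.sigmaFiberEquiv fun x : {x : G // Avoid π x} => ConjClasses.mk x.1),
    Nat.card_sigma]
  refine Finset.sum_congr rfl fun C _ => ?_
  split_ifs with hC
  · refine Nat.card_congr
      { toFun := fun x => ⟨x.1.1, ConjClasses.mem_carrier_iff_mk_eq.2 x.2⟩
        invFun := fun x => ⟨⟨x.1, ?_⟩, ConjClasses.mem_carrier_iff_mk_eq.1 x.2⟩
        left_inv := fun x => rfl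
        right_inv := fun x => rfl }
    intro r hr hπ
    rw [← CfsgLib.FgsB.card_carrier_eq_index, ConjClasses.mem_carrier_iff_mk_eq.1 x.2]
    exact hC r hr hπ
  · refine Nat.card_eq_zero.2 (Or.inl ⟨fun x => hC fun r hr hπ => ?_⟩)
    rw [← x.2, CfsgLib.FgsB.card_carrier_eq_index]
    exact x.1.2 r hr hπ

theorem card_eq_count [Finite G] : Nat.card G = count G (fun _ => False) :=
  (Nat.card_congr (Equiv.subtypeUnivEquiv fun x => fun _ _ h => h.elim)).symm

theorem card_center_eq_count [Finite G] : Nat.card (center G) = count G (fun _ => True) := by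
  refine Nat.card_congr (Equiv.subtypeEquivRight fun x => ?_)
  constructor
  · intro hx r hr _ hd
    rw [show centralizer ({x} : Set G) = ⊤ from eq_top_iff.2 fun g _ =>
      mem_centralizer_singleton_iff.2 (mem_center_iff.1 hx g), index_top] at hd
    exact hr.ne_one (Nat.dvd_one.1 hd)
  · intro h
    have h1 : (centralizer ({x} : Set G)).index = 1 := by
      by_contra hne
      obtain ⟨r, hr, hd⟩ := Nat.exists_prime_and_dvd hne
      exact h r hr trivial hd
    rw [index_eq_one] at h1
    exact mem_center_iff.2 fun g => mem_centralizer_singleton_iff.1 (h1 ▸ mem_top g)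

theorem count_congr {H : Type*} [Group H] [Finite G] [Finite H]
    (h : ∀ k : ℕ, Nat.card {C : ConjClasses G // Nat.card C.carrier = k} =
      Nat.card {C : ConjClasses H // Nat.card C.carrier = k}) (π : ℕ → Prop) :
    count G π = count H π := by
  classical
  haveI := Fintype.ofFinite (ConjClasses G)
  haveI := Fintype.ofFinite (ConjClasses H)
  let e : ∀ k : ℕ, {C : ConjClasses G // Nat.card C.carrier = k} ≃ {C : ConjClasses H // Nat.card C.carrier = k} :=
    fun k => Classical.choice (Finite.card_eq.1 (h k))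
  rw [count_eq_sum, count_eq_sum]
  refine Fintype.sum_equiv (Equiv.ofFiberEquiv e) _ _ fun C => ?_
  rw [show Nat.card (Equiv.ofFiberEquiv e C).carrier = Nat.card C.carrier from (e _ ⟨C, rfl⟩).2]

theorem factorization_le_of_dvd {a b : ℕ} (hb : b ≠ 0) (h : a ∣ b) (r : ℕ) :
    a.factorization r ≤ b.factorization r :=
  (Nat.factorization_le_iff_dvd (ne_zero_of_dvd_ne_zero hb h) hb).2 h r

variable [Finite G]

theorem mem_normal_sylow {r : ℕ} [Fact r.Prime] (P : Sylow r G) [(P : Subgroup G).Normal] {y : G} {n : ℕ}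
    (hy : orderOf y = r ^ n) : y ∈ (P : Subgroup G) := by
  obtain ⟨S, hS⟩ := (IsPGroup.of_card (n := n) (G := zpowers y) (by rw [Nat.card_zpowers, hy])).exists_le_sylow
  obtain ⟨g, rfl⟩ := MulAction.exists_smul_eq G P S
  rw [Sylow.smul_eq_of_normal] at hS
  exact hS (mem_zpowers y)

theorem exists_sylow_le_centralizer {r : ℕ} [Fact r.Prime] {x : G}
    (hx : ¬ r ∣ (centralizer ({x} : Set G)).index) {y : G} (hyx : Commute y x) {n : ℕ} (hy : orderOf y = r ^ n) :
    ∃ S : Sylow r G, (S : Subgroup G) ≤ centralizer ({x} : Set G) ∧ y ∈ (S : Subgroup G) := by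
  set C := centralizer ({x} : Set G)
  have hyC : y ∈ C := mem_centralizer_singleton_iff.2 hyx.eq
  obtain ⟨T, hT⟩ := (IsPGroup.of_card (n := n) (G := zpowers (⟨y, hyC⟩ : C))
    (by rw [Nat.card_zpowers, Subgroup.orderOf_mk, hy])).exists_le_sylow
  have hcard : Nat.card ((T : Subgroup C).map C.subtype) = r ^ (Nat.card G).factorization r := by
    rw [card_map_of_injective C.subtype_injective, T.card_eq_multiplicity, ← C.card_mul_index,
      Nat.factorization_mul Nat.card_pos.ne' index_ne_zero_of_finite, Finsupp.add_apply,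
      Nat.factorization_eq_zero_of_not_dvd hx, add_zero]
  refine ⟨Sylow.ofCard _ hcard, ?_, ?_⟩
  · rw [Sylow.coe_ofCard]; exact map_subtype_le _
  · rw [Sylow.coe_ofCard]; exact ⟨⟨y, hyC⟩, hT (mem_zpowers _), rfl⟩

theorem commute_of_nilpotent [Group.IsNilpotent G] {r s : ℕ} (hr : r.Prime) (hs : s.Prime) (hne : r ≠ s) {y w : G}
    {n m : ℕ} (hy : orderOf y = r ^ n) (hw : orderOf w = s ^ m) : Commute y w := by
  haveI := Fact.mk hr
  haveI := Fact.mk hs
  let P : Sylow r G := default
  let Q : Sylow s G := default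
  haveI hP : (P : Subgroup G).Normal := (Group.isNilpotent_of_finite_tfae (G := G) |>.out 0 3 rfl rfl).1 ‹_› r ⟨hr⟩ P
  haveI hQ : (Q : Subgroup G).Normal := (Group.isNilpotent_of_finite_tfae (G := G) |>.out 0 3 rfl rfl).1 ‹_› s ⟨hs⟩ Q
  exact commute_of_normal_of_disjoint _ _ hP hQ (IsPGroup.disjoint_of_ne r s hne _ _ P.2 Q.2) y w
    (mem_normal_sylow P hy) (mem_normal_sylow Q hw)

/-- The counts in a nilpotent group. -/
theorem factorization_count_of_nilpotent [Group.IsNilpotent G] (π : ℕ → Prop) {r : ℕ} (hr : r.Prime) :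
    (count G π).factorization r =
      if π r then (Nat.card (center G)).factorization r else (Nat.card G).factorization r := by
  set S : Set G := {y | ∃ s n : ℕ, s.Prime ∧ π s ∧ orderOf y = s ^ n}
  set D := centralizer S with hD
  have hDiff : ∀ x : G, Avoid π x ↔ x ∈ D := by
    intro x
    constructor
    · intro hx
      rw [hD, mem_centralizer_iff]
      rintro y ⟨s, n, hs, hπ, hy⟩
      haveI := Fact.mk hs
      obtain ⟨T, hT, -⟩ := exists_sylow_le_centralizer (hx s hs hπ) (Commute.one_left x) (n := 0) (by simp)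
      haveI : (T : Subgroup G).Normal := (Group.isNilpotent_of_finite_tfae (G := G) |>.out 0 3 rfl rfl).1 ‹_› s ⟨hs⟩ T
      exact mem_centralizer_singleton_iff.1 (hT (mem_normal_sylow T hy))
    · intro hx s hs hπ hd
      haveI := Fact.mk hs
      let T : Sylow s G := default
      refine T.not_dvd_index (hd.trans (index_dvd_of_le fun y hy => ?_))
      obtain ⟨n, hn⟩ := CfsgLib.FgsB.exists_orderOf_eq_pow_of_mem T.2 hy
      exact mem_centralizer_singleton_iff.2 (mem_centralizer_iff.1 hx y ⟨s, n, hs, hπ, hn⟩)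
  rw [count, Nat.card_congr (Equiv.subtypeEquivRight hDiff)]
  change (Nat.card D).factorization r = _
  haveI := Fact.mk hr
  have hZD : center G ≤ D := center_le_centralizer S
  split_ifs with hπ
  · refine le_antisymm ?_ (factorization_le_of_dvd Nat.card_pos.ne' (card_dvd_of_le hZD) r)
    let T : Sylow r D := default
    have hle : (T : Subgroup D).map D.subtype ≤ center G := by
      rintro _ ⟨a, ha, rfl⟩
      obtain ⟨n, hn⟩ := CfsgLib.FgsB.exists_orderOf_eq_pow_of_mem T.2 ha
      have hn' : orderOf (a : G) = r ^ n := by rw [Subgroup.orderOf_coe, hn]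
      refine mem_center_iff.2 fun g => mem_centralizer_singleton_iff.1
        (CfsgLib.PGroups.TwoSizesSylow.mem_of_primePow_parts (centralizer ({(a : G)} : Set G)) g ?_)
      rintro k ⟨s, m, hs, hm⟩
      refine mem_centralizer_singleton_iff.2 ?_
      by_cases hsr : s = r
      · exact mem_centralizer_iff.1 a.2 _ ⟨s, m, hs, hsr ▸ hπ, hm⟩
      · exact (commute_of_nilpotent hs hr hsr hm hn').eq
    have h1 := card_dvd_of_le hle
    rw [card_map_of_injective D.subtype_injective, T.card_eq_multiplicity] at h1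
    exact (Nat.Prime.pow_dvd_iff_le_factorization hr Nat.card_pos.ne').1 h1
  · refine le_antisymm (factorization_le_of_dvd Nat.card_pos.ne' D.card_subgroup_dvd_card r) ?_
    let P : Sylow r G := default
    have hle : (P : Subgroup G) ≤ D := by
      intro a ha
      obtain ⟨n, hn⟩ := CfsgLib.FgsB.exists_orderOf_eq_pow_of_mem P.2 ha
      rw [hD, mem_centralizer_iff]
      rintro y ⟨s, m, hs, hπs, hy⟩
      exact (commute_of_nilpotent hs hr (fun h => hπ (h ▸ hπs)) hy hn).eq
    have h1 := card_dvd_of_le hle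
    rw [P.card_eq_multiplicity] at h1
    exact (Nat.Prime.pow_dvd_iff_le_factorization hr Nat.card_pos.ne').1 h1

/-- A central `p`-element moving `x` to a conjugate is trivial if the class size is prime to `p`. -/
theorem shift_eq_one {p : ℕ} [Fact p.Prime] {x z g : G} (hx : ¬ p ∣ (centralizer ({x} : Set G)).index)
    (hz : z ∈ center G) {n : ℕ} (hzn : orderOf z = p ^ n) (hg : g * x * g⁻¹ = x * z) : z = 1 := by
  let N : Subgroup G :=
    { carrier := {h | x⁻¹ * (h * x * h⁻¹) ∈ center G}
      one_mem' := by simp [one_mem]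
      mul_mem' := by
        intro a b ha hb
        simp only [Set.mem_setOf_eq] at ha hb ⊢
        have h1 := mem_center_iff.1 hb a
        have : x⁻¹ * (a * b * x * (a * b)⁻¹) = x⁻¹ * (a * x * a⁻¹) * (x⁻¹ * (b * x * b⁻¹)) := by
          calc x⁻¹ * (a * b * x * (a * b)⁻¹) = x⁻¹ * a * x * (x⁻¹ * (b * x * b⁻¹)) * a⁻¹ := by group
            _ = x⁻¹ * a * x * (a⁻¹ * (a * (x⁻¹ * (b * x * b⁻¹)))) * a⁻¹ := by group
            _ = _ := by rw [h1]; group
        rw [this]
        exact mul_mem ha hb
      inv_mem' := by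
        intro a ha
        simp only [Set.mem_setOf_eq] at ha ⊢
        have h1 := mem_center_iff.1 ha a⁻¹
        have h2 := mem_center_iff.1 ha a
        have : x⁻¹ * (a⁻¹ * x * a⁻¹⁻¹) = (x⁻¹ * (a * x * a⁻¹))⁻¹ := by
          rw [inv_inv]
          calc x⁻¹ * (a⁻¹ * x * a)
              = x⁻¹ * a⁻¹ * x * (a * (x⁻¹ * (a * x * a⁻¹))) * (x⁻¹ * (a * x * a⁻¹))⁻¹ := by group
            _ = x⁻¹ * a⁻¹ * x * (x⁻¹ * (a * x * a⁻¹) * a) * (x⁻¹ * (a * x * a⁻¹))⁻¹ := by rw [h2]
            _ = _ := by group
        rw [this]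
        exact inv_mem ha }
  let f : N →* center G := MonoidHom.mk' (fun h => ⟨x⁻¹ * ((h : G) * x * (h : G)⁻¹), h.2⟩) fun a b => by
    refine Subtype.ext ?_
    have h1 := mem_center_iff.1 b.2 (a : G)
    show x⁻¹ * ((a : G) * b * x * ((a : G) * b)⁻¹) = x⁻¹ * ((a : G) * x * (a : G)⁻¹) * (x⁻¹ * ((b : G) * x * (b : G)⁻¹))
    calc x⁻¹ * ((a : G) * b * x * ((a : G) * b)⁻¹)
        = x⁻¹ * (a : G) * x * (x⁻¹ * ((b : G) * x * (b : G)⁻¹)) * (a : G)⁻¹ := by group
      _ = x⁻¹ * (a : G) * x * ((a : G)⁻¹ * ((a : G) * (x⁻¹ * ((b : G) * x * (b : G)⁻¹)))) * (a : G)⁻¹ := by group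
      _ = _ := by rw [h1]; group
  have hker : f.ker = (centralizer ({x} : Set G)).subgroupOf N := by
    ext a
    rw [MonoidHom.mem_ker, mem_subgroupOf, mem_centralizer_singleton_iff]
    constructor
    · intro h
      have h1 : x⁻¹ * ((a : G) * x * (a : G)⁻¹) = 1 := congrArg Subtype.val h
      calc (a : G) * x = x * (x⁻¹ * ((a : G) * x * (a : G)⁻¹)) * (a : G) := by group
        _ = x * (a : G) := by rw [h1, mul_one]
    · intro h
      refine Subtype.ext ?_
      show x⁻¹ * ((a : G) * x * (a : G)⁻¹) = 1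
      rw [h]; group
  have hxz : x⁻¹ * (g * x * g⁻¹) = z := by rw [hg, inv_mul_cancel_left]
  have hgN : g ∈ N := by show x⁻¹ * (g * x * g⁻¹) ∈ center G; rw [hxz]; exact hz
  have hzr : (⟨z, hz⟩ : center G) ∈ f.range := ⟨⟨g, hgN⟩, Subtype.ext hxz⟩
  have hd : orderOf z ∣ (centralizer ({x} : Set G)).index := by
    have h1 := orderOf_dvd_natCard (⟨⟨z, hz⟩, hzr⟩ : f.range)
    rw [← Subgroup.orderOf_coe, ← Subgroup.orderOf_coe, ← index_ker, hker] at h1
    refine h1.trans ?_
    have hle : centralizer ({x} : Set G) ≤ N := fun a ha => by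
      show x⁻¹ * (a * x * a⁻¹) ∈ center G
      rw [mem_centralizer_singleton_iff.1 ha, mul_inv_cancel_right, inv_mul_cancel]
      exact one_mem _
    exact Dvd.intro _ (relIndex_mul_index hle)
  rw [hzn] at hd
  by_contra hne
  refine hx ((dvd_pow_self p ?_).trans hd)
  rintro rfl
  rw [pow_zero, orderOf_eq_one_iff] at hzn
  exact hne hzn

/-- The centres of the Sylow subgroups are central. -/
theorem sylow_center_le {p : ℕ} [hp : Fact p.Prime]
    (hU : (count G (· = p)).factorization p = (Nat.card (center G)).factorization p) (P : Sylow p G) :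
    (P : Subgroup G) ⊓ centralizer ((P : Subgroup G) : Set G) ≤ center G := by
  classical
  set CP := centralizer ((P : Subgroup G) : Set G)
  set Zp := (P : Subgroup G) ⊓ center G
  obtain ⟨j, hj⟩ := IsPGroup.iff_card.1 (P.2.to_le (inf_le_left : Zp ≤ _))
  have hjv : (Nat.card (center G)).factorization p = j := by
    let S : Sylow p (center G) := default
    haveI : ((S : Subgroup (center G)).map (center G).subtype).Normal := ⟨fun a ha g => by
      have : g * a * g⁻¹ = a := by
        obtain ⟨b, -, rfl⟩ := ha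
        show g * (b : G) * g⁻¹ = (b : G)
        rw [mem_center_iff.1 b.2 g, mul_inv_cancel_right]
      rw [this]; exact ha⟩
    have hle : (S : Subgroup (center G)).map (center G).subtype ≤ Zp :=
      le_inf ((S.2.map _).le_sylow_of_normal P) (map_subtype_le _)
    have h1 := card_dvd_of_le hle
    rw [card_map_of_injective (center G).subtype_injective, S.card_eq_multiplicity, hj,
      Nat.pow_dvd_pow_iff_le_right hp.out.one_lt] at h1
    have h2 := factorization_le_of_dvd Nat.card_pos.ne' (card_dvd_of_le (inf_le_right : Zp ≤ center G)) p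
    rw [hj, Nat.factorization_pow_self hp.out] at h2
    omega
  intro a ha
  by_contra hac
  -- the centraliser of `P` has too large a `p`-part
  have hdvdCP : p ^ (j + 1) ∣ Nat.card CP := by
    obtain ⟨k, hk⟩ := IsPGroup.iff_card.1 (P.2.to_le (inf_le_left : (P : Subgroup G) ⊓ CP ≤ _))
    have hlt : Zp < (P : Subgroup G) ⊓ CP :=
      lt_of_le_of_ne (le_inf inf_le_left (inf_le_right.trans (center_le_centralizer _)))
        fun h => hac (h ▸ ha : a ∈ Zp).2
    have h1 : Nat.card Zp < Nat.card ((P : Subgroup G) ⊓ CP : Subgroup G) := by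
      exact lt_of_le_of_ne (card_le_of_le hlt.le) fun h => hlt.ne (eq_of_le_of_card_ge hlt.le h.ge)
    rw [hj, hk, Nat.pow_lt_pow_iff_right hp.out.one_lt] at h1
    exact (Nat.pow_dvd_pow p h1).trans (hk ▸ card_dvd_of_le inf_le_right)
  have hCPU : ∀ x ∈ CP, Avoid (· = p) x := by
    rintro x hx r hr rfl hd
    exact P.not_dvd_index (hd.trans (index_dvd_of_le fun b hb =>
      mem_centralizer_singleton_iff.2 (mem_centralizer_iff.1 hx b hb)))
  -- the orbits outside the centraliser
  let W := {x : G // Avoid (· = p) x ∧ x ∉ CP}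
  have hidx : ∀ (x g z : G), z ∈ center G →
      (centralizer ({g * x * g⁻¹ * z} : Set G)).index = (centralizer ({x} : Set G)).index := by
    intro x g z hz
    have e1 : centralizer ({g * x * g⁻¹ * z} : Set G) = centralizer ({g * x * g⁻¹} : Set G) := by
      ext b
      rw [mem_centralizer_singleton_iff, mem_centralizer_singleton_iff]
      have h1 := mem_center_iff.1 hz b
      constructor
      · intro h
        refine mul_right_cancel (b := z) ?_
        calc b * (g * x * g⁻¹) * z = b * (g * x * g⁻¹ * z) := mul_assoc _ _ _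
          _ = g * x * g⁻¹ * (z * b) := by rw [h, mul_assoc]
          _ = g * x * g⁻¹ * b * z := by rw [← h1, ← mul_assoc]
      · intro h
        rw [← mul_assoc, h, mul_assoc, h1, ← mul_assoc]
    rw [e1, ← CfsgLib.FgsB.card_carrier_eq_index, ← CfsgLib.FgsB.card_carrier_eq_index,
      ConjClasses.mk_eq_mk_iff_isConj.2 (isConj_iff.2 ⟨g⁻¹, by group⟩ : IsConj (g * x * g⁻¹) x)]
  have hact : ∀ (g : (P : Subgroup G)) (z : Zp) (x : W),
      Avoid (· = p) ((g : G) * x.1 * (g : G)⁻¹ * z) ∧ (g : G) * x.1 * (g : G)⁻¹ * z ∉ CP := by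
    intro g z x
    refine ⟨fun r hr hrp => ?_, fun hc => x.2.2 ?_⟩
    · rw [hidx _ _ _ z.2.2]; exact x.2.1 r hr hrp
    · have h1 : (g : G) * x.1 * (g : G)⁻¹ ∈ CP := by
        simpa using mul_mem hc (inv_mem (center_le_centralizer _ z.2.2 : (z : G) ∈ CP))
      refine mem_centralizer_iff.2 fun b hb => ?_
      have h2 := mem_centralizer_iff.1 h1 ((g : G) * b * (g : G)⁻¹) (mul_mem (mul_mem g.2 hb) (inv_mem g.2))
      calc b * x.1 = (g : G)⁻¹ * ((g : G) * b * (g : G)⁻¹ * ((g : G) * x.1 * (g : G)⁻¹)) * g := by group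
        _ = (g : G)⁻¹ * ((g : G) * x.1 * (g : G)⁻¹ * ((g : G) * b * (g : G)⁻¹)) * g := by rw [h2]
        _ = x.1 * b := by group
  letI : MulAction (↥(P : Subgroup G) × ↥Zp) W :=
    { smul := fun w x => ⟨(w.1 : G) * x.1 * (w.1 : G)⁻¹ * w.2, hact w.1 w.2 x⟩
      one_smul := fun x => Subtype.ext (by
        show ((1 : (P : Subgroup G)) : G) * x.1 * ((1 : (P : Subgroup G)) : G)⁻¹ * ((1 : Zp) : G) = x.1
        simp)
      mul_smul := fun v w x => Subtype.ext (by
        show ((v.1 * w.1 : (P : Subgroup G)) : G) * x.1 * ((v.1 * w.1 : (P : Subgroup G)) : G)⁻¹ * ((v.2 * w.2 : Zp) : G) =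
          (v.1 : G) * ((w.1 : G) * x.1 * (w.1 : G)⁻¹ * (w.2 : G)) * (v.1 : G)⁻¹ * (v.2 : G)
        have h1 := mem_center_iff.1 w.2.2.2 (v.1 : G)⁻¹
        have h2 := mem_center_iff.1 w.2.2.2 (v.2 : G)
        calc ((v.1 * w.1 : (P : Subgroup G)) : G) * x.1 * ((v.1 * w.1 : (P : Subgroup G)) : G)⁻¹ * ((v.2 * w.2 : Zp) : G)
            = (v.1 : G) * ((w.1 : G) * x.1 * (w.1 : G)⁻¹) * (v.1 : G)⁻¹ * ((v.2 : G) * (w.2 : G)) := by
              simp [mul_assoc]
          _ = (v.1 : G) * ((w.1 : G) * x.1 * (w.1 : G)⁻¹) * ((v.1 : G)⁻¹ * (w.2 : G)) * (v.2 : G) := by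
              rw [h2]; simp [mul_assoc]
          _ = _ := by rw [h1]; simp [mul_assoc]) }
  have hWp : IsPGroup p (↥(P : Subgroup G) × ↥Zp) := by
    obtain ⟨i, hi⟩ := IsPGroup.iff_card.1 P.2
    exact IsPGroup.of_card (n := i + j) (by rw [Nat.card_prod, hi, hj, pow_add])
  have hdvdW : p ^ (j + 1) ∣ Nat.card W := by
    haveI := Fintype.ofFinite (Quotient (MulAction.orbitRel (↥(P : Subgroup G) × ↥Zp) W))
    rw [Nat.card_congr (MulAction.selfEquivSigmaOrbits (↥(P : Subgroup G) × ↥Zp) W), Nat.card_sigma]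
    refine Finset.dvd_sum fun ω _ => ?_
    obtain ⟨k, hk⟩ := hWp.card_orbit ω.out
    rw [hk]
    refine Nat.pow_dvd_pow p ?_
    by_contra hlt
    have hle : Nat.card (MulAction.orbit (↥(P : Subgroup G) × ↥Zp) ω.out) ≤ Nat.card Zp := by
      rw [hk, hj]; exact Nat.pow_le_pow_right hp.out.pos (by omega)
    obtain ⟨x, hx⟩ : ∃ x, ω.out = x := ⟨_, rfl⟩
    rw [hx] at hle
    -- some element of `P` moves `x` out of its coset
    obtain ⟨g, hg, hgx⟩ : ∃ g ∈ (P : Subgroup G), x.1 * g ≠ g * x.1 := by
      by_contra hno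
      push Not at hno
      exact x.2.2 (mem_centralizer_iff.2 fun g hg => (hno g hg).symm)
    let f : Option Zp → MulAction.orbit (↥(P : Subgroup G) × ↥Zp) x := fun o =>
      o.elim ⟨((⟨g, hg⟩ : (P : Subgroup G)), (1 : Zp)) • x, MulAction.mem_orbit _ _⟩
        fun z => ⟨((1 : (P : Subgroup G)), z) • x, MulAction.mem_orbit _ _⟩
    have hnone : ((f none).1 : W).1 = g * x.1 * g⁻¹ := by
      show g * x.1 * g⁻¹ * ((1 : Zp) : G) = _
      simp
    have hsome : ∀ z : Zp, ((f (some z)).1 : W).1 = x.1 * z := fun z => by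
      show ((1 : (P : Subgroup G)) : G) * x.1 * ((1 : (P : Subgroup G)) : G)⁻¹ * (z : G) = _
      simp
    have hne : ∀ z : Zp, g * x.1 * g⁻¹ ≠ x.1 * z := by
      intro z h
      obtain ⟨n, hn⟩ := CfsgLib.FgsB.exists_orderOf_eq_pow_of_mem P.2 z.2.1
      have h1 : (z : G) = 1 := shift_eq_one (x.2.1 p hp.out rfl) z.2.2 hn h
      rw [h1, mul_one, mul_inv_eq_iff_eq_mul] at h
      exact hgx h.symm
    have hf : Function.Injective f := by
      intro o o' h
      have h' := congrArg (fun w : MulAction.orbit (↥(P : Subgroup G) × ↥Zp) x => (w.1 : W).1) h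
      rcases o with _ | z <;> rcases o' with _ | z' <;> simp only [hnone, hsome] at h'
      · rfl
      · exact absurd h' (hne z')
      · exact absurd h'.symm (hne z)
      · rw [Subtype.ext (mul_left_cancel h')]
    have := Nat.card_le_card_of_injective f hf
    rw [Finite.card_option] at this
    omega
  have hsum : count G (· = p) = Nat.card CP + Nat.card W := by
    rw [count, ← Nat.card_congr (Equiv.sumCompl fun x : {x : G // Avoid (· = p) x} => x.1 ∈ CP), Nat.card_sum]
    congr 1
    · exact Nat.card_congr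
        ((Equiv.subtypeSubtypeEquivSubtypeInter _ fun x => x ∈ CP).trans
          (Equiv.subtypeEquivRight fun x => ⟨fun h => h.2, fun h => ⟨hCPU x h, h⟩⟩))
    · exact Nat.card_congr (Equiv.subtypeSubtypeEquivSubtypeInter _ fun x => x ∉ CP)
  have h3 : p ^ (j + 1) ∣ count G (· = p) := hsum ▸ dvd_add hdvdCP hdvdW
  have h0 : count G (· = p) ≠ 0 := by
    rw [hsum]
    have := (Nat.card_pos : 0 < Nat.card CP)
    omega
  have h4 := (Nat.Prime.pow_dvd_iff_le_factorization hp.out h0).1 h3
  omega

/-- The criterion. -/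
theorem isNilpotent_of_counts
    (hU : ∀ (π : ℕ → Prop) (r : ℕ), r.Prime → (count G π).factorization r =
      if π r then (Nat.card (center G)).factorization r else (Nat.card G).factorization r) :
    Group.IsNilpotent G := by
  refine (Group.isNilpotent_of_finite_tfae (G := G) |>.out 3 0 rfl rfl).1 ?_
  intro q hq Q
  haveI := hq
  set O := Cfsg.pCore q G
  haveI hOn : O.Normal := Cfsg.pCore_normal q G
  have hcen : ∀ (r : ℕ), r.Prime → ∀ (y : G) (n : ℕ), orderOf y = r ^ n →
      ¬ r ∣ (centralizer ({y} : Set G)).index → y ∈ center G := by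
    intro r hr y n hy hd
    haveI := Fact.mk hr
    obtain ⟨S, hS, hyS⟩ := exists_sylow_le_centralizer hd (Commute.refl y) hy
    have hUr := hU (· = r) r hr
    rw [if_pos rfl] at hUr
    exact sylow_center_le hUr S ⟨hyS, mem_centralizer_iff.2 fun b hb => mem_centralizer_singleton_iff.1 (hS hb)⟩
  -- all elements of `q`-power class size lie in `O_q(G) Z(G)`
  have hmem : ∀ x : G, Avoid (· ≠ q) x → x ∈ O ⊔ center G := by
    intro x hx
    refine CfsgLib.PGroups.TwoSizesSylow.mem_of_primePow_parts _ _ ?_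
    rintro k ⟨r, n, hr, hy⟩
    set y := x ^ k
    have hdvd : (centralizer ({y} : Set G)).index ∣ (centralizer ({x} : Set G)).index :=
      index_dvd_of_le fun b hb => mem_centralizer_singleton_iff.2
        ((show Commute b x from mem_centralizer_singleton_iff.1 hb).pow_right k).eq
    by_cases hrq : r = q
    · refine mem_sup_left ?_
      subst hrq
      haveI := Fact.mk hr
      set C := centralizer ({y} : Set G) with hC
      have hyC : y ∈ C := mem_centralizer_singleton_iff.2 rfl
      obtain ⟨i, hi⟩ : ∃ i, C.index = r ^ i := by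
        refine ⟨_, Nat.eq_prime_pow_of_unique_prime_dvd index_ne_zero_of_finite fun {d} hd hdc => ?_⟩
        by_contra hne
        exact hx d hd hne (hdc.trans hdvd)
      obtain ⟨T, hT⟩ := (IsPGroup.of_card (n := n) (G := zpowers (⟨y, hyC⟩ : C))
        (by rw [Nat.card_zpowers, Subgroup.orderOf_mk, hy])).exists_le_sylow
      obtain ⟨S, hS⟩ := (T.2.map C.subtype).exists_le_sylow
      have hinf : C.subgroupOf S = ((T : Subgroup C).map C.subtype).subgroupOf S := by
        refine le_antisymm ?_ (fun b hb => map_subtype_le _ hb)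
        intro b hb
        have hle : (T : Subgroup C) ≤ ((S : Subgroup G).subgroupOf C) := fun c hc => hS (mem_map_of_mem _ hc)
        have := T.3 (S.2.comap_subtype) hle
        exact ⟨⟨b, hb⟩, this ▸ (b.2 : (b : G) ∈ (S : Subgroup G)), rfl⟩
      have hrel : (C.subgroupOf S).index = C.index := by
        have h1 := (C.subgroupOf S).card_mul_index
        have h2 : Nat.card (C.subgroupOf S) = r ^ (Nat.card C).factorization r := by
          rw [hinf, Nat.card_congr (subgroupOfEquivOfLe hS).toEquiv, card_map_of_injective C.subtype_injective,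
            T.card_eq_multiplicity]
        rw [h2, S.card_eq_multiplicity, ← C.card_mul_index,
          Nat.factorization_mul Nat.card_pos.ne' index_ne_zero_of_finite, Finsupp.add_apply, pow_add, hi,
          Nat.factorization_pow_self hr] at h1
        rw [hi]
        exact Nat.eq_of_mul_eq_mul_left (pow_pos hr.pos _) h1
      let f : (S : Subgroup G) ⧸ C.subgroupOf S → G ⧸ C := Quotient.map' Subtype.val fun a b hab => by
        rw [QuotientGroup.leftRel_apply] at hab ⊢
        exact hab
      have hf : Function.Injective f := by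
        intro a b hab
        induction a using Quotient.inductionOn' with | _ a =>
        induction b using Quotient.inductionOn' with | _ b =>
        have h1 : ((a : G) : G ⧸ C) = ((b : G) : G ⧸ C) := hab
        have h2 := QuotientGroup.eq.1 h1
        exact QuotientGroup.eq.2 h2
      have hfs := ((Nat.bijective_iff_injective_and_card f).2 ⟨hf, hrel⟩).2
      have hcl : normalClosure ({y} : Set G) ≤ (S : Subgroup G) := by
        refine (closure_le _).2 ?_
        intro w hw
        obtain ⟨v, hv, hvw⟩ := Group.mem_conjugatesOfSet_iff.1 hw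
        rw [Set.mem_singleton_iff.1 hv] at hvw
        obtain ⟨g, hg⟩ := isConj_iff.1 hvw
        obtain ⟨s, hs⟩ := hfs (g : G ⧸ C)
        induction s using Quotient.inductionOn' with | _ s =>
        have hc : (s : G)⁻¹ * g ∈ C := QuotientGroup.eq.1 (hs : ((s : G) : G ⧸ C) = (g : G ⧸ C))
        have h2 : (s : G)⁻¹ * g * y = y * ((s : G)⁻¹ * g) := mem_centralizer_singleton_iff.1 hc
        rw [SetLike.mem_coe, ← hg, show g * y * g⁻¹ = (s : G) * ((s : G)⁻¹ * g * y) * g⁻¹ by group, h2,
          show (s : G) * (y * ((s : G)⁻¹ * g)) * g⁻¹ = (s : G) * y * (s : G)⁻¹ by group]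
        exact mul_mem (mul_mem s.2 (hS ⟨⟨y, hyC⟩, hT (mem_zpowers _), rfl⟩)) (inv_mem s.2)
      exact CfsgLib.Base.le_pCore (S.2.to_le hcl) (subset_normalClosure (Set.mem_singleton y))
    · exact mem_sup_right (hcen r hr y n hy fun h => hx r hr hrq (h.trans hdvd))
  -- counting
  have hle : count G (· ≠ q) ≤ Nat.card ↥(O ⊔ center G) :=
    Nat.card_le_card_of_injective (fun x => (⟨x.1, hmem x.1 x.2⟩ : ↥(O ⊔ center G)))
      fun a b h => by simpa [Subtype.ext_iff] using h
  have hne : count G (· ≠ q) ≠ 0 := by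
    haveI : Nonempty {x : G // Avoid (· ≠ q) x} := ⟨⟨1, fun r hr _ hd => by
      rw [show centralizer ({1} : Set G) = ⊤ from eq_top_iff.2 fun g _ =>
        mem_centralizer_singleton_iff.2 (by simp), index_top] at hd
      exact hr.ne_one (Nat.dvd_one.1 hd)⟩⟩
    exact Nat.card_pos.ne'
  have hZ0 : ∀ r, r ≠ q → (Nat.card ↥(O ⊔ center G)).factorization r ≤ (Nat.card (center G)).factorization r := by
    intro r hrq
    by_cases hr : r.Prime
    swap
    · simp [Nat.factorization_eq_zero_of_not_prime _ hr]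
    have h1 : (O.relIndex (center G)) ∣ Nat.card (center G) := relIndex_dvd_card _ _
    obtain ⟨i, hi⟩ := IsPGroup.iff_card.1 (CfsgLib.Base.isPGroup_pCore q G)
    have h2 : Nat.card ↥(O ⊔ center G) = Nat.card O * O.relIndex (center G) := by
      rw [← relIndex_sup_left, relIndex, ← Nat.card_congr (subgroupOfEquivOfLe (le_sup_left : O ≤ O ⊔ center G)).toEquiv,
        card_mul_index]
    rw [h2, Nat.factorization_mul Nat.card_pos.ne' (ne_zero_of_dvd_ne_zero Nat.card_pos.ne' h1), Finsupp.add_apply,
      hi, Nat.factorization_pow, Finsupp.smul_apply, (hq.out).factorization, Finsupp.single_eq_of_ne hrq, smul_zero,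
      zero_add]
    exact factorization_le_of_dvd Nat.card_pos.ne' h1 r
  have hdvd : Nat.card ↥(O ⊔ center G) ∣ count G (· ≠ q) := by
    rw [← Nat.factorization_le_iff_dvd Nat.card_pos.ne' hne]
    intro r
    by_cases hr : r.Prime
    swap
    · simp [Nat.factorization_eq_zero_of_not_prime _ hr]
    rw [hU _ r hr]
    by_cases hrq : r = q
    · rw [if_neg (not_not.2 hrq)]
      exact factorization_le_of_dvd Nat.card_pos.ne' (card_subgroup_dvd_card _) r
    · rw [if_pos hrq]
      exact hZ0 r hrq
  have heq : Nat.card ↥(O ⊔ center G) = count G (· ≠ q) :=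
    le_antisymm (Nat.le_of_dvd (Nat.pos_of_ne_zero hne) hdvd) hle
  let S : Sylow q ↥(O ⊔ center G) := default
  have hcard : Nat.card ((S : Subgroup ↥(O ⊔ center G)).map (O ⊔ center G).subtype) =
      q ^ (Nat.card G).factorization q := by
    rw [card_map_of_injective (O ⊔ center G).subtype_injective, S.card_eq_multiplicity, heq, hU _ q hq.out,
      if_neg (not_not.2 rfl)]
  let P : Sylow q G := Sylow.ofCard _ hcard
  have hPO : (P : Subgroup G) = O := by
    refine le_antisymm ?_ (CfsgLib.Base.pCore_le_sylow P)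
    intro a ha
    have ha' : a ∈ O ⊔ center G := map_subtype_le _ (by rwa [Sylow.coe_ofCard] at ha)
    obtain ⟨o, ho, z, hz, rfl⟩ := mem_sup_of_normal_left.1 ha'
    refine mul_mem ho ?_
    have hzP : z ∈ (P : Subgroup G) := by
      simpa using mul_mem (inv_mem (CfsgLib.Base.pCore_le_sylow P ho)) ha
    have hn : (zpowers z).Normal := ⟨fun b hb g => by
      obtain ⟨i, rfl⟩ := mem_zpowers_iff.1 hb
      rw [mem_center_iff.1 (zpow_mem hz i) g, mul_inv_cancel_right]
      exact zpow_mem (mem_zpowers z) i⟩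
    exact CfsgLib.Base.le_pCore (hN := hn) (P.2.to_le (zpowers_le.2 hzP)) (mem_zpowers z)
  haveI : (P : Subgroup G).Normal := hPO ▸ hOn
  obtain ⟨g, rfl⟩ := MulAction.exists_smul_eq G P Q
  rwa [Sylow.smul_eq_of_normal]

/-- A group with the class sizes of a nilpotent group is nilpotent. -/
theorem isNilpotent_of_same_sizes {H : Type*} [Group H] [Finite H] [Group.IsNilpotent H]
    (h : ∀ k : ℕ, Nat.card {C : ConjClasses G // Nat.card C.carrier = k} =
      Nat.card {C : ConjClasses H // Nat.card C.carrier = k}) : Group.IsNilpotent G := by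
  refine isNilpotent_of_counts fun π r hr => ?_
  have e1 : Nat.card (center G) = Nat.card (center H) := by
    rw [card_center_eq_count, card_center_eq_count, count_congr h]
  have e2 : Nat.card G = Nat.card H := by
    rw [card_eq_count (G := G), card_eq_count (G := H), count_congr h]
  rw [count_congr h, factorization_count_of_nilpotent π hr, e1, e2]

end CfsgLib.FgsC.SameSizes
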