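import Mathlib
import Cfsg.Prelude.Def_SolvableStructure
import Cfsg.Agent.Lib.Base.MinNonNilpotent
import Cfsg.Agent.Lib.PLocal.PLength
import Cfsg.Agent.Lib.PLocal.PSolvable
import Cfsg.Agent.Lib.Coprime.Action2
import Cfsg.Agent.Lib.FgsC.HallHigmanB
import Cfsg.Agent.Lib.PLocal.QdStable
import Cfsg.Agent.Lib.OddOrder.PLengthZGroup
import Cfsg.Agent.Lib.Techniques.StableCentralQuotient

/-!
A `p`-soluble group whose Sylow `p`-subgroup is that of a Schmidt group has `p`-length one.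
-/

set_option autoImplicit false
set_option linter.unusedSectionVars false
set_option linter.style.haveILetI false

namespace Cfsg.FgsC.SchmidtSylow

open Cfsg
open scoped commutatorElement

universe u v

/-- The automorphism `τ` of the Sylow subgroup of a Schmidt group. -/
structure Aut (p : ℕ) (S : Type u) [Group S] where
  τ : MulAut S
  r : ℕ
  hr : r.Prime
  hrp : r ≠ p
  hpow : τ ^ r = 1
  hne : τ ≠ 1
  hfix : ∀ K : Subgroup S, (∀ k ∈ K, τ k ∈ K) → K ≠ ⊤ → ∀ k ∈ K, τ k = k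
  hna : ¬ ∀ a b : S, a * b = b * a

namespace Aut

variable {p : ℕ} {S : Type u} [Group S] [Finite S] [Fact p.Prime] (A : Aut p S) (hS : IsPGroup p S)
include A hS

theorem fixed_of_disp {s : S} (hc : A.τ (s⁻¹ * A.τ s) = s⁻¹ * A.τ s) : A.τ s = s := by
  have key : ∀ n : ℕ, (A.τ ^ n) s = s * (s⁻¹ * A.τ s) ^ n := by
    intro n
    induction n with
    | zero => simp
    | succ n ih =>
      rw [pow_succ', MulAut.mul_apply, ih, map_mul, map_pow, hc, pow_succ', ← mul_assoc,
        mul_inv_cancel_left]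
  have h := key A.r
  rw [A.hpow, MulAut.one_apply, left_eq_mul] at h
  obtain ⟨k, hk⟩ := hS (s⁻¹ * A.τ s)
  have h1 := Nat.eq_one_of_dvd_coprimes
    (((Nat.coprime_primes A.hr (Fact.out : p.Prime)).2 A.hrp).pow_right k)
    (orderOf_dvd_of_pow_eq_one h) (orderOf_dvd_of_pow_eq_one hk)
  rw [orderOf_eq_one_iff, inv_mul_eq_one] at h1
  exact h1.symm

theorem not_all_disp (K : Subgroup S) (hinv : ∀ k ∈ K, A.τ k ∈ K) (hK : K ≠ ⊤) :
    ∃ s : S, s⁻¹ * A.τ s ∉ K := by
  by_contra h
  push Not at h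
  exact A.hne (MulEquiv.ext fun s => A.fixed_of_disp hS (A.hfix K hinv hK _ (h s)))

theorem le_center_of_normal (K : Subgroup S) [K.Normal] (hinv : ∀ k ∈ K, A.τ k ∈ K) (hK : K ≠ ⊤) :
    K ≤ Subgroup.center S := by
  intro k hk
  by_contra hkc
  let T := Subgroup.centralizer (K : Set S)
  have hT : T ≠ ⊤ := fun h => hkc (Subgroup.mem_center_iff.2 fun s =>
    (Subgroup.mem_centralizer_iff.1 (h ▸ Subgroup.mem_top s : s ∈ T) k hk).symm)
  have hTinv : ∀ t ∈ T, A.τ t ∈ T := fun t ht => Subgroup.mem_centralizer_iff.2 fun l hl => by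
    rw [← A.hfix K hinv hK l hl, ← map_mul, ← map_mul, Subgroup.mem_centralizer_iff.1 ht l hl]
  obtain ⟨s, hs⟩ := A.not_all_disp hS T hTinv hT
  refine hs (Subgroup.mem_centralizer_iff.2 fun l hl => ?_)
  have h1 : s * l * s⁻¹ ∈ K := (inferInstance : K.Normal).conj_mem l hl s
  have h2 : A.τ s * l * (A.τ s)⁻¹ = s * l * s⁻¹ := by
    have := A.hfix K hinv hK _ h1
    rwa [map_mul, map_mul, map_inv, A.hfix K hinv hK l hl] at this
  calc l * (s⁻¹ * A.τ s) = s⁻¹ * ((s * l * s⁻¹) * A.τ s) := by group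
    _ = s⁻¹ * ((A.τ s * l * (A.τ s)⁻¹) * A.τ s) := by rw [h2]
    _ = _ := by group

theorem commutator_ne_top : commutator S ≠ ⊤ := by
  haveI : Group.IsNilpotent S := hS.isNilpotent
  haveI : Nontrivial S := by
    by_contra h
    haveI := not_nontrivial_iff_subsingleton.1 h
    exact A.hna fun a b => Subsingleton.elim _ _
  exact (Group.IsSolvable.commutator_lt_top_of_nontrivial S).ne

theorem commutator_inv : ∀ k ∈ commutator S, A.τ k ∈ commutator S := fun k hk => by
  have h := Subgroup.map_commutator (⊤ : Subgroup S) ⊤ A.τ.toMonoidHom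
  rw [Subgroup.map_top_of_surjective _ A.τ.surjective, ← commutator_def] at h
  exact h ▸ Subgroup.mem_map_of_mem A.τ.toMonoidHom hk

theorem commutator_le_center : commutator S ≤ Subgroup.center S :=
  A.le_center_of_normal hS _ (A.commutator_inv hS) (A.commutator_ne_top hS)

theorem comm_mem (a b : S) : ⁅a, b⁆ ∈ commutator S :=
  Subgroup.commutator_mem_commutator (Subgroup.mem_top a) (Subgroup.mem_top b)

theorem fixed_mem_commutator {s : S} (hs : A.τ s = s) : s ∈ commutator S := by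
  set M := commutator S with hM
  let q : S →* S ⧸ M := QuotientGroup.mk' M
  have hcomm : ∀ a b : S ⧸ M, a * b = b * a := fun a b => by
    obtain ⟨a, rfl⟩ := QuotientGroup.mk'_surjective M a
    obtain ⟨b, rfl⟩ := QuotientGroup.mk'_surjective M b
    rw [← commutatorElement_eq_one_iff_mul_comm, ← map_commutatorElement, QuotientGroup.mk'_apply,
      QuotientGroup.eq_one_iff]
    exact A.comm_mem hS a b
  let δ : S →* S ⧸ M := MonoidHom.mk' (fun x => q (x⁻¹ * A.τ x)) fun a b => by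
    simp only [map_mul, map_inv, mul_inv_rev]
    rw [hcomm (q b)⁻¹ (q a)⁻¹]
    simp only [mul_assoc]
    congr 1
    rw [← mul_assoc, ← mul_assoc, hcomm (q b)⁻¹ (q (A.τ a))]
  have hsurj : δ.range = ⊤ := by
    by_contra hne
    have hne' : δ.range.comap q ≠ ⊤ := fun h => hne (by
      rw [← Subgroup.map_comap_eq_self_of_surjective (QuotientGroup.mk'_surjective M) δ.range, h,
        Subgroup.map_top_of_surjective _ (QuotientGroup.mk'_surjective M)])
    have hinv : ∀ x ∈ δ.range.comap q, A.τ x ∈ δ.range.comap q := by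
      rintro x ⟨w, hw⟩
      refine ⟨A.τ w, ?_⟩
      have hwx : (w⁻¹ * A.τ w)⁻¹ * x ∈ M := QuotientGroup.eq.1 hw
      have := A.commutator_inv hS _ hwx
      apply QuotientGroup.eq.2
      simpa using this
    obtain ⟨x, hx⟩ := A.not_all_disp hS _ hinv hne'
    exact hx ⟨x, rfl⟩
  have hker : M ≤ δ.ker := fun m hm => by
    show q (m⁻¹ * A.τ m) = 1
    rw [A.hfix M (A.commutator_inv hS) (A.commutator_ne_top hS) m hm, inv_mul_cancel, map_one]
  have hf : Function.Surjective (QuotientGroup.lift M δ hker) := fun y => by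
    obtain ⟨x, hx⟩ := (hsurj ▸ Subgroup.mem_top y : y ∈ δ.range)
    exact ⟨QuotientGroup.mk x, hx⟩
  have hinj := (Finite.injective_iff_surjective (f := QuotientGroup.lift M δ hker)).2 hf
  rw [← QuotientGroup.eq_one_iff]
  apply hinj
  rw [map_one]
  show q (s⁻¹ * A.τ s) = 1
  rw [hs, inv_mul_cancel, map_one]

theorem center_eq : Subgroup.center S = commutator S := by
  refine le_antisymm (fun z hz => A.fixed_mem_commutator hS ?_) (A.commutator_le_center hS)
  exact A.hfix _ (fun k hk => Subgroup.mem_center_iff.2 fun g => by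
      obtain ⟨g, rfl⟩ := A.τ.surjective g
      rw [← map_mul, ← map_mul, Subgroup.mem_center_iff.1 hk g])
    (fun h => A.hna fun a b => (Subgroup.mem_center_iff.1 (h ▸ Subgroup.mem_top a : a ∈ _) b).symm)
    z hz

theorem proper_le_center (K : Subgroup S) (hinv : ∀ k ∈ K, A.τ k ∈ K) (hK : K ≠ ⊤) :
    K ≤ Subgroup.center S := fun k hk => by
  rw [A.center_eq hS]; exact A.fixed_mem_commutator hS (A.hfix K hinv hK k hk)

theorem fix_center {z : S} (hz : z ∈ Subgroup.center S) : A.τ z = z :=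
  A.hfix _ (A.commutator_inv hS) (A.commutator_ne_top hS) z (A.center_eq hS ▸ hz)

theorem comm_center (a b : S) : ⁅a, b⁆ ∈ Subgroup.center S :=
  A.commutator_le_center hS (A.comm_mem hS a b)

theorem pow_mem_center (s : S) : s ^ p ∈ Subgroup.center S := by
  set M := Subgroup.center S
  let q : S →* S ⧸ M := QuotientGroup.mk' M
  have hcomm : ∀ a b : S ⧸ M, a * b = b * a := fun a b => by
    obtain ⟨a, rfl⟩ := QuotientGroup.mk'_surjective M a
    obtain ⟨b, rfl⟩ := QuotientGroup.mk'_surjective M b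
    rw [← commutatorElement_eq_one_iff_mul_comm, ← map_commutatorElement, QuotientGroup.mk'_apply,
      QuotientGroup.eq_one_iff]
    exact A.comm_center hS a b
  let π : S →* S ⧸ M := MonoidHom.mk' (fun x => q x ^ p) fun a b => by
    rw [map_mul, Commute.mul_pow (hcomm _ _)]
  have hne' : π.range.comap q ≠ ⊤ := by
    intro h
    have hsurj : Function.Surjective fun y : S ⧸ M => y ^ p := fun y => by
      obtain ⟨x, rfl⟩ := QuotientGroup.mk'_surjective M y
      obtain ⟨w, hw⟩ := (h ▸ Subgroup.mem_top x : x ∈ π.range.comap q)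
      exact ⟨q w, hw⟩
    have hinj := (Finite.injective_iff_surjective).2 hsurj
    haveI : Nontrivial (S ⧸ M) := QuotientGroup.nontrivial_iff.2 fun h =>
      A.hna fun a b => (Subgroup.mem_center_iff.1 (h ▸ Subgroup.mem_top a : a ∈ M) b).symm
    obtain ⟨n, hn, hcard⟩ := (hS.to_quotient M).nontrivial_iff_card.1 inferInstance
    obtain ⟨y, hy⟩ := exists_prime_orderOf_dvd_card' p (G := S ⧸ M) (hcard ▸ dvd_pow_self p hn.ne')
    have : y = 1 := hinj (by
      show y ^ p = 1 ^ p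
      rw [one_pow, ← hy, pow_orderOf_eq_one])
    rw [this, orderOf_one] at hy
    exact (Fact.out : p.Prime).ne_one hy.symm
  refine A.proper_le_center hS _ ?_ hne' ⟨s, by simp [π, q]⟩
  rintro x ⟨w, hw⟩
  refine ⟨A.τ w, ?_⟩
  have hwx : (w ^ p)⁻¹ * x ∈ M := QuotientGroup.eq.1 hw
  apply QuotientGroup.eq.2
  have : A.τ ((w ^ p)⁻¹ * x) ∈ M := by rw [A.fix_center hS hwx]; exact hwx
  simpa using this

theorem center_pow {z : S} (hz : z ∈ Subgroup.center S) : z ^ p = 1 := by
  rw [A.center_eq hS, commutator_eq_closure] at hz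
  have key : z ^ p = 1 ∧ z ∈ Subgroup.center S := by
    induction hz using Subgroup.closure_induction with
    | mem x hx =>
      obtain ⟨a, b, rfl⟩ := hx
      refine ⟨?_, A.comm_center hS a b⟩
      let φ : S →* Subgroup.center S := MonoidHom.mk' (fun t => ⟨⁅t, b⁆, A.comm_center hS t b⟩)
        fun t t' => Subtype.ext (by
          show ⁅t * t', b⁆ = ⁅t, b⁆ * ⁅t', b⁆
          have hc := Subgroup.mem_center_iff.1 (A.comm_center hS t' b)
          calc ⁅t * t', b⁆ = t * ⁅t', b⁆ * t⁻¹ * ⁅t, b⁆ := by simp only [commutatorElement_def]; group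
            _ = ⁅t', b⁆ * ⁅t, b⁆ := by rw [hc t, mul_inv_cancel_right]
            _ = _ := (hc _).symm)
      have h1 : φ (a ^ p) = 1 := Subtype.ext (by
        show ⁅a ^ p, b⁆ = 1
        rw [commutatorElement_eq_one_iff_mul_comm]
        exact (Subgroup.mem_center_iff.1 (A.pow_mem_center hS a) b).symm)
      rw [map_pow] at h1
      exact congrArg Subtype.val h1
    | one => exact ⟨one_pow p, one_mem _⟩
    | mul x y _ _ hx hy =>
      refine ⟨?_, mul_mem hx.2 hy.2⟩
      rw [Commute.mul_pow ((Subgroup.mem_center_iff.1 hy.2 x)), hx.1, hy.1, one_mul]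
    | inv x _ hx => exact ⟨by rw [inv_pow, hx.1, inv_one], inv_mem hx.2⟩
  exact key.1

theorem center_le_of_comm (N : Subgroup S) (hN : N ≤ Subgroup.center S) {u : S}
    (hu : u ∉ Subgroup.center S) (h : ∀ t, ⁅u, t⁆ ∈ N) : Subgroup.center S ≤ N := by
  let K : Subgroup S :=
    { carrier := {s | ∀ t, ⁅s, t⁆ ∈ N}
      one_mem' := fun t => by rw [commutatorElement_one_left]; exact N.one_mem
      mul_mem' := fun {a b} ha hb t => by
        rw [show ⁅a * b, t⁆ = a * ⁅b, t⁆ * a⁻¹ * ⁅a, t⁆ by simp only [commutatorElement_def]; group,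
          Subgroup.mem_center_iff.1 (hN (hb t)) a, mul_inv_cancel_right]
        exact N.mul_mem (hb t) (ha t)
      inv_mem' := fun {a} ha t => by
        rw [show ⁅a⁻¹, t⁆ = a⁻¹ * ⁅a, t⁆⁻¹ * a by simp only [commutatorElement_def]; group,
          Subgroup.mem_center_iff.1 (inv_mem (hN (ha t))) a⁻¹, inv_mul_cancel_right]
        exact N.inv_mem (ha t) }
  have hK : K = ⊤ := by
    by_contra hne
    refine hu (A.proper_le_center hS K ?_ hne h)
    intro k hk t
    obtain ⟨t, rfl⟩ := A.τ.surjective t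
    rw [← map_commutatorElement, A.fix_center hS (hN (hk t))]
    exact hk t
  rw [A.center_eq hS, commutator_def, Subgroup.commutator_le]
  intro a _ b _
  exact (hK ▸ Subgroup.mem_top a : a ∈ K) b

theorem fixed_mod_center {s : S} (h : s⁻¹ * A.τ s ∈ Subgroup.center S) : s ∈ Subgroup.center S := by
  rw [A.center_eq hS]
  exact A.fixed_mem_commutator hS (A.fixed_of_disp hS (A.fix_center hS h))

theorem r_ne_two : A.r ≠ 2 := by
  intro hr
  have hinv2 : ∀ s, A.τ (A.τ s) = s := fun s => by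
    have := congrArg (fun f : MulAut S => f s) A.hpow
    simpa [hr, pow_two] using this
  obtain ⟨s, hs⟩ : ∃ s, s ∉ Subgroup.center S := by
    by_contra h
    push Not at h
    exact A.hna fun a b => (Subgroup.mem_center_iff.1 (h a) b).symm
  have hw : s * A.τ s ∈ Subgroup.center S := by
    apply A.fixed_mod_center hS
    rw [map_mul, hinv2, show (s * A.τ s)⁻¹ * (A.τ s * s) = ⁅(A.τ s)⁻¹, s⁻¹⁆ by
      simp only [commutatorElement_def]; group]
    exact A.comm_center hS _ _
  let K := Subgroup.center S ⊔ Subgroup.zpowers s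
  have hKinv : ∀ k ∈ K, A.τ k ∈ K := by
    intro k hk
    suffices h : K ≤ K.comap A.τ.toMonoidHom from h hk
    refine sup_le (fun z hz => ?_) (Subgroup.zpowers_le.2 ?_)
    · show A.τ z ∈ K
      rw [A.fix_center hS hz]; exact Subgroup.mem_sup_left hz
    · show A.τ s ∈ K
      rw [show A.τ s = s⁻¹ * (s * A.τ s) by group]
      exact K.mul_mem (K.inv_mem (Subgroup.mem_sup_right (Subgroup.mem_zpowers s)))
        (Subgroup.mem_sup_left hw)
  by_cases hK : K = ⊤
  · apply hs
    rw [Subgroup.mem_center_iff]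
    have : K ≤ Subgroup.centralizer {s} := sup_le (Subgroup.center_le_centralizer _)
      (Subgroup.zpowers_le.2 (Subgroup.mem_centralizer_singleton_iff.2 rfl))
    exact fun t => Subgroup.mem_centralizer_singleton_iff.1 (this (hK ▸ Subgroup.mem_top t))
  · exact hs (A.proper_le_center hS K hKinv hK (Subgroup.mem_sup_right (Subgroup.mem_zpowers s)))

theorem quot_card_ne_nine (hp : p = 3) : (Subgroup.center S).index ≠ 9 := by
  intro h9
  classical
  haveI : Fintype (S ⧸ Subgroup.center S) := Fintype.ofFinite _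
  haveI := Fact.mk A.hr
  let f := QuotientGroup.congr (Subgroup.center S) (Subgroup.center S) A.τ (by
    ext z
    constructor
    · rintro ⟨y, hy, rfl⟩; show A.τ y ∈ _; rw [A.fix_center hS hy]; exact hy
    · intro hz; exact ⟨z, hz, A.fix_center hS hz⟩)
  have hf : ∀ (n : ℕ) (s : S), ((f.toEquiv : Equiv.Perm (S ⧸ Subgroup.center S)) ^ n) (QuotientGroup.mk s)
      = QuotientGroup.mk ((A.τ ^ n) s) := by
    intro n
    induction n with
    | zero => intro s; simp
    | succ n ih => intro s; rw [pow_succ', Equiv.Perm.mul_apply, ih, pow_succ', MulAut.mul_apply]; rfl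
  have hσ : (f.toEquiv : Equiv.Perm (S ⧸ Subgroup.center S)) ^ A.r ^ 1 = 1 := by
    rw [pow_one]
    ext x
    obtain ⟨s, rfl⟩ := QuotientGroup.mk_surjective x
    rw [hf, A.hpow]; rfl
  have h1 := Equiv.Perm.card_compl_support_modEq hσ
  have hsupp : (Equiv.Perm.support (f.toEquiv : Equiv.Perm (S ⧸ Subgroup.center S)))ᶜ = {1} := by
    ext x
    obtain ⟨s, rfl⟩ := QuotientGroup.mk_surjective x
    rw [Finset.mem_compl, Equiv.Perm.mem_support, not_not, Finset.mem_singleton,
      QuotientGroup.eq_one_iff]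
    constructor
    · intro h
      apply A.fixed_mod_center hS
      exact QuotientGroup.eq.1 h.symm
    · intro h
      show (QuotientGroup.mk (A.τ s) : S ⧸ Subgroup.center S) = QuotientGroup.mk s
      rw [A.fix_center hS h]
  rw [hsupp, Finset.card_singleton, ← Nat.card_eq_fintype_card, ← Subgroup.index_eq_card, h9] at h1
  have h8 : A.r ∣ 2 ^ 3 := by
    have := (Nat.modEq_iff_dvd' (by norm_num)).1 h1
    simpa using this
  exact A.r_ne_two hS ((Nat.prime_dvd_prime_iff_eq A.hr Nat.prime_two).1 (A.hr.dvd_of_dvd_pow h8))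

theorem false_of_two (hp : p = 2) (hidx : (Subgroup.center S).index = 4) {u : S}
    (hu : u ∉ Subgroup.center S) (hu2 : u ^ 2 = 1) : False := by
  subst hp
  set Z := Subgroup.center S
  have hrodd : Odd A.r := A.hr.odd_of_ne_two A.hrp
  set a := A.τ u
  set b := A.τ a
  have ha2 : a ^ 2 = 1 := by rw [← map_pow, hu2, map_one]
  have hb2 : b ^ 2 = 1 := by rw [← map_pow, ha2, map_one]
  have haZ : a ∉ Z := fun h => hu (by
    have := A.fix_center hS h
    rw [A.τ.injective this] at h; exact h)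
  have hbZ : b ∉ Z := fun h => haZ (by
    have := A.fix_center hS h
    rw [A.τ.injective this] at h; exact h)
  have hua : u⁻¹ * a ∉ Z := fun h => hu (A.fixed_mod_center hS h)
  have hab : a⁻¹ * b ∉ Z := fun h => haZ (A.fixed_mod_center hS h)
  have hub : u⁻¹ * b ∉ Z := by
    intro h
    obtain ⟨m, hm⟩ := hrodd
    have key : ∀ j : ℕ, u⁻¹ * (A.τ ^ (2 * j)) u ∈ Z := by
      intro j
      induction j with
      | zero => simp
      | succ j ih =>
        have h2 : A.τ (A.τ (u⁻¹ * (A.τ ^ (2 * j)) u)) = u⁻¹ * (A.τ ^ (2 * j)) u := by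
          rw [A.fix_center hS ih, A.fix_center hS ih]
        rw [map_mul, map_mul, map_inv, map_inv] at h2
        have : u⁻¹ * (A.τ ^ (2 * (j + 1))) u = (u⁻¹ * b) * (u⁻¹ * (A.τ ^ (2 * j)) u) := by
          rw [← h2, show 2 * (j + 1) = 2 * j + 1 + 1 by ring, pow_succ', pow_succ', MulAut.mul_apply,
            MulAut.mul_apply]
          simp only [b, a]; group
        rw [this]; exact Z.mul_mem h ih
    have h1 := key m
    apply hu
    refine A.fixed_mod_center hS ?_
    have h2 : A.τ (u⁻¹ * (A.τ ^ (2 * m)) u) = a⁻¹ * u := by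
      rw [map_mul, map_inv, ← MulAut.mul_apply, ← pow_succ', ← hm, A.hpow, MulAut.one_apply]
    rw [A.fix_center hS h1] at h2
    rw [h2] at h1
    simpa using Z.inv_mem h1
  classical
  haveI : Fintype (S ⧸ Z) := Fintype.ofFinite _
  have hne : ∀ x y : S, x⁻¹ * y ∉ Z → (QuotientGroup.mk x : S ⧸ Z) ≠ QuotientGroup.mk y :=
    fun x y h he => h (QuotientGroup.eq.1 he)
  have h1 : ∀ x : S, x ∉ Z → (1 : S ⧸ Z) ≠ QuotientGroup.mk x :=
    fun x h he => h ((QuotientGroup.eq_one_iff x).1 he.symm)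
  have hall : (Finset.univ : Finset (S ⧸ Z)) =
      {1, QuotientGroup.mk u, QuotientGroup.mk a, QuotientGroup.mk b} := by
    symm
    apply Finset.eq_univ_of_card
    rw [← Nat.card_eq_fintype_card, ← Subgroup.index_eq_card, hidx,
      Finset.card_insert_of_notMem, Finset.card_insert_of_notMem, Finset.card_insert_of_notMem,
      Finset.card_singleton]
    · simp only [Finset.mem_singleton]; exact hne a b hab
    · simp only [Finset.mem_insert, Finset.mem_singleton, not_or]; exact ⟨hne u a hua, hne u b hub⟩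
    · simp only [Finset.mem_insert, Finset.mem_singleton, not_or]; exact ⟨h1 u hu, h1 a haZ, h1 b hbZ⟩
  have huu : u * u = 1 := by rw [← pow_two, hu2]
  have haa : a * a = 1 := by rw [← pow_two, ha2]
  have hmem : (QuotientGroup.mk (u * a) : S ⧸ Z) = QuotientGroup.mk b := by
    have := Finset.mem_univ (QuotientGroup.mk (u * a) : S ⧸ Z)
    rw [hall] at this
    simp only [Finset.mem_insert, Finset.mem_singleton] at this
    rcases this with h | h | h | h
    · exfalso; apply hua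
      rw [QuotientGroup.eq_one_iff] at h
      rwa [inv_eq_of_mul_eq_one_right huu]
    · exfalso; apply haZ
      have := QuotientGroup.eq.1 h.symm
      rwa [inv_mul_cancel_left] at this
    · exfalso; apply hu
      rw [QuotientGroup.mk_mul, mul_eq_right, QuotientGroup.eq_one_iff] at h
      exact h
    · exact h
  have hz := QuotientGroup.eq.1 hmem
  have hcua : u * a = a * u := by
    have hb' : b = u * a * ((u * a)⁻¹ * b) := by group
    have h2 : (u * a) ^ 2 = 1 := by
      have h := hb2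
      rw [hb', Commute.mul_pow (Subgroup.mem_center_iff.1 hz (u * a)), A.center_pow hS hz,
        mul_one] at h
      exact h
    rw [pow_two] at h2
    calc u * a = (u * a)⁻¹ := eq_inv_of_mul_eq_one_left h2
      _ = a⁻¹ * u⁻¹ := mul_inv_rev _ _
      _ = a * u := by rw [inv_eq_of_mul_eq_one_right haa, inv_eq_of_mul_eq_one_right huu]
  apply hu
  rw [Subgroup.mem_center_iff]
  intro t
  have := Finset.mem_univ (QuotientGroup.mk t : S ⧸ Z)
  rw [hall] at this
  simp only [Finset.mem_insert, Finset.mem_singleton] at this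
  have hC : Z ≤ Subgroup.centralizer {u} := Subgroup.center_le_centralizer _
  have hua' : a ∈ Subgroup.centralizer {u} := Subgroup.mem_centralizer_singleton_iff.2 hcua.symm
  have huu' : u ∈ Subgroup.centralizer {u} := Subgroup.mem_centralizer_singleton_iff.2 rfl
  have hbu : b ∈ Subgroup.centralizer {u} := by
    rw [show b = u * a * ((u * a)⁻¹ * b) by group]
    exact mul_mem (mul_mem huu' hua') (hC hz)
  suffices t ∈ Subgroup.centralizer {u} from Subgroup.mem_centralizer_singleton_iff.1 this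
  have key : ∀ x ∈ Subgroup.centralizer {u}, (QuotientGroup.mk t : S ⧸ Z) = QuotientGroup.mk x →
      t ∈ Subgroup.centralizer {u} := fun x hx he => by
    rw [show t = x * (x⁻¹ * t) by group]
    exact mul_mem hx (hC (QuotientGroup.eq.1 he.symm))
  rcases this with h | h | h | h
  · exact key 1 (one_mem _) h
  · exact key u huu' h
  · exact key a hua' h
  · exact key b hbu h

end Aut

/-- Transport along an isomorphism. -/
def Aut.map {p : ℕ} {S : Type u} {T : Type v} [Group S] [Group T] (A : Aut p S) (e : S ≃* T) :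
    Aut p T where
  τ := MulAut.congr e A.τ
  r := A.r
  hr := A.hr
  hrp := A.hrp
  hpow := by rw [← map_pow, A.hpow, map_one]
  hne := fun h => A.hne ((MulAut.congr e).injective (h.trans (map_one _).symm))
  hfix := fun K hinv hK k hk => by
    have hne : K.comap e.toMonoidHom ≠ ⊤ := fun h => hK (by
      rw [← Subgroup.map_comap_eq_self_of_surjective (f := e.toMonoidHom) e.surjective K, h,
        Subgroup.map_top_of_surjective _ e.surjective])
    have := A.hfix (K.comap e.toMonoidHom) (fun s hs => by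
      have h := hinv (e s) hs
      simpa using h) hne (e.symm k) (by simpa using hk)
    show e (A.τ (e.symm k)) = k
    rw [this, e.apply_symm_apply]
  hna := fun h => A.hna fun a b => e.injective (by rw [map_mul, map_mul]; exact h _ _)

section main

variable {G : Type u} [Group G] [Finite G] {p : ℕ} [Fact p.Prime]

theorem sylow_eq_pCore (hG : IsPSolvable p G) (hO : pPrimeCore p G = ⊥) (S : Sylow p G)
    (A : Aut p (S : Subgroup G)) : (S : Subgroup G) = pCore p G := by
  have hS := S.isPGroup'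
  have hpp : p.Prime := Fact.out
  set V := pCore p G with hV
  set SG := (S : Subgroup G) with hSG
  have hVS : V ≤ SG := CfsgLib.Base.pCore_le_sylow S
  have hCV : Subgroup.centralizer (V : Set G) ≤ V := CfsgLib.PLocal.centralizer_pCore_le hG hO
  set Z := (Subgroup.center SG).map SG.subtype with hZdef
  have hZS : Z ≤ SG := Subgroup.map_subtype_le _
  have hZc : ∀ z ∈ Z, ∀ s ∈ SG, z * s = s * z := by
    rintro _ ⟨z, hz, rfl⟩ s hs
    exact congrArg Subtype.val (Subgroup.mem_center_iff.1 hz ⟨s, hs⟩).symm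
  have hmemZ : ∀ z ∈ SG, (∀ s ∈ SG, z * s = s * z) → z ∈ Z := fun z hz h =>
    ⟨⟨z, hz⟩, Subgroup.mem_center_iff.2 fun s => Subtype.ext (h s s.2).symm, rfl⟩
  have hZV : Z ≤ V := fun z hz => hCV (Subgroup.mem_centralizer_iff.2 fun v hv =>
    (hZc z hz v (hVS hv)).symm)
  have hcommZ : ∀ a ∈ SG, ∀ b ∈ SG, ⁅a, b⁆ ∈ Z := fun a ha b hb =>
    ⟨_, A.comm_center hS ⟨a, ha⟩ ⟨b, hb⟩, rfl⟩
  have hpowZ : ∀ a ∈ SG, a ^ p ∈ Z := fun a ha => ⟨_, A.pow_mem_center hS ⟨a, ha⟩, rfl⟩
  have hZp : ∀ z ∈ Z, z ^ p = 1 := by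
    rintro _ ⟨z, hz, rfl⟩
    rw [← map_pow, A.center_pow hS hz, map_one]
  have hcl : ∀ N : Subgroup G, N ≤ Z → ∀ w ∈ SG, w ∉ Z → (∀ s ∈ SG, ⁅w, s⁆ ∈ N) → Z ≤ N := by
    intro N hN w hw hwZ h
    rintro _ ⟨z, hz, rfl⟩
    refine A.center_le_of_comm hS (N.subgroupOf SG) ?_ (u := ⟨w, hw⟩) ?_ (fun t => h t t.2) hz
    · intro x hx
      obtain ⟨y, hy, he⟩ := hN hx
      exact (Subtype.ext he : y = x) ▸ hy
    · exact fun hc => hwZ ⟨_, hc, rfl⟩
  -- `N`
  set T : Set G := {x | (∃ a ∈ V, x = a ^ p) ∨ ∃ a ∈ V, ∃ b ∈ V, x = ⁅a, b⁆} with hT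
  set N := Subgroup.normalClosure T with hN
  have hVn : ∀ g a : G, a ∈ V → g * a * g⁻¹ ∈ V := fun g a ha =>
    (inferInstance : V.Normal).conj_mem a ha g
  have hTconj : ∀ g x, x ∈ T → g * x * g⁻¹ ∈ T := by
    intro g x hx
    rcases hx with ⟨a, ha, rfl⟩ | ⟨a, ha, b, hb, rfl⟩
    · exact Or.inl ⟨_, hVn g a ha, conj_pow.symm⟩
    · exact Or.inr ⟨_, hVn g a ha, _, hVn g b hb, by simp only [commutatorElement_def]; group⟩
  have hconjT : Group.conjugatesOfSet T ⊆ T := by
    intro y hy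
    obtain ⟨x, hx, hc⟩ := Group.mem_conjugatesOfSet_iff.1 hy
    obtain ⟨g, rfl⟩ := isConj_iff.1 hc
    exact hTconj g x hx
  have hTZ : T ⊆ (Z : Set G) := by
    rintro x (⟨a, ha, rfl⟩ | ⟨a, ha, b, hb, rfl⟩)
    · exact hpowZ a (hVS ha)
    · exact hcommZ a (hVS ha) b (hVS hb)
  have hNeq : N ≤ Subgroup.closure T := (Subgroup.closure_mono hconjT)
  have hNZ : N ≤ Z := hNeq.trans ((Subgroup.closure_le Z).2 hTZ)
  have hTN : T ⊆ (N : Set G) := Subgroup.subset_normalClosure
  have hNn : N.Normal := Subgroup.normalClosure_normal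
  set qN := QuotientGroup.mk' N with hqN
  have hqNcomm : ∀ v ∈ V, ∀ w ∈ V, qN v * qN w = qN w * qN v := fun v hv w hw => by
    rw [← commutatorElement_eq_one_iff_mul_comm, ← map_commutatorElement, hqN,
      QuotientGroup.mk'_apply, QuotientGroup.eq_one_iff]
    exact hTN (Or.inr ⟨v, hv, w, hw, rfl⟩)
  -- the kernel of the action on `V / N` is `V`
  let K : Subgroup G :=
    { carrier := {g | ∀ v ∈ V, g * v * g⁻¹ * v⁻¹ ∈ N}
      one_mem' := fun v _ => by simp
      mul_mem' := fun {g h} hg hh v hv => by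
        have h1 := hh v hv
        have h2 := hg _ (hVn h v hv)
        rw [show g * h * v * (g * h)⁻¹ * v⁻¹
          = (g * (h * v * h⁻¹) * g⁻¹ * (h * v * h⁻¹)⁻¹) * (h * v * h⁻¹ * v⁻¹) by group]
        exact N.mul_mem h2 h1
      inv_mem' := fun {g} hg v hv => by
        have h2 := N.inv_mem (hg _ (hVn g⁻¹ v hv))
        rw [show (g * (g⁻¹ * v * g⁻¹⁻¹) * g⁻¹ * (g⁻¹ * v * g⁻¹⁻¹)⁻¹)⁻¹
          = g⁻¹ * v * g * v⁻¹ by group] at h2
        simpa using h2 }
  haveI : K.Normal := ⟨fun k hk g v hv => by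
    have := hNn.conj_mem _ (hk _ (hVn g⁻¹ v hv)) g
    rwa [show g * (k * (g⁻¹ * v * g⁻¹⁻¹) * k⁻¹ * (g⁻¹ * v * g⁻¹⁻¹)⁻¹) * g⁻¹
      = g * k * g⁻¹ * v * (g * k * g⁻¹)⁻¹ * v⁻¹ by group] at this⟩
  have hKV : ∀ g, (∀ v ∈ V, g * v * g⁻¹ * v⁻¹ ∈ N) → g ∈ V := by
    suffices h : K ≤ V from fun g hg => h hg
    refine CfsgLib.Base.le_pCore (CfsgLib.PLocal.isPGroup_of_forall_coprime fun d hd hcop => ?_)
    have hd' : ∀ v ∈ V, d * v * d⁻¹ * v⁻¹ ∈ N := hd
    have hdN : ∀ y ∈ N, d * y = y * d := by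
      intro y hy
      suffices h : N ≤ Subgroup.centralizer {d} from
        (Subgroup.mem_centralizer_singleton_iff.1 (h hy)).symm
      refine hNeq.trans ((Subgroup.closure_le _).2 ?_)
      intro x hx
      rw [SetLike.mem_coe, Subgroup.mem_centralizer_singleton_iff]
      suffices h : d * x * d⁻¹ = x by
        calc x * d = d * x * d⁻¹ * d := by rw [h]
          _ = d * x := by group
      rcases hx with ⟨a, ha, rfl⟩ | ⟨a, ha, b, hb, rfl⟩
      · set n := d * a * d⁻¹ * a⁻¹ with hn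
        have hnZ := hNZ (hd' a ha)
        rw [← conj_pow, show d * a * d⁻¹ = n * a by rw [hn]; group,
          Commute.mul_pow (hZc n hnZ a (hVS ha)), hZp n hnZ, one_mul]
      · set n := d * a * d⁻¹ * a⁻¹ with hn
        set m := d * b * d⁻¹ * b⁻¹ with hm
        have hnZ := hNZ (hd' a ha)
        have hmZ := hNZ (hd' b hb)
        rw [show d * ⁅a, b⁆ * d⁻¹ = ⁅n * a, m * b⁆ by
          rw [hn, hm]; simp only [commutatorElement_def]; group]
        have e1 : ⁅n * a, m * b⁆ = n * ⁅a, m * b⁆ * n⁻¹ * ⁅n, m * b⁆ := by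
          simp only [commutatorElement_def]; group
        have e2 : ⁅a, m * b⁆ = ⁅a, m⁆ * (m * ⁅a, b⁆ * m⁻¹) := by
          simp only [commutatorElement_def]; group
        rw [e1, commutatorElement_eq_one_iff_mul_comm.2 (hZc n hnZ _ (SG.mul_mem (hZS hmZ) (hVS hb))),
          mul_one, e2, commutatorElement_eq_one_iff_mul_comm.2 (hZc m hmZ a (hVS ha)).symm, one_mul,
          hZc m hmZ _ (hZS (hcommZ a (hVS ha) b (hVS hb))), mul_inv_cancel_right,
          hZc n hnZ _ (hZS (hcommZ a (hVS ha) b (hVS hb))), mul_inv_cancel_right]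
    have hdC : d ∈ Subgroup.centralizer (V : Set G) :=
      CfsgLib.Techniques.CentralQuotient.mem_centralizer_of_layers (CfsgLib.Base.isPGroup_pCore p G)
        (hNZ.trans hZV) hcop hdN fun v hv => by
        have h1 := hVn d v hv
        have h2 := hd' v hv
        have h3 := hNn.conj_mem _ h2 v⁻¹
        simpa [mul_assoc] using h3
    obtain ⟨k, hk⟩ := CfsgLib.Base.isPGroup_pCore p G ⟨d, hCV hdC⟩
    exact orderOf_eq_one_iff.1 (Nat.eq_one_of_dvd_coprimes (hcop.pow_right k) dvd_rfl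
      (orderOf_dvd_of_pow_eq_one (congrArg Subtype.val hk)))
  -- stabilising two layers
  have layers : ∀ (g : G) (m : ℕ) (Y : Subgroup G), m.Coprime p → g ^ m ∈ V → Y ≤ V →
      (∀ v ∈ V, g * v * g⁻¹ * v⁻¹ ∈ Y) → (∀ y ∈ Y, g * y * g⁻¹ * y⁻¹ ∈ N) → g ∈ V := by
    intro g m Y hm hgm hYV h1 h2
    refine hKV g fun v hv => ?_
    set c := g * v * g⁻¹ * v⁻¹ with hc
    have hcV : c ∈ V := hYV (h1 v hv)
    have hfix : qN g * qN c * (qN g)⁻¹ = qN c := by
      rw [← mul_inv_eq_one, ← map_inv, ← map_inv, ← map_mul, ← map_mul, ← map_mul, hqN,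
        QuotientGroup.mk'_apply, QuotientGroup.eq_one_iff]
      exact h2 c (h1 v hv)
    have hmul : qN g * qN v * (qN g)⁻¹ = qN c * qN v := by
      rw [← map_inv, ← map_mul, ← map_mul, ← map_mul, hc]; congr 1; group
    have key : ∀ j : ℕ, qN g ^ j * qN v * (qN g ^ j)⁻¹ = qN c ^ j * qN v := by
      intro j
      induction j with
      | zero => simp
      | succ j ih =>
        calc qN g ^ (j + 1) * qN v * (qN g ^ (j + 1))⁻¹
            = qN g * (qN g ^ j * qN v * (qN g ^ j)⁻¹) * (qN g)⁻¹ := by rw [pow_succ']; group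
          _ = (qN g * qN c * (qN g)⁻¹) ^ j * (qN g * qN v * (qN g)⁻¹) := by
            rw [ih, conj_pow]; group
          _ = qN c ^ (j + 1) * qN v := by rw [hfix, hmul, pow_succ]; group
    have hk := key m
    rw [← map_pow, hqNcomm _ hgm v hv, mul_inv_cancel_right] at hk
    have hcm : qN c ^ m = 1 := right_eq_mul.1 hk
    have hcp : qN c ^ p = 1 := by
      rw [← map_pow, hqN, QuotientGroup.mk'_apply, QuotientGroup.eq_one_iff]
      exact hTN (Or.inl ⟨c, hcV, rfl⟩)
    have : qN c = 1 := orderOf_eq_one_iff.1 (Nat.eq_one_of_dvd_coprimes hm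
      (orderOf_dvd_of_pow_eq_one hcm) (orderOf_dvd_of_pow_eq_one hcp))
    rwa [hqN, QuotientGroup.mk'_apply, QuotientGroup.eq_one_iff] at this
  -- the quotient
  by_contra hne
  set q := QuotientGroup.mk' V with hq
  set Abar := SG.map q with hAbar
  set E := pPrimeCore p (G ⧸ V) with hE
  have hCE : Subgroup.centralizer (E : Set (G ⧸ V)) ≤ E :=
    CfsgLib.FgsC.HallHigmanB.centralizer_pPrimeCore_le (CfsgLib.PLocal.isPSolvable_quotient hG V)
      (CfsgLib.Base.pCore_quotient_pCore p G)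
  haveI : IsMulCommutative Abar := ⟨⟨fun a b => Subtype.ext (by
    obtain ⟨a', ha, hea⟩ := a.2
    obtain ⟨b', hb, heb⟩ := b.2
    show (a : G ⧸ V) * b = b * a
    rw [← hea, ← heb, ← commutatorElement_eq_one_iff_mul_comm, ← map_commutatorElement, hq,
      QuotientGroup.mk'_apply, QuotientGroup.eq_one_iff]
    exact hZV (hcommZ a' ha b' hb))⟩⟩
  have hcopAE : (Nat.card Abar).Coprime (Nat.card E) := by
    obtain ⟨n, hn⟩ := IsPGroup.iff_card.1 (hS.map q)
    rw [show Nat.card Abar = p ^ n from hn]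
    exact ((CfsgLib.Base.pPrimeCore_coprime p (G ⧸ V)).symm).pow_left n
  have hAne : ¬ E ≤ Subgroup.centralizer (Abar : Set (G ⧸ V)) := by
    intro h
    have hbot : Abar = ⊥ := Subgroup.eq_bot_of_card_eq _ (Nat.eq_one_of_dvd_coprimes hcopAE dvd_rfl
      (Subgroup.card_dvd_of_le ((Subgroup.le_centralizer_iff.1 h).trans hCE)))
    exact hne (le_antisymm (CfsgLib.Base.map_mk'_eq_bot_iff.1 hbot) hVS)
  obtain ⟨B, hB, a, ha, hBa, ebar, heE, heA⟩ : ∃ B ≤ Abar, ∃ a ∈ Abar, B ⊔ Subgroup.zpowers a = Abar ∧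
      ∃ ebar ∈ E ⊓ Subgroup.centralizer (B : Set (G ⧸ V)), ebar ∉ Subgroup.centralizer (Abar : Set (G ⧸ V)) := by
    by_contra h
    push Not at h
    apply hAne
    refine CfsgLib.Coprime.le_of_cyclic_quotient (A := Abar) ?_ hcopAE fun B hB hBc => ?_
    · exact (le_top (a := Abar)).trans_eq (Subgroup.normalizer_eq_top E).symm
    · obtain ⟨a, ha, hBa⟩ := hBc
      exact fun x hx => h B hB a ha hBa x hx
  obtain ⟨x, hx, rfl⟩ := ha
  obtain ⟨e, rfl⟩ := QuotientGroup.mk'_surjective V ebar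
  have hybar : ⁅q e, q x⁆ ∈ E := by
    rw [commutatorElement_def, mul_assoc, mul_assoc]
    exact E.mul_mem heE.1 (by
      rw [← mul_assoc]
      exact (inferInstance : E.Normal).conj_mem _ (E.inv_mem heE.1) _)
  set y := ⁅e, x⁆ with hy
  have hym : y ^ Nat.card E ∈ V := by
    rw [← QuotientGroup.eq_one_iff, ← QuotientGroup.mk'_apply, map_pow, hy, map_commutatorElement]
    exact congrArg Subtype.val (pow_card_eq_one' (G := E) (x := ⟨_, hybar⟩))
  have hyV : y ∉ V := by
    intro h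
    apply heA
    rw [← hBa]
    have h1 : q y = 1 := by rwa [hq, QuotientGroup.mk'_apply, QuotientGroup.eq_one_iff]
    rw [hy, map_commutatorElement, commutatorElement_eq_one_iff_mul_comm] at h1
    have h2 : B ⊔ Subgroup.zpowers (q x) ≤ Subgroup.centralizer {q e} :=
      sup_le (fun b hb => Subgroup.mem_centralizer_singleton_iff.2
        (Subgroup.mem_centralizer_iff.1 heE.2 b hb))
        (Subgroup.zpowers_le.2 (Subgroup.mem_centralizer_singleton_iff.2 h1.symm))
    exact Subgroup.mem_centralizer_iff.2 fun b hb =>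
      Subgroup.mem_centralizer_singleton_iff.1 (h2 hb)
  have hmE : (Nat.card E).Coprime p := CfsgLib.Base.pPrimeCore_coprime p (G ⧸ V)
  -- `x` trivial on a layer and `e` normalising it give `y` trivial on it
  have comm_trivial : ∀ X Y : Subgroup G, Y ≤ X → X ≤ V → e ∈ Subgroup.normalizer (X : Set G) →
      e ∈ Subgroup.normalizer (Y : Set G) → (∀ v ∈ X, x * v * x⁻¹ * v⁻¹ ∈ Y) →
      ∀ v ∈ X, y * v * y⁻¹ * v⁻¹ ∈ Y := by
    intro X Y hYX _ heX heY hxt
    let W : Subgroup G :=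
      { carrier := {g | g ∈ Subgroup.normalizer (X : Set G) ∧ g ∈ Subgroup.normalizer (Y : Set G) ∧
          ∀ v ∈ X, g * v * g⁻¹ * v⁻¹ ∈ Y}
        one_mem' := ⟨one_mem _, one_mem _, fun v _ => by simp⟩
        mul_mem' := by
          rintro g h ⟨g1, g2, g3⟩ ⟨h1, h2, h3⟩
          refine ⟨mul_mem g1 h1, mul_mem g2 h2, fun v hv => ?_⟩
          have hw : h * v * h⁻¹ ∈ X := (Subgroup.mem_normalizer_iff.1 h1 v).1 hv
          rw [show g * h * v * (g * h)⁻¹ * v⁻¹
            = (g * (h * v * h⁻¹) * g⁻¹ * (h * v * h⁻¹)⁻¹) * (h * v * h⁻¹ * v⁻¹) by group]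
          exact Y.mul_mem (g3 _ hw) (h3 v hv)
        inv_mem' := by
          rintro g ⟨g1, g2, g3⟩
          refine ⟨inv_mem g1, inv_mem g2, fun v hv => ?_⟩
          have hw : g⁻¹ * v * g⁻¹⁻¹ ∈ X := (Subgroup.mem_normalizer_iff.1 (inv_mem g1) v).1 hv
          have := Y.inv_mem (g3 _ hw)
          rw [show (g * (g⁻¹ * v * g⁻¹⁻¹) * g⁻¹ * (g⁻¹ * v * g⁻¹⁻¹)⁻¹)⁻¹
            = g⁻¹ * v * g * v⁻¹ by group] at this
          simpa using this }
    have hxX : x ∈ Subgroup.normalizer (X : Set G) := by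
      refine Subgroup.mem_normalizer_fintype fun v hv => ?_
      rw [show x * v * x⁻¹ = (x * v * x⁻¹ * v⁻¹) * v by group]
      exact X.mul_mem (hYX (hxt v hv)) hv
    have hxY : x ∈ Subgroup.normalizer (Y : Set G) := by
      refine Subgroup.mem_normalizer_fintype fun v hv => ?_
      rw [show x * v * x⁻¹ = (x * v * x⁻¹ * v⁻¹) * v by group]
      exact Y.mul_mem (hxt v (hYX hv)) hv
    have hxW : x ∈ W := ⟨hxX, hxY, hxt⟩
    have hexW : e * x * e⁻¹ ∈ W := by
      refine ⟨mul_mem (mul_mem heX hxX) (inv_mem heX), mul_mem (mul_mem heY hxY) (inv_mem heY),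
        fun v hv => ?_⟩
      have hw : e⁻¹ * v * e⁻¹⁻¹ ∈ X := (Subgroup.mem_normalizer_iff.1 (inv_mem heX) v).1 hv
      have := (Subgroup.mem_normalizer_iff.1 heY _).1 (hxt _ hw)
      rwa [show e * (x * (e⁻¹ * v * e⁻¹⁻¹) * x⁻¹ * (e⁻¹ * v * e⁻¹⁻¹)⁻¹) * e⁻¹
        = e * x * e⁻¹ * v * (e * x * e⁻¹)⁻¹ * v⁻¹ by group] at this
    have hyW : y ∈ W := by
      rw [hy, show ⁅e, x⁆ = e * x * e⁻¹ * x⁻¹ from rfl]; exact W.mul_mem hexW (W.inv_mem hxW)
    exact hyW.2.2
  have heV : e ∈ Subgroup.normalizer (V : Set G) := by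
    rw [Subgroup.normalizer_eq_top]; exact Subgroup.mem_top e
  -- if `e` normalises a layer `Y ≤ Z` through which `x` acts trivially, contradiction
  have noY : ∀ Y : Subgroup G, Y ≤ Z → e ∈ Subgroup.normalizer (Y : Set G) →
      (∀ v ∈ V, x * v * x⁻¹ * v⁻¹ ∈ Y) → False := by
    intro Y hYZ heY hxt
    refine hyV (layers y _ Y hmE hym (hYZ.trans hZV) (comm_trivial V Y (hYZ.trans hZV) le_rfl heV heY hxt) ?_)
    have h := comm_trivial Y ⊥ bot_le (hYZ.trans hZV) heY (by
      rw [Subgroup.normalizer_eq_top]; exact Subgroup.mem_top e) (fun v hv => by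
        rw [Subgroup.mem_bot, ← hZc v (hYZ hv) x hx]; group)
    intro z hz
    rw [Subgroup.mem_bot.1 (h z hz)]
    exact N.one_mem
  set Bh := SG ⊓ B.comap q with hBh
  have hVBh : V ≤ Bh := fun v hv => ⟨hVS hv, by
    show q v ∈ B
    rw [hq, QuotientGroup.mk'_apply, (QuotientGroup.eq_one_iff v).2 hv]
    exact B.one_mem⟩
  have heBh : ∀ b ∈ Bh, e * b * e⁻¹ ∈ Bh := by
    intro b hb
    have h1 : q (e * b * e⁻¹) = q b := by
      rw [map_mul, map_mul, map_inv, ← Subgroup.mem_centralizer_iff.1 heE.2 (q b) hb.2, mul_inv_cancel_right]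
    have h2 : b⁻¹ * (e * b * e⁻¹) ∈ V := QuotientGroup.eq.1 h1.symm
    refine ⟨?_, by show q _ ∈ B; rw [h1]; exact hb.2⟩
    have := SG.mul_mem hb.1 (hVS h2)
    rwa [mul_inv_cancel_left] at this
  have hSgen : ∀ (H : Subgroup G), Bh ≤ H → x ∈ H → SG ≤ H := by
    intro H hBH hxH s hs
    have hsA : q s ∈ B ⊔ Subgroup.zpowers (q x) := hBa.symm ▸ ⟨s, hs, rfl⟩
    have hle : (B ⊔ Subgroup.zpowers (q x)) ≤ (Bh ⊔ Subgroup.zpowers x).map q := by
      rw [Subgroup.map_sup, MonoidHom.map_zpowers]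
      refine sup_le_sup_right (fun b hb => ?_) _
      obtain ⟨t, ht, rfl⟩ := hB hb
      exact ⟨t, ⟨ht, hb⟩, rfl⟩
    obtain ⟨t, ht, hts⟩ := hle hsA
    have ht' : t ∈ H := (sup_le hBH (Subgroup.zpowers_le.2 hxH)) ht
    have : t⁻¹ * s ∈ V := QuotientGroup.eq.1 hts
    have := H.mul_mem ht' (hBH (hVBh this))
    rwa [mul_inv_cancel_left] at this
  let C : Subgroup G :=
    { carrier := {v | v ∈ V ∧ ∀ b ∈ Bh, ⁅v, b⁆ ∈ N}
      one_mem' := ⟨V.one_mem, fun b _ => by rw [commutatorElement_one_left]; exact N.one_mem⟩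
      mul_mem' := fun {v w} hv hw => ⟨V.mul_mem hv.1 hw.1, fun b hb => by
        rw [show ⁅v * w, b⁆ = v * ⁅w, b⁆ * v⁻¹ * ⁅v, b⁆ by simp only [commutatorElement_def]; group]
        exact N.mul_mem (hNn.conj_mem _ (hw.2 b hb) v) (hv.2 b hb)⟩
      inv_mem' := fun {v} hv => ⟨V.inv_mem hv.1, fun b hb => by
        rw [show ⁅v⁻¹, b⁆ = v⁻¹ * ⁅v, b⁆⁻¹ * v⁻¹⁻¹ by simp only [commutatorElement_def]; group]
        exact hNn.conj_mem _ (N.inv_mem (hv.2 b hb)) _⟩ }
  have heC : e ∈ Subgroup.normalizer (C : Set G) := by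
    refine Subgroup.mem_normalizer_fintype fun v hv => ⟨hVn e v hv.1, fun b hb => ?_⟩
    have heBn : e⁻¹ ∈ Subgroup.normalizer (Bh : Set G) :=
      inv_mem (Subgroup.mem_normalizer_fintype heBh)
    have hb' : e⁻¹ * b * e⁻¹⁻¹ ∈ Bh := (Subgroup.mem_normalizer_iff.1 heBn b).1 hb
    have := hNn.conj_mem _ (hv.2 _ hb') e
    rwa [show e * ⁅v, e⁻¹ * b * e⁻¹⁻¹⁆ * e⁻¹ = ⁅e * v * e⁻¹, b⁆ by
      simp only [commutatorElement_def]; group] at this
  have hZC : Z ≤ C := fun z hz => ⟨hZV hz, fun b hb => by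
    rw [commutatorElement_eq_one_iff_mul_comm.2 (hZc z hz b hb.1)]; exact N.one_mem⟩
  obtain ⟨u, huC, huZ⟩ : ∃ u ∈ C, u ∉ Z := by
    by_contra h
    push Not at h
    have hCZ : C = Z := le_antisymm h hZC
    refine noY Z le_rfl (hCZ ▸ heC) fun v hv => ?_
    rw [show x * v * x⁻¹ * v⁻¹ = ⁅x, v⁆ from rfl]
    exact hcommZ x hx v (hVS hv)
  have huS : u ∈ SG := hVS huC.1
  set c := ⁅u, x⁆ with hc
  have hcZ : c ∈ Z := hcommZ u huS x hx
  -- commutators of `u` with `S`
  have hu_comm : ∀ N' : Subgroup G, N' ≤ Z → (∀ b ∈ Bh, ⁅u, b⁆ ∈ N') → c ∈ N' →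
      ∀ s ∈ SG, ⁅u, s⁆ ∈ N' := by
    intro N' hN' hb hcN'
    let W : Subgroup G :=
      { carrier := {s | s ∈ SG ∧ ⁅u, s⁆ ∈ N'}
        one_mem' := ⟨SG.one_mem, by rw [commutatorElement_one_right]; exact N'.one_mem⟩
        mul_mem' := fun {s t} hs ht => ⟨SG.mul_mem hs.1 ht.1, by
          rw [show ⁅u, s * t⁆ = ⁅u, s⁆ * (s * ⁅u, t⁆ * s⁻¹) by simp only [commutatorElement_def]; group,
            ← hZc _ (hN' ht.2) s hs.1, mul_inv_cancel_right]
          exact N'.mul_mem hs.2 ht.2⟩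
        inv_mem' := fun {s} hs => ⟨SG.inv_mem hs.1, by
          rw [show ⁅u, s⁻¹⁆ = s⁻¹ * ⁅u, s⁆⁻¹ * s by simp only [commutatorElement_def]; group,
            ← hZc _ (Z.inv_mem (hN' hs.2)) s⁻¹ (SG.inv_mem hs.1), inv_mul_cancel_right]
          exact N'.inv_mem hs.2⟩ }
    exact fun s hs => ((hSgen W (fun b hb' => ⟨hb'.1, hb b hb'⟩) ⟨hx, hcN'⟩) hs).2
  have hN' : N ⊔ Subgroup.zpowers c ≤ Z := sup_le hNZ (Subgroup.zpowers_le.2 hcZ)
  have hZN' : Z ≤ N ⊔ Subgroup.zpowers c := hcl _ hN' u huS huZ (hu_comm _ hN'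
    (fun b hb => Subgroup.mem_sup_left (huC.2 b hb)) (Subgroup.mem_sup_right (Subgroup.mem_zpowers c)))
  have hZnN : ¬ Z ≤ N := fun h => noY Z le_rfl (by
      rw [show Z = N from le_antisymm h hNZ, Subgroup.normalizer_eq_top]; exact Subgroup.mem_top e)
    fun v hv => by
      rw [show x * v * x⁻¹ * v⁻¹ = ⁅x, v⁆ from rfl]; exact hcommZ x hx v (hVS hv)
  have hsimple : ∀ H : Subgroup G, N ≤ H → H ≤ Z → ¬ H ≤ N → Z ≤ H := by
    intro H hNH hHZ hHN
    obtain ⟨t, htH, htN⟩ := SetLike.not_le_iff_exists.1 hHN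
    obtain ⟨n, hn, m, hm, rfl⟩ := Subgroup.mem_sup_of_normal_left.1 (hZN' (hHZ htH))
    obtain ⟨i, rfl⟩ := Subgroup.mem_zpowers_iff.1 hm
    have hci : c ^ i ∈ H := (H.mul_mem_cancel_left (hNH hn)).1 htH
    have hip : ¬ (p : ℤ) ∣ i := by
      rintro ⟨j, rfl⟩
      rw [zpow_mul, zpow_natCast, hZp c hcZ, one_zpow, mul_one] at htN
      exact htN hn
    obtain ⟨s, t, hst⟩ : IsCoprime i (p : ℤ) :=
      ((Nat.prime_iff_prime_int.1 hpp).coprime_iff_not_dvd.2 hip).symm
    have hcH : c ∈ H := by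
      have : c = (c ^ i) ^ s * (c ^ (p : ℤ)) ^ t := by
        rw [← zpow_mul, ← zpow_mul, ← zpow_add, show i * s + (p : ℤ) * t = 1 by linarith, zpow_one]
      rw [this, zpow_natCast, hZp c hcZ, one_zpow, mul_one]
      exact H.zpow_mem hci s
    exact hZN'.trans (sup_le hNH (Subgroup.zpowers_le.2 hcH))
  set U := N ⊔ Subgroup.closure {t | ∃ v ∈ V, ∃ b ∈ Bh, t = ⁅v, b⁆} with hU
  have hUZ : U ≤ Z := sup_le hNZ ((Subgroup.closure_le _).2 fun t ⟨v, hv, b, hb, ht⟩ =>
    ht ▸ hcommZ v (hVS hv) b hb.1)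
  have heU : e ∈ Subgroup.normalizer (U : Set G) := by
    refine Subgroup.mem_normalizer_fintype fun t ht => ?_
    suffices h : U ≤ U.comap (MulAut.conj e).toMonoidHom from h ht
    refine sup_le (fun n hn => Subgroup.mem_sup_left (hNn.conj_mem n hn e)) ((Subgroup.closure_le _).2 ?_)
    rintro t ⟨v, hv, b, hb, rfl⟩
    show e * ⁅v, b⁆ * e⁻¹ ∈ U
    rw [show e * ⁅v, b⁆ * e⁻¹ = ⁅e * v * e⁻¹, e * b * e⁻¹⁆ by
      simp only [commutatorElement_def]; group]
    exact Subgroup.mem_sup_right (Subgroup.subset_closure ⟨_, hVn e v hv, _, heBh b hb, rfl⟩)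
  have hUN : U ≤ N := by
    by_contra hUN
    have hZU : Z ≤ U := hsimple U le_sup_left hUZ hUN
    refine noY U hUZ heU fun v hv => ?_
    rw [show x * v * x⁻¹ * v⁻¹ = ⁅x, v⁆ from rfl]
    exact hZU (hcommZ x hx v (hVS hv))
  have hBV : Bh ≤ V := fun b hb => hKV b fun v hv => by
    have := N.inv_mem (hUN (Subgroup.mem_sup_right (Subgroup.subset_closure ⟨v, hv, b, hb, rfl⟩) :
      ⁅v, b⁆ ∈ U))
    rwa [commutatorElement_inv] at this
  have hBhV : Bh = V := le_antisymm hBV hVBh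
  -- `V = Z⟨u⟩`, `|Z| = p`
  have hker : ∀ v ∈ V, ⁅v, x⁆ ∈ N → v ∈ Z := by
    intro v hv hvx
    by_contra hvZ
    refine hZnN (hcl N hNZ v (hVS hv) hvZ fun s hs => ?_)
    let W : Subgroup G :=
      { carrier := {s | ⁅v, s⁆ ∈ N}
        one_mem' := by show ⁅v, (1 : G)⁆ ∈ N; rw [commutatorElement_one_right]; exact N.one_mem
        mul_mem' := fun {s t} hs ht => by
          show ⁅v, s * t⁆ ∈ N
          rw [show ⁅v, s * t⁆ = ⁅v, s⁆ * (s * ⁅v, t⁆ * s⁻¹) by simp only [commutatorElement_def]; group]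
          exact N.mul_mem hs (hNn.conj_mem _ ht s)
        inv_mem' := fun {s} hs => by
          show ⁅v, s⁻¹⁆ ∈ N
          rw [show ⁅v, s⁻¹⁆ = s⁻¹ * ⁅v, s⁆⁻¹ * s⁻¹⁻¹ by simp only [commutatorElement_def]; group]
          exact hNn.conj_mem _ (N.inv_mem hs) _ }
    exact hSgen W (fun b hb => hTN (Or.inr ⟨v, hv, b, hBV hb, rfl⟩)) hvx hs
  have hVgen : V ≤ Z ⊔ Subgroup.zpowers u := by
    intro v hv
    have hvx : ⁅v, x⁆ ∈ N ⊔ Subgroup.zpowers c := hZN' (hcommZ v (hVS hv) x hx)
    obtain ⟨n, hn, m, hm, hnm⟩ := Subgroup.mem_sup_of_normal_left.1 hvx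
    obtain ⟨i, rfl⟩ := Subgroup.mem_zpowers_iff.1 hm
    let φ : V →* G ⧸ N := MonoidHom.mk' (fun w => qN ⁅(w : G), x⁆) fun w w' => by
      show qN ⁅((w : G) * w'), x⁆ = _
      rw [show ⁅((w : G) * w'), x⁆ = (w : G) * ⁅(w' : G), x⁆ * (w : G)⁻¹ * ⁅(w : G), x⁆ by
        simp only [commutatorElement_def]; group]
      rw [← hZc _ (hcommZ _ (hVS w'.2) x hx) _ (hVS w.2), mul_inv_cancel_right, map_mul]
      exact hqNcomm _ (hZV (hcommZ _ (hVS w'.2) x hx)) _ (hZV (hcommZ _ (hVS w.2) x hx))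
    let u' : V := ⟨u, huC.1⟩
    have h1 : φ ((⟨v, hv⟩ : V) * (u' ^ i)⁻¹) = 1 := by
      rw [map_mul, map_inv, map_zpow]
      show qN ⁅v, x⁆ * (qN ⁅u, x⁆ ^ i)⁻¹ = 1
      rw [← hnm, map_mul, map_zpow, show qN n = 1 from (QuotientGroup.eq_one_iff n).2 hn, one_mul,
        ← hc, mul_inv_cancel]
    have h2 : v * (u ^ i)⁻¹ ∈ Z := hker _ (V.mul_mem hv (V.inv_mem (V.zpow_mem huC.1 i))) (by
      have h := (QuotientGroup.eq_one_iff _).1 h1
      simpa [u'] using h)
    rw [show v = v * (u ^ i)⁻¹ * u ^ i by group]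
    exact Subgroup.mul_mem_sup h2 (Subgroup.zpow_mem _ (Subgroup.mem_zpowers u) i)
  have hVab : ∀ v ∈ V, ∀ w ∈ V, v * w = w * v := by
    have hzu : Z ⊔ Subgroup.zpowers u ≤ Subgroup.centralizer {u} :=
      sup_le (fun z hz => Subgroup.mem_centralizer_singleton_iff.2 (hZc z hz u huS))
        (Subgroup.zpowers_le.2 (Subgroup.mem_centralizer_singleton_iff.2 rfl))
    intro v hv w hw
    have h1 : Z ⊔ Subgroup.zpowers u ≤ Subgroup.centralizer {v} :=
      sup_le (fun z hz => Subgroup.mem_centralizer_singleton_iff.2 (hZc z hz v (hVS hv)))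
        (Subgroup.zpowers_le.2 (Subgroup.mem_centralizer_singleton_iff.2
          (Subgroup.mem_centralizer_singleton_iff.1 (hzu (hVgen hv))).symm))
    exact (Subgroup.mem_centralizer_singleton_iff.1 (h1 (hVgen hw))).symm
  have hcc : Subgroup.zpowers c ≤ Z := Subgroup.zpowers_le.2 hcZ
  have hZc' : Z ≤ Subgroup.zpowers c := hcl _ hcc u huS huZ (hu_comm _ hcc (fun b hb => by
    rw [commutatorElement_eq_one_iff_mul_comm.2 (hVab u huC.1 b (hBV hb))]; exact one_mem _)
    (Subgroup.mem_zpowers c))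
  have hZeq : Z = Subgroup.zpowers c := le_antisymm hZc' hcc
  have hc1 : c ≠ 1 := fun h => hZnN (hZc'.trans (by rw [h, Subgroup.zpowers_one_eq_bot]; exact bot_le))
  have hZcard : Nat.card Z = p := by
    rw [hZeq, Nat.card_zpowers]; exact orderOf_eq_prime (hZp c hcZ) hc1
  have hNbot : N = ⊥ := by
    by_contra hN0
    haveI : Fact (Nat.card Z).Prime := ⟨hZcard.symm ▸ hpp⟩
    rcases (N.subgroupOf Z).eq_bot_or_eq_top_of_prime_card with h | h
    · exact hN0 (by rw [← Subgroup.map_subgroupOf_eq_of_le hNZ, h, Subgroup.map_bot])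
    · exact hZnN (Subgroup.subgroupOf_eq_top.1 h)
  have hVp : ∀ v ∈ V, v ^ p = 1 := fun v hv => by
    have := hTN (Or.inl ⟨v, hv, rfl⟩ : v ^ p ∈ T)
    rwa [hNbot, SetLike.mem_coe, Subgroup.mem_bot] at this
  have hxZ : ∀ w ∈ V, x * w = w * x → w ∈ Z := fun w hw h => hker w hw (by
    rw [commutatorElement_eq_one_iff_mul_comm.2 h.symm]; exact N.one_mem)
  -- the index of the centre is `p²`
  have hidx : (Subgroup.center SG).index = p ^ 2 := by
    have hVrel : Z.relIndex V = p := by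
      have hdvd : Z.relIndex V ∣ p := by
        haveI : (Z.subgroupOf V).Normal := ⟨fun z hz w => by
          show (w : G) * z * (w : G)⁻¹ ∈ Z
          rw [← hZc (z : G) hz _ (hVS w.2), mul_inv_cancel_right]; exact hz⟩
        have hgen : Subgroup.zpowers (QuotientGroup.mk' (Z.subgroupOf V) ⟨u, huC.1⟩) = ⊤ := by
          rw [eq_top_iff]
          intro t _
          obtain ⟨⟨v, hv⟩, rfl⟩ := QuotientGroup.mk'_surjective _ t
          have hcl' : Z ⊔ Subgroup.zpowers u ≤ ((Subgroup.zpowers (QuotientGroup.mk' (Z.subgroupOf V)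
              ⟨u, huC.1⟩)).comap (QuotientGroup.mk' (Z.subgroupOf V))).map V.subtype := by
            refine sup_le (fun z hz => ⟨⟨z, hZV hz⟩, ?_, rfl⟩)
              (Subgroup.zpowers_le.2 ⟨⟨u, huC.1⟩, Subgroup.mem_zpowers _, rfl⟩)
            rw [SetLike.mem_coe, Subgroup.mem_comap]
            rw [show QuotientGroup.mk' (Z.subgroupOf V) ⟨z, hZV hz⟩ = 1 from
              (QuotientGroup.eq_one_iff (N := Z.subgroupOf V) ⟨z, hZV hz⟩).2 hz]
            exact one_mem _
          obtain ⟨y', hy', he'⟩ := hcl' (hVgen hv)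
          have : y' = ⟨_, hv⟩ := Subtype.ext he'
          exact this ▸ hy'
        have hcard : Z.relIndex V = orderOf (QuotientGroup.mk' (Z.subgroupOf V) ⟨u, huC.1⟩) := by
          rw [← Nat.card_zpowers, hgen, Subgroup.card_top]; rfl
        rw [hcard]
        apply orderOf_dvd_of_pow_eq_one
        rw [← map_pow, QuotientGroup.mk'_apply, QuotientGroup.eq_one_iff]
        exact hpowZ u huS
      refine ((Nat.dvd_prime hpp).1 hdvd).resolve_left fun h => huZ ?_
      exact Subgroup.relIndex_eq_one.1 h huC.1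
    have hSrel : V.relIndex SG = p := by
      have hxV : x ∉ V := fun h => hyV (by
        rw [hy, show ⁅e, x⁆ = e * x * e⁻¹ * x⁻¹ from rfl]
        exact V.mul_mem (hVn e x h) (V.inv_mem h))
      have hAz : Abar = Subgroup.zpowers (q x) := by
        refine le_antisymm ?_ (Subgroup.zpowers_le.2 ⟨x, hx, rfl⟩)
        rw [hAbar, Subgroup.map_le_iff_le_comap]
        refine hSgen _ (fun b hb => ?_) (Subgroup.mem_zpowers _)
        rw [Subgroup.mem_comap]
        rw [show q b = 1 from (QuotientGroup.eq_one_iff b).2 (hBV hb)]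
        exact one_mem _
      have h1 : V.relIndex SG = Nat.card Abar := by
        rw [hAbar, ← Subgroup.relIndex_ker, hq, QuotientGroup.ker_mk']
      rw [h1, hAz, Nat.card_zpowers]
      refine orderOf_eq_prime ?_ (fun h => hxV ((QuotientGroup.eq_one_iff x).1 h))
      rw [← map_pow, hq, QuotientGroup.mk'_apply, QuotientGroup.eq_one_iff]
      exact hZV (hpowZ x hx)
    have h2 : Z.relIndex SG = p ^ 2 := by
      rw [← Subgroup.relIndex_mul_relIndex Z V SG hZV hVS, hVrel, hSrel, pow_two]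
    rw [← h2, Subgroup.relIndex, Subgroup.subgroupOf, hZdef,
      Subgroup.comap_map_eq_self_of_injective SG.subtype_injective]
  have hu' : (⟨u, huS⟩ : SG) ∉ Subgroup.center SG := fun h => huZ ⟨_, h, rfl⟩
  rcases eq_or_ne p 2 with hp2 | hp2
  · exact A.false_of_two hS hp2 (by rw [hidx, hp2]; norm_num) hu' (Subtype.ext (by
      show u ^ 2 = 1
      rw [← hp2]; exact hVp u huC.1))
  rcases eq_or_ne p 3 with hp3 | hp3
  · exact A.quot_card_ne_nine hS hp3 (by rw [hidx, hp3]; norm_num)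
  -- `p ≥ 5`
  have hp5 : 5 ≤ p := by
    have := hpp.two_le
    rcases Nat.lt_or_ge p 5 with h | h
    · have h4 : p = 4 := by omega
      exact absurd (h4 ▸ hpp) (by norm_num)
    · exact h
  set X := Subgroup.closure ({x, e * x * e⁻¹} : Set G) with hX
  let gx : X := ⟨x, Subgroup.subset_closure (Or.inl rfl)⟩
  let gy : X := ⟨e * x * e⁻¹, Subgroup.subset_closure (Or.inr rfl)⟩
  letI : CommGroup V := { (inferInstance : Group V) with
    mul_comm := fun a b => Subtype.ext (hVab a a.2 b b.2) }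
  haveI : Nontrivial V := ⟨⟨⟨u, huC.1⟩, 1, fun h => huZ (by
    rw [show u = 1 from congrArg Subtype.val h]; exact Z.one_mem)⟩⟩
  let α : X →* MulAut V := (MulAut.conjNormal : G →* MulAut V).comp X.subtype
  have hα : ∀ (g : X) (w : V), ((α g w : V) : G) = (g : G) * w * (g : G)⁻¹ := fun g w => rfl
  have hquad : ∀ v ∈ V, x * (x * v * x⁻¹) * x⁻¹ * v = x * v * x⁻¹ * (x * v * x⁻¹) := by
    intro v hv
    set z := ⁅x, v⁆ with hz
    have hzZ : z ∈ Z := hcommZ x hx v (hVS hv)
    have e1 : x * v * x⁻¹ = z * v := by rw [hz, commutatorElement_def]; group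
    rw [e1, show x * (z * v) * x⁻¹ = (x * z) * v * x⁻¹ by group, ← hZc z hzZ x hx,
      show z * x * v * x⁻¹ = z * (x * v * x⁻¹) by group, e1]
    calc z * (z * v) * v = z * (z * v * v) := by group
      _ = z * v * (z * v) := by
        rw [show z * v * (z * v) = z * ((v * z) * v) by group, ← hZc z hzZ v (hVS hv)]
  obtain ⟨ψ, hψ, hψmul, hψg⟩ := CfsgLib.PLocal.exists_plane_of_action hp2
    (A := V) (fun v => Subtype.ext (hVp v v.2)) α (x := gx) (y := gy)
    (by rw [eq_top_iff]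
        rintro ⟨g, hg⟩ -
        have h : X ≤ (Subgroup.closure ({gx, gy} : Set X)).map X.subtype := by
          rw [MonoidHom.map_closure, Set.image_pair]; exact le_rfl
        obtain ⟨g', hg', rfl⟩ := h hg
        exact hg')
    (fun v => Subtype.ext (hquad v v.2))
    (fun v => Subtype.ext (by
      have := congrArg (fun t => e * t * e⁻¹) (hquad _ (hVn e⁻¹ v v.2))
      show e * x * e⁻¹ * (e * x * e⁻¹ * v * (e * x * e⁻¹)⁻¹) * (e * x * e⁻¹)⁻¹ * v =
        e * x * e⁻¹ * v * (e * x * e⁻¹)⁻¹ * (e * x * e⁻¹ * v * (e * x * e⁻¹)⁻¹)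
      refine Eq.trans ?_ (this.trans ?_) <;> group))
    (fun W hW => by
      by_contra hW'
      push Not at hW'
      obtain ⟨hW0, hW1⟩ := hW'
      set W' := W.map V.subtype with hW'def
      have hW'V : W' ≤ V := Subgroup.map_subtype_le _
      have hinvW : ∀ (g : X), ∀ w ∈ W', (g : G) * w * (g : G)⁻¹ ∈ W' := by
        rintro g _ ⟨w, hw, rfl⟩
        exact ⟨α g w, hW g w hw, rfl⟩
      haveI : Fact (Nat.card Z).Prime := ⟨hZcard.symm ▸ hpp⟩
      have hW'Z : Z ≤ W' := by
        rcases (W'.subgroupOf Z).eq_bot_or_eq_top_of_prime_card with h | h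
        · exfalso; apply hW0
          rw [eq_bot_iff]
          intro w hw
          have hwW' : (w : G) ∈ W' := ⟨w, hw, rfl⟩
          have h1 : ∀ t ∈ W', t ∈ Z → t = 1 := fun t ht htZ => by
            have : (⟨t, htZ⟩ : Z) ∈ W'.subgroupOf Z := ht
            rw [h, Subgroup.mem_bot] at this
            exact congrArg Subtype.val this
          have hmem : ⁅x, (w : G)⁆ ∈ W' := by
            rw [commutatorElement_def]
            exact W'.mul_mem (hinvW gx _ hwW') (W'.inv_mem hwW')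
          have h2 := h1 _ hmem (hcommZ x hx _ (hVS w.2))
          have h3 := h1 _ hwW' (hxZ _ w.2 (commutatorElement_eq_one_iff_mul_comm.1 h2))
          rw [Subgroup.mem_bot]
          exact Subtype.ext h3
        · exact Subgroup.subgroupOf_eq_top.1 h
      have hWZ : W' ≤ Z := by
        by_contra hnot
        obtain ⟨w, hw, hwZ⟩ := SetLike.not_le_iff_exists.1 hnot
        apply hW1
        rw [eq_top_iff]
        intro v _
        obtain ⟨z, hz, m, hm, hzm⟩ : ∃ z ∈ Z, ∃ m ∈ Subgroup.zpowers u, z * m = w := by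
          have : Z ⊔ Subgroup.zpowers u ≤ Subgroup.normalizer (Z : Set G) := sup_le Subgroup.le_normalizer
            (Subgroup.zpowers_le.2 (Subgroup.mem_normalizer_fintype fun z hz => by
              rw [← hZc z hz u huS, mul_inv_cancel_right]; exact hz))
          exact (CfsgLib.Coprime.mem_sup_iff_of_le_normalizer
            ((le_sup_right).trans this)).1 (sup_comm Z _ ▸ hVgen (hW'V hw)) |> fun ⟨a, ha, b, hb, hab⟩ =>
              ⟨a * b * a⁻¹, by
                have := (Subgroup.mem_normalizer_iff.1 ((le_sup_right.trans this) ha) b).1 hb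
                exact this, a, ha, by rw [inv_mul_cancel_right]; exact hab⟩
        obtain ⟨i, rfl⟩ := Subgroup.mem_zpowers_iff.1 hm
        have hui : u ^ i ∈ W' := by
          have := W'.mul_mem (W'.inv_mem (hW'Z hz)) (hzm ▸ hw)
          rwa [inv_mul_cancel_left] at this
        have hip : ¬ (p : ℤ) ∣ i := by
          rintro ⟨j, rfl⟩
          rw [zpow_mul, zpow_natCast, hVp u huC.1, one_zpow, mul_one] at hzm
          exact hwZ (hzm ▸ hz)
        obtain ⟨s, t, hst⟩ : IsCoprime i (p : ℤ) :=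
          ((Nat.prime_iff_prime_int.1 hpp).coprime_iff_not_dvd.2 hip).symm
        have huW : u ∈ W' := by
          have : u = (u ^ i) ^ s * (u ^ (p : ℤ)) ^ t := by
            rw [← zpow_mul, ← zpow_mul, ← zpow_add, show i * s + (p : ℤ) * t = 1 by linarith, zpow_one]
          rw [this, zpow_natCast, hVp u huC.1, one_zpow, mul_one]
          exact W'.zpow_mem hui s
        obtain ⟨v', hv', he'⟩ := (sup_le hW'Z (Subgroup.zpowers_le.2 huW)) (hVgen v.2)
        exact (Subtype.ext he' : v' = v) ▸ hv'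
      have hWeq : W' = Z := le_antisymm hWZ hW'Z
      refine noY Z le_rfl ?_ (fun v hv => by
        rw [show x * v * x⁻¹ * v⁻¹ = ⁅x, v⁆ from rfl]; exact hcommZ x hx v (hVS hv))
      apply Subgroup.mem_normalizer_fintype
      intro z hz
      by_contra hez
      have hmem : e⁻¹ * z * e ∈ Z := by
        have h1 : e⁻¹ * z * e ∈ V := by
          have := hVn e⁻¹ z (hZV hz); rwa [inv_inv] at this
        have h2 := hinvW gy z (hWeq.symm ▸ hz)
        rw [hWeq] at h2
        change e * x * e⁻¹ * z * (e * x * e⁻¹)⁻¹ ∈ Z at h2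
        by_contra hw
        set w := e⁻¹ * z * e with hwdef
        have hd : ⁅x, w⁆ ∈ Z := hcommZ x hx w (hVS h1)
        have hd1 : ⁅x, w⁆ ≠ 1 := fun h => hw (hxZ w h1 (commutatorElement_eq_one_iff_mul_comm.1 h))
        have hde : e * ⁅x, w⁆ * e⁻¹ ∈ Z := by
          have := Z.mul_mem h2 (Z.inv_mem hz)
          rwa [show e * x * e⁻¹ * z * (e * x * e⁻¹)⁻¹ * z⁻¹ = e * ⁅x, w⁆ * e⁻¹ by
            rw [hwdef, commutatorElement_def]; group] at this
        haveI : Fact (Nat.card Z).Prime := ⟨hZcard.symm ▸ hpp⟩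
        have hgen := zpowers_eq_top_of_prime_card (G := Z) (p := p) hZcard (g := ⟨_, hde⟩) (fun h => hd1 (by
          have h' : e * ⁅x, w⁆ * e⁻¹ = 1 := congrArg Subtype.val h
          rwa [conj_eq_one_iff] at h'))
        obtain ⟨k, hk⟩ := Subgroup.mem_zpowers_iff.1 (hgen ▸ Subgroup.mem_top (⟨z, hz⟩ : Z))
        have hk' : (e * ⁅x, w⁆ * e⁻¹) ^ k = z := congrArg Subtype.val hk
        apply hw
        rw [hwdef, ← hk', conj_zpow, show e⁻¹ * (e * ⁅x, w⁆ ^ k * e⁻¹) * e = ⁅x, w⁆ ^ k by group]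
        exact Z.zpow_mem hd k
      set w := e⁻¹ * z * e with hwdef
      by_cases hw1 : z = 1
      · exact hez (by rw [hw1]; simp)
      haveI : Fact (Nat.card Z).Prime := ⟨hZcard.symm ▸ hpp⟩
      have hgen := zpowers_eq_top_of_prime_card (G := Z) (p := p) hZcard (g := ⟨w, hmem⟩) (fun h => hw1 (by
        have h' : w = 1 := congrArg Subtype.val h
        rw [hwdef] at h'
        calc z = e * (e⁻¹ * z * e) * e⁻¹ := by group
          _ = 1 := by rw [h']; group))
      obtain ⟨k, hk⟩ := Subgroup.mem_zpowers_iff.1 (hgen ▸ Subgroup.mem_top (⟨z, hz⟩ : Z))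
      have hk' : w ^ k = z := congrArg Subtype.val hk
      apply hez
      rw [← hk', ← conj_zpow, show e * w * e⁻¹ = z by rw [hwdef]; group]
      exact Z.zpow_mem hz k)
    ⟨gx, fun h => huZ (hxZ u huC.1 (by
      have h' := congrArg (fun f : MulAut V => ((f ⟨u, huC.1⟩ : V) : G)) h
      simp only [hα, MulAut.one_apply] at h'
      calc x * u = x * u * x⁻¹ * x := by group
        _ = u * x := by rw [show x * u * x⁻¹ = u from h']))⟩
  have hcyc : ∀ h ∈ X, QuotientGroup.mk' E (q h) ∈ Subgroup.zpowers (QuotientGroup.mk' E (q x)) := by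
    intro h hh
    have hle : X ≤ ((Subgroup.zpowers (QuotientGroup.mk' E (q x))).comap (QuotientGroup.mk' E)).comap q := by
      rw [hX, Subgroup.closure_le]
      rintro t (rfl | rfl)
      · exact Subgroup.mem_zpowers _
      · simp only [SetLike.mem_coe, Subgroup.mem_comap]
        have he1 : QuotientGroup.mk' E (q e) = 1 := (QuotientGroup.eq_one_iff (N := E) (q e)).2 heE.1
        simp only [map_mul, map_inv, he1, inv_one, one_mul, mul_one]
        exact Subgroup.mem_zpowers _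
    exact hle hh
  let g₁ : Matrix.SpecialLinearGroup (Fin 2) (ZMod p) := ⟨!![2, 0; 0, 2⁻¹], by
    have h2 : (2 : ZMod p) ≠ 0 := by
      intro h
      have := (ZMod.natCast_eq_zero_iff 2 p).1 (by exact_mod_cast h)
      exact absurd (Nat.le_of_dvd two_pos this) (by omega)
    simp [Matrix.det_fin_two, mul_inv_cancel₀ h2]⟩
  let g₂ : Matrix.SpecialLinearGroup (Fin 2) (ZMod p) := ⟨!![1, 1; 0, 1], by simp [Matrix.det_fin_two]⟩
  obtain ⟨h₁, hh₁⟩ := hψg g₁
  obtain ⟨h₂, hh₂⟩ := hψg g₂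
  have hinvg : ∀ (h : X) (g : Matrix.SpecialLinearGroup (Fin 2) (ZMod p)),
      (∀ v, α h (ψ v) = ψ (g.1.mulVec v)) → ∀ v, α h⁻¹ (ψ v) = ψ ((g⁻¹).1.mulVec v) := by
    intro h g hg v
    apply (α h).injective
    rw [hg, Matrix.mulVec_mulVec, ← Matrix.SpecialLinearGroup.coe_mul, mul_inv_cancel,
      Matrix.SpecialLinearGroup.coe_one, Matrix.one_mulVec, ← MulAut.mul_apply, ← map_mul,
      mul_inv_cancel, map_one, MulAut.one_apply]
  have hcomp : ∀ v, α ⁅h₁, h₂⁆ (ψ v) = ψ ((⁅g₁, g₂⁆ : Matrix.SpecialLinearGroup (Fin 2) (ZMod p)).1.mulVec v) := by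
    intro v
    simp only [commutatorElement_def, map_mul, MulAut.mul_apply, hinvg h₂ g₂ hh₂, hinvg h₁ g₁ hh₁, hh₁, hh₂,
      Matrix.mulVec_mulVec, Matrix.SpecialLinearGroup.coe_mul, Matrix.mul_assoc]
  have hpowact : ∀ (n : ℕ) v, α (⁅h₁, h₂⁆ ^ n) (ψ v) =
      ψ ((⁅g₁, g₂⁆ ^ n : Matrix.SpecialLinearGroup (Fin 2) (ZMod p)).1.mulVec v) := by
    intro n
    induction n with
    | zero => intro v; simp
    | succ n ih =>
      intro v
      rw [pow_succ', map_mul, MulAut.mul_apply, ih, hcomp, Matrix.mulVec_mulVec,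
        ← Matrix.SpecialLinearGroup.coe_mul, ← pow_succ']
  have hinV : (((⁅h₁, h₂⁆ ^ Nat.card E : X)) : G) ∈ V := by
    have hmem : q ⁅(h₁ : G), (h₂ : G)⁆ ∈ E := by
      rw [← QuotientGroup.eq_one_iff (N := E), ← QuotientGroup.mk'_apply, map_commutatorElement,
        map_commutatorElement, commutatorElement_eq_one_iff_mul_comm]
      obtain ⟨i, hi⟩ := Subgroup.mem_zpowers_iff.1 (hcyc _ h₁.2)
      obtain ⟨j, hj⟩ := Subgroup.mem_zpowers_iff.1 (hcyc _ h₂.2)
      rw [← hi, ← hj]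
      exact ((Commute.refl _).zpow_zpow i j).eq
    rw [← QuotientGroup.eq_one_iff, ← QuotientGroup.mk'_apply, SubmonoidClass.coe_pow, map_pow]
    exact congrArg Subtype.val (pow_card_eq_one' (G := E) (x := ⟨_, hmem⟩))
  have htriv : ∀ w : V, α (⁅h₁, h₂⁆ ^ Nat.card E) w = w := fun w => Subtype.ext (by
    rw [hα, hVab _ hinV _ w.2, mul_inv_cancel_right])
  have hU2 : ∀ n : ℕ, (⁅g₁, g₂⁆ ^ n : Matrix.SpecialLinearGroup (Fin 2) (ZMod p)).1 =
      !![1, 3 * (n : ZMod p); 0, 1] := by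
    have h2 : (2 : ZMod p) ≠ 0 := by
      intro h
      have := (ZMod.natCast_eq_zero_iff 2 p).1 (by exact_mod_cast h)
      exact absurd (Nat.le_of_dvd two_pos this) (by omega)
    have h1 : (⁅g₁, g₂⁆ : Matrix.SpecialLinearGroup (Fin 2) (ZMod p)).1 = !![1, 3; 0, 1] := by
      show !![(2 : ZMod p), 0; 0, 2⁻¹] * !![1, 1; 0, 1] * Matrix.adjugate !![(2 : ZMod p), 0; 0, 2⁻¹]
        * Matrix.adjugate !![1, 1; 0, 1] = _
      simp only [Matrix.adjugate_fin_two_of]
      ext i j
      fin_cases i <;> fin_cases j <;> simp [Matrix.mul_apply, Fin.sum_univ_two] <;> field_simp <;> ring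
    intro n
    induction n with
    | zero =>
      simp only [pow_zero, Matrix.SpecialLinearGroup.coe_one, Nat.cast_zero, mul_zero]
      exact (Matrix.one_fin_two)
    | succ n ih =>
      rw [pow_succ, Matrix.SpecialLinearGroup.coe_mul, ih, h1]
      ext i j
      fin_cases i <;> fin_cases j <;> simp [Matrix.mul_apply, Fin.sum_univ_two] <;> ring
  have hfin := htriv (ψ ![0, 1])
  rw [hpowact, hU2] at hfin
  have h0 := congrFun (hψ hfin) 0
  simp [Matrix.mulVec, dotProduct, Fin.sum_univ_two] at h0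
  rcases h0 with h | h
  · have := (ZMod.natCast_eq_zero_iff 3 p).1 (by exact_mod_cast h)
    exact absurd (Nat.le_of_dvd (by norm_num) this) (by omega)
  · rw [ZMod.natCast_eq_zero_iff] at h
    exact hpp.coprime_iff_not_dvd.1 hmE.symm h

end main

/-- The automorphism coming from a Schmidt group. -/
theorem exists_aut {X : Type u} [Group X] [Finite X] {p : ℕ} [Fact p.Prime]
    (hX : IsMinimalNonNilpotent X) (P : Sylow p X) (hPn : (P : Subgroup X).Normal)
    (hP1 : (P : Subgroup X) ≠ ⊥) (hna : ¬ ∀ a b : (P : Subgroup X), a * b = b * a) :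
    Nonempty (Aut p (P : Subgroup X)) := by
  obtain ⟨r, s, hr, hs, R, Q, hrs, hRcyc, hRn, hQn, hRQ⟩ :=
    CfsgLib.Base.MinNonNilpotent.exists_structure hX
  have hps : p = s := by
    by_contra hps
    have hpd : p ∣ Nat.card X :=
      ((P.isPGroup'.card_eq_or_dvd).resolve_left fun h => hP1 (Subgroup.eq_bot_of_card_eq _ h)).trans
        (Subgroup.card_subgroup_dvd_card _)
    haveI := hQn
    have hcard : Nat.card X ∣ Nat.card (R : Subgroup X) * Nat.card (Q : Subgroup X) := by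
      rw [← Subgroup.card_top, ← hRQ, ← CfsgLib.Base.card_sup_mul_card_inf]
      exact dvd_mul_right _ _
    rcases (Fact.out : p.Prime).dvd_mul.1 (hpd.trans hcard) with h | h
    · obtain ⟨n, hn⟩ := IsPGroup.iff_card.1 R.isPGroup'
      have hpr : p = r := (Nat.prime_dvd_prime_iff_eq (Fact.out) hr.out).1
        ((Fact.out : p.Prime).dvd_of_dvd_pow (hn ▸ h))
      subst hpr
      haveI := Sylow.unique_of_normal P hPn
      exact hRn (Subsingleton.elim P R ▸ hPn)
    · obtain ⟨n, hn⟩ := IsPGroup.iff_card.1 Q.isPGroup'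
      exact hps ((Nat.prime_dvd_prime_iff_eq (Fact.out) hs.out).1
        ((Fact.out : p.Prime).dvd_of_dvd_pow (hn ▸ h)))
  subst hps
  haveI := Sylow.unique_of_normal P hPn
  obtain rfl : Q = P := Subsingleton.elim _ _
  haveI := hPn
  obtain ⟨⟨y, hyR⟩, hy⟩ := hRcyc.exists_generator
  have hRy : (R : Subgroup X) = Subgroup.zpowers y := by
    refine le_antisymm (fun t ht => ?_) (Subgroup.zpowers_le.2 hyR)
    obtain ⟨i, hi⟩ := Subgroup.mem_zpowers_iff.1 (hy ⟨t, ht⟩)
    exact ⟨i, congrArg Subtype.val hi⟩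
  have hdisj : (R : Subgroup X) ⊓ (Q : Subgroup X) = ⊥ :=
    (IsPGroup.disjoint_of_ne r p hrs _ _ R.isPGroup' Q.isPGroup').eq_bot
  have hycent : y ∉ Subgroup.centralizer ((Q : Subgroup X) : Set X) := by
    intro h
    apply hRn
    refine Subgroup.normalizer_eq_top_iff.1 (top_le_iff.1 ?_)
    rw [← hRQ, sup_le_iff]
    refine ⟨Subgroup.le_normalizer, le_trans ?_ (Subgroup.centralizer_le_normalizer _)⟩
    rw [Subgroup.le_centralizer_iff, hRy, Subgroup.zpowers_le]
    exact h
  have hsplit : ∀ H : Subgroup X, ∀ K ≤ (Q : Subgroup X), H ≤ (R : Subgroup X) →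
      H ≤ Subgroup.normalizer (K : Set X) → H ⊔ K = ⊤ → H = R ∧ K = Q := by
    intro H K hK hH hn htop
    have key : ∀ t, ∃ h ∈ H, ∃ k ∈ K, h * k = t := fun t =>
      (CfsgLib.Coprime.mem_sup_iff_of_le_normalizer hn).1 (htop ▸ Subgroup.mem_top t)
    constructor
    · refine le_antisymm hH fun t ht => ?_
      obtain ⟨h, hh, k, hk, rfl⟩ := key t
      have hkR : k ∈ (R : Subgroup X) := by
        simpa using (R : Subgroup X).mul_mem ((R : Subgroup X).inv_mem (hH hh)) ht
      have : k ∈ (R : Subgroup X) ⊓ (Q : Subgroup X) := ⟨hkR, hK hk⟩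
      rw [hdisj, Subgroup.mem_bot] at this
      rwa [this, mul_one]
    · refine le_antisymm hK fun t ht => ?_
      obtain ⟨h, hh, k, hk, rfl⟩ := key t
      have hhQ : h ∈ (Q : Subgroup X) := by
        simpa using (Q : Subgroup X).mul_mem ht ((Q : Subgroup X).inv_mem (hK hk))
      have : h ∈ (R : Subgroup X) ⊓ (Q : Subgroup X) := ⟨hH hh, hhQ⟩
      rw [hdisj, Subgroup.mem_bot] at this
      rwa [this, one_mul]
  have hyr : y ^ r ∈ Subgroup.centralizer ((Q : Subgroup X) : Set X) := by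
    have hlt : Subgroup.zpowers (y ^ r) ⊔ (Q : Subgroup X) ≠ ⊤ := by
      intro h
      have h1 := (hsplit (Subgroup.zpowers (y ^ r)) Q le_rfl
        (Subgroup.zpowers_le.2 (pow_mem hyR r))
        ((le_top).trans_eq (Subgroup.normalizer_eq_top (Q : Subgroup X)).symm) h).1
      have hy1 : y ≠ 1 := fun h => hycent (h ▸ one_mem _)
      obtain ⟨n, hn⟩ := IsPGroup.iff_orderOf.1 R.isPGroup' ⟨y, hyR⟩
      rw [Subgroup.orderOf_mk] at hn
      have hn0 : n ≠ 0 := fun h => hy1 (orderOf_eq_one_iff.1 (by rw [hn, h, pow_zero]))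
      have h2 : orderOf (y ^ r) = orderOf y := by
        rw [← Nat.card_zpowers, ← Nat.card_zpowers, h1, hRy]
      rw [orderOf_pow, hn, Nat.gcd_eq_right (dvd_pow_self r hn0)] at h2
      exact absurd h2 (Nat.div_lt_self (pow_pos hr.out.pos n) hr.out.one_lt).ne
    exact CfsgLib.Base.MinNonNilpotent.le_centralizer_of_nilpotent (Ne.symm hrs) Q.isPGroup'
      (R.isPGroup'.to_le (Subgroup.zpowers_le.2 (pow_mem hyR r))) (hX.2 _ hlt) (Subgroup.mem_zpowers _)
  refine ⟨{ τ := MulAut.conjNormal y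
            r := r
            hr := hr.out
            hrp := hrs
            hpow := ?_
            hne := ?_
            hfix := ?_
            hna := hna }⟩
  · rw [← map_pow]
    ext t
    rw [MulAut.conjNormal_apply, ← Subgroup.mem_centralizer_iff.1 hyr _ t.2, mul_inv_cancel_right]
    rfl
  · intro h
    apply hycent
    rw [Subgroup.mem_centralizer_iff]
    intro t ht
    have := congrArg (fun f : MulAut (Q : Subgroup X) => ((f ⟨t, ht⟩ : (Q : Subgroup X)) : X)) h
    simp only [MulAut.conjNormal_apply, MulAut.one_apply] at this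
    calc t * y = y * t * y⁻¹ * y := by rw [this]
      _ = y * t := by group
  · intro K hinv hK k hk
    set K' := K.map (Q : Subgroup X).subtype with hK'
    have hlt : (R : Subgroup X) ⊔ K' ≠ ⊤ := by
      intro h
      have hn : (R : Subgroup X) ≤ Subgroup.normalizer (K' : Set X) := by
        rw [hRy, Subgroup.zpowers_le]
        refine Subgroup.mem_normalizer_fintype ?_
        rintro _ ⟨t, ht, rfl⟩
        exact ⟨MulAut.conjNormal y t, hinv t ht, rfl⟩
      have h2 := (hsplit (R : Subgroup X) K' (Subgroup.map_subtype_le _) le_rfl hn h).2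
      apply hK
      rw [eq_top_iff]
      intro t _
      obtain ⟨t', ht', he⟩ := (h2.symm ▸ t.2 : (t : X) ∈ K')
      exact (Subtype.ext he : t' = t) ▸ ht'
    have hc := CfsgLib.Base.MinNonNilpotent.le_centralizer_of_nilpotent (Ne.symm hrs)
      (Q.isPGroup'.to_le (Subgroup.map_subtype_le K)) R.isPGroup' (hX.2 _ hlt) hyR
    apply Subtype.ext
    rw [MulAut.conjNormal_apply, ← Subgroup.mem_centralizer_iff.1 hc (k : X) ⟨k, hk, rfl⟩, mul_inv_cancel_right]

theorem pLengthLE_one {G : Type u} [Group G] [Finite G] {p : ℕ} [Fact p.Prime]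
    (hG : IsPSolvable p G) (Q : Sylow p G) (A : Aut p (Q : Subgroup G)) : PLengthLE p 1 G := by
  set O := pPrimeCore p G
  refine CfsgLib.OddOrder.PLengthZGroup.pLengthLE_one_of_quotient (CfsgLib.Base.pPrimeCore_coprime p G) ?_
  set T := Q.mapSurjective (QuotientGroup.mk'_surjective O) with hT
  have hinj : Function.Injective ((QuotientGroup.mk' O).subgroupMap (Q : Subgroup G)) := by
    rw [injective_iff_map_eq_one]
    intro a ha
    have h1 : (a : G) ∈ O := (QuotientGroup.eq_one_iff _).1 (congrArg Subtype.val ha)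
    obtain ⟨k, hk⟩ := Q.isPGroup' a
    have h2 := Nat.eq_one_of_dvd_coprimes
      ((CfsgLib.Base.pPrimeCore_coprime p G).pow_right k)
      ((Subgroup.orderOf_dvd_natCard _ h1).trans dvd_rfl)
      (by rw [Subgroup.orderOf_coe]; exact orderOf_dvd_of_pow_eq_one hk)
    exact Subtype.ext (orderOf_eq_one_iff.1 h2)
  let e : (Q : Subgroup G) ≃* (T : Subgroup (G ⧸ O)) :=
    MulEquiv.ofBijective ((QuotientGroup.mk' O).subgroupMap (Q : Subgroup G))
      ⟨hinj, MonoidHom.subgroupMap_surjective _ _⟩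
  have h := sylow_eq_pCore (CfsgLib.PLocal.isPSolvable_quotient hG O)
    (CfsgLib.Base.pPrimeCore_quotient_pPrimeCore p G) T (A.map e)
  haveI : (T : Subgroup (G ⧸ O)).Normal := h ▸ inferInstance
  exact CfsgLib.OddOrder.PLengthZGroup.pLengthLE_one_of_pGroup T.isPGroup'
    ((Fact.out : p.Prime).coprime_iff_not_dvd.2 T.not_dvd_index).symm

end Cfsg.FgsC.SchmidtSylow
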