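import Mathlib

/-!
Sharply 4-transitive groups, on a set of arbitrary size (Jordan, Hall).
-/

set_option autoImplicit false

namespace CfsgLib.FgsC.SharpFour

open MulAction

variable {G : Type*} [Group G] {Ω : Type*} [MulAction G Ω]

/-- four distinct points -/
structure Dist (x y z w : Ω) : Prop where
  xy : x ≠ y
  xz : x ≠ z
  xw : x ≠ w
  yz : y ≠ z
  yw : y ≠ w
  zw : z ≠ w

/-- the embedding of four distinct points -/
def emb {x y z w : Ω} (h : Dist x y z w) : Fin 4 ↪ Ω :=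
  ⟨![x, y, z, w], by
    obtain ⟨a, b, c, d, e, f⟩ := h
    intro i j hij
    fin_cases i <;> fin_cases j <;> simp_all [eq_comm]⟩

variable (h4 : IsMultiplyPretransitive G Ω 4)
  (hsharp : ∀ x : Fin 4 ↪ Ω, stabilizer G x = ⊥)

include h4 in
lemma move {x y z w x' y' z' w' : Ω} (h : Dist x y z w) (h' : Dist x' y' z' w') :
    ∃ g : G, g • x = x' ∧ g • y = y' ∧ g • z = z' ∧ g • w = w' := by
  obtain ⟨g, hg⟩ := h4.exists_smul_eq (emb h) (emb h')
  have e : ∀ i, g • (![x, y, z, w] i) = ![x', y', z', w'] i := fun i => by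
    have := congrFun (congrArg DFunLike.coe hg) i
    simpa [emb] using this
  exact ⟨g, e 0, e 1, e 2, e 3⟩

include hsharp in
lemma ext4 {x y z w : Ω} (h : Dist x y z w) {g g' : G} (hx : g • x = g' • x) (hy : g • y = g' • y)
    (hz : g • z = g' • z) (hw : g • w = g' • w) : g = g' := by
  have hm : g'⁻¹ * g ∈ stabilizer G (emb h) := by
    rw [mem_stabilizer_iff]
    ext i
    show (g'⁻¹ * g) • (![x, y, z, w] i) = ![x, y, z, w] i
    fin_cases i <;> simp [mul_smul, hx, hy, hz, hw]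
  rw [hsharp, Subgroup.mem_bot] at hm
  exact (inv_mul_eq_one.1 hm).symm

include hsharp in
/-- a non-identity element fixes at most three points -/
lemma fixed_finite (g : G) (hg : g ≠ 1) : (fixedBy Ω g).Finite ∧ (fixedBy Ω g).ncard ≤ 3 := by
  by_contra hc
  have : ∃ t : Finset Ω, ↑t ⊆ fixedBy Ω g ∧ t.card = 4 := by
    by_cases hf : (fixedBy Ω g).Finite
    · obtain ⟨t, ht, htc⟩ := Set.exists_subset_card_eq (s := fixedBy Ω g) (n := 4)
        (by by_contra h; exact hc ⟨hf, by omega⟩)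
      have htf : t.Finite := hf.subset ht
      exact ⟨htf.toFinset, by simpa using ht, by rw [← Set.ncard_eq_toFinset_card t htf, htc]⟩
    · obtain ⟨t, ht, htc⟩ := Set.Infinite.exists_subset_card_eq hf 4
      exact ⟨t, ht, htc⟩
  obtain ⟨t, ht, htc⟩ := this
  let e : Fin 4 ≃ t := (Fintype.equivFinOfCardEq (by simpa using htc)).symm
  let x : Fin 4 ↪ Ω := ⟨fun i => (e i : Ω), fun i j h => e.injective (Subtype.ext h)⟩
  refine hg ?_
  have hm : g ∈ stabilizer G x := by
    rw [mem_stabilizer_iff]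
    ext i
    exact ht (e i).2
  rwa [hsharp, Subgroup.mem_bot] at hm

include h4 hsharp in
theorem finite (hne : Nonempty (Fin 4 ↪ Ω)) : Finite Ω := by
  classical
  obtain ⟨em⟩ := hne
  have hd : Dist (em 0) (em 1) (em 2) (em 3) := by
    constructor <;> exact fun e => by simpa using em.injective e
  set x := em 0
  set y := em 1
  set z := em 2
  set w := em 3
  obtain ⟨a, ax, ay, az, aw⟩ := move h4 hd (⟨hd.xy.symm, hd.yz, hd.yw, hd.xz, hd.xw, hd.zw⟩ : Dist y x z w)
  obtain ⟨b, bx, by', bz, bw⟩ := move h4 hd (⟨hd.xy, hd.xw, hd.xz, hd.yw, hd.yz, hd.zw.symm⟩ : Dist x y w z)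
  have hab : a ≠ b := fun e => hd.xy (by rw [← bx, ← e, ax])
  obtain ⟨c, hc⟩ : ∃ c, c = a * b := ⟨_, rfl⟩
  have ha1 : a ≠ 1 := fun e => hd.xy (by rw [← ax, e, one_smul])
  have hb1 : b ≠ 1 := fun e => hd.zw (by rw [← bz, e, one_smul])
  have hc1 : c ≠ 1 := fun e => hd.xy (by rw [← ax, show a • x = c • x by rw [hc, mul_smul, bx], e, one_smul])
  have haa : a * a = 1 := ext4 hsharp hd (by simp [mul_smul, ax, ay]) (by simp [mul_smul, ax, ay])
    (by simp [mul_smul, az]) (by simp [mul_smul, aw])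
  have hbb : b * b = 1 := ext4 hsharp hd (by simp [mul_smul, bx]) (by simp [mul_smul, by'])
    (by simp [mul_smul, bz, bw]) (by simp [mul_smul, bz, bw])
  have hba : b * a = c := ext4 hsharp hd (by simp [hc, mul_smul, ax, bx, by'])
    (by simp [hc, mul_smul, ay, bx, by']) (by simp [hc, mul_smul, az, bz, aw])
    (by simp [hc, mul_smul, az, bw, aw])
  set S₀ : Set Ω := fixedBy Ω a ∪ fixedBy Ω b ∪ fixedBy Ω c with hS0
  have hS0f : S₀.Finite :=
    (((fixed_finite hsharp a ha1).1.union (fixed_finite hsharp b hb1).1).union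
      (fixed_finite hsharp c hc1).1)
  set M : Set G := {g | g * a = b * g ∧ g * b = c * g} with hM
  have hMf : M.Finite := by
    refine Set.Finite.of_finite_image (f := fun g => (g • x, g • y, g • z, g • w)) ?_ ?_
    · refine ((hS0f.prod (hS0f.prod (hS0f.prod hS0f)))).subset ?_
      rintro _ ⟨g, ⟨hga, hgb⟩, rfl⟩
      have key : ∀ (u v : G) (p : Ω), g * u = v * g → u • p = p → v • (g • p) = g • p := by
        intro u v p h hp
        rw [← mul_smul, ← h, mul_smul, hp]
      exact ⟨Or.inr (key b c x hgb bx), Or.inr (key b c y hgb by'),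
        Or.inl (Or.inr (key a b z hga az)), Or.inl (Or.inr (key a b w hga aw))⟩
    · intro g _ g' _ h
      simp only [Prod.mk.injEq] at h
      exact ext4 hsharp hd h.1 h.2.1 h.2.2.1 h.2.2.2
  have hM1 : (1 : G) ∉ M := fun h => hab (by simpa using h.1)
  refine Set.finite_univ_iff.1 (Set.Finite.subset
    (hS0f.union (hMf.biUnion fun g hg => (fixed_finite hsharp g (fun e => hM1 (e ▸ hg))).1)) ?_)
  intro p _
  by_cases hp : p ∈ S₀
  · exact Or.inl hp
  refine Or.inr ?_
  simp only [hS0, Set.mem_union, mem_fixedBy, not_or] at hp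
  obtain ⟨⟨hpa, hpb⟩, hpc⟩ := hp
  have hpab : a • p ≠ b • p := fun e => hpc (by
    rw [hc, mul_smul, ← e, ← mul_smul, haa, one_smul])
  have hpac : a • p ≠ c • p := fun e => hpb (by
    rw [hc, mul_smul] at e
    exact (smul_left_cancel a e).symm)
  have hpbc : b • p ≠ c • p := fun e => hpa (by
    rw [← hba, mul_smul] at e
    exact (smul_left_cancel b e).symm)
  have hO : Dist p (a • p) (b • p) (c • p) :=
    ⟨Ne.symm hpa, Ne.symm hpb, Ne.symm hpc, hpab, hpac, hpbc⟩
  obtain ⟨h, h0, h1, h2, h3⟩ := move h4 hO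
    (⟨hO.xz, hO.xw, hO.xy, hO.zw, hO.yz.symm, hO.yw.symm⟩ : Dist p (b • p) (c • p) (a • p))
  have hac : ∀ q : Ω, a • c • q = b • q := fun q => by
    rw [← mul_smul, hc, ← mul_assoc, haa, one_mul]
  have hca : ∀ q : Ω, c • a • q = b • q := fun q => by
    rw [← mul_smul, ← hba, mul_assoc, haa, mul_one]
  have hcb : ∀ q : Ω, c • b • q = a • q := fun q => by
    rw [← mul_smul, hc, mul_assoc, hbb, mul_one]
  have hbc : ∀ q : Ω, b • c • q = a • q := fun q => by
    rw [← mul_smul, ← hba, ← mul_assoc, hbb, one_mul]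
  have hab' : ∀ q : Ω, a • b • q = c • q := fun q => by rw [← mul_smul, hc]
  have hba' : ∀ q : Ω, b • a • q = c • q := fun q => by rw [← mul_smul, hba]
  have haa' : ∀ q : Ω, a • a • q = q := fun q => by rw [← mul_smul, haa, one_smul]
  have hbb' : ∀ q : Ω, b • b • q = q := fun q => by rw [← mul_smul, hbb, one_smul]
  have hcc : ∀ q : Ω, c • c • q = q := fun q => by
    rw [hc, mul_smul, mul_smul, hba', hc, mul_smul, haa', hbb']
  refine Set.mem_biUnion (x := h) ⟨?_, ?_⟩ h0
  · refine ext4 hsharp hO ?_ ?_ ?_ ?_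
    · rw [mul_smul, mul_smul, h1, h0]
    · rw [mul_smul, mul_smul, haa', h0, h1, hbb']
    · rw [mul_smul, mul_smul, hab', h3, h2, hbc]
    · rw [mul_smul, mul_smul, hac, h2, h3, hba']
  · refine ext4 hsharp hO ?_ ?_ ?_ ?_
    · rw [mul_smul, mul_smul, h2, h0]
    · rw [mul_smul, mul_smul, hba', h3, h1, hcb]
    · rw [mul_smul, mul_smul, hbb', h0, h2, hcc]
    · rw [mul_smul, mul_smul, hbc, h1, h3, hca]

include h4 hsharp in
theorem bound [Finite Ω] (hne : Nonempty (Fin 4 ↪ Ω)) :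
    Nat.card Ω ≤ 11 ∧ (Even (Nat.card Ω) → Nat.card Ω ≤ 6) := by
  classical
  haveI := Fintype.ofFinite Ω
  obtain ⟨em⟩ := hne
  set x := em 0
  set y := em 1
  have hxy : x ≠ y := fun e => by simpa using em.injective e
  rw [Nat.card_eq_fintype_card]
  set n := Fintype.card Ω with hn
  set R : Finset Ω := Finset.univ \ {x, y} with hR
  have hRmem : ∀ p, p ∈ R ↔ p ≠ x ∧ p ≠ y := fun p => by simp [hR]
  set T : Finset (Ω × Ω) := R.offDiag with hT
  have hD : ∀ d ∈ T, Dist x y d.1 d.2 ∧ Dist y x d.1 d.2 ∧ Dist y x d.2 d.1 := fun d hd => by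
    obtain ⟨h1, h2, h3⟩ := Finset.mem_offDiag.1 hd
    rw [hRmem] at h1 h2
    exact ⟨⟨hxy, h1.1.symm, h2.1.symm, h1.2.symm, h2.2.symm, h3⟩,
      ⟨hxy.symm, h1.2.symm, h2.2.symm, h1.1.symm, h2.1.symm, h3⟩,
      ⟨hxy.symm, h2.2.symm, h1.2.symm, h2.1.symm, h1.1.symm, h3.symm⟩⟩
  have hex : ∀ d ∈ T, ∃ g : G, g • x = y ∧ g • y = x ∧ g • d.1 = d.1 ∧ g • d.2 = d.2 :=
    fun d hd => move h4 (hD d hd).1 (hD d hd).2.1
  choose i hi using hex
  have hjx : ∀ q ∈ T, ∃ g : G, g • x = y ∧ g • y = x ∧ g • q.1 = q.2 ∧ g • q.2 = q.1 :=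
    fun q hq => move h4 (hD q hq).1 (hD q hq).2.2
  choose j hj using hjx
  have hinv : ∀ d (hd : d ∈ T), ∀ p : Ω, i d hd • i d hd • p = p := fun d hd p => by
    obtain ⟨e1, e2, e3, e4⟩ := hi d hd
    have : i d hd * i d hd = 1 := ext4 hsharp (hD d hd).1 (by simp [mul_smul, e1, e2])
      (by simp [mul_smul, e1, e2]) (by simp [mul_smul, e3]) (by simp [mul_smul, e4])
    rw [← mul_smul, this, one_smul]
  let Fx : G → Finset Ω := fun g => Finset.univ.filter fun p => g • p = p
  set f := if Even n then 2 else 3 with hf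
  have hFx : ∀ d (hd : d ∈ T), (Fx (i d hd)).card = f := by
    intro d hd
    set σ : Equiv.Perm Ω := MulAction.toPerm (i d hd) with hσ
    have hsq : σ ^ 2 = 1 := Equiv.ext fun p => by simpa [sq, hσ] using hinv d hd p
    have h2 := Equiv.Perm.two_dvd_card_support hsq
    have hsum : σ.support.card + (Fx (i d hd)).card = n := by
      have e : σ.support = Finset.univ.filter fun p => ¬ i d hd • p = p := by
        ext p; simp [hσ]
      rw [e, add_comm, Finset.card_filter_add_card_filter_not, Finset.card_univ]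
    have h3 : (Fx (i d hd)).card ≤ 3 := by
      have hne1 : i d hd ≠ 1 := fun e => hxy (by rw [← (hi d hd).1, e, one_smul])
      have := (fixed_finite hsharp _ hne1).2
      rw [show fixedBy Ω (i d hd) = ↑(Fx (i d hd)) by ext p; simp [Fx], Set.ncard_coe_finset] at this
      exact this
    have h4' : 2 ≤ (Fx (i d hd)).card := by
      rw [← Finset.card_pair (hD d hd).1.zw]
      refine Finset.card_le_card fun p hp => ?_
      simp only [Finset.mem_insert, Finset.mem_singleton] at hp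
      rcases hp with rfl | rfl <;> simp [Fx, (hi d hd).2.2.1, (hi d hd).2.2.2]
    rw [hf]
    split_ifs with hev
    · rw [Nat.even_iff] at hev; omega
    · rw [Nat.even_iff] at hev; omega
  -- the double counting
  set P := T.attach.sigma fun d => R \ Fx (i d.1 d.2) with hP
  let Φ : (Σ _ : T, Ω) → Ω × Ω := fun v => (v.2, i v.1.1 v.1.2 • v.2)
  have hPge : T.card * (n - 2 - f) ≤ P.card := by
    rw [hP, Finset.card_sigma, ← T.card_attach, ← smul_eq_mul]
    refine Finset.card_nsmul_le_sum _ _ _ fun d _ => ?_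
    refine le_trans ?_ (Finset.le_card_sdiff _ _)
    rw [hFx d.1 d.2, hR, Finset.card_sdiff_of_subset (Finset.subset_univ _), Finset.card_univ, Finset.card_pair hxy]
  have himg : P.image Φ ⊆ T := by
    intro q hq
    obtain ⟨⟨⟨d, hd⟩, p⟩, hv, rfl⟩ := Finset.mem_image.1 hq
    obtain ⟨-, hp⟩ := Finset.mem_sigma.1 hv
    obtain ⟨hpR, hpF⟩ := Finset.mem_sdiff.1 hp
    obtain ⟨e1, e2, -, -⟩ := hi d hd
    rw [hRmem] at hpR
    refine Finset.mem_offDiag.2 ⟨(hRmem _).2 hpR, (hRmem _).2 ⟨fun e => ?_, fun e => ?_⟩, fun e => ?_⟩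
    · exact hpR.2 (smul_left_cancel (i d hd) (e.trans e2.symm))
    · exact hpR.1 (smul_left_cancel (i d hd) (e.trans e1.symm))
    · exact hpF (by simpa [Fx] using e.symm)
  have hfib : ∀ q ∈ P.image Φ, (P.filter fun v => Φ v = q).card ≤ f * f - f := by
    intro q hq
    obtain ⟨v₀, hv₀, hq0⟩ := Finset.mem_image.1 hq
    have hqT := himg hq
    have heq : ∀ v ∈ P.filter (fun v => Φ v = q), i v.1.1 v.1.2 = j q hqT := by
      intro v hv
      obtain ⟨-, hvq⟩ := Finset.mem_filter.1 hv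
      obtain ⟨e1, e2, -, -⟩ := hi v.1.1 v.1.2
      obtain ⟨k1, k2, k3, k4⟩ := hj q hqT
      subst hvq
      exact ext4 hsharp (hD _ hqT).1 (e1.trans k1.symm) (e2.trans k2.symm) k3.symm
        ((hinv _ _ _).trans k4.symm)
    obtain ⟨d₀, hd₀⟩ := v₀.1
    have hcard : (Fx (j q hqT)).card = f := by
      rw [← heq v₀ (Finset.mem_filter.2 ⟨hv₀, hq0⟩)]
      exact hFx _ _
    rw [← hcard, ← Finset.offDiag_card]
    refine Finset.card_le_card_of_injOn (fun v => v.1.1) (fun v hv => ?_) fun v hv v' hv' e => ?_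
    · have e := heq v hv
      obtain ⟨-, -, e3, e4⟩ := hi v.1.1 v.1.2
      rw [e] at e3 e4
      refine Finset.mem_offDiag.2 ⟨?_, ?_, (hD _ v.1.2).1.zw⟩ <;> simp [Fx, e3, e4]
    · have h1 := congrArg Prod.fst (Finset.mem_filter.1 hv).2
      have h2 := congrArg Prod.fst (Finset.mem_filter.1 hv').2
      exact Sigma.ext (Subtype.ext e) (heq_of_eq (h1.trans h2.symm))
  have hmain : T.card * (n - 2 - f) ≤ (f * f - f) * T.card :=
    hPge.trans ((Finset.card_le_mul_card_image P _ hfib).trans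
      (Nat.mul_le_mul_left _ (Finset.card_le_card himg)))
  have hT0 : 0 < T.card := Finset.card_pos.2 ⟨(em 2, em 3), Finset.mem_offDiag.2
    ⟨(hRmem _).2 ⟨fun e => by simpa using em.injective e, fun e => by simpa using em.injective e⟩,
      (hRmem _).2 ⟨fun e => by simpa using em.injective e, fun e => by simpa using em.injective e⟩,
      fun e => by simpa using em.injective e⟩⟩
  rw [mul_comm] at hmain
  have := Nat.le_of_mul_le_mul_right hmain hT0
  rw [hf] at this
  split_ifs at this with hev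
  · exact ⟨by omega, fun _ => by omega⟩
  · exact ⟨by omega, fun h => absurd h hev⟩

end CfsgLib.FgsC.SharpFour
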