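import Mathlib
import Cfsg.Agent.Lib.Base.Transport
import Cfsg.Agent.Lib.Coprime.Action
import Cfsg.Agent.Lib.FgsC.Index

/-!
# Sylow numbers along a normal subgroup
-/

set_option autoImplicit false

open Subgroup

namespace CfsgLib.FgsC

universe u

section

variable {G : Type*} [Group G] [Finite G] {p : ℕ} [Fact p.Prime]

omit [Fact p.Prime] in
/-- `|H : A| = |L : A ∩ L|` when `H = AL` with `A` normalizing `L`. -/
theorem relIndex_sup_of_le_normalizer {A L : Subgroup G} (h : A ≤ normalizer (L : Set G)) :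
    A.relIndex (A ⊔ L) = A.relIndex L := by
  set M := normalizer (L : Set G)
  have hL : L ≤ M := le_normalizer
  have : (L.subgroupOf M).Normal := normal_subgroupOf_of_le_normalizer le_rfl
  have e := relIndex_sup_of_normal (A.subgroupOf M) (L.subgroupOf M)
  rwa [← subgroupOf_sup h hL, relIndex_subgroupOf (sup_le h hL), relIndex_subgroupOf hL] at e

omit [Finite G] in
/-- A `p`-subgroup of `L` of index prime to `p` is a Sylow subgroup of `L`. -/
theorem exists_sylow_eq_subgroupOf {L S : Subgroup G} (hS : IsPGroup p S)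
    (hidx : ¬ p ∣ S.relIndex L) :
    ∃ T : Sylow p L, (T : Subgroup L) = S.subgroupOf L :=
  ⟨(hS.comap_of_injective L.subtype L.subtype_injective).toSylow hidx, rfl⟩

/-- The Sylow number of `L` as a relative index of a normalizer. -/
theorem card_sylow_eq_relIndex {L S : Subgroup G} (hSL : S ≤ L) (hS : IsPGroup p S)
    (hidx : ¬ p ∣ S.relIndex L) : Nat.card (Sylow p L) = (normalizer (S : Set G)).relIndex L := by
  obtain ⟨T, hT⟩ := exists_sylow_eq_subgroupOf hS hidx
  rw [T.card_eq_index_normalizer]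
  show (normalizer ((T : Subgroup L) : Set L)).index = _
  rw [hT, ← subgroupOf_normalizer_eq hSL]
  rfl

/-- The Frattini argument. -/
theorem le_sup_normalizer_sylow {L H S : Subgroup G} (hL : H ≤ normalizer (L : Set G))
    (hLH : L ≤ H) (hSL : S ≤ L) (hS : IsPGroup p S) (hidx : ¬ p ∣ S.relIndex L) :
    H ≤ normalizer (S : Set G) ⊔ L := by
  intro h hh
  set S' := S.map (MulAut.conj h).toMonoidHom with hS'
  have hS'L : S' ≤ L := by
    rintro _ ⟨s, hs, rfl⟩
    exact (mem_normalizer_iff.mp (hL hh) s).mp (hSL hs)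
  have hcard : Nat.card S' = Nat.card S := CfsgLib.Base.card_map_conj h S
  obtain ⟨T, hT⟩ := exists_sylow_eq_subgroupOf hS hidx
  let T' : Sylow p L := Sylow.ofCard (S'.subgroupOf L) (by
    rw [CfsgLib.Base.card_subgroupOf hS'L, hcard, ← T.card_eq_multiplicity, hT,
      CfsgLib.Base.card_subgroupOf hSL])
  obtain ⟨l, hl⟩ := MulAction.exists_smul_eq L T T'
  have key : ∀ s, s ∈ S ↔ (l : G) * s * (l : G)⁻¹ ∈ S' := by
    intro s
    constructor
    · intro hs
      have h1 : (⟨s, hSL hs⟩ : L) ∈ (T : Subgroup L) := by rw [hT]; exact hs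
      have h2 : l * ⟨s, hSL hs⟩ * l⁻¹ ∈ (T' : Subgroup L) := by
        rw [← hl, Sylow.coe_subgroup_smul]
        exact smul_mem_pointwise_smul _ (MulAut.conj l) _ h1
      exact h2
    · intro hs
      have hsL : s ∈ L := by
        have := L.mul_mem (L.mul_mem (L.inv_mem l.2) (hS'L hs)) l.2
        simpa [mul_assoc] using this
      have h1 : l * ⟨s, hsL⟩ * l⁻¹ ∈ (T' : Subgroup L) := hs
      rw [← hl, Sylow.coe_subgroup_smul, mem_pointwise_smul_iff_inv_smul_mem, hT] at h1
      simpa [mul_assoc, mem_subgroupOf] using h1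
  have hn : (l : G)⁻¹ * h ∈ normalizer (S : Set G) := by
    refine mem_normalizer_fintype fun s hs => ?_
    show _ ∈ S
    rw [key]
    exact ⟨s, hs, by simp [mul_assoc]⟩
  rw [show h = (l : G) * ((l : G)⁻¹ * h) by group]
  exact mul_mem (mem_sup_right l.2) (mem_sup_left hn)

/-- The Sylow number of a quotient. -/
theorem card_sylow_quotient (K : Subgroup G) [K.Normal] (P : Sylow p G) :
    Nat.card (Sylow p (G ⧸ K)) = (normalizer (((P : Subgroup G) ⊔ K : Subgroup G) : Set G)).index := by
  have hf : Function.Surjective (QuotientGroup.mk' K) := QuotientGroup.mk'_surjective K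
  let Pb : Sylow p (G ⧸ K) := P.mapSurjective hf
  rw [Pb.card_eq_index_normalizer, ← index_comap_of_surjective _ hf]
  show ((normalizer ((Pb : Subgroup (G ⧸ K)) : Set (G ⧸ K))).comap _).index = _
  rw [comap_normalizer_eq_of_surjective _ hf]
  congr 3
  show ((P : Subgroup G).map (QuotientGroup.mk' K)).comap (QuotientGroup.mk' K) = _
  rw [comap_map_eq, QuotientGroup.ker_mk']

omit [Fact p.Prime] in
theorem not_dvd_relIndex_of_le (P : Sylow p G) [Fact p.Prime] {L : Subgroup G} (h : (P : Subgroup G) ≤ L) :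
    ¬ p ∣ (P : Subgroup G).relIndex L := fun hd =>
  P.not_dvd_index (hd.trans ⟨_, (relIndex_mul_index h).symm⟩)

theorem not_dvd_relIndex_inf (P : Sylow p G) (K : Subgroup G) [K.Normal] :
    ¬ p ∣ ((P : Subgroup G) ⊓ K).relIndex K := by
  rw [inf_relIndex_right]
  exact fun hd => P.not_dvd_index (hd.trans (relIndex_dvd_index _ _))

/-- `n_p(G) = n_p(G/K) n_p(K) n_p(N/(P ∩ K))`, where `N = N_{PK}(P ∩ K)`. -/
theorem card_sylow_mul (K : Subgroup G) [K.Normal] (P : Sylow p G) (N : Subgroup G)
    (hN : N = ((P : Subgroup G) ⊔ K) ⊓ normalizer (((P : Subgroup G) ⊓ K : Subgroup G) : Set G))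
    [(((P : Subgroup G) ⊓ K).subgroupOf N).Normal] :
    Nat.card (Sylow p G) = Nat.card (Sylow p (G ⧸ K)) * Nat.card (Sylow p K) *
      Nat.card (Sylow p (N ⧸ ((P : Subgroup G) ⊓ K).subgroupOf N)) := by
  set S : Subgroup G := (P : Subgroup G) with hSdef
  set Q := S ⊓ K with hQ
  set L := S ⊔ K with hLdef
  set A := normalizer (S : Set G) with hA
  set B := normalizer (Q : Set G) with hB
  have hAB : A ≤ B := by
    intro x hx
    rw [hB, mem_normalizer_iff]
    intro y
    simp only [hQ, mem_inf]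
    refine and_congr ((mem_normalizer_iff.mp hx) y) ⟨fun hy => (inferInstance : K.Normal).conj_mem y hy x, fun hy => ?_⟩
    simpa [mul_assoc] using (inferInstance : K.Normal).conj_mem _ hy x⁻¹
  have hSB : S ≤ B := le_normalizer.trans hAB
  have hSN : S ≤ N := hN ▸ le_inf le_sup_left hSB
  have hNL : N ≤ L := hN ▸ inf_le_left
  set H := normalizer (L : Set G) with hH
  have hAH : A ≤ H := by
    intro x hx
    rw [hH, mem_normalizer_iff_map_conj_eq, hLdef, Subgroup.map_sup,
      mem_normalizer_iff_map_conj_eq.mp hx, (inferInstance : K.Normal).map_conj_eq]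
  have hLH : L ≤ H := le_normalizer
  have hHeq : H = A ⊔ L := le_antisymm
    (le_sup_normalizer_sylow le_rfl hLH le_sup_left P.2 (not_dvd_relIndex_of_le P le_sup_left))
    (sup_le hAH hLH)
  -- the three factors
  have h1 : Nat.card (Sylow p (G ⧸ K)) = H.index := card_sylow_quotient K P
  have h2 : Nat.card (Sylow p K) = B.relIndex K :=
    card_sylow_eq_relIndex inf_le_right (P.2.to_le inf_le_left) (not_dvd_relIndex_inf P K)
  have h3 : Nat.card (Sylow p (N ⧸ Q.subgroupOf N)) = A.relIndex N := by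
    obtain ⟨T, hT⟩ := exists_sylow_eq_subgroupOf (L := N) P.2 (not_dvd_relIndex_of_le P hSN)
    rw [card_sylow_quotient (Q.subgroupOf N) T, hT,
      show (P : Subgroup G).subgroupOf N ⊔ Q.subgroupOf N = (P : Subgroup G).subgroupOf N from
        sup_eq_left.mpr (comap_mono (inf_le_left : Q ≤ S)), ← subgroupOf_normalizer_eq hSN]
    rfl
  have h4 : N.relIndex L = B.relIndex K := by
    rw [hN, inf_relIndex_left]
    have hsup : (B ⊓ L) ⊔ K = L := le_antisymm (sup_le inf_le_right le_sup_right)
      (sup_le ((le_inf hSB le_sup_left).trans le_sup_left) le_sup_right)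
    have h := relIndex_sup_of_normal (B ⊓ L) K
    rw [hsup, inf_relIndex_right] at h
    rw [h, ← inf_relIndex_right, inf_assoc, inf_eq_right.mpr (le_sup_right : K ≤ L), inf_relIndex_right]
  have h5 : A.relIndex L = A.relIndex N * N.relIndex L := by
    have hAN : A ⊓ L ≤ N := hN ▸ le_inf inf_le_right (inf_le_left.trans hAB)
    rw [← inf_relIndex_right A L, ← relIndex_mul_relIndex _ _ _ hAN hNL, ← inf_relIndex_right (A ⊓ L) N,
      inf_assoc, inf_eq_right.mpr hNL, inf_relIndex_right]
  have h6 : A.relIndex H = A.relIndex L := by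
    rw [hHeq]
    exact relIndex_sup_of_le_normalizer hAH
  rw [show Nat.card (Sylow p G) = A.index from P.card_eq_index_normalizer, ← relIndex_mul_index hAH, h6, h5, h4, h1, h2, h3]
  ring

/-- Coprime action: the prime-power parts of `|K : C_K(P)|` are congruent to `1` modulo `p`. -/
theorem primePart_centralizer_modEq {P K : Subgroup G} (hP : IsPGroup p P)
    (hPK : P ≤ normalizer (K : Set G)) (hK : ¬ p ∣ Nat.card K) {ℓ : ℕ} (hℓ : ℓ.Prime) :
    ℓ ^ ((centralizer (P : Set G)).relIndex K).factorization ℓ ≡ 1 [MOD p] := by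
  have := Fact.mk hℓ
  have hp : p.Prime := Fact.out
  set C := centralizer (P : Set G) ⊓ K with hC
  rw [← inf_relIndex_right, ← hC]
  have hCK : C ≤ K := inf_le_right
  have hcop : (Nat.card P).Coprime (Nat.card K) := by
    obtain ⟨e, he⟩ := IsPGroup.iff_card.mp hP
    rw [he]
    exact Nat.Coprime.pow_left _ (hp.coprime_iff_not_dvd.mpr hK)
  have hsolv : Group.IsSolvable P := by
    have : Group.IsNilpotent P := hP.isNilpotent
    infer_instance
  obtain ⟨Sc⟩ : Nonempty (Sylow ℓ C) := inferInstance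
  set U := (Sc : Subgroup C).map C.subtype with hU
  have hUC : U ≤ C := map_subtype_le _
  have hPU : P ≤ normalizer (U : Set G) := by
    refine le_trans ?_ (centralizer_le_normalizer _)
    intro a ha
    rw [mem_centralizer_iff]
    intro u hu
    exact ((mem_centralizer_iff.mp (hUC hu).1) a ha).symm
  obtain ⟨T, hUT, hPT⟩ := CfsgLib.Coprime.exists_invariant_sylow_ge hPK hcop (Or.inl hsolv)
    (hUC.trans hCK) (Sc.2.map _) hPU
  set S := (T : Subgroup K).map K.subtype with hS
  have hSK : S ≤ K := map_subtype_le _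
  have hUcard : Nat.card U = ℓ ^ (Nat.card C).factorization ℓ := by
    rw [hU, CfsgLib.Base.card_map_subtype, Sc.card_eq_multiplicity]
  have hScard : Nat.card S = ℓ ^ (Nat.card K).factorization ℓ := by
    rw [hS, CfsgLib.Base.card_map_subtype, T.card_eq_multiplicity]
  -- orbit counting for `P` acting on the invariant Sylow subgroup
  have heq : S ⊓ centralizer (P : Set G) = U := by
    refine (eq_of_le_of_card_ge (le_inf hUT (hUC.trans inf_le_left)) ?_).symm
    obtain ⟨e, he⟩ := IsPGroup.iff_card.mp ((T.2.map K.subtype).to_le (inf_le_left : S ⊓ centralizer (P : Set G) ≤ S))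
    have hdvd : Nat.card ↥(S ⊓ centralizer (P : Set G)) ∣ Nat.card C :=
      card_dvd_of_le (le_inf inf_le_right (inf_le_left.trans hSK))
    rw [he] at hdvd ⊢
    rw [hUcard]
    exact Nat.pow_le_pow_right hℓ.pos ((hℓ.pow_dvd_iff_le_factorization Nat.card_pos.ne').mp hdvd)
  let act : MulAction P S :=
    { smul := fun a s => ⟨(a : G) * s * (a : G)⁻¹, (mem_normalizer_iff.mp (hPT a.2) s).mp s.2⟩
      one_smul := fun s => Subtype.ext (by show ((1 : P) : G) * (s : G) * ((1 : P) : G)⁻¹ = s; simp)
      mul_smul := fun a b s => Subtype.ext (by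
        show ((a * b : P) : G) * (s : G) * ((a * b : P) : G)⁻¹ = (a : G) * ((b : G) * s * (b : G)⁻¹) * (a : G)⁻¹
        simp [mul_assoc]) }
  have hmod := hP.card_modEq_card_fixedPoints (α := S)
  have hfix : Nat.card (MulAction.fixedPoints P S) = Nat.card U := by
    rw [← heq]
    exact Nat.card_congr
      { toFun := fun s => ⟨(s.1 : G), s.1.2, mem_centralizer_iff.mpr fun a ha =>
          mul_inv_eq_iff_eq_mul.mp (congrArg Subtype.val (s.2 ⟨a, ha⟩))⟩
        invFun := fun u => ⟨⟨u.1, u.2.1⟩, fun a => Subtype.ext (by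
          show (a : G) * u.1 * (a : G)⁻¹ = u.1
          rw [mem_centralizer_iff.mp u.2.2 a a.2, mul_inv_cancel_right])⟩
        left_inv := fun s => rfl
        right_inv := fun u => rfl }
  rw [hfix, hUcard, hScard] at hmod
  have hprod : C.relIndex K * Nat.card C = Nat.card K := by
    rw [← relIndex_bot_left C, ← relIndex_bot_left K, mul_comm]
    exact relIndex_mul_relIndex _ _ _ bot_le hCK
  have hne : C.relIndex K ≠ 0 := fun h => Nat.card_pos.ne' (by rw [← hprod, h, zero_mul] : Nat.card K = 0)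
  rw [← hprod, Nat.factorization_mul hne Nat.card_pos.ne', Finsupp.add_apply, pow_add] at hmod
  refine Nat.ModEq.cancel_right_of_coprime (c := ℓ ^ (Nat.card C).factorization ℓ) ?_ (by rw [one_mul]; exact hmod)
  rw [Nat.coprime_iff_gcd_eq_one.symm]
  refine Nat.Coprime.coprime_dvd_right ((Nat.ordProj_dvd _ _).trans (card_dvd_of_le hCK)) ?_
  exact hp.coprime_iff_not_dvd.mpr hK

end

/-- A Sylow number is a product of prime powers congruent to `1` and Sylow numbers of simple sections. -/
theorem exists_sylow_factors {p : ℕ} [Fact p.Prime] : ∀ (n : ℕ) (G : Type u) [Group G] [Finite G],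
    Nat.card G = n →
    ∃ l : List ℕ, l.prod = Nat.card (Sylow p G) ∧
      ∀ m ∈ l, (IsPrimePow m ∧ m % p = 1) ∨
        ∃ (S : Type u) (_ : Group S) (_ : Finite S),
          (IsSimpleGroup S ∧ (Group.IsSolvable G → Group.IsSolvable S)) ∧ m = Nat.card (Sylow p S) := by
  intro n
  induction n using Nat.strong_induction_on with
  | _ n ih =>
  intro G _ _ hn
  have hp : p.Prime := Fact.out
  obtain ⟨P⟩ : Nonempty (Sylow p G) := inferInstance
  by_cases hK : ∀ K : Subgroup G, K.Normal → K = ⊥ ∨ K = ⊤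
  · rcases subsingleton_or_nontrivial G with hs | hnt
    · exact ⟨[], by
        rw [List.prod_nil, P.card_eq_index_normalizer, eq_comm, index_eq_one]
        exact Subsingleton.elim _ _, by simp⟩
    · have : IsSimpleGroup G := ⟨hK⟩
      exact ⟨[Nat.card (Sylow p G)], List.prod_singleton, fun m hm =>
        Or.inr ⟨G, inferInstance, inferInstance, ⟨this, id⟩, List.mem_singleton.mp hm⟩⟩
  push Not at hK
  obtain ⟨K, hKn, hKb, hKt⟩ := hK
  set Q := (P : Subgroup G) ⊓ K with hQ
  set N := ((P : Subgroup G) ⊔ K) ⊓ normalizer (Q : Set G) with hN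
  have : (Q.subgroupOf N).Normal := normal_subgroupOf_of_le_normalizer inf_le_right
  have hcardK : Nat.card K < n := hn ▸ lt_of_le_of_ne (Nat.le_of_dvd Nat.card_pos (card_subgroup_dvd_card K))
    fun h => hKt (eq_top_of_card_eq K h)
  have hcardQ : Nat.card (G ⧸ K) < n := by
    have h1 := K.card_eq_card_quotient_mul_card_subgroup
    have h2 : 1 < Nat.card K := (one_lt_card_iff_ne_bot K).mpr hKb
    rw [hn] at h1
    have := Nat.card_pos (α := G ⧸ K)
    nlinarith
  obtain ⟨l2, hl2, hm2⟩ := ih _ hcardK K rfl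
  obtain ⟨l1, hl1, hm1⟩ := ih _ hcardQ (G ⧸ K) rfl
  have hs1 : Group.IsSolvable G → Group.IsSolvable (G ⧸ K) := fun h => by have := h; infer_instance
  have hs2 : Group.IsSolvable G → Group.IsSolvable K := fun h => by have := h; infer_instance
  obtain ⟨l3, hl3, hm3⟩ : ∃ l : List ℕ, l.prod = Nat.card (Sylow p (N ⧸ Q.subgroupOf N)) ∧
      ∀ m ∈ l, (IsPrimePow m ∧ m % p = 1) ∨
        ∃ (S : Type u) (_ : Group S) (_ : Finite S),
          (IsSimpleGroup S ∧ (Group.IsSolvable G → Group.IsSolvable S)) ∧ m = Nat.card (Sylow p S) := by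
    by_cases hsmall : Nat.card (N ⧸ Q.subgroupOf N) < n
    · obtain ⟨l, hl, hm⟩ := ih _ hsmall (N ⧸ Q.subgroupOf N) rfl
      refine ⟨l, hl, fun m hm' => (hm m hm').imp id ?_⟩
      rintro ⟨S, iS, fS, ⟨h1, h2⟩, h3⟩
      exact ⟨S, iS, fS, ⟨h1, fun h => h2 (by have := h; infer_instance)⟩, h3⟩
    -- otherwise `G = PK` with `K` of order prime to `p`
    have h1 := (Q.subgroupOf N).card_eq_card_quotient_mul_card_subgroup
    have h2 : Nat.card N ≤ n := hn ▸ Nat.le_of_dvd Nat.card_pos (card_subgroup_dvd_card N)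
    have hpos := Nat.card_pos (α := Q.subgroupOf N)
    have hNtop : N = ⊤ := eq_top_of_card_eq N (by nlinarith)
    have hQ1 : Nat.card (Q.subgroupOf N) = 1 := by nlinarith
    have hQN : Q ≤ N := le_inf (inf_le_left.trans le_sup_left) le_normalizer
    rw [CfsgLib.Base.card_subgroupOf hQN, card_eq_one] at hQ1
    have hKp : ¬ p ∣ Nat.card K := by
      have h := not_dvd_relIndex_inf P K
      rwa [← hQ, hQ1, relIndex_bot_left] at h
    have htop : (P : Subgroup G) ⊔ K = ⊤ := top_le_iff.mp (hNtop ▸ inf_le_left)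
    have hcard : Nat.card (Sylow p (N ⧸ Q.subgroupOf N)) = (centralizer ((P : Subgroup G) : Set G)).relIndex K := by
      have e := card_sylow_mul K P N rfl
      have eG := P.card_eq_index_normalizer
      have eK : Nat.card (Sylow p K) = 1 := by
        rw [card_sylow_eq_relIndex (S := Q) inf_le_right (P.2.to_le inf_le_left) (not_dvd_relIndex_inf P K),
          hQ1, relIndex_eq_one]
        rw [normalizer_eq_top_iff.mpr inferInstance]
        exact le_top
      have eq : Nat.card (Sylow p (G ⧸ K)) = 1 := by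
        rw [card_sylow_quotient K P, htop, index_eq_one]
        exact normalizer_eq_top_iff.mpr inferInstance
      rw [eK, eq, one_mul, one_mul] at e
      rw [← e, eG]
      set A := normalizer ((P : Subgroup G) : Set G) with hA
      have hsup : A ⊔ K = ⊤ := top_le_iff.mp (htop ▸ sup_le_sup_right le_normalizer K)
      have hAidx : A.index = A.relIndex K := by
        rw [← relIndex_top_right A, ← hsup, relIndex_sup_of_normal]
      refine hAidx.trans ?_
      have hAK : A ⊓ K = centralizer ((P : Subgroup G) : Set G) ⊓ K := by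
        refine le_antisymm (fun x hx => ⟨?_, hx.2⟩) (inf_le_inf_right K (centralizer_le_normalizer _))
        show x ∈ centralizer ((P : Subgroup G) : Set G)
        rw [mem_centralizer_iff]
        intro a ha
        have hmem : x * a * x⁻¹ * a⁻¹ ∈ Q := by
          refine ⟨(P : Subgroup G).mul_mem ((mem_normalizer_iff.mp hx.1 a).mp ha) ((P : Subgroup G).inv_mem ha), ?_⟩
          rw [show x * a * x⁻¹ * a⁻¹ = x * (a * x⁻¹ * a⁻¹) by group]
          exact K.mul_mem hx.2 ((inferInstance : K.Normal).conj_mem _ (K.inv_mem hx.2) a)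
        rw [hQ1, mem_bot, mul_inv_eq_one, mul_inv_eq_iff_eq_mul] at hmem
        exact hmem.symm
      rw [← inf_relIndex_right, hAK, inf_relIndex_right]
    rw [hcard]
    set r := (centralizer ((P : Subgroup G) : Set G)).relIndex K with hr
    have hPK : (P : Subgroup G) ≤ normalizer (K : Set G) := by
      rw [normalizer_eq_top_iff.mpr inferInstance]; exact le_top
    refine ⟨r.primeFactors.toList.map fun ℓ => ℓ ^ r.factorization ℓ, ?_, ?_⟩
    · rw [Finset.prod_map_toList]
      have hr0 : r ≠ 0 := by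
        intro h0
        have := relIndex_dvd_card (centralizer ((P : Subgroup G) : Set G)) K
        rw [← hr, h0, zero_dvd_iff] at this
        exact Nat.card_pos.ne' this
      exact Nat.prod_factorization_pow_eq_self hr0
    · intro m hm
      obtain ⟨ℓ, hℓ, rfl⟩ := List.mem_map.mp hm
      rw [Finset.mem_toList] at hℓ
      refine Or.inl ⟨(Nat.prime_of_mem_primeFactors hℓ).isPrimePow.pow ?_, ?_⟩
      · exact ((Nat.prime_of_mem_primeFactors hℓ).factorization_pos_of_dvd (by
          intro h0; rw [h0] at hℓ; simp at hℓ) (Nat.dvd_of_mem_primeFactors hℓ)).ne'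
      · have h := primePart_centralizer_modEq (p := p) P.2 hPK hKp (Nat.prime_of_mem_primeFactors hℓ)
        rw [← hr] at h
        rw [h, Nat.one_mod_eq_one.mpr hp.ne_one]
  refine ⟨l1 ++ l2 ++ l3, ?_, ?_⟩
  · rw [List.prod_append, List.prod_append, hl1, hl2, hl3, ← card_sylow_mul K P N rfl]
  · intro m hm
    rcases List.mem_append.mp hm with hm | hm
    · rcases List.mem_append.mp hm with hm | hm
      · refine (hm1 m hm).imp id ?_
        rintro ⟨S, iS, fS, ⟨h1, h2⟩, h3⟩
        exact ⟨S, iS, fS, ⟨h1, fun h => h2 (hs1 h)⟩, h3⟩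
      · refine (hm2 m hm).imp id ?_
        rintro ⟨S, iS, fS, ⟨h1, h2⟩, h3⟩
        exact ⟨S, iS, fS, ⟨h1, fun h => h2 (hs2 h)⟩, h3⟩
    · exact hm3 m hm

end CfsgLib.FgsC
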