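import Cfsg.Agent.Lib.FgsC.SylowThree22Design

/-!
# No simple group has twenty-two Sylow `3`-subgroups
-/

set_option autoImplicit false

open Subgroup

namespace CfsgLib.FgsC

/-- A group of degree seven of order divisible by `7` and prime to `3` has order dividing `14`. -/
theorem card_dvd_fourteen {α : Type*} [Fintype α] (hα : Fintype.card α = 7) (H : Subgroup (Equiv.Perm α))
    (h3 : ¬ 3 ∣ Nat.card H) (h7 : 7 ∣ Nat.card H) : Nat.card H ∣ 14 := by
  classical
  have : Fact (Nat.Prime 7) := ⟨by norm_num⟩
  obtain ⟨σ, hσ⟩ := exists_prime_orderOf_dvd_card' 7 h7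
  obtain ⟨a⟩ : Nonempty α := Fintype.card_pos_iff.1 (by omega)
  obtain ⟨e, he, -⟩ := CfsgLib.Perm.exists_isCoord hα hσ a
  have htr : MulAction.IsPretransitive H α := ⟨fun x y => ⟨σ ^ (e.symm y - e.symm x).val, by
    obtain ⟨i, rfl⟩ := e.surjective x
    rw [he.pow_smul, ZMod.natCast_val, ZMod.cast_id, e.symm_apply_apply, add_sub_cancel, e.apply_symm_apply]⟩⟩
  by_cases hs : Group.IsSolvable H
  · have haff := CfsgLib.Perm.affine_of_isSolvable hα hs hσ he
    have hst : ∀ g : MulAction.stabilizer H (e 0), ∀ j, (g : H) • e j = e (e.symm ((g : H) • e 1) * j) := by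
      intro g j
      obtain ⟨A, B, hAB⟩ := haff (g : H)
      have h0 : (g : H) • e 0 = e 0 := g.2
      rw [hAB 0, e.apply_eq_iff_eq, mul_zero, zero_add] at h0
      subst h0
      rw [hAB 1, hAB j, Equiv.symm_apply_apply, mul_one, add_zero, add_zero]
    let φ : MulAction.stabilizer H (e 0) →* ZMod 7 :=
      { toFun := fun g => e.symm ((g : H) • e 1)
        map_one' := by simp
        map_mul' := fun g g' => by
          show e.symm (((g : H) * (g' : H)) • e 1) = _
          conv_lhs => rw [mul_smul, hst g' 1, mul_one, hst g, Equiv.symm_apply_apply] }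
    have hinj : Function.Injective φ.toHomUnits := fun g g' h => by
      refine Subtype.ext (Subtype.ext (Equiv.ext fun x => ?_))
      have h' : φ g = φ g' := congrArg Units.val h
      change (g : H) • x = (g' : H) • x
      rw [← e.apply_symm_apply x, hst g, hst g']
      exact congrArg e (congrArg (· * e.symm x) h')
    have h6 : Nat.card (MulAction.stabilizer H (e 0)) ∣ 6 := by
      have h := Subgroup.card_dvd_of_injective _ hinj
      rwa [Nat.card_eq_fintype_card (α := (ZMod 7)ˣ), ZMod.card_units] at h
    have h42 : Nat.card H ∣ 42 := by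
      rw [← (MulAction.stabilizer H (e 0)).index_mul_card, MulAction.index_stabilizer_of_transitive,
        Nat.card_eq_fintype_card, hα]
      exact mul_dvd_mul_left 7 h6
    exact ((Nat.prime_three.coprime_iff_not_dvd.mpr h3).symm).dvd_of_dvd_mul_left (show Nat.card H ∣ 3 * 14 from h42)
  · exfalso
    have h2t : MulAction.IsPretransitive H (Fin 2 ↪ α) := CfsgLib.Perm.two_transitive hα hs
    refine h3 ?_
    obtain ⟨x⟩ : Nonempty (Fin 2 ↪ α) := Function.Embedding.nonempty_of_card_le (by simp [hα])
    rw [← (MulAction.stabilizer H x).index_mul_card, @MulAction.index_stabilizer_of_transitive _ _ _ _ x h2t,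
      Nat.card_eq_fintype_card, Fintype.card_embedding_eq, hα, Fintype.card_fin]
    exact dvd_mul_of_dvd_left (by decide) _

variable {G : Type*} [Group G] [Finite G] [IsSimpleGroup G]

/-- The quotient `C(P)/P` acts on the seven orbits of `P`. -/
theorem exists_quotient_data [Fintype (Sylow 3 G)] [Fact (Nat.Prime 3)] (hG : ¬ IsMulCommutative G)
    (hn : Nat.card (Sylow 3 G) = 22) (P : Sylow 3 G) :
    ∃ m : ℕ, Nat.card (centralizer ((P : Subgroup G) : Set G)) = 3 * m ∧ ¬ 3 ∣ m ∧ m ∣ 5040 ∧ (7 ∣ m → m ∣ 14) := by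
  classical
  have hP := card_sylow_three_eq hG hn P
  set C := centralizer ((P : Subgroup G) : Set G) with hC
  have hPC : (P : Subgroup G) ≤ C := by
    have : IsCyclic (P : Subgroup G) := isCyclic_of_prime_card hP
    have := this.isMulCommutative
    exact le_centralizer _
  have hfixP : ∀ c : C, (c : G) • P = P := fun c =>
    Sylow.smul_eq_iff_mem_normalizer.mpr (centralizer_le_normalizer _ c.2)
  let Y := {R : Sylow 3 G // R ≠ P}
  let actY : MulAction C Y :=
    { smul := fun c R => ⟨(c : G) • R.1, fun e => R.2 (MulAction.injective (c : G) (e.trans (hfixP c).symm))⟩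
      one_smul := fun R => Subtype.ext (one_smul G R.1)
      mul_smul := fun a b R => Subtype.ext (mul_smul (a : G) b R.1) }
  set Pc := (P : Subgroup G).subgroupOf C with hPc
  have hcomm : ∀ (c : C) (a : Pc), c * (a : C) = (a : C) * c := fun c a => Subtype.ext
    ((mem_centralizer_iff.mp c.2 ((a : C) : G) a.2).symm)
  have hfree : ∀ (a : Pc) (R : Y), a • R = R → a = 1 := by
    intro a R hR
    have h1 : ((a : C) : G) • R.1 = R.1 := congrArg Subtype.val hR
    have hmem : ((a : C) : G) ∈ (P : Subgroup G) ⊓ (R.1 : Subgroup G) := by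
      rw [← inf_normalizer_eq]
      exact ⟨a.2, Sylow.smul_eq_iff_mem_normalizer.mp h1⟩
    have hbot : (P : Subgroup G) ⊓ (R.1 : Subgroup G) = ⊥ := by
      have hd : Nat.card ↥((P : Subgroup G) ⊓ R.1) ∣ 3 := by
        exact (card_dvd_of_le inf_le_left).trans (dvd_of_eq hP)
      rcases (Nat.dvd_prime Nat.prime_three).mp hd with h | h
      · exact card_eq_one.mp h
      · exfalso
        have hle : (P : Subgroup G) ≤ R.1 := by
          have := eq_of_le_of_card_ge (inf_le_left : (P : Subgroup G) ⊓ R.1 ≤ P) (by rw [h, hP])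
          exact this ▸ inf_le_right
        exact R.2 (Sylow.ext (P.3 R.1.2 hle))
    rw [hbot, mem_bot] at hmem
    exact Subtype.ext (Subtype.ext hmem)
  let Ω := MulAction.orbitRel.Quotient Pc Y
  let actΩ : MulAction C Ω :=
    { smul := fun c => Quotient.map' (c • ·) (by
        rintro R R' ⟨a, ha⟩
        refine ⟨a, ?_⟩
        show (a : C) • c • R' = c • R
        rw [← ha, smul_smul, ← hcomm, mul_smul]; rfl)
      one_smul := fun ω => Quotient.inductionOn' ω fun R => congrArg Quotient.mk'' (one_smul C R)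
      mul_smul := fun a b ω => Quotient.inductionOn' ω fun R => congrArg Quotient.mk'' (mul_smul a b R) }
  have hY : Nat.card Y = 21 := by
    rw [Nat.card_eq_fintype_card, Fintype.card_subtype_compl, Fintype.card_subtype_eq, ← Nat.card_eq_fintype_card, hn]
  have hPc3 : Nat.card Pc = 3 := by rw [hPc, CfsgLib.Base.card_subgroupOf hPC, hP]
  have hΩ : Nat.card Ω = 7 := by
    have h : Nat.card Y = Nat.card Ω * 3 := by
      have := Fintype.ofFinite Ω
      rw [Nat.card_congr (MulAction.selfEquivSigmaOrbits' Pc Y), Nat.card_sigma, Nat.card_eq_fintype_card (α := Ω),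
        Finset.sum_congr rfl (fun ω _ => ?_), Finset.sum_const, Finset.card_univ, smul_eq_mul]
      induction ω using Quotient.inductionOn' with
      | h R =>
        have hs : MulAction.stabilizer Pc R = ⊥ := (Subgroup.eq_bot_iff_forall _).2 fun a ha => hfree a R ha
        rw [MulAction.orbitRel.Quotient.orbit_mk, Nat.card_congr (MulAction.orbitEquivQuotientStabilizer Pc R), hs,
          ← Subgroup.index, Subgroup.index_bot, hPc3]
    omega
  let f := MulAction.toPermHom C Ω
  have hnormC : Pc.Normal := ⟨fun a ha c => by rw [hcomm c ⟨a, ha⟩, mul_inv_cancel_right]; exact ha⟩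
  have hker : f.ker = Pc := by
    refine le_antisymm (fun z hz => ?_) fun a ha => ?_
    · have hz3 : z ^ 3 = 1 := by
        have hY3 : ∀ R : Y, z ^ 3 • R = R := by
          intro R
          have h := DFunLike.congr_fun (MonoidHom.mem_ker.mp hz) (Quotient.mk'' R)
          obtain ⟨a, ha⟩ := Quotient.eq''.mp (show (Quotient.mk'' (z • R) : Ω) = Quotient.mk'' R from h)
          have ha' : (a : C) • R = z • R := ha
          have ha3 : (a : C) ^ 3 = 1 := by
            have := pow_card_eq_one' (x := a)
            rw [hPc3] at this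
            exact congrArg Subtype.val this
          have key : ∀ k : ℕ, z ^ k • R = (a : C) ^ k • R := fun k => by
            induction k with
            | zero => simp
            | succ k ih =>
              rw [pow_succ, mul_smul, ← ha', smul_smul, ((show Commute z (a : C) from hcomm z a).pow_left k).eq,
                mul_smul, ih, smul_smul, ← pow_succ']
          rw [key, ha3, one_smul]
        refine Subtype.ext ((CfsgLib.Small.toPermHom_sylow_injective hG (p := 3) (hP ▸ card_subgroup_dvd_card _))
          (Equiv.ext fun R => ?_))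
        rw [OneMemClass.coe_one, map_one]
        show ((z ^ 3 : C) : G) • R = R
        by_cases hR : R = P
        · rw [hR]; exact hfixP _
        · exact congrArg Subtype.val (hY3 ⟨R, hR⟩)
      have h3C : IsPGroup 3 (Subgroup.zpowers z) := by
        obtain ⟨k, -, hk⟩ := (Nat.dvd_prime_pow Nat.prime_three).mp
          (orderOf_dvd_of_pow_eq_one (by rw [pow_one]; exact hz3 : z ^ 3 ^ 1 = 1))
        exact IsPGroup.of_card (n := k) (by rw [Nat.card_zpowers, hk])
      have hsup : IsPGroup 3 ↥(zpowers z ⊔ Pc) :=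
        h3C.to_sup_of_normal_right (IsPGroup.of_card (n := 1) (by rw [hPc3, pow_one]))
      have hle := P.3 (hsup.map C.subtype) (by
        intro a ha
        exact ⟨⟨a, hPC ha⟩, mem_sup_right ha, rfl⟩)
      have hz' : (z : G) ∈ (zpowers z ⊔ Pc).map C.subtype := ⟨z, mem_sup_left (mem_zpowers z), rfl⟩
      rw [hle] at hz'
      exact hz'
    · refine MonoidHom.mem_ker.mpr (Equiv.ext fun ω => Quotient.inductionOn' ω fun R => ?_)
      exact Quotient.eq''.mpr ⟨⟨a, ha⟩, rfl⟩
  set m := Nat.card f.range with hm
  have hCm : Nat.card C = 3 * m := by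
    rw [← f.ker.card_mul_index, index_ker, hker, hPc3]
  have h3m : ¬ 3 ∣ m := by
    intro h
    have h9 : 3 ^ 2 ∣ Nat.card G := by
      refine Dvd.dvd.trans ?_ (card_subgroup_dvd_card C)
      rw [hCm, pow_two]
      exact mul_dvd_mul_left 3 h
    have := P.pow_dvd_card_of_pow_dvd_card h9
    rw [hP] at this
    exact absurd (Nat.le_of_dvd (by norm_num) this) (by norm_num)
  have := Fintype.ofFinite Ω
  have hΩ' : Fintype.card Ω = 7 := by rw [← Nat.card_eq_fintype_card, hΩ]
  refine ⟨m, hCm, h3m, ?_, card_dvd_fourteen hΩ' f.range h3m⟩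
  refine (card_subgroup_dvd_card f.range).trans (dvd_of_eq ?_)
  rw [Nat.card_perm, hΩ]
  rfl

/-- An element of order `11` is self-centralizing. -/
theorem centralizer_eleven [Fintype (Sylow 3 G)] [Fact (Nat.Prime 11)] (hG : ¬ IsMulCommutative G)
    (hn : Nat.card (Sylow 3 G) = 22) (P : Sylow 3 G) (hN : ¬ 11 ∣ Nat.card (normalizer ((P : Subgroup G) : Set G)))
    (hP : 3 ∣ Nat.card G) [Fact (Nat.Prime 3)] (Q : Sylow 11 G) (hQ : Nat.card (Q : Subgroup G) = 11) :
    centralizer ((Q : Subgroup G) : Set G) = (Q : Subgroup G) := by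
  classical
  have h11 : Nat.Prime 11 := Fact.out
  have hinj := CfsgLib.Small.toPermHom_sylow_injective hG (p := 3) hP
  set C := centralizer ((Q : Subgroup G) : Set G)
  have horb : ∀ R : Sylow 3 G, Nat.card (MulAction.orbit (Q : Subgroup G) R) = 11 := by
    intro R
    rw [Nat.card_congr (MulAction.orbitEquivQuotientStabilizer (Q : Subgroup G) R), ← index_eq_card]
    have hd := (MulAction.stabilizer (Q : Subgroup G) R).index_dvd_card
    rw [hQ] at hd
    refine ((Nat.dvd_prime h11).mp hd).resolve_left fun h => hN ?_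
    rw [index_eq_one] at h
    have hle : (Q : Subgroup G) ≤ normalizer ((R : Subgroup G) : Set G) := fun a ha =>
      Sylow.smul_eq_iff_mem_normalizer.mp (show (⟨a, ha⟩ : (Q : Subgroup G)) ∈ MulAction.stabilizer (Q : Subgroup G) R from h ▸ mem_top _)
    have h1 := card_dvd_of_le hle
    rw [hQ] at h1
    have e : Nat.card (normalizer ((R : Subgroup G) : Set G)) = Nat.card (normalizer ((P : Subgroup G) : Set G)) := by
      have a := CfsgLib.Small.card_normalizer_mul R
      have b := CfsgLib.Small.card_normalizer_mul P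
      exact Nat.eq_of_mul_eq_mul_right Nat.card_pos (a.trans b.symm)
    exact e ▸ h1
  have hcomm : ∀ w ∈ C, ∀ a : (Q : Subgroup G), ∀ R : Sylow 3 G, w • a • R = a • w • R := by
    intro w hw a R
    show w • (a : G) • R = (a : G) • w • R
    rw [smul_smul, smul_smul, (mem_centralizer_iff.mp hw a a.2).symm]
  have fix1 : ∀ w ∈ C, (orderOf w).Coprime 11 → ∀ R : Sylow 3 G, w • R = R → w = 1 := by
    intro w hw hcop R hwR
    set Fx : Set (Sylow 3 G) := {T | w • T = T}
    by_cases hall : ∀ T : Sylow 3 G, w • T = T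
    · refine hinj (Equiv.ext fun T => ?_)
      show w • T = (1 : G) • T
      rw [one_smul]; exact hall T
    push Not at hall
    obtain ⟨T, hT⟩ := hall
    have hTsub : MulAction.orbit (Q : Subgroup G) T ⊆ Fxᶜ := by
      rintro _ ⟨a, rfl⟩ h
      have h' : w • a • T = a • T := h
      rw [hcomm w hw] at h'
      exact hT (MulAction.injective a h')
    have hsub : MulAction.orbit (Q : Subgroup G) R ⊆ Fx := by
      rintro _ ⟨a, rfl⟩
      show w • a • R = a • R
      rw [hcomm w hw, hwR]
    have hF : 11 ≤ Fx.ncard := by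
      have h := Set.ncard_le_ncard hsub (Set.toFinite _)
      rwa [← Nat.card_coe_set_eq (MulAction.orbit (Q : Subgroup G) R), horb] at h
    have hRest : Fxᶜ = MulAction.orbit (Q : Subgroup G) T := by
      refine (Set.eq_of_subset_of_ncard_le hTsub ?_ (Set.toFinite _)).symm
      rw [Set.ncard_compl, hn, ← Nat.card_coe_set_eq (MulAction.orbit (Q : Subgroup G) T), horb]
      omega
    let act : MulAction (zpowers w) ↥(Fxᶜ : Set (Sylow 3 G)) :=
      { smul := fun v S => ⟨(v : G) • S.1, fun h => S.2 (MulAction.injective (v : G) (by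
          obtain ⟨j, hj⟩ := v.2
          have h' : w • (v : G) • S.1 = (v : G) • S.1 := h
          show (v : G) • (w • S.1) = (v : G) • S.1
          rw [← h', smul_smul, smul_smul, ← hj]
          congr 1
          exact (Commute.self_zpow w j).symm.eq))⟩
        one_smul := fun S => Subtype.ext (one_smul G S.1)
        mul_smul := fun a b S => Subtype.ext (mul_smul (a : G) b S.1) }
    have hfree : ∀ (v : zpowers w) (S : ↥(Fxᶜ : Set (Sylow 3 G))), v • S = S → v = 1 := by
      intro v S hS
      refine Subtype.ext (hinj (Equiv.ext fun U => ?_))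
      show (v : G) • U = ((1 : zpowers w) : G) • U
      rw [OneMemClass.coe_one, one_smul]
      obtain ⟨j, hj⟩ := v.2
      by_cases hU : U ∈ Fx
      · rw [← hj]
        exact MulAction.zpow_smul_eq_iff_minimalPeriod_dvd.mpr (by
          have h1 : Function.minimalPeriod (w • ·) U = 1 := Function.minimalPeriod_eq_one_iff_isFixedPt.mpr hU
          rw [h1, Nat.cast_one]
          exact one_dvd _)
      · have hU' : U ∈ MulAction.orbit (Q : Subgroup G) S.1 := by
          have h1 : U ∈ MulAction.orbit (Q : Subgroup G) T := hRest ▸ (hU : U ∈ Fxᶜ)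
          have h2 : S.1 ∈ MulAction.orbit (Q : Subgroup G) T := hRest ▸ S.2
          rw [MulAction.orbit_eq_iff.mpr h2]; exact h1
        obtain ⟨a, rfl⟩ := hU'
        have hv : (v : G) ∈ C := hj ▸ C.zpow_mem hw j
        show (v : G) • a • S.1 = a • S.1
        rw [hcomm _ hv, show (v : G) • S.1 = S.1 from congrArg Subtype.val hS]
    have h := CfsgLib.Base.card_dvd_of_free hfree
    rw [Nat.card_zpowers, hRest, horb] at h
    exact orderOf_eq_one_iff.mp (hcop.eq_one_of_dvd h)
  have key : ∀ z ∈ C, (orderOf z).Coprime 11 → z = 1 := by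
    intro z hz hcop
    by_contra hz1
    have h := CfsgLib.Base.card_dvd_of_free (A := zpowers z) (X := Sylow 3 G) fun v S hS => by
      obtain ⟨j, hj⟩ := v.2
      exact Subtype.ext (fix1 v (hj ▸ C.zpow_mem hz j)
        (hcop.coprime_dvd_left (Nat.card_zpowers z ▸ (zpowers z).orderOf_dvd_natCard v.2)) S hS)
    rw [Nat.card_zpowers, hn] at h
    have h2 : orderOf z ∣ 2 := hcop.dvd_of_dvd_mul_left (show orderOf z ∣ 11 * 2 from h)
    have hz2 : z ^ 2 = 1 := orderOf_dvd_iff_pow_eq_one.mp h2
    have h4 := CfsgLib.Small.involution_fixed_mod_four hG (MulAction.toPermHom G (Sylow 3 G)) hz2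
    have hsupp : (MulAction.toPermHom G (Sylow 3 G) z).support = Finset.univ := by
      ext S
      simp only [Equiv.Perm.mem_support, Finset.mem_univ, iff_true]
      exact fun h => hz1 (fix1 z hz hcop S h)
    rw [hsupp, Finset.card_univ, ← Nat.card_eq_fintype_card, hn] at h4
    omega
  have hle : (Q : Subgroup G) ≤ C := by
    have : IsCyclic (Q : Subgroup G) := isCyclic_of_prime_card hQ
    have := this.isMulCommutative
    exact le_centralizer _
  refine Q.3 ?_ hle
  intro z
  refine ⟨(orderOf z).factorization 11, Subtype.ext ?_⟩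
  have hz := key ((z : G) ^ 11 ^ (orderOf z).factorization 11) (C.pow_mem z.2 _) ?_
  · simpa using hz
  · rw [orderOf_pow' _ (pow_ne_zero _ h11.ne_zero), Subgroup.orderOf_coe,
      Nat.gcd_eq_right (Nat.ordProj_dvd _ _)]
    exact (Nat.coprime_ordCompl h11 (orderOf_pos z).ne').symm

/-- A non-abelian simple group cannot have twenty-two Sylow `3`-subgroups. -/
theorem card_sylow_three_ne (hG : ¬ IsMulCommutative G) : Nat.card (Sylow 3 G) ≠ 22 := by
  classical
  intro hn
  have := Fact.mk Nat.prime_three
  have : Fact (Nat.Prime 11) := ⟨by norm_num⟩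
  have := Fintype.ofFinite (Sylow 3 G)
  obtain ⟨P⟩ : Nonempty (Sylow 3 G) := inferInstance
  have hP := card_sylow_three_eq hG hn P
  obtain ⟨m, hC, h3m, hm5040, hm7⟩ := exists_quotient_data hG hn P
  obtain ⟨e, he1, hed, hece⟩ := CfsgLib.Small.exists_normalizer_centralizer hG P hP
  have he : e = 2 := by
    have := Nat.le_of_dvd (by norm_num) hed
    omega
  subst he
  rw [hC] at hece
  have hGc : Nat.card G = 132 * m := by
    have h := CfsgLib.Small.card_normalizer_mul P
    rw [hn, ← hece] at h
    omega
  have hm560 : m ∣ 560 :=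
    (((Nat.prime_three.coprime_iff_not_dvd.mpr h3m).symm).pow_right 2).dvd_of_dvd_mul_left
      (show m ∣ 3 ^ 2 * 560 from hm5040)
  have hmlist : m ∈ ({1, 2, 4, 5, 8, 10, 16, 20, 40, 80, 7, 14} : Finset ℕ) := by
    by_cases h7 : 7 ∣ m
    · have h14 : m ∈ Nat.divisors 14 := Nat.mem_divisors.mpr ⟨hm7 h7, by norm_num⟩
      rw [show Nat.divisors 14 = {1, 2, 7, 14} from by decide] at h14
      simp only [Finset.mem_insert, Finset.mem_singleton] at h14 ⊢
      omega
    · have h80 : m ∈ Nat.divisors 80 := Nat.mem_divisors.mpr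
        ⟨((Nat.Prime.coprime_iff_not_dvd (by norm_num : Nat.Prime 7)).mpr h7).symm.dvd_of_dvd_mul_left
          (show m ∣ 7 * 80 from hm560), by norm_num⟩
      rw [show Nat.divisors 80 = {1, 2, 4, 5, 8, 10, 16, 20, 40, 80} from by decide] at h80
      simp only [Finset.mem_insert, Finset.mem_singleton] at h80 ⊢
      omega
  have h11m : ¬ 11 ∣ 12 * m := by
    intro h
    simp only [Finset.mem_insert, Finset.mem_singleton] at hmlist
    omega
  have h11 : 11 ∣ Nat.card G := hGc ▸ dvd_mul_of_dvd_left (by norm_num) m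
  obtain ⟨Q⟩ : Nonempty (Sylow 11 G) := inferInstance
  have hQ : Nat.card (Q : Subgroup G) = 11 := by
    simpa using CfsgLib.Small.card_sylow_eq (p := 11) 1 (12 * m) (by omega) h11m Q
  have hCQ := centralizer_eleven hG hn P
    (by rw [← hece]; intro h; refine h11m (dvd_trans h ⟨2, by ring⟩)) (hP ▸ card_subgroup_dvd_card _) Q hQ
  obtain ⟨f, hf1, hfd, hfece⟩ := CfsgLib.Small.exists_normalizer_centralizer hG Q hQ
  rw [hCQ, hQ] at hfece
  have hn11 := CfsgLib.Small.card_normalizer_mul Q
  rw [← hfece, hGc] at hn11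
  have hmod : Nat.card (Sylow 11 G) % 11 = 1 := card_sylow_modEq_one 11 G
  have hf : f ∈ Nat.divisors 10 := Nat.mem_divisors.mpr ⟨hfd, by norm_num⟩
  rw [show Nat.divisors 10 = {1, 2, 5, 10} from by decide] at hf
  simp only [Finset.mem_insert, Finset.mem_singleton] at hf hmlist
  have hcases : Nat.card (Sylow 11 G) = 12 ∧ f = m := by
    rcases hf with rfl | rfl | rfl | rfl <;>
      rcases hmlist with rfl | rfl | rfl | rfl | rfl | rfl | rfl | rfl | rfl | rfl | rfl | rfl <;> omega
  obtain ⟨hn12, rfl⟩ := hcases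
  have := Fintype.ofFinite (Sylow 11 G)
  have hodd : Odd (11 * f) := by
    rw [hfece]
    exact (CfsgLib.Small.sylow_succ hG Q hQ (by rw [hn12])).2 (by norm_num)
  have hf5 : f = 5 := by
    rcases hf with rfl | rfl | rfl | rfl
    · omega
    · exact absurd hodd (by decide)
    · rfl
    · exact absurd hodd (by decide)
  subst hf5
  -- an element of order five centralizing `P`
  have : Fact (Nat.Prime 5) := ⟨by norm_num⟩
  obtain ⟨u, hu⟩ := exists_prime_orderOf_dvd_card' (G := centralizer ((P : Subgroup G) : Set G)) 5 (by rw [hC]; norm_num)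
  obtain ⟨x, hx⟩ := exists_prime_orderOf_dvd_card' (G := (P : Subgroup G)) 3 (by rw [hP])
  have hxo : orderOf (x : G) = 3 := by rw [Subgroup.orderOf_coe, hx]
  have huo : orderOf (u : G) = 5 := by rw [Subgroup.orderOf_coe, hu]
  have hux : (x : G) * u = u * x := mem_centralizer_iff.mp u.2 x x.2
  have hfree : ∀ T : Sylow 11 G, (x : G) • T ≠ T := by
    intro T hT
    have h1 := (normalizer ((T : Subgroup G) : Set G)).orderOf_dvd_natCard (Sylow.smul_eq_iff_mem_normalizer.mp hT)
    have h2 := CfsgLib.Small.card_normalizer_mul T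
    rw [hn12, hGc] at h2
    rw [hxo] at h1
    omega
  set Fx := Finset.univ.filter fun T : Sylow 11 G => (u : G) • T = T with hFx
  have hzp : ∀ (y : G) (k : ℤ) (T : Sylow 11 G), y • T = T → y ^ k • T = T := fun y k T h =>
    zpow_mem (show y ∈ MulAction.stabilizer G T from h) k
  have h3 : 3 ∣ Fx.card := by
    refine dvd_card_of_orbits (A := zpowers (x : G)) Fx 3 (fun a T hT => ?_) fun T _ => ?_
    · refine Finset.mem_filter.mpr ⟨Finset.mem_univ _, ?_⟩
      obtain ⟨j, hj⟩ := a.2
      show (u : G) • (a : G) • T = (a : G) • T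
      rw [← hj, smul_smul, ← (show Commute (x : G) u from hux).zpow_left j |>.eq, mul_smul, (Finset.mem_filter.mp hT).2]
    · rw [Nat.card_congr (MulAction.orbitEquivQuotientStabilizer _ T), ← index_eq_card]
      have hd := (MulAction.stabilizer (zpowers (x : G)) T).index_dvd_card
      rw [Nat.card_zpowers, hxo] at hd
      refine ((Nat.dvd_prime Nat.prime_three).mp hd).resolve_left fun h => hfree T ?_
      rw [index_eq_one] at h
      exact (show (⟨(x : G), mem_zpowers _⟩ : zpowers (x : G)) ∈ MulAction.stabilizer (zpowers (x : G)) T from h ▸ mem_top _)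
  have h5 : 5 ∣ (Finset.univ \ Fx).card := by
    refine dvd_card_of_orbits (A := zpowers (u : G)) _ 5 (fun a T hT => ?_) fun T hT => ?_
    · simp only [hFx, Finset.mem_sdiff, Finset.mem_filter, Finset.mem_univ, true_and] at hT ⊢
      intro h
      obtain ⟨j, hj⟩ := a.2
      refine hT (MulAction.injective (a : G) ?_)
      show (a : G) • (u : G) • T = (a : G) • T
      have h' : (u : G) • (a : G) • T = (a : G) • T := h
      rw [← hj] at h' ⊢
      rwa [smul_smul, (Commute.self_zpow (u : G) j).eq, mul_smul] at h'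
    · simp only [hFx, Finset.mem_sdiff, Finset.mem_filter, Finset.mem_univ, true_and] at hT
      rw [Nat.card_congr (MulAction.orbitEquivQuotientStabilizer _ T), ← index_eq_card]
      have hd := (MulAction.stabilizer (zpowers (u : G)) T).index_dvd_card
      rw [Nat.card_zpowers, huo] at hd
      refine ((Nat.dvd_prime (by norm_num)).mp hd).resolve_left fun h => hT ?_
      rw [index_eq_one] at h
      exact (show (⟨(u : G), mem_zpowers _⟩ : zpowers (u : G)) ∈ MulAction.stabilizer (zpowers (u : G)) T from h ▸ mem_top _)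
  rw [Finset.card_sdiff_of_subset (Finset.subset_univ _), Finset.card_univ, ← Nat.card_eq_fintype_card, hn12] at h5
  have hle : Fx.card ≤ 12 := by
    have := Finset.card_le_univ Fx
    rwa [← Nat.card_eq_fintype_card, hn12] at this
  have hall : Fx = Finset.univ := Finset.eq_univ_of_card _ (by
    rw [← Nat.card_eq_fintype_card, hn12]
    omega)
  have h11' : 11 ∣ Nat.card G := h11
  have hu1 : (u : G) = 1 := CfsgLib.Small.toPermHom_sylow_injective hG h11' (Equiv.ext fun T => by
    rw [map_one]
    show (u : G) • T = T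
    exact (Finset.mem_filter.mp (hall ▸ Finset.mem_univ T : T ∈ Fx)).2)
  rw [hu1, orderOf_one] at huo
  omega

end CfsgLib.FgsC
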