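import Mathlib
import Cfsg.Agent.Lib.Base.Frobenius
import Cfsg.Agent.Lib.Small.Basic
import Cfsg.Agent.Lib.Small.Count

/-!
# Simple groups with `2p + 1` Sylow `p`-subgroups
-/

set_option autoImplicit false

open Subgroup

namespace CfsgLib.FgsC

variable {G : Type*} [Group G] [Finite G] [IsSimpleGroup G] {p : ℕ} [Fact p.Prime]

omit [Finite G] [IsSimpleGroup G] [Fact p.Prime] in
theorem inf_normalizer_eq (P Q : Sylow p G) :
    (P : Subgroup G) ⊓ normalizer ((Q : Subgroup G) : Set G) = (P : Subgroup G) ⊓ Q :=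
  P.2.inf_normalizer_sylow Q

omit [IsSimpleGroup G] in
theorem orbit_card_sylow (P Q : Sylow p G) :
    Nat.card (MulAction.orbit (P : Subgroup G) Q) = (Q : Subgroup G).relIndex (P : Subgroup G) := by
  rw [Nat.card_congr (MulAction.orbitEquivQuotientStabilizer (P : Subgroup G) Q), ← index_eq_card]
  have h : MulAction.stabilizer (P : Subgroup G) Q =
      (normalizer ((Q : Subgroup G) : Set G)).subgroupOf (P : Subgroup G) := by
    ext x
    exact Sylow.smul_eq_iff_mem_normalizer
  rw [h]
  show (normalizer ((Q : Subgroup G) : Set G)).relIndex (P : Subgroup G) = _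
  rw [← inf_relIndex_left, inf_normalizer_eq, inf_relIndex_left]

omit [IsSimpleGroup G] in
/-- Two Sylow `p`-subgroups meet in a subgroup of index `p`. -/
theorem relIndex_eq_of_two_mul_succ (hp2 : p ≠ 2) (hn : Nat.card (Sylow p G) = 2 * p + 1) (P Q : Sylow p G)
    (hPQ : P ≠ Q) : (Q : Subgroup G).relIndex (P : Subgroup G) = p := by
  have hp : p.Prime := Fact.out
  have hsub : MulAction.orbit (P : Subgroup G) Q ⊆ {P}ᶜ := by
    rintro R ⟨a, rfl⟩ h
    have h' : (a : G) • Q = P := h
    have hP : (a : G) • P = P := Sylow.smul_eq_iff_mem_normalizer.mpr (le_normalizer a.2)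
    exact hPQ (MulAction.injective (a : G) (hP.trans h'.symm))
  have hle : Nat.card (MulAction.orbit (P : Subgroup G) Q) ≤ 2 * p := by
    have h1 := Set.ncard_le_ncard hsub (Set.toFinite _)
    rw [Set.ncard_compl, Set.ncard_singleton, hn, ← Nat.card_coe_set_eq] at h1
    omega
  rw [orbit_card_sylow] at hle
  obtain ⟨e, he⟩ := IsPGroup.iff_card.mp P.2
  have hd := relIndex_dvd_card (Q : Subgroup G) (P : Subgroup G)
  rw [he] at hd
  obtain ⟨i, -, hi⟩ := (Nat.dvd_prime_pow hp).mp hd
  rw [hi] at hle ⊢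
  rcases i with _ | _ | i
  · refine absurd (Sylow.ext ?_) hPQ
    have hle' : (P : Subgroup G) ≤ Q := relIndex_eq_one.mp (by rw [hi, pow_zero])
    exact (P.3 Q.2 hle').symm
  · exact pow_one p
  · exfalso
    have h3 : 3 ≤ p := by have := hp.two_le; omega
    have : p ^ 2 ≤ p ^ (i + 1 + 1) := Nat.pow_le_pow_right hp.pos (by omega)
    nlinarith [this, hle]

omit [IsSimpleGroup G] in
theorem card_inf_mul (hp2 : p ≠ 2) (hn : Nat.card (Sylow p G) = 2 * p + 1) (P Q : Sylow p G) (hPQ : P ≠ Q) :
    Nat.card ↥((P : Subgroup G) ⊓ Q) * p = Nat.card (P : Subgroup G) := by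
  have h := relIndex_mul_relIndex ⊥ ((P : Subgroup G) ⊓ Q) (P : Subgroup G) bot_le inf_le_left
  rwa [relIndex_bot_left, relIndex_bot_left, inf_relIndex_left, relIndex_eq_of_two_mul_succ hp2 hn P Q hPQ] at h

/-- A Sylow `p`-subgroup has order `p`. -/
theorem card_sylow_subgroup_eq (hG : ¬ IsMulCommutative G) (hp2 : p ≠ 2)
    (hn : Nat.card (Sylow p G) = 2 * p + 1) (P : Sylow p G) : Nat.card (P : Subgroup G) = p := by
  classical
  have hp : p.Prime := Fact.out
  have := Fintype.ofFinite (Sylow p G)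
  have hX : Fintype.card (Sylow p G) = 2 * p + 1 := by rw [← Nat.card_eq_fintype_card, hn]
  have hdvd : p ∣ Nat.card G := by
    by_contra hd
    obtain ⟨e, he⟩ := IsPGroup.iff_card.mp P.2
    have hbot : (P : Subgroup G) = ⊥ := by
      rw [← card_eq_one]
      rcases e with _ | e
      · simpa using he
      · exact absurd ((dvd_pow_self p (Nat.succ_ne_zero e)).trans (he ▸ card_subgroup_dvd_card _)) hd
    rw [CfsgLib.Small.card_sylow_eq_index P] at hn
    have : normalizer ((P : Subgroup G) : Set G) = ⊤ := by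
      rw [hbot]; exact normalizer_eq_top_iff.mpr inferInstance
    rw [index_eq_one.mpr this] at hn
    have := hp.pos
    omega
  -- the intersection of all Sylow subgroups is trivial
  have hcore : ∀ D : Subgroup G, (∀ R : Sylow p G, D ≤ R) → D = ⊥ := by
    intro D hD
    have hDle : D ≤ ⨅ R : Sylow p G, (R : Subgroup G) := le_iInf hD
    have hnorm : (⨅ R : Sylow p G, (R : Subgroup G)).Normal := ⟨fun x hx g => by
      simp only [mem_iInf] at hx ⊢
      intro R
      have h := hx (g⁻¹ • R)
      rw [Sylow.coe_subgroup_smul, mem_pointwise_smul_iff_inv_smul_mem] at h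
      simpa [mul_assoc] using h⟩
    rcases hnorm.eq_bot_or_eq_top with h | h
    · exact le_bot_iff.mp (h ▸ hDle)
    · exact absurd (top_le_iff.mp (h ▸ iInf_le (fun R : Sylow p G => (R : Subgroup G)) P)) (CfsgLib.Small.sylow_ne_top hG P)
  let F : Subgroup G → Finset (Sylow p G) := fun D => Finset.univ.filter fun R => D ≤ (R : Subgroup G)
  -- the Sylow subgroups containing `P ∩ Q`
  have fibre : ∀ P Q : Sylow p G, P ≠ Q → (P : Subgroup G) ⊓ Q ≠ ⊥ →
      ((F ((P : Subgroup G) ⊓ Q)).erase P).card = p ∧ (F ((P : Subgroup G) ⊓ Q)).card = p + 1 := by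
    intro P Q hPQ hne
    set D := (P : Subgroup G) ⊓ Q with hD
    have hPF : P ∈ F D := Finset.mem_filter.mpr ⟨Finset.mem_univ _, inf_le_left⟩
    have hQF : Q ∈ (F D).erase P := Finset.mem_erase.mpr ⟨hPQ.symm, Finset.mem_filter.mpr ⟨Finset.mem_univ _, inf_le_right⟩⟩
    have hDn : (D.subgroupOf (P : Subgroup G)).Normal := by
      refine normal_of_index_eq_minFac_card ?_
      show D.relIndex (P : Subgroup G) = _
      rw [hD, inf_relIndex_left, relIndex_eq_of_two_mul_succ hp2 hn P Q hPQ]
      obtain ⟨e, he⟩ := IsPGroup.iff_card.mp P.2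
      rcases e with _ | e
      · exact absurd (le_bot_iff.mp (inf_le_left.trans (card_eq_one.mp (by simpa using he)).le)) hne
      · rw [he, Nat.pow_minFac (Nat.succ_ne_zero e), hp.minFac_eq]
    have hinv : ∀ a ∈ (P : Subgroup G), ∀ R, R ∈ (F D).erase P → a • R ∈ (F D).erase P := by
      intro a ha R hR
      obtain ⟨hRP, hR⟩ := Finset.mem_erase.mp hR
      have hP : a • P = P := Sylow.smul_eq_iff_mem_normalizer.mpr (le_normalizer ha)
      refine Finset.mem_erase.mpr ⟨fun h => hRP (MulAction.injective a (h.trans hP.symm)),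
        Finset.mem_filter.mpr ⟨Finset.mem_univ _, fun d hd => ?_⟩⟩
      rw [Sylow.coe_subgroup_smul, mem_pointwise_smul_iff_inv_smul_mem]
      refine (Finset.mem_filter.mp hR).2 ?_
      have h := hDn.conj_mem ⟨d, inf_le_left (a := (P : Subgroup G)) hd⟩ hd ⟨a⁻¹, inv_mem ha⟩
      simpa [mem_subgroupOf] using h
    let Y := {R : Sylow p G // R ∈ (F D).erase P}
    let act : MulAction (P : Subgroup G) Y :=
      { smul := fun a R => ⟨(a : G) • R.1, hinv a a.2 _ R.2⟩
        one_smul := fun R => Subtype.ext (one_smul G R.1)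
        mul_smul := fun a b R => Subtype.ext (mul_smul (a : G) b R.1) }
    have hmod := P.2.card_modEq_card_fixedPoints (α := Y)
    have hfix : Nat.card (MulAction.fixedPoints (P : Subgroup G) Y) = 0 := by
      rw [Nat.card_eq_zero]
      refine Or.inl ⟨fun R => (Finset.mem_erase.mp R.1.2).1 ?_⟩
      have hle : (P : Subgroup G) ≤ R.1.1 := by
        have h : (P : Subgroup G) ≤ (P : Subgroup G) ⊓ normalizer ((R.1.1 : Subgroup G) : Set G) :=
          le_inf le_rfl fun a ha => Sylow.smul_eq_iff_mem_normalizer.mp (congrArg Subtype.val (R.2 ⟨a, ha⟩))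
        rw [inf_normalizer_eq] at h
        exact h.trans inf_le_right
      exact Sylow.ext (P.3 R.1.1.2 hle)
    rw [hfix, Nat.card_eq_fintype_card, Fintype.card_coe] at hmod
    obtain ⟨j, hj⟩ := Nat.modEq_zero_iff_dvd.mp hmod
    have hlt : (F D).card ≠ 2 * p + 1 := by
      intro hc
      refine hne (hcore D fun R => ?_)
      have : R ∈ F D := (Finset.eq_univ_of_card _ (hc.trans hX.symm)).symm ▸ Finset.mem_univ R
      exact (Finset.mem_filter.mp this).2
    have hle : (F D).card ≤ 2 * p + 1 := hX ▸ Finset.card_le_univ _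
    have he := Finset.card_erase_add_one hPF
    have hpos : 0 < ((F D).erase P).card := Finset.card_pos.mpr ⟨Q, hQF⟩
    have hj1 : j = 1 := by
      rw [hj] at he hpos
      rcases j with _ | _ | j
      · omega
      · rfl
      · exfalso
        have h2 : p * 2 ≤ p * (j + 1 + 1) := Nat.mul_le_mul_left p (by omega)
        omega
    rw [hj1, mul_one] at hj
    exact ⟨hj, by omega⟩
  by_contra hne
  obtain ⟨e, he⟩ := IsPGroup.iff_card.mp P.2
  have he2 : 2 ≤ e := by
    rcases e with _ | _ | e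
    · exact absurd (card_eq_one.mp (by simpa using he)) (P.ne_bot_of_dvd_card hdvd)
    · exact absurd (by simpa using he) hne
    · omega
  have hDne : ∀ P Q : Sylow p G, P ≠ Q → (P : Subgroup G) ⊓ Q ≠ ⊥ := by
    intro P' Q' hPQ h
    have h1 := card_inf_mul hp2 hn P' Q' hPQ
    have hc : Nat.card (P' : Subgroup G) = p ^ e := by rw [P'.card_eq_multiplicity, ← P.card_eq_multiplicity, he]
    rw [h, card_bot, one_mul, hc] at h1
    have := Nat.pow_right_injective hp.two_le (show p ^ 1 = p ^ e by rwa [pow_one])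
    omega
  -- every Sylow subgroup contains exactly two of the intersections
  have two : ∀ P : Sylow p G, ∃ R1 R2 : Sylow p G, P ≠ R1 ∧ P ≠ R2 ∧
      (P : Subgroup G) ⊓ R1 ≠ (P : Subgroup G) ⊓ R2 ∧
      ∀ R, P ≠ R → (P : Subgroup G) ⊓ R = (P : Subgroup G) ⊓ R1 ∨ (P : Subgroup G) ⊓ R = (P : Subgroup G) ⊓ R2 := by
    intro P
    have hcard : (Finset.univ.erase P).card = 2 * p := by
      rw [Finset.card_erase_of_mem (Finset.mem_univ _), Finset.card_univ, hX]; omega
    obtain ⟨R1, hR1⟩ := Finset.card_pos.mp (by have := hp.pos; omega : 0 < (Finset.univ.erase P).card)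
    have hPR1 : P ≠ R1 := (Finset.mem_erase.mp hR1).1.symm
    obtain ⟨h1, h1'⟩ := fibre P R1 hPR1 (hDne P R1 hPR1)
    obtain ⟨R2, hR2, hR2n⟩ := Finset.exists_mem_notMem_of_card_lt_card
      (s := (F ((P : Subgroup G) ⊓ R1)).erase P) (t := Finset.univ.erase P) (by have := hp.pos; omega)
    have hPR2 : P ≠ R2 := (Finset.mem_erase.mp hR2).1.symm
    have hne12 : (P : Subgroup G) ⊓ R1 ≠ (P : Subgroup G) ⊓ R2 := fun h => hR2n (Finset.mem_erase.mpr
      ⟨hPR2.symm, Finset.mem_filter.mpr ⟨Finset.mem_univ _, h ▸ inf_le_right⟩⟩)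
    obtain ⟨h2, -⟩ := fibre P R2 hPR2 (hDne P R2 hPR2)
    refine ⟨R1, R2, hPR1, hPR2, hne12, fun R hR => ?_⟩
    have hc : ∀ A : Sylow p G, P ≠ A → R ∈ F ((P : Subgroup G) ⊓ A) → (P : Subgroup G) ⊓ R = (P : Subgroup G) ⊓ A := by
      intro A hA hRA
      refine (eq_of_le_of_card_ge (le_inf inf_le_left (Finset.mem_filter.mp hRA).2) ?_).symm
      exact Nat.le_of_mul_le_mul_right (by rw [card_inf_mul hp2 hn P R hR, card_inf_mul hp2 hn P A hA]) hp.pos
    have hdis : Disjoint ((F ((P : Subgroup G) ⊓ R1)).erase P) ((F ((P : Subgroup G) ⊓ R2)).erase P) := by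
      rw [Finset.disjoint_left]
      intro T hT1 hT2
      obtain ⟨hTP, hT1⟩ := Finset.mem_erase.mp hT1
      have a : ∀ A : Sylow p G, P ≠ A → T ∈ F ((P : Subgroup G) ⊓ A) → (P : Subgroup G) ⊓ A = (P : Subgroup G) ⊓ T := fun A hA h =>
        eq_of_le_of_card_ge (le_inf inf_le_left (Finset.mem_filter.mp h).2)
          (Nat.le_of_mul_le_mul_right (by rw [card_inf_mul hp2 hn P T hTP.symm, card_inf_mul hp2 hn P A hA]) hp.pos)
      exact hne12 ((a R1 hPR1 hT1).trans (a R2 hPR2 (Finset.mem_erase.mp hT2).2).symm)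
    have hun : ((F ((P : Subgroup G) ⊓ R1)).erase P) ∪ ((F ((P : Subgroup G) ⊓ R2)).erase P) = Finset.univ.erase P := by
      refine Finset.eq_of_subset_of_card_le (fun T hT => ?_) ?_
      · rcases Finset.mem_union.mp hT with h | h <;>
          exact Finset.mem_erase.mpr ⟨(Finset.mem_erase.mp h).1, Finset.mem_univ _⟩
      · rw [Finset.card_union_of_disjoint hdis, h1, h2, hcard]; omega
    have hRu : R ∈ Finset.univ.erase P := Finset.mem_erase.mpr ⟨hR.symm, Finset.mem_univ _⟩
    rw [← hun] at hRu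
    rcases Finset.mem_union.mp hRu with h | h
    · exact Or.inl (hc R1 hPR1 (Finset.mem_erase.mp h).2)
    · exact Or.inr (hc R2 hPR2 (Finset.mem_erase.mp h).2)
  -- double counting
  have := Fintype.ofFinite (Subgroup G)
  set 𝒟 := Finset.univ.filter fun D : Subgroup G => ∃ A B : Sylow p G, A ≠ B ∧ D = (A : Subgroup G) ⊓ B with h𝒟
  have hcnt := Finset.sum_card_bipartiteAbove_eq_sum_card_bipartiteBelow
    (r := fun (D : Subgroup G) (R : Sylow p G) => D ≤ (R : Subgroup G)) (s := 𝒟) (t := Finset.univ)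
  have hl : ∀ D ∈ 𝒟, (Finset.univ.bipartiteAbove (fun (D : Subgroup G) (R : Sylow p G) => D ≤ (R : Subgroup G)) D).card = p + 1 := by
    intro D hD
    obtain ⟨A, B, hAB, rfl⟩ := (Finset.mem_filter.mp hD).2
    exact (fibre A B hAB (hDne A B hAB)).2
  have hr : ∀ R ∈ (Finset.univ : Finset (Sylow p G)),
      (𝒟.bipartiteBelow (fun (D : Subgroup G) (R : Sylow p G) => D ≤ (R : Subgroup G)) R).card = 2 := by
    intro R _
    obtain ⟨R1, R2, hR1, hR2, hne12, hall⟩ := two R
    refine Finset.card_eq_two.mpr ⟨_, _, hne12, Finset.ext fun D => ?_⟩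
    simp only [Finset.mem_bipartiteBelow, Finset.mem_insert, Finset.mem_singleton]
    constructor
    · rintro ⟨hD, hDR⟩
      obtain ⟨A, B, hAB, rfl⟩ := (Finset.mem_filter.mp hD).2
      obtain ⟨C, hRC, hC⟩ : ∃ C : Sylow p G, R ≠ C ∧ (A : Subgroup G) ⊓ B ≤ (C : Subgroup G) := by
        by_cases h : R = A
        · exact ⟨B, h ▸ hAB, inf_le_right⟩
        · exact ⟨A, h, inf_le_left⟩
      have he' : (A : Subgroup G) ⊓ B = (R : Subgroup G) ⊓ C := by
        refine eq_of_le_of_card_ge (le_inf hDR hC) (Nat.le_of_mul_le_mul_right (le_of_eq ?_) hp.pos)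
        rw [card_inf_mul hp2 hn R C hRC, card_inf_mul hp2 hn A B hAB, A.card_eq_multiplicity, R.card_eq_multiplicity]
      rw [he']
      exact hall C hRC
    · rintro (rfl | rfl)
      · exact ⟨Finset.mem_filter.mpr ⟨Finset.mem_univ _, R, R1, hR1, rfl⟩, inf_le_left⟩
      · exact ⟨Finset.mem_filter.mpr ⟨Finset.mem_univ _, R, R2, hR2, rfl⟩, inf_le_left⟩
  rw [Finset.sum_congr rfl hl, Finset.sum_congr rfl hr, Finset.sum_const, Finset.sum_const,
    Finset.card_univ, hX, smul_eq_mul, smul_eq_mul] at hcnt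
  have h2p : 3 ≤ p := by have := hp.two_le; omega
  rcases Nat.lt_or_ge 𝒟.card 4 with h | h
  · have : 𝒟.card * (p + 1) ≤ 3 * (p + 1) := Nat.mul_le_mul_right _ (by omega)
    omega
  · have : 4 * (p + 1) ≤ 𝒟.card * (p + 1) := Nat.mul_le_mul_right _ h
    omega

/-- The Sylow subgroups are self-centralizing. -/
theorem centralizer_sylow_eq (hG : ¬ IsMulCommutative G) (hp2 : p ≠ 2)
    (hn : Nat.card (Sylow p G) = 2 * p + 1) (P : Sylow p G) :
    centralizer ((P : Subgroup G) : Set G) = (P : Subgroup G) := by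
  classical
  have hp : p.Prime := Fact.out
  have := Fintype.ofFinite (Sylow p G)
  have hX : Fintype.card (Sylow p G) = 2 * p + 1 := by rw [← Nat.card_eq_fintype_card, hn]
  have hP := card_sylow_subgroup_eq hG hp2 hn P
  have hdvd : p ∣ Nat.card G := hP ▸ card_subgroup_dvd_card _
  have hinj := CfsgLib.Small.toPermHom_sylow_injective hG (p := p) hdvd
  set C := centralizer ((P : Subgroup G) : Set G)
  have hfixP : ∀ w ∈ C, w • P = P := fun w hw =>
    Sylow.smul_eq_iff_mem_normalizer.mpr (centralizer_le_normalizer _ hw)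
  have horb : ∀ Q, P ≠ Q → Nat.card (MulAction.orbit (P : Subgroup G) Q) = p := fun Q hQ => by
    rw [orbit_card_sylow, relIndex_eq_of_two_mul_succ hp2 hn P Q hQ]
  have hcomm : ∀ w ∈ C, ∀ a : (P : Subgroup G), ∀ Q : Sylow p G, w • a • Q = a • w • Q := by
    intro w hw a Q
    show w • (a : G) • Q = (a : G) • w • Q
    rw [smul_smul, smul_smul, (mem_centralizer_iff.mp hw a a.2).symm]
  -- an element of order prime to `p` fixing two points is trivial
  have fix2 : ∀ w ∈ C, (orderOf w).Coprime p → ∀ Q, P ≠ Q → w • Q = Q → w = 1 := by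
    intro w hw hcop Q hQ hwQ
    set Fx : Set (Sylow p G) := {T | w • T = T}
    have horbF : ∀ T ∈ Fx, MulAction.orbit (P : Subgroup G) T ⊆ Fx := by
      rintro T hT _ ⟨a, rfl⟩
      show w • a • T = a • T
      rw [hcomm w hw, hT]
    by_cases hall : ∀ T : Sylow p G, w • T = T
    · refine hinj (Equiv.ext fun T => ?_)
      show w • T = (1 : G) • T
      rw [one_smul]; exact hall T
    push Not at hall
    obtain ⟨T, hT⟩ := hall
    have hPT : P ≠ T := fun h => hT (h ▸ hfixP w hw)
    have hTsub : MulAction.orbit (P : Subgroup G) T ⊆ Fxᶜ := by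
      rintro _ ⟨a, rfl⟩ h
      refine hT ?_
      have h' : w • a • T = a • T := h
      rw [hcomm w hw] at h'
      exact MulAction.injective a h'
    have hF : p + 1 ≤ Fx.ncard := by
      have hsub : insert P (MulAction.orbit (P : Subgroup G) Q) ⊆ Fx :=
        Set.insert_subset (hfixP w hw) (horbF Q hwQ)
      have hnot : P ∉ MulAction.orbit (P : Subgroup G) Q := by
        rintro ⟨a, ha⟩
        have hP' : (a : G) • P = P := Sylow.smul_eq_iff_mem_normalizer.mpr (le_normalizer a.2)
        exact hQ (MulAction.injective (a : G) (hP'.trans ha.symm))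
      have h1 := Set.ncard_le_ncard hsub (Set.toFinite _)
      rw [Set.ncard_insert_of_notMem hnot (Set.toFinite _), ← Nat.card_coe_set_eq, horb Q hQ] at h1
      omega
    have hRest : Fxᶜ = MulAction.orbit (P : Subgroup G) T := by
      refine (Set.eq_of_subset_of_ncard_le hTsub ?_ (Set.toFinite _)).symm
      rw [Set.ncard_compl, hn, ← Nat.card_coe_set_eq (MulAction.orbit (P : Subgroup G) T), horb T hPT]
      omega
    let act : MulAction (zpowers w) ↥(Fxᶜ : Set (Sylow p G)) :=
      { smul := fun v S => ⟨(v : G) • S.1, fun h => S.2 (MulAction.injective (v : G) (by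
          obtain ⟨j, hj⟩ := v.2
          have h' : w • (v : G) • S.1 = (v : G) • S.1 := h
          show (v : G) • (w • S.1) = (v : G) • S.1
          rw [← h', smul_smul, smul_smul, ← hj]
          congr 1
          exact (Commute.self_zpow w j).symm.eq))⟩
        one_smul := fun S => Subtype.ext (one_smul G S.1)
        mul_smul := fun a b S => Subtype.ext (mul_smul (a : G) b S.1) }
    have hfree : ∀ (v : zpowers w) (S : ↥(Fxᶜ : Set (Sylow p G))), v • S = S → v = 1 := by
      intro v S hS
      refine Subtype.ext (hinj (Equiv.ext fun U => ?_))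
      show (v : G) • U = ((1 : zpowers w) : G) • U
      rw [OneMemClass.coe_one, one_smul]
      obtain ⟨j, hj⟩ := v.2
      by_cases hU : U ∈ Fx
      · rw [← hj]
        exact MulAction.zpow_smul_eq_iff_minimalPeriod_dvd.mpr (by
          have h1 : Function.minimalPeriod (w • ·) U = 1 := Function.minimalPeriod_eq_one_iff_isFixedPt.mpr hU
          rw [h1, Nat.cast_one]
          exact one_dvd _)
      · have hU' : U ∈ MulAction.orbit (P : Subgroup G) S.1 := by
          have h1 : U ∈ MulAction.orbit (P : Subgroup G) T := hRest ▸ (hU : U ∈ Fxᶜ)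
          have h2 : S.1 ∈ MulAction.orbit (P : Subgroup G) T := hRest ▸ S.2
          rw [MulAction.orbit_eq_iff.mpr h2]; exact h1
        obtain ⟨a, rfl⟩ := hU'
        have hv : (v : G) ∈ C := hj ▸ C.zpow_mem hw j
        show (v : G) • a • S.1 = a • S.1
        rw [hcomm _ hv, show (v : G) • S.1 = S.1 from congrArg Subtype.val hS]
    have h := CfsgLib.Base.card_dvd_of_free hfree
    rw [Nat.card_zpowers, hRest, horb T hPT] at h
    exact orderOf_eq_one_iff.mp (hcop.eq_one_of_dvd h)
  -- an element of order prime to `p` is trivial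
  have key : ∀ z ∈ C, (orderOf z).Coprime p → z = 1 := by
    intro z hz hcop
    by_contra hz1
    have hzfree : ∀ (v : zpowers z) (S : ↥({P}ᶜ : Set (Sylow p G))), (v : G) • S.1 = S.1 → v = 1 := by
      intro v S hS
      obtain ⟨j, hj⟩ := v.2
      exact Subtype.ext (fix2 v (hj ▸ C.zpow_mem hz j)
        (hcop.coprime_dvd_left (Nat.card_zpowers z ▸ (zpowers z).orderOf_dvd_natCard v.2)) S.1 (Ne.symm S.2) hS)
    let act : MulAction (zpowers z) ↥({P}ᶜ : Set (Sylow p G)) :=
      { smul := fun v S => ⟨(v : G) • S.1, fun h => S.2 (MulAction.injective (v : G) (by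
          obtain ⟨j, hj⟩ := v.2
          show (v : G) • S.1 = (v : G) • P
          rw [hfixP _ (hj ▸ C.zpow_mem hz j)]
          exact h))⟩
        one_smul := fun S => Subtype.ext (one_smul G S.1)
        mul_smul := fun a b S => Subtype.ext (mul_smul (a : G) b S.1) }
    have h := CfsgLib.Base.card_dvd_of_free (A := zpowers z) (X := ↥({P}ᶜ : Set (Sylow p G)))
      fun v S hS => hzfree v S (congrArg Subtype.val hS)
    rw [Nat.card_zpowers, Nat.card_coe_set_eq, Set.ncard_compl, Set.ncard_singleton, hn,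
      Nat.add_sub_cancel] at h
    have h2 : orderOf z ∣ 2 := hcop.dvd_of_dvd_mul_right h
    have hz2 : z ^ 2 = 1 := orderOf_dvd_iff_pow_eq_one.mp h2
    have h4 := CfsgLib.Small.involution_fixed_mod_four hG (MulAction.toPermHom G (Sylow p G)) hz2
    have hsupp : (MulAction.toPermHom G (Sylow p G) z).support = Finset.univ.erase P := by
      ext S
      rw [Equiv.Perm.mem_support, Finset.mem_erase]
      constructor
      · exact fun h => ⟨fun e => h (by rw [e]; exact hfixP z hz), Finset.mem_univ _⟩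
      · exact fun ⟨hS, _⟩ h => hz1 (fix2 z hz hcop S hS.symm h)
    rw [hsupp, Finset.card_erase_of_mem (Finset.mem_univ _), Finset.card_univ, hX, Nat.add_sub_cancel] at h4
    have : 2 ∣ p := Nat.dvd_of_mul_dvd_mul_left two_pos (show 2 * 2 ∣ 2 * p from h4)
    exact hp2 ((Nat.prime_dvd_prime_iff_eq Nat.prime_two hp).mp this).symm
  have hle : (P : Subgroup G) ≤ C := by
    have : IsCyclic (P : Subgroup G) := isCyclic_of_prime_card hP
    have := this.isMulCommutative
    exact le_centralizer _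
  refine P.3 ?_ hle
  intro z
  refine ⟨(orderOf z).factorization p, Subtype.ext ?_⟩
  have hz := key ((z : G) ^ p ^ (orderOf z).factorization p) (C.pow_mem z.2 _) ?_
  · simpa using hz
  · rw [orderOf_pow' _ (pow_ne_zero _ hp.ne_zero), Subgroup.orderOf_coe,
      Nat.gcd_eq_right (Nat.ordProj_dvd _ _)]
    exact (Nat.coprime_ordCompl hp (orderOf_pos z).ne').symm

/-- The order of the group is odd and equals `(2p+1) p e` with `1 < e ∣ p - 1`. -/
theorem exists_card_eq (hG : ¬ IsMulCommutative G) (hp2 : p ≠ 2)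
    (hn : Nat.card (Sylow p G) = 2 * p + 1) :
    ∃ e : ℕ, 1 < e ∧ e ∣ p - 1 ∧ Odd e ∧ Nat.card G = (2 * p + 1) * (p * e) := by
  classical
  have hp : p.Prime := Fact.out
  obtain ⟨P⟩ : Nonempty (Sylow p G) := inferInstance
  have hP := card_sylow_subgroup_eq hG hp2 hn P
  have hC := centralizer_sylow_eq hG hp2 hn P
  obtain ⟨e, he1, hed, hece⟩ := CfsgLib.Small.exists_normalizer_centralizer hG P hP
  rw [hC, hP] at hece
  set N := normalizer ((P : Subgroup G) : Set G)
  have hGc : Nat.card G = (2 * p + 1) * (p * e) := by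
    rw [hece, ← hn, mul_comm, CfsgLib.Small.card_normalizer_mul P]
  refine ⟨e, he1, hed, ?_, hGc⟩
  rw [← Nat.not_even_iff_odd]
  intro hev
  have := Fact.mk Nat.prime_two
  have hG2 : 2 ∣ Nat.card G := hGc ▸ (dvd_mul_of_dvd_right (dvd_mul_of_dvd_right hev.two_dvd p) _)
  have hmin : (Nat.card G).minFac = 2 := (Nat.minFac_eq_two_iff _).mpr hG2
  obtain ⟨T⟩ : Nonempty (Sylow 2 N) := inferInstance
  set T' := (T : Subgroup N).map N.subtype with hT'
  have hNidx : ¬ 2 ∣ N.index := by
    rw [show N.index = 2 * p + 1 from (CfsgLib.Small.card_sylow_eq_index P).symm.trans hn]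
    omega
  let TG : Sylow 2 G := (T.2.map N.subtype).toSylow (P := T') (by
    rw [hT', index_map_subtype]
    exact Nat.prime_two.not_dvd_mul T.not_dvd_index hNidx)
  refine CfsgLib.Small.minFac_sylow_not_isCyclic hG hmin TG ?_
  show IsCyclic T'
  have hTle : T' ≤ N := map_subtype_le _
  have hcycP : IsCyclic (P : Subgroup G) := isCyclic_of_prime_card hP
  have hcycA : IsCyclic (MulAut (P : Subgroup G)) := by
    have := Fact.mk (hP.symm ▸ hp : (Nat.card (P : Subgroup G)).Prime)
    exact (IsCyclic.mulAutMulEquiv (P : Subgroup G)).isCyclic.mpr inferInstance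
  refine isCyclic_of_injective ((P : Subgroup G).normalizerMonoidHom.comp (inclusion hTle)) ?_
  rw [injective_iff_map_eq_one]
  intro t ht
  have hmem : inclusion hTle t ∈ (P : Subgroup G).normalizerMonoidHom.ker := ht
  rw [normalizerMonoidHom_ker, mem_subgroupOf, hC] at hmem
  have h1 := (P : Subgroup G).orderOf_dvd_natCard hmem
  rw [hP] at h1
  obtain ⟨i, hi⟩ := IsPGroup.iff_orderOf.mp (T.2.map N.subtype) t
  have h2 : orderOf (t : G) = 2 ^ i := by rw [Subgroup.orderOf_coe]; exact hi
  change orderOf (t : G) ∣ p at h1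
  rw [h2] at h1
  rcases i with _ | i
  · exact Subtype.ext (orderOf_eq_one_iff.mp h2)
  · exact absurd ((Nat.prime_dvd_prime_iff_eq Nat.prime_two hp).mp ((dvd_pow_self 2 (Nat.succ_ne_zero i)).trans h1)) (Ne.symm hp2)

end CfsgLib.FgsC
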