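import Mathlib
import Cfsg.Agent.Lib.Base.Transport
import Cfsg.Agent.Lib.Small.Basic
import Cfsg.Agent.Lib.Small.Count
import Cfsg.Agent.Lib.FgsC.SylowTwoPSucc

/-!
# Twenty-two Sylow `3`-subgroups: pairs of Sylow subgroups meeting in index `3`
-/

set_option autoImplicit false

open Subgroup
open scoped Pointwise

namespace CfsgLib.FgsC

/-- An invariant finite set all of whose orbits have `k` elements has size divisible by `k`. -/
theorem dvd_card_of_orbits {A X : Type*} [Group A] [MulAction A X] [Fintype X] (T : Finset X) (k : ℕ)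
    (hinv : ∀ (a : A), ∀ x ∈ T, a • x ∈ T) (hk : ∀ x ∈ T, Nat.card (MulAction.orbit A x) = k) :
    k ∣ T.card := by
  classical
  let orb : X → Finset X := fun x => Finset.univ.filter fun y => y ∈ MulAction.orbit A x
  have hsub : ∀ x ∈ T, orb x ⊆ T := by
    intro x hx y hy
    obtain ⟨a, rfl⟩ := (Finset.mem_filter.mp hy).2
    exact hinv a x hx
  rw [Finset.card_eq_sum_card_image orb T]
  refine Finset.dvd_sum fun O hO => ?_
  obtain ⟨x, hx, rfl⟩ := Finset.mem_image.mp hO
  have e : (T.filter fun y => orb y = orb x) = orb x := by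
    ext y
    simp only [Finset.mem_filter]
    constructor
    · rintro ⟨-, h⟩
      rw [← h]
      exact Finset.mem_filter.mpr ⟨Finset.mem_univ _, MulAction.mem_orbit_self y⟩
    · intro hy
      refine ⟨hsub x hx hy, Finset.ext fun z => ?_⟩
      simp only [orb, Finset.mem_filter]
      rw [MulAction.orbit_eq_iff.mpr (Finset.mem_filter.mp hy).2]
  rw [e]
  refine dvd_of_eq ?_
  rw [← hk x hx, Nat.card_coe_set_eq, Set.ncard_eq_toFinset_card' _]
  congr 1
  ext y
  simp [orb]

variable {G : Type*} [Group G] [Finite G]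

/-- The Sylow `3`-subgroups meeting `P` in a subgroup of index `3`. -/
noncomputable def near [Fintype (Sylow 3 G)] (P : Sylow 3 G) : Finset (Sylow 3 G) :=
  Finset.univ.filter fun R => Nat.card ↥((P : Subgroup G) ⊓ R) * 3 = Nat.card (P : Subgroup G)

/-- The intersections of index `3` inside `P`. -/
noncomputable def nearInf [Fintype (Sylow 3 G)] (P : Sylow 3 G) : Finset (Subgroup G) := by
  classical exact (near P).image fun R : Sylow 3 G => (P : Subgroup G) ⊓ R

/-- The Sylow `3`-subgroups containing `D`. -/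
noncomputable def sylAbove [Fintype (Sylow 3 G)] (D : Subgroup G) : Finset (Sylow 3 G) := by
  classical exact Finset.univ.filter fun R : Sylow 3 G => D ≤ (R : Subgroup G)

variable [Fintype (Sylow 3 G)] [Fact (Nat.Prime 3)]

omit [Finite G] [Fact (Nat.Prime 3)] in
theorem mem_sylAbove {D : Subgroup G} {R : Sylow 3 G} : R ∈ sylAbove D ↔ D ≤ (R : Subgroup G) := by
  simp [sylAbove]

omit [Finite G] [Fact (Nat.Prime 3)] in
theorem mem_nearInf {P : Sylow 3 G} {D : Subgroup G} :
    D ∈ nearInf P ↔ ∃ R ∈ near P, (P : Subgroup G) ⊓ R = D := by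
  simp [nearInf]

omit [Finite G] [Fact (Nat.Prime 3)] in
theorem mem_near {P R : Sylow 3 G} :
    R ∈ near P ↔ Nat.card ↥((P : Subgroup G) ⊓ R) * 3 = Nat.card (P : Subgroup G) := by
  simp [near]

theorem card_sylow_const (P R : Sylow 3 G) : Nat.card (P : Subgroup G) = Nat.card (R : Subgroup G) := by
  rw [P.card_eq_multiplicity, R.card_eq_multiplicity]

theorem near_symm {P R : Sylow 3 G} (h : R ∈ near P) : P ∈ near R := by
  rw [mem_near] at h ⊢
  rw [inf_comm, h, card_sylow_const P R]

theorem ne_of_near {P R : Sylow 3 G} (h : R ∈ near P) : R ≠ P := by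
  rintro rfl
  rw [mem_near, inf_idem] at h
  have := Nat.card_pos (α := (R : Subgroup G))
  omega

omit [Fintype (Sylow 3 G)] in
theorem card_inf_conj (g : G) (A B : Sylow 3 G) :
    Nat.card ↥(((g • A : Sylow 3 G) : Subgroup G) ⊓ ((g • B : Sylow 3 G) : Subgroup G)) =
      Nat.card ↥((A : Subgroup G) ⊓ B) := by
  rw [Sylow.coe_subgroup_smul, Sylow.coe_subgroup_smul, ← smul_inf]
  exact (Nat.card_congr (equivSMul (MulAut.conj g) _).toEquiv).symm

theorem near_smul (g : G) {P R : Sylow 3 G} : g • R ∈ near (g • P) ↔ R ∈ near P := by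
  rw [mem_near, mem_near, card_inf_conj, card_sylow_const (g • P) P]

omit [Fact (Nat.Prime 3)] [Finite G] in
theorem sylAbove_smul (g : G) {D : Subgroup G} {R : Sylow 3 G} :
    g • R ∈ sylAbove (MulAut.conj g • D) ↔ R ∈ sylAbove D := by
  rw [mem_sylAbove, mem_sylAbove, Sylow.coe_subgroup_smul, pointwise_smul_le_pointwise_smul_iff]

theorem nearInf_smul (g : G) {P : Sylow 3 G} {D : Subgroup G} :
    MulAut.conj g • D ∈ nearInf (g • P) ↔ D ∈ nearInf P := by
  rw [mem_nearInf, mem_nearInf]
  constructor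
  · rintro ⟨R, hR, h⟩
    refine ⟨g⁻¹ • R, by rwa [← near_smul g, smul_inv_smul], MulAction.injective (MulAut.conj g) ?_⟩
    show MulAut.conj g • _ = MulAut.conj g • D
    rw [smul_inf, ← Sylow.coe_subgroup_smul, ← Sylow.coe_subgroup_smul, smul_inv_smul, h]
  · rintro ⟨R, hR, rfl⟩
    exact ⟨g • R, (near_smul g).mpr hR, by rw [Sylow.coe_subgroup_smul, Sylow.coe_subgroup_smul, smul_inf]⟩

variable (hn : Nat.card (Sylow 3 G) = 22)

include hn in
theorem relIndex_cases (P R : Sylow 3 G) (h : P ≠ R) :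
    (R : Subgroup G).relIndex (P : Subgroup G) = 3 ∨ (R : Subgroup G).relIndex (P : Subgroup G) = 9 := by
  have hsub : MulAction.orbit (P : Subgroup G) R ⊆ {P}ᶜ := by
    rintro Q ⟨a, rfl⟩ hQ
    have h' : (a : G) • R = P := hQ
    have hP : (a : G) • P = P := Sylow.smul_eq_iff_mem_normalizer.mpr (le_normalizer a.2)
    exact h (MulAction.injective (a : G) (hP.trans h'.symm))
  have hle : (R : Subgroup G).relIndex (P : Subgroup G) ≤ 21 := by
    rw [← orbit_card_sylow]
    have h1 := Set.ncard_le_ncard hsub (Set.toFinite _)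
    rw [Set.ncard_compl, Set.ncard_singleton, hn, ← Nat.card_coe_set_eq] at h1
    exact h1
  obtain ⟨e, he⟩ := IsPGroup.iff_card.mp P.2
  have hd := relIndex_dvd_card (R : Subgroup G) (P : Subgroup G)
  rw [he] at hd
  obtain ⟨i, -, hi⟩ := (Nat.dvd_prime_pow Nat.prime_three).mp hd
  rw [hi] at hle ⊢
  rcases i with _ | _ | _ | i
  · refine absurd (Sylow.ext ?_) h
    exact (P.3 R.2 (relIndex_eq_one.mp (by rw [hi, pow_zero]))).symm
  · exact Or.inl rfl
  · exact Or.inr rfl
  · have : 3 ^ 3 ≤ 3 ^ (i + 1 + 1 + 1) := Nat.pow_le_pow_right (by norm_num) (by omega)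
    omega

omit [Fact (Nat.Prime 3)] [Fintype (Sylow 3 G)] [Finite G] in
theorem card_inf_mul_relIndex (P R : Sylow 3 G) :
    Nat.card ↥((P : Subgroup G) ⊓ R) * (R : Subgroup G).relIndex (P : Subgroup G) = Nat.card (P : Subgroup G) := by
  have h := relIndex_mul_relIndex ⊥ ((P : Subgroup G) ⊓ R) (P : Subgroup G) bot_le inf_le_left
  rwa [relIndex_bot_left, relIndex_bot_left, inf_relIndex_left] at h

theorem mem_near_iff {P R : Sylow 3 G} :
    R ∈ near P ↔ (R : Subgroup G).relIndex (P : Subgroup G) = 3 := by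
  rw [mem_near, ← card_inf_mul_relIndex P R, mul_right_inj' Nat.card_pos.ne']
  exact eq_comm

theorem orbit_card_of_near {P R : Sylow 3 G} (h : R ∈ near P) :
    Nat.card (MulAction.orbit (P : Subgroup G) R) = 3 := by
  rw [orbit_card_sylow, mem_near_iff.mp h]

include hn in
theorem orbit_card_of_far {P R : Sylow 3 G} (hne : P ≠ R) (h : R ∉ near P) :
    Nat.card (MulAction.orbit (P : Subgroup G) R) = 9 := by
  rw [orbit_card_sylow]
  exact (relIndex_cases hn P R hne).resolve_left fun e => h (mem_near_iff.mpr e)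

theorem near_invariant {P R : Sylow 3 G} (a : (P : Subgroup G)) (h : R ∈ near P) : a • R ∈ near P := by
  have hP : (a : G) • P = P := Sylow.smul_eq_iff_mem_normalizer.mpr (le_normalizer a.2)
  show (a : G) • R ∈ near P
  have h' := (near_smul (a : G)).mpr h
  rwa [hP] at h'

include hn in
theorem card_far (P : Sylow 3 G) : ∃ i, 22 = 1 + (near P).card + 9 * i := by
  classical
  set T := (Finset.univ.erase P) \ near P with hT
  have h9 : 9 ∣ T.card := by
    refine dvd_card_of_orbits (A := (P : Subgroup G)) T 9 (fun a R hR => ?_) fun R hR => ?_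
    · simp only [hT, Finset.mem_sdiff, Finset.mem_erase, Finset.mem_univ, and_true] at hR ⊢
      have hP : (a : G) • P = P := Sylow.smul_eq_iff_mem_normalizer.mpr (le_normalizer a.2)
      refine ⟨fun e => hR.1 (MulAction.injective (a : G) (e.trans hP.symm)), fun e => hR.2 ?_⟩
      have := near_invariant a⁻¹ e
      rwa [inv_smul_smul] at this
    · simp only [hT, Finset.mem_sdiff, Finset.mem_erase, Finset.mem_univ, and_true] at hR
      exact orbit_card_of_far hn (Ne.symm hR.1) hR.2
  obtain ⟨i, hi⟩ := h9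
  refine ⟨i, ?_⟩
  have hsub : near P ⊆ Finset.univ.erase P := fun R hR =>
    Finset.mem_erase.mpr ⟨ne_of_near hR, Finset.mem_univ _⟩
  have h1 := Finset.card_sdiff_add_card_eq_card hsub
  rw [← hT, hi, Finset.card_erase_of_mem (Finset.mem_univ _), Finset.card_univ, ← Nat.card_eq_fintype_card, hn] at h1
  omega

theorem inf_eq_of_le {P R : Sylow 3 G} {D : Subgroup G} (hD : D ∈ nearInf P) (hR : D ≤ (R : Subgroup G))
    (hne : R ≠ P) : R ∈ near P ∧ (P : Subgroup G) ⊓ R = D := by
  obtain ⟨R0, hR0, rfl⟩ := mem_nearInf.mp hD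
  have hle : (P : Subgroup G) ⊓ R0 ≤ (P : Subgroup G) ⊓ R := le_inf inf_le_left hR
  have hlt : ¬ (P : Subgroup G) ≤ R := fun h => hne (Sylow.ext (P.3 R.2 h))
  rw [mem_near] at hR0
  -- an intersection squeezed between index `3` and the whole group
  have h1 := card_inf_mul_relIndex P R
  have hd : (R : Subgroup G).relIndex (P : Subgroup G) ∣ 3 := by
    obtain ⟨m, hm⟩ := card_dvd_of_le hle
    refine ⟨m, ?_⟩
    rw [hm, mul_assoc] at h1
    have h2 := h1.trans hR0.symm
    rw [mul_right_inj' Nat.card_pos.ne'] at h2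
    exact (h2.symm.trans (mul_comm _ _))
  have h3 : (R : Subgroup G).relIndex (P : Subgroup G) = 3 :=
    ((Nat.dvd_prime Nat.prime_three).mp hd).resolve_left fun e => hlt (relIndex_eq_one.mp e)
  refine ⟨mem_near_iff.mpr h3, (eq_of_le_of_card_ge hle ?_).symm⟩
  rw [h3] at h1
  omega

theorem mem_nearInf_of_le {P R : Sylow 3 G} {D : Subgroup G} (hD : D ∈ nearInf P) (hR : D ≤ (R : Subgroup G)) :
    D ∈ nearInf R := by
  by_cases hne : R = P
  · rw [hne]; exact hD
  · obtain ⟨h1, h2⟩ := inf_eq_of_le hD hR hne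
    exact mem_nearInf.mpr ⟨P, near_symm h1, by rw [inf_comm]; exact h2⟩

theorem self_mem_sylAbove {P : Sylow 3 G} {D : Subgroup G} (hD : D ∈ nearInf P) : P ∈ sylAbove D := by
  obtain ⟨R, -, rfl⟩ := mem_nearInf.mp hD
  exact mem_sylAbove.mpr inf_le_left

theorem conj_eq_of_mem_nearInf {P : Sylow 3 G} {D : Subgroup G} (hD : D ∈ nearInf P) (a : (P : Subgroup G)) :
    MulAut.conj (a : G) • D = D := by
  obtain ⟨R, hR, rfl⟩ := mem_nearInf.mp hD
  have hnorm : (((P : Subgroup G) ⊓ R).subgroupOf (P : Subgroup G)).Normal := by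
    refine normal_of_index_eq_minFac_card ?_
    show ((P : Subgroup G) ⊓ R).relIndex (P : Subgroup G) = _
    rw [inf_relIndex_left, mem_near_iff.mp hR]
    obtain ⟨e, he⟩ := IsPGroup.iff_card.mp P.2
    rcases e with _ | e
    · have h := mem_near.mp hR
      rw [he, pow_zero] at h
      omega
    · rw [he, Nat.pow_minFac (Nat.succ_ne_zero e), Nat.prime_three.minFac_eq]
  have key : ∀ b : (P : Subgroup G), MulAut.conj (b : G) • ((P : Subgroup G) ⊓ R) ≤ (P : Subgroup G) ⊓ R := by
    intro b y hy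
    rw [mem_pointwise_smul_iff_inv_smul_mem, MulAut.smul_def, MulAut.inv_apply, MulAut.conj_symm_apply] at hy
    have h := hnorm.conj_mem ⟨_, hy.1⟩ hy b
    have h' : (b : G) * ((b : G)⁻¹ * y * b) * (b : G)⁻¹ ∈ (P : Subgroup G) ⊓ R := h
    rwa [show (b : G) * ((b : G)⁻¹ * y * b) * (b : G)⁻¹ = y by group] at h'
  refine le_antisymm (key a) ?_
  have h := pointwise_smul_le_pointwise_smul_iff (a := MulAut.conj (a : G)).mpr (key a⁻¹)
  rwa [← mul_smul, ← map_mul, Subgroup.coe_inv, mul_inv_cancel, map_one, one_smul] at h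

theorem sylAbove_invariant {P R : Sylow 3 G} {D : Subgroup G} (hD : D ∈ nearInf P) (a : (P : Subgroup G))
    (hR : R ∈ sylAbove D) : a • R ∈ sylAbove D := by
  show (a : G) • R ∈ sylAbove D
  rw [← conj_eq_of_mem_nearInf hD a]
  exact (sylAbove_smul _).mpr hR

theorem three_dvd_card_sylAbove [DecidableEq (Sylow 3 G)] {P : Sylow 3 G} {D : Subgroup G} (hD : D ∈ nearInf P) :
    3 ∣ ((sylAbove D).erase P).card := by
  refine dvd_card_of_orbits (A := (P : Subgroup G)) _ 3 (fun a R hR => ?_) fun R hR => ?_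
  · obtain ⟨hne, hR⟩ := Finset.mem_erase.mp hR
    have hP : (a : G) • P = P := Sylow.smul_eq_iff_mem_normalizer.mpr (le_normalizer a.2)
    exact Finset.mem_erase.mpr ⟨fun e => hne (MulAction.injective (a : G) (e.trans hP.symm)), sylAbove_invariant hD a hR⟩
  · obtain ⟨hne, hR⟩ := Finset.mem_erase.mp hR
    exact orbit_card_of_near (inf_eq_of_le hD (mem_sylAbove.mp hR) hne).1

/-- The sets over the intersections in `P` partition the near set. -/
theorem card_near [DecidableEq (Sylow 3 G)] (P : Sylow 3 G) :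
    (near P).card = ∑ D ∈ nearInf P, ((sylAbove D).erase P).card := by
  classical
  rw [Finset.card_eq_sum_card_fiberwise (f := fun R : Sylow 3 G => (P : Subgroup G) ⊓ R) (t := nearInf P)
    fun R hR => mem_nearInf.mpr ⟨R, hR, rfl⟩]
  refine Finset.sum_congr rfl fun D hD => ?_
  congr 1
  ext R
  simp only [Finset.mem_filter, Finset.mem_erase, mem_sylAbove]
  constructor
  · rintro ⟨h1, rfl⟩
    exact ⟨ne_of_near h1, inf_le_right⟩
  · rintro ⟨h1, h2⟩
    exact inf_eq_of_le hD h2 h1

variable [IsSimpleGroup G] (hG : ¬ IsMulCommutative G)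

include hn hG in
/-- If the Sylow `3`-subgroups are bigger than `3`, each contains four intersections, each of them
in four Sylow subgroups. -/
theorem sylAbove_card_four (h3 : ∀ P : Sylow 3 G, 3 < Nat.card (P : Subgroup G)) (P : Sylow 3 G) :
    (near P).card = 12 ∧ (nearInf P).card = 4 ∧ ∀ D ∈ nearInf P, (sylAbove D).card = 4 := by
  classical
  have := Fintype.ofFinite (Subgroup G)
  have hX : Fintype.card (Sylow 3 G) = 22 := by rw [← Nat.card_eq_fintype_card, hn]
  have hne : ∀ (R : Sylow 3 G), ∀ D ∈ nearInf R, D ≠ ⊥ := by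
    intro R D hD e
    obtain ⟨Q, hQ, rfl⟩ := mem_nearInf.mp hD
    rw [mem_near, e, card_bot, one_mul] at hQ
    have := h3 R
    omega
  have hall : ∀ (R : Sylow 3 G), ∀ D ∈ nearInf R, (sylAbove D).card < 22 := by
    intro R D hD
    refine lt_of_le_of_ne (hX ▸ Finset.card_le_univ _) fun e => hne R D hD ?_
    have hu := Finset.eq_univ_of_card _ (e.trans hX.symm)
    have hle : ∀ Q : Sylow 3 G, D ≤ (Q : Subgroup G) := fun Q => mem_sylAbove.mp (hu ▸ Finset.mem_univ Q)
    have hnorm : (⨅ Q : Sylow 3 G, (Q : Subgroup G)).Normal := ⟨fun x hx g => by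
      simp only [mem_iInf] at hx ⊢
      intro Q
      have h := hx (g⁻¹ • Q)
      rw [Sylow.coe_subgroup_smul, mem_pointwise_smul_iff_inv_smul_mem] at h
      simpa [mul_assoc] using h⟩
    rcases hnorm.eq_bot_or_eq_top with h | h
    · exact le_bot_iff.mp (h ▸ le_iInf hle)
    · exact absurd (top_le_iff.mp (h ▸ iInf_le (fun Q : Sylow 3 G => (Q : Subgroup G)) R)) (CfsgLib.Small.sylow_ne_top hG R)
  -- double counting for each size
  let c : ℕ → Sylow 3 G → ℕ := fun j R => ((nearInf R).filter fun D => (sylAbove D).card = 3 * j + 1).card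
  have hconst : ∀ j (g : G) (R : Sylow 3 G), c j (g • R) = c j R := by
    intro j g R
    have hF : ∀ D : Subgroup G, (sylAbove (MulAut.conj g • D)).card = (sylAbove D).card := by
      intro D
      refine Eq.symm (Finset.card_bij (fun (Q : Sylow 3 G) _ => g • Q) (fun Q hQ => (sylAbove_smul g).mpr hQ)
        (fun _ _ _ _ h => MulAction.injective g h) fun Q hQ => ⟨g⁻¹ • Q, ?_, smul_inv_smul g Q⟩)
      rwa [← sylAbove_smul g, smul_inv_smul]
    refine Eq.symm (Finset.card_bij (fun (D : Subgroup G) _ => MulAut.conj g • D) (fun D hD => ?_)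
      (fun _ _ _ _ h => MulAction.injective (MulAut.conj g) h) fun D hD => ?_)
    · obtain ⟨h1, h2⟩ := Finset.mem_filter.mp hD
      exact Finset.mem_filter.mpr ⟨(nearInf_smul g).mpr h1, (hF D).trans h2⟩
    · obtain ⟨h1, h2⟩ := Finset.mem_filter.mp hD
      have e : MulAut.conj g • ((MulAut.conj g)⁻¹ • D) = D := smul_inv_smul _ _
      refine ⟨(MulAut.conj g)⁻¹ • D, Finset.mem_filter.mpr ⟨?_, ?_⟩, e⟩
      · rwa [← nearInf_smul g, e]
      · rwa [← hF, e]
  have hcount : ∀ j, (3 * j + 1) ∣ 22 * c j P := by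
    intro j
    set 𝒟 := Finset.univ.filter fun D : Subgroup G => (∃ R : Sylow 3 G, D ∈ nearInf R) ∧ (sylAbove D).card = 3 * j + 1 with h𝒟
    have hcnt := Finset.sum_card_bipartiteAbove_eq_sum_card_bipartiteBelow
      (r := fun (D : Subgroup G) (R : Sylow 3 G) => D ≤ (R : Subgroup G)) (s := 𝒟) (t := Finset.univ)
    have hl : ∀ D ∈ 𝒟, (Finset.univ.bipartiteAbove (fun (D : Subgroup G) (R : Sylow 3 G) => D ≤ (R : Subgroup G)) D).card = 3 * j + 1 := by
      intro D hD
      rw [← (Finset.mem_filter.mp hD).2.2]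
      congr 1
    have hr : ∀ R ∈ (Finset.univ : Finset (Sylow 3 G)),
        (𝒟.bipartiteBelow (fun (D : Subgroup G) (R : Sylow 3 G) => D ≤ (R : Subgroup G)) R).card = c j P := by
      intro R _
      obtain ⟨g, hg⟩ := MulAction.exists_smul_eq G P R
      rw [← hconst j g P, hg]
      show _ = ((nearInf R).filter fun D => (sylAbove D).card = 3 * j + 1).card
      congr 1
      ext D
      simp only [Finset.mem_bipartiteBelow, h𝒟, Finset.mem_filter, Finset.mem_univ, true_and]
      constructor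
      · rintro ⟨⟨⟨R0, hR0⟩, h2⟩, hle⟩
        exact ⟨mem_nearInf_of_le hR0 hle, h2⟩
      · rintro ⟨h1, h2⟩
        exact ⟨⟨⟨R, h1⟩, h2⟩, mem_sylAbove.mp (self_mem_sylAbove h1)⟩
    rw [Finset.sum_congr rfl hl, Finset.sum_congr rfl hr, Finset.sum_const, Finset.sum_const,
      Finset.card_univ, hX, smul_eq_mul, smul_eq_mul] at hcnt
    exact ⟨_, by rw [← hcnt, mul_comm]⟩
  -- every set has four elements
  have hnear := card_near P
  have hle21 : (near P).card ≤ 21 := by
    obtain ⟨i, hi⟩ := card_far hn P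
    omega
  have hfour : ∀ D ∈ nearInf P, (sylAbove D).card = 4 := by
    intro D hD
    obtain ⟨j, hj⟩ := three_dvd_card_sylAbove hD
    have he := Finset.card_erase_add_one (self_mem_sylAbove hD)
    have hlt := hall P D hD
    have hj' : (sylAbove D).card = 3 * j + 1 := by omega
    have hj1 : 1 ≤ j := by
      obtain ⟨R, hR, rfl⟩ := mem_nearInf.mp hD
      have : 0 < ((sylAbove ((P : Subgroup G) ⊓ R)).erase P).card :=
        Finset.card_pos.mpr ⟨R, Finset.mem_erase.mpr ⟨ne_of_near hR, mem_sylAbove.mpr inf_le_right⟩⟩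
      omega
    by_contra hne4
    have hj2 : 2 ≤ j := by omega
    have hcpos : 0 < c j P := Finset.card_pos.mpr ⟨D, Finset.mem_filter.mpr ⟨hD, hj'⟩⟩
    have hsum : c j P * (3 * j) ≤ 21 := by
      refine le_trans ?_ hle21
      rw [hnear]
      calc c j P * (3 * j) = ∑ D' ∈ (nearInf P).filter (fun D => (sylAbove D).card = 3 * j + 1), ((sylAbove D').erase P).card := by
            rw [Finset.sum_congr rfl (fun D' hD' => ?_), Finset.sum_const, smul_eq_mul]
            have h1 := Finset.card_erase_add_one (self_mem_sylAbove (Finset.mem_filter.mp hD').1)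
            have h2 := (Finset.mem_filter.mp hD').2
            show ((sylAbove D').erase P).card = 3 * j
            omega
        _ ≤ _ := Finset.sum_le_sum_of_subset (Finset.filter_subset _ _)
    have hd := hcount j
    have hj6 : j ≤ 6 := by omega
    interval_cases j <;> omega
  have hnear3 : (near P).card = 3 * (nearInf P).card := by
    rw [hnear, Finset.sum_congr rfl (fun D hD => ?_), Finset.sum_const, smul_eq_mul, mul_comm]
    have h1 := Finset.card_erase_add_one (self_mem_sylAbove hD)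
    have h2 := hfour D hD
    show ((sylAbove D).erase P).card = 3
    omega
  have hc1 : c 1 P = (nearInf P).card := by
    show Finset.card _ = _
    rw [Finset.filter_true_of_mem fun D hD => hfour D hD]
  have h4 := hcount 1
  rw [hc1] at h4
  obtain ⟨i, hi⟩ := card_far hn P
  exact ⟨by omega, by omega, hfour⟩

end CfsgLib.FgsC
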