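import Cfsg.Agent.Lib.FgsC.SylowThree22Basic
import Cfsg.Agent.Lib.Perm.PrimeDegree

/-!
# Twenty-two Sylow `3`-subgroups: the Sylow subgroups have order `3`

Otherwise the intersections of index `3` give a configuration of quadruples on the twenty-two points;
either eleven of them form an orbit with a transitive but not doubly transitive action, or the
collinearity graph is strongly regular with impossible parameters.
-/

set_option autoImplicit false

open Subgroup
open scoped Pointwise

namespace CfsgLib.FgsC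

variable {G : Type*} [Group G] [Finite G] [Fintype (Sylow 3 G)] [Fact (Nat.Prime 3)]

open scoped Classical in
omit [Finite G] [Fact (Nat.Prime 3)] in
theorem orbit_finset_card (P T : Sylow 3 G) :
    (Finset.univ.filter fun R => R ∈ MulAction.orbit (P : Subgroup G) T).card =
      Nat.card (MulAction.orbit (P : Subgroup G) T) := by
  rw [Nat.card_coe_set_eq, Set.ncard_eq_toFinset_card']
  congr 1
  ext R
  simp

/-- The normalizer of an intersection is transitive on the Sylow subgroups containing it. -/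
theorem exists_fix_move {P : Sylow 3 G} {D : Subgroup G} (hD : D ∈ nearInf P) (h4 : (sylAbove D).card = 4)
    {T T' : Sylow 3 G} (hT : T ∈ sylAbove D) (hT' : T' ∈ sylAbove D) :
    ∃ m : G, MulAut.conj m • D = D ∧ m • T = T' := by
  classical
  obtain ⟨U, hU, hUn⟩ := Finset.exists_mem_notMem_of_card_lt_card (s := ({T, T'} : Finset (Sylow 3 G)))
    (t := sylAbove D) (lt_of_le_of_lt Finset.card_le_two (by omega))
  simp only [Finset.mem_insert, Finset.mem_singleton, not_or] at hUn
  have hDU : D ∈ nearInf U := mem_nearInf_of_le hD (mem_sylAbove.mp hU)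
  have hTU : T ∈ near U := (inf_eq_of_le hDU (mem_sylAbove.mp hT) (Ne.symm hUn.1)).1
  have hsub : (Finset.univ.filter fun R => R ∈ MulAction.orbit (U : Subgroup G) T) ⊆ (sylAbove D).erase U := by
    intro R hR
    obtain ⟨a, rfl⟩ := (Finset.mem_filter.mp hR).2
    have hUa : (a : G) • U = U := Sylow.smul_eq_iff_mem_normalizer.mpr (le_normalizer a.2)
    exact Finset.mem_erase.mpr ⟨fun e => hUn.1 (MulAction.injective (a : G) (e.trans hUa.symm)).symm,
      sylAbove_invariant hDU a hT⟩
  have heq := Finset.eq_of_subset_of_card_le hsub (by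
    have h1 := (orbit_finset_card U T).trans (orbit_card_of_near hTU)
    have h2 := Finset.card_erase_add_one hU
    omega)
  have hmem : T' ∈ (sylAbove D).erase U := Finset.mem_erase.mpr ⟨Ne.symm hUn.2, hT'⟩
  rw [← heq] at hmem
  obtain ⟨a, ha⟩ := (Finset.mem_filter.mp hmem).2
  exact ⟨a, conj_eq_of_mem_nearInf hDU a, ha⟩

variable [IsSimpleGroup G] (hG : ¬ IsMulCommutative G) (hn : Nat.card (Sylow 3 G) = 22)

include hG in
theorem not_isSolvable_of_simple : ¬ Group.IsSolvable G := fun h =>
  hG ⟨⟨IsSimpleGroup.comm_iff_isSolvable.mpr h⟩⟩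

open scoped Classical in
include hn hG in
/-- Two fused intersections in one Sylow subgroup cannot be an orbit. -/
theorem false_of_two (h3 : ∀ P : Sylow 3 G, 3 < Nat.card (P : Subgroup G)) (P : Sylow 3 G) (D₁ : Subgroup G)
    (hD₁ : D₁ ∈ nearInf P)
    (hc : ((nearInf P).filter fun D => ∃ g : G, MulAut.conj g • D₁ = D).card = 2)
    (hcls : ∀ R : Sylow 3 G, ((nearInf R).filter fun D => ∃ g : G, MulAut.conj g • D₁ = D).card = 2)
    (h11 : Nat.card {D : Subgroup G // ∃ g : G, MulAut.conj g • D₁ = D} = 11) : False := by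
  classical
  let C := {D : Subgroup G // ∃ g : G, MulAut.conj g • D₁ = D}
  let act : MulAction G C :=
    { smul := fun g D => ⟨MulAut.conj g • D.1, by
        obtain ⟨a, ha⟩ := D.2
        exact ⟨g * a, by rw [map_mul, mul_smul, ha]⟩⟩
      one_smul := fun D => Subtype.ext (by show MulAut.conj (1 : G) • D.1 = D.1; rw [map_one, one_smul])
      mul_smul := fun a b D => Subtype.ext (by
        show MulAut.conj (a * b) • D.1 = MulAut.conj a • MulAut.conj b • D.1
        rw [map_mul, mul_smul]) }
  have hC : Fintype C := Fintype.ofFinite C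
  have hcard : Fintype.card C = 11 := by rw [← Nat.card_eq_fintype_card]; exact h11
  let f := MulAction.toPermHom G C
  have : Fact (Nat.Prime 11) := ⟨by norm_num⟩
  have htr : MulAction.IsPretransitive f.range C := ⟨fun x y => by
    obtain ⟨a, ha⟩ := x.2
    obtain ⟨b, hb⟩ := y.2
    refine ⟨⟨f (b * a⁻¹), _, rfl⟩, Subtype.ext ?_⟩
    show MulAut.conj (b * a⁻¹) • x.1 = y.1
    rw [map_mul, mul_smul, ← ha, map_inv, inv_smul_smul, hb]⟩
  have hinj : Function.Injective f := by
    rw [← MonoidHom.ker_eq_bot_iff]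
    rcases (inferInstance : f.ker.Normal).eq_bot_or_eq_top with h | h
    · exact h
    · exfalso
      have hone : ∀ x y : C, x = y := fun x y => by
        obtain ⟨a, ha⟩ := x.2
        obtain ⟨b, hb⟩ := y.2
        have hmem : b * a⁻¹ ∈ f.ker := h ▸ mem_top _
        have := congrArg Subtype.val (DFunLike.congr_fun (MonoidHom.mem_ker.mp hmem) x)
        refine Subtype.ext ?_
        change MulAut.conj (b * a⁻¹) • x.1 = x.1 at this
        rw [← this, map_mul, mul_smul, ← ha, map_inv, inv_smul_smul, hb]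
      have : Subsingleton C := ⟨hone⟩
      have := Fintype.card_le_one_iff_subsingleton.mpr this
      omega
  have hns : ¬ Group.IsSolvable f.range := by
    intro hs
    refine not_isSolvable_of_simple hG ?_
    exact Group.isSolvable_of_isSolvable_injective (f := (MonoidHom.ofInjective hinj).toMonoidHom) (MonoidHom.ofInjective hinj).injective
  have h2t := CfsgLib.Perm.two_transitive (G := f.range) hcard hns
  rw [MulAction.is_two_pretransitive_iff] at h2t
  -- adjacency: lying in a common Sylow subgroup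
  let adj : C → C → Prop := fun x y => ∃ R : Sylow 3 G, x.1 ≤ (R : Subgroup G) ∧ y.1 ≤ (R : Subgroup G)
  let x₁ : C := ⟨D₁, 1, by rw [map_one, one_smul]⟩
  obtain ⟨D₂, hD₂, hne₂⟩ := Finset.exists_mem_ne (by omega : 1 < ((nearInf P).filter fun D => ∃ g : G, MulAut.conj g • D₁ = D).card) D₁
  obtain ⟨hD₂', hD₂g⟩ := Finset.mem_filter.mp hD₂
  let x₂ : C := ⟨D₂, hD₂g⟩
  have h4 := (sylAbove_card_four hn hG h3 P).2.2 D₁ hD₁
  -- at most four neighbours
  let S : Finset (Subgroup G) := (sylAbove D₁).biUnion fun R =>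
    ((nearInf R).filter fun D => ∃ g : G, MulAut.conj g • D₁ = D).erase D₁
  have hS : S.card ≤ 4 := by
    refine le_trans Finset.card_biUnion_le ?_
    rw [← h4, Finset.card_eq_sum_ones (sylAbove D₁)]
    refine Finset.sum_le_sum fun R hR => ?_
    rw [Finset.card_erase_of_mem (Finset.mem_filter.mpr ⟨mem_nearInf_of_le hD₁ (mem_sylAbove.mp hR), 1, by rw [map_one, one_smul]⟩), hcls R]
  obtain ⟨x₃, hx₃⟩ : ∃ x : C, x.1 ∉ insert D₁ S := by
    by_contra hall
    push Not at hall
    have h1 : Fintype.card C ≤ (insert D₁ S).card := by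
      rw [← Finset.card_univ]
      exact Finset.card_le_card_of_injOn (fun x : C => x.1) (fun x _ => hall x) (fun x _ y _ e => Subtype.ext e)
    have h2 := Finset.card_insert_le D₁ S
    omega
  simp only [Finset.mem_insert, not_or] at hx₃
  have h12 : x₁ ≠ x₂ := fun e => hne₂ (congrArg Subtype.val e).symm
  have h13 : x₁ ≠ x₃ := fun e => hx₃.1 (congrArg Subtype.val e).symm
  obtain ⟨⟨_, g, rfl⟩, hg1, hg2⟩ := h2t h12 h13
  have e1 : MulAut.conj g • D₁ = D₁ := congrArg Subtype.val hg1
  have e2 : MulAut.conj g • D₂ = x₃.1 := congrArg Subtype.val hg2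
  have hR1 : D₁ ≤ ((g • P : Sylow 3 G) : Subgroup G) := by
    rw [Sylow.coe_subgroup_smul, ← e1, pointwise_smul_le_pointwise_smul_iff]
    exact mem_sylAbove.mp (self_mem_sylAbove hD₁)
  have hR3 : x₃.1 ∈ nearInf (g • P) := by rw [← e2]; exact (nearInf_smul g).mpr hD₂'
  exact hx₃.2 (Finset.mem_biUnion.mpr ⟨g • P, mem_sylAbove.mpr hR1,
    Finset.mem_erase.mpr ⟨hx₃.1, Finset.mem_filter.mpr ⟨hR3, x₃.2⟩⟩⟩)

omit [IsSimpleGroup G] [Finite G] [Fintype (Sylow 3 G)] [Fact (Nat.Prime 3)] in
/-- A matrix over a field whose square vanishes has trace zero. -/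
theorem trace_eq_zero_of_sq {X : Type*} [Fintype X] [DecidableEq X] {K : Type*} [Field K] (M : Matrix X X K)
    (h : M * M = 0) : Matrix.trace M = 0 :=
  (Matrix.isNilpotent_trace_of_isNilpotent ⟨2, by rw [pow_two, h]⟩).eq_zero

include hn hG in
/-- The Sylow `3`-subgroups have order `3`. -/
theorem card_sylow_three_eq (P : Sylow 3 G) : Nat.card (P : Subgroup G) = 3 := by
  classical
  have := Fintype.ofFinite (Subgroup G)
  have hX : Fintype.card (Sylow 3 G) = 22 := by rw [← Nat.card_eq_fintype_card, hn]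
  have hdvd : 3 ∣ Nat.card G := by
    by_contra hd
    obtain ⟨e, he⟩ := IsPGroup.iff_card.mp P.2
    have hbot : (P : Subgroup G) = ⊥ := by
      rw [← card_eq_one]
      rcases e with _ | e
      · simpa using he
      · exact absurd ((dvd_pow_self 3 (Nat.succ_ne_zero e)).trans (he ▸ card_subgroup_dvd_card _)) hd
    have h1 : normalizer ((P : Subgroup G) : Set G) = ⊤ := by
      rw [hbot]; exact normalizer_eq_top_iff.mpr inferInstance
    rw [CfsgLib.Small.card_sylow_eq_index P, index_eq_one.mpr h1] at hn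
    omega
  by_contra hne
  have h3 : ∀ R : Sylow 3 G, 3 < Nat.card (R : Subgroup G) := by
    intro R
    rw [card_sylow_const R P]
    obtain ⟨e, he⟩ := IsPGroup.iff_card.mp P.2
    rcases e with _ | _ | e
    · exact absurd (card_eq_one.mp (by simpa using he)) (P.ne_bot_of_dvd_card hdvd)
    · exact absurd (by simpa using he) hne
    · have : 3 ^ 2 ≤ 3 ^ (e + 1 + 1) := Nat.pow_le_pow_right (by norm_num) (by omega)
      omega
  have hdata := fun R => sylAbove_card_four hn hG h3 R
  -- fused intersections are fused by the normalizer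
  have fuse : ∀ D ∈ nearInf P, ∀ D' ∈ nearInf P, (∃ g : G, MulAut.conj g • D = D') →
      ∃ n : G, n • P = P ∧ MulAut.conj n • D = D' := by
    rintro D hD D' hD' ⟨g, rfl⟩
    have hmem : g⁻¹ • P ∈ sylAbove D := by
      rw [← sylAbove_smul g, smul_inv_smul]
      exact self_mem_sylAbove hD'
    obtain ⟨m, hm1, hm2⟩ := exists_fix_move hD ((hdata P).2.2 D hD) (self_mem_sylAbove hD) hmem
    exact ⟨g * m, by rw [mul_smul, hm2, smul_inv_smul], by rw [map_mul, mul_smul, hm1]⟩
  -- each class meets a Sylow subgroup in two or four intersections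
  have hclass : ∀ D₁ ∈ nearInf P, ((nearInf P).filter fun D => ∃ g : G, MulAut.conj g • D₁ = D).card = 4 := by
    intro D₁ hD₁
    set c := ((nearInf P).filter fun D => ∃ g : G, MulAut.conj g • D₁ = D).card with hc
    have hcls : ∀ R : Sylow 3 G, ((nearInf R).filter fun D => ∃ g : G, MulAut.conj g • D₁ = D).card = c := by
      intro R
      obtain ⟨g, rfl⟩ := MulAction.exists_smul_eq G P R
      refine Eq.symm (Finset.card_bij (fun (D : Subgroup G) _ => MulAut.conj g • D) (fun D hD => ?_)
        (fun _ _ _ _ h => MulAction.injective (MulAut.conj g) h) fun D hD => ?_)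
      · obtain ⟨h1, a, ha⟩ := Finset.mem_filter.mp hD
        exact Finset.mem_filter.mpr ⟨(nearInf_smul g).mpr h1, g * a, by rw [map_mul, mul_smul, ha]⟩
      · obtain ⟨h1, a, ha⟩ := Finset.mem_filter.mp hD
        have e : MulAut.conj g • ((MulAut.conj g)⁻¹ • D) = D := smul_inv_smul _ _
        refine ⟨(MulAut.conj g)⁻¹ • D, Finset.mem_filter.mpr ⟨?_, g⁻¹ * a, ?_⟩, e⟩
        · rwa [← nearInf_smul g, e]
        · rw [map_mul, mul_smul, ha, map_inv]
    set 𝒟 := Finset.univ.filter fun D : Subgroup G => ∃ g : G, MulAut.conj g • D₁ = D with h𝒟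
    have hmemall : ∀ D ∈ 𝒟, ∃ R : Sylow 3 G, D ∈ nearInf R := by
      intro D hD
      obtain ⟨g, rfl⟩ := (Finset.mem_filter.mp hD).2
      exact ⟨g • P, (nearInf_smul g).mpr hD₁⟩
    have hcnt := Finset.sum_card_bipartiteAbove_eq_sum_card_bipartiteBelow
      (r := fun (D : Subgroup G) (R : Sylow 3 G) => D ≤ (R : Subgroup G)) (s := 𝒟) (t := Finset.univ)
    have hl : ∀ D ∈ 𝒟, (Finset.univ.bipartiteAbove (fun (D : Subgroup G) (R : Sylow 3 G) => D ≤ (R : Subgroup G)) D).card = 4 := by
      intro D hD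
      obtain ⟨R, hR⟩ := hmemall D hD
      rw [← (hdata R).2.2 D hR]
      congr 1
    have hr : ∀ R ∈ (Finset.univ : Finset (Sylow 3 G)),
        (𝒟.bipartiteBelow (fun (D : Subgroup G) (R : Sylow 3 G) => D ≤ (R : Subgroup G)) R).card = c := by
      intro R _
      rw [← hcls R]
      congr 1
      ext D
      simp only [Finset.mem_bipartiteBelow, Finset.mem_filter]
      constructor
      · rintro ⟨hD, hle⟩
        obtain ⟨R0, hR0⟩ := hmemall D hD
        exact ⟨mem_nearInf_of_le hR0 hle, (Finset.mem_filter.mp hD).2⟩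
      · rintro ⟨hD1, hD2⟩
        exact ⟨Finset.mem_filter.mpr ⟨Finset.mem_univ _, hD2⟩, mem_sylAbove.mp (self_mem_sylAbove hD1)⟩
    rw [Finset.sum_congr rfl hl, Finset.sum_congr rfl hr, Finset.sum_const, Finset.sum_const,
      Finset.card_univ, hX, smul_eq_mul, smul_eq_mul] at hcnt
    have hpos : 0 < c := Finset.card_pos.mpr ⟨D₁, Finset.mem_filter.mpr ⟨hD₁, 1, by rw [map_one, one_smul]⟩⟩
    have hle : c ≤ 4 := (hdata P).2.1 ▸ Finset.card_filter_le _ _
    by_contra h
    have hc2 : c = 2 := by omega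
    have h11 : Nat.card {D : Subgroup G // ∃ g : G, MulAut.conj g • D₁ = D} = 11 := by
      rw [Nat.card_eq_fintype_card, Fintype.card_subtype, ← h𝒟]
      omega
    exact false_of_two hG hn h3 P D₁ hD₁ (hc.symm.trans hc2) (fun R => (hcls R).trans hc2) h11
  have hclass' : ∀ D ∈ nearInf P, ∀ D' ∈ nearInf P, ∃ g : G, MulAut.conj g • D = D' := by
    intro D hD D' hD'
    have he := Finset.eq_of_subset_of_card_le (Finset.filter_subset (fun D'' => ∃ g : G, MulAut.conj g • D = D'') (nearInf P))
      (by rw [hclass D hD, (hdata P).2.1])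
    rw [← he] at hD'
    exact (Finset.mem_filter.mp hD').2
  -- transitivity on near and far Sylow subgroups
  have near_tr : ∀ R ∈ near P, ∀ R' ∈ near P, ∃ g : G, g • P = P ∧ g • R = R' := by
    intro R hR R' hR'
    have hD : (P : Subgroup G) ⊓ R ∈ nearInf P := mem_nearInf.mpr ⟨R, hR, rfl⟩
    have hD' : (P : Subgroup G) ⊓ R' ∈ nearInf P := mem_nearInf.mpr ⟨R', hR', rfl⟩
    obtain ⟨n, hnP, hnD⟩ := fuse _ hD _ hD' (hclass' _ hD _ hD')
    set D' := (P : Subgroup G) ⊓ R' with hD'def
    have hnR : n • R ∈ (sylAbove D').erase P := by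
      refine Finset.mem_erase.mpr ⟨fun e => ne_of_near hR (MulAction.injective n (e.trans hnP.symm)), ?_⟩
      rw [← hnD]
      exact (sylAbove_smul n).mpr (mem_sylAbove.mpr inf_le_right)
    have hsub : (Finset.univ.filter fun Q => Q ∈ MulAction.orbit (P : Subgroup G) R') ⊆ (sylAbove D').erase P := by
      intro Q hQ
      obtain ⟨a, rfl⟩ := (Finset.mem_filter.mp hQ).2
      have hPa : (a : G) • P = P := Sylow.smul_eq_iff_mem_normalizer.mpr (le_normalizer a.2)
      exact Finset.mem_erase.mpr ⟨fun e => ne_of_near hR' (MulAction.injective (a : G) (e.trans hPa.symm)),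
        sylAbove_invariant hD' a (mem_sylAbove.mpr inf_le_right)⟩
    have heq := Finset.eq_of_subset_of_card_le hsub (by
      have h1 := (orbit_finset_card P R').trans (orbit_card_of_near hR')
      have h2 := Finset.card_erase_add_one (self_mem_sylAbove hD')
      have h4 := (hdata P).2.2 D' hD'
      omega)
    rw [← heq] at hnR
    obtain ⟨a, ha⟩ := (Finset.mem_filter.mp hnR).2
    have ha' : (a : G) • R' = n • R := ha
    have hPa : (a : G) • P = P := Sylow.smul_eq_iff_mem_normalizer.mpr (le_normalizer a.2)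
    refine ⟨(a : G)⁻¹ * n, ?_, by rw [mul_smul, ← ha', inv_smul_smul]⟩
    rw [mul_smul, hnP, inv_smul_eq_iff, hPa]
  set O := (Finset.univ.erase P) \ near P with hO
  have hsubE : near P ⊆ Finset.univ.erase P := fun R hR => Finset.mem_erase.mpr ⟨ne_of_near hR, Finset.mem_univ _⟩
  have hOcard : O.card = 9 := by
    rw [hO, Finset.card_sdiff_of_subset hsubE, Finset.card_erase_of_mem (Finset.mem_univ _), Finset.card_univ, hX, (hdata P).1]
  have memO : ∀ Z, Z ∈ O ↔ Z ≠ P ∧ Z ∉ near P := fun Z => by simp [hO]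
  have far_tr : ∀ R ∈ O, ∀ R' ∈ O, ∃ g : G, g • P = P ∧ g • R = R' := by
    intro R hR R' hR'
    have hsub : (Finset.univ.filter fun Q => Q ∈ MulAction.orbit (P : Subgroup G) R) ⊆ O := by
      intro Q hQ
      obtain ⟨a, rfl⟩ := (Finset.mem_filter.mp hQ).2
      have hPa : (a : G) • P = P := Sylow.smul_eq_iff_mem_normalizer.mpr (le_normalizer a.2)
      obtain ⟨h1, h2⟩ := (memO R).mp hR
      refine (memO _).mpr ⟨fun e => h1 (MulAction.injective (a : G) (e.trans hPa.symm)), fun e => h2 ?_⟩
      have := near_invariant a⁻¹ e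
      rwa [inv_smul_smul] at this
    have heq := Finset.eq_of_subset_of_card_le hsub (by
      have h1 := (orbit_finset_card P R).trans (orbit_card_of_far hn (Ne.symm ((memO R).mp hR).1) ((memO R).mp hR).2)
      omega)
    rw [← heq] at hR'
    obtain ⟨a, ha⟩ := (Finset.mem_filter.mp hR').2
    exact ⟨a, Sylow.smul_eq_iff_mem_normalizer.mpr (le_normalizer a.2), ha⟩
  -- intersection numbers
  have cap_smul : ∀ (g : G) (A B : Sylow 3 G), (near (g • A) ∩ near (g • B)).card = (near A ∩ near B).card := by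
    intro g A B
    refine Eq.symm (Finset.card_bij (fun (Q : Sylow 3 G) _ => g • Q) (fun Q hQ => ?_) (fun _ _ _ _ h => MulAction.injective g h)
      fun Q hQ => ⟨g⁻¹ • Q, ?_, smul_inv_smul g Q⟩)
    · obtain ⟨h1, h2⟩ := Finset.mem_inter.mp hQ
      exact Finset.mem_inter.mpr ⟨(near_smul g).mpr h1, (near_smul g).mpr h2⟩
    · obtain ⟨h1, h2⟩ := Finset.mem_inter.mp hQ
      exact Finset.mem_inter.mpr ⟨by rwa [← near_smul g, smul_inv_smul], by rwa [← near_smul g, smul_inv_smul]⟩
  obtain ⟨R₀, hR₀⟩ := Finset.card_pos.mp (by rw [(hdata P).1]; norm_num : 0 < (near P).card)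
  obtain ⟨Z₀, hZ₀⟩ := Finset.card_pos.mp (by rw [hOcard]; norm_num : 0 < O.card)
  have hPP : P ∉ near P := fun h => ne_of_near h rfl
  set lam := (near P ∩ near R₀).card with hlam
  set mu := (near P ∩ near Z₀).card with hmu
  have hadj : ∀ A B : Sylow 3 G, B ∈ near A → (near A ∩ near B).card = lam := by
    intro A B hB
    obtain ⟨g, rfl⟩ := MulAction.exists_smul_eq G P A
    obtain ⟨h, hhP, hhR⟩ := near_tr R₀ hR₀ (g⁻¹ • B) (by rwa [← near_smul g, smul_inv_smul])
    have e : B = (g * h) • R₀ := by rw [mul_smul, hhR, smul_inv_smul]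
    rw [show g • P = (g * h) • P by rw [mul_smul, hhP], e, cap_smul]
  have hfar : ∀ A B : Sylow 3 G, B ≠ A → B ∉ near A → (near A ∩ near B).card = mu := by
    intro A B hBA hB
    obtain ⟨g, rfl⟩ := MulAction.exists_smul_eq G P A
    obtain ⟨h, hhP, hhR⟩ := far_tr Z₀ hZ₀ (g⁻¹ • B) ((memO _).mpr ⟨fun e => hBA (by rw [← e, smul_inv_smul]),
      fun e => hB (by have := (near_smul g).mpr e; rwa [smul_inv_smul] at this)⟩)
    have e : B = (g * h) • Z₀ := by rw [mul_smul, hhR, smul_inv_smul]
    rw [show g • P = (g * h) • P by rw [mul_smul, hhP], e, cap_smul]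
  have hcount : 12 * (11 - lam) = 9 * mu ∧ lam ≤ 11 := by
    have hsplit : ∀ R ∈ near P, (O ∩ near R).card + (lam + 1) = 12 := by
      intro R hR
      have e : near R = insert P ((near P ∩ near R) ∪ (O ∩ near R)) := by
        ext Q
        simp only [Finset.mem_insert, Finset.mem_union, Finset.mem_inter, memO]
        constructor
        · intro hQ
          by_cases h1 : Q = P
          · exact Or.inl h1
          · by_cases h2 : Q ∈ near P
            · exact Or.inr (Or.inl ⟨h2, hQ⟩)
            · exact Or.inr (Or.inr ⟨⟨h1, h2⟩, hQ⟩)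
        · rintro (rfl | ⟨-, h⟩ | ⟨-, h⟩)
          exacts [near_symm hR, h, h]
      have h12 := (hdata R).1
      rw [e, Finset.card_insert_of_notMem (by simp [memO, hPP]),
        Finset.card_union_of_disjoint (Finset.disjoint_left.mpr fun Q h1 h2 =>
          ((memO Q).mp (Finset.mem_inter.mp h2).1).2 (Finset.mem_inter.mp h1).1), hadj P R hR] at h12
      omega
    have hcnt := Finset.sum_card_bipartiteAbove_eq_sum_card_bipartiteBelow
      (r := fun (R : Sylow 3 G) (Z : Sylow 3 G) => Z ∈ near R) (s := near P) (t := O)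
    have hl : ∀ R ∈ near P, (O.bipartiteAbove (fun (R : Sylow 3 G) (Z : Sylow 3 G) => Z ∈ near R) R).card = 11 - lam := by
      intro R hR
      have h := hsplit R hR
      have e : O.bipartiteAbove (fun (R : Sylow 3 G) (Z : Sylow 3 G) => Z ∈ near R) R = O ∩ near R := by ext Q; simp
      rw [e]; omega
    have hr : ∀ Z ∈ O, ((near P).bipartiteBelow (fun (R : Sylow 3 G) (Z : Sylow 3 G) => Z ∈ near R) Z).card = mu := by
      intro Z hZ
      rw [← hfar P Z ((memO Z).mp hZ).1 ((memO Z).mp hZ).2]
      congr 1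
      ext Q
      simp only [Finset.mem_bipartiteBelow, Finset.mem_inter]
      exact and_congr_right fun _ => ⟨near_symm, near_symm⟩
    rw [Finset.sum_congr rfl hl, Finset.sum_congr rfl hr, Finset.sum_const, Finset.sum_const, (hdata P).1, hOcard,
      smul_eq_mul, smul_eq_mul] at hcnt
    have h := hsplit R₀ hR₀
    exact ⟨hcnt, by omega⟩
  have hlam2 : 2 ≤ lam := by
    have hD : (P : Subgroup G) ⊓ R₀ ∈ nearInf P := mem_nearInf.mpr ⟨R₀, hR₀, rfl⟩
    have hsub : ((sylAbove ((P : Subgroup G) ⊓ R₀)).erase P).erase R₀ ⊆ near P ∩ near R₀ := by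
      intro Q hQ
      obtain ⟨hQR, hQ⟩ := Finset.mem_erase.mp hQ
      obtain ⟨hQP, hQ⟩ := Finset.mem_erase.mp hQ
      exact Finset.mem_inter.mpr ⟨(inf_eq_of_le hD (mem_sylAbove.mp hQ) hQP).1,
        (inf_eq_of_le (mem_nearInf_of_le hD inf_le_right) (mem_sylAbove.mp hQ) hQR).1⟩
    have h1 := Finset.card_le_card hsub
    have h4 := (hdata P).2.2 _ hD
    have h2 := Finset.card_erase_add_one (self_mem_sylAbove hD)
    have h5 := Finset.card_erase_add_one (a := R₀) (s := (sylAbove ((P : Subgroup G) ⊓ R₀)).erase P)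
      (Finset.mem_erase.mpr ⟨ne_of_near hR₀, mem_sylAbove.mpr inf_le_right⟩)
    omega
  have hmu1 : 1 ≤ mu := by
    rw [hmu]
    by_contra h0
    have hdisj : Disjoint (near P) (near Z₀) := by
      rw [Finset.disjoint_iff_inter_eq_empty, ← Finset.card_eq_zero]; omega
    have hsub : near P ∪ near Z₀ ⊆ Finset.univ.erase Z₀ := by
      intro Q hQ
      refine Finset.mem_erase.mpr ⟨?_, Finset.mem_univ _⟩
      rintro rfl
      rcases Finset.mem_union.mp hQ with h | h
      · exact ((memO _).mp hZ₀).2 h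
      · exact ne_of_near h rfl
    have h1 := Finset.card_le_card hsub
    rw [Finset.card_union_of_disjoint hdisj, (hdata P).1, (hdata Z₀).1, Finset.card_erase_of_mem (Finset.mem_univ _),
      Finset.card_univ, hX] at h1
    omega
  rcases (show (lam = 8 ∧ mu = 4) ∨ (lam = 5 ∧ mu = 8) ∨ (lam = 2 ∧ mu = 12) by omega) with ⟨hl, hm⟩ | hrest
  · -- two non-adjacent vertices in a neighbourhood
    obtain ⟨R, hR, hRn⟩ := Finset.exists_mem_notMem_of_card_lt_card (s := insert R₀ (near P ∩ near R₀)) (t := near P) (by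
      have := Finset.card_insert_le R₀ (near P ∩ near R₀)
      have := (hdata P).1
      omega)
    simp only [Finset.mem_insert, Finset.mem_inter, not_or, not_and] at hRn
    have hμ := hfar R₀ R hRn.1 (hRn.2 hR)
    have hsub : insert P ((near P ∩ near R₀) ∩ (near P ∩ near R)) ⊆ near R₀ ∩ near R := by
      intro Q hQ
      simp only [Finset.mem_insert, Finset.mem_inter] at hQ ⊢
      rcases hQ with rfl | ⟨⟨-, h1⟩, -, h2⟩
      · exact ⟨near_symm hR₀, near_symm hR⟩
      · exact ⟨h1, h2⟩
    have h1 := Finset.card_le_card hsub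
    rw [Finset.card_insert_of_notMem (by simp [hPP]), hμ] at h1
    have hsub2 : (near P ∩ near R₀) ∪ (near P ∩ near R) ⊆ ((near P).erase R₀).erase R := by
      intro Q hQ
      rcases Finset.mem_union.mp hQ with h | h <;> obtain ⟨hQP, hQ'⟩ := Finset.mem_inter.mp h
      · exact Finset.mem_erase.mpr ⟨fun e => hRn.2 hR (e ▸ hQ'), Finset.mem_erase.mpr ⟨ne_of_near hQ', hQP⟩⟩
      · refine Finset.mem_erase.mpr ⟨ne_of_near hQ', Finset.mem_erase.mpr ⟨fun e => hRn.2 hR ?_, hQP⟩⟩
        exact near_symm (e ▸ hQ')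
    have h2 := Finset.card_le_card hsub2
    have h3' := Finset.card_union_add_card_inter (near P ∩ near R₀) (near P ∩ near R)
    rw [hadj P R hR, hadj P R₀ hR₀] at h3'
    have h5 := Finset.card_erase_add_one hR₀
    have h6 := Finset.card_erase_add_one (a := R) (s := (near P).erase R₀) (Finset.mem_erase.mpr ⟨hRn.1, hR⟩)
    have h7 := (hdata P).1
    omega
  -- the other two parameter sets fail modulo five
  have : Fact (Nat.Prime 5) := ⟨by norm_num⟩
  let A : Matrix (Sylow 3 G) (Sylow 3 G) (ZMod 5) := Matrix.of fun R R' => if R' ∈ near R then 1 else 0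
  let J : Matrix (Sylow 3 G) (Sylow 3 G) (ZMod 5) := Matrix.of fun _ _ => 1
  have hAJ : A * J = (12 : ZMod 5) • J := by
    ext R R'
    simp only [Matrix.mul_apply, A, J, Matrix.of_apply, mul_one, Finset.sum_boole, Matrix.smul_apply, smul_eq_mul]
    rw [Finset.filter_mem_eq_inter, Finset.univ_inter, (hdata R).1]
    norm_num
  have hJA : J * A = (12 : ZMod 5) • J := by
    ext R R'
    simp only [Matrix.mul_apply, A, J, Matrix.of_apply, one_mul, mul_one, Finset.sum_boole, Matrix.smul_apply, smul_eq_mul]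
    rw [show (Finset.univ.filter fun Q => R' ∈ near Q) = near R' by
      ext Q; simpa using ⟨near_symm, near_symm⟩, (hdata R').1]
    norm_num
  have hJJ : J * J = (22 : ZMod 5) • J := by
    ext R R'
    simp [Matrix.mul_apply, J, hX]
  have hAA : ∀ R R', (A * A) R R' = ((near R ∩ near R').card : ZMod 5) := by
    intro R R'
    simp only [Matrix.mul_apply, A, Matrix.of_apply, ite_mul, one_mul, zero_mul, Finset.sum_ite_mem, Finset.univ_inter,
      Finset.sum_boole]
    congr 2
    ext Q
    simp only [Finset.mem_filter, Finset.mem_inter]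
    exact and_congr_right fun _ => ⟨near_symm, near_symm⟩
  have key : ∀ r c : ZMod 5, (12 : ZMod 5) + r ^ 2 + (-24 * c + 2 * r * c + 22 * c ^ 2) = 0 →
      (lam : ZMod 5) - 2 * r + (-24 * c + 2 * r * c + 22 * c ^ 2) = 0 →
      (mu : ZMod 5) + (-24 * c + 2 * r * c + 22 * c ^ 2) = 0 → 22 * (-r - c) = (0 : ZMod 5) := by
    intro r c e1 e2 e3
    set M := A - r • (1 : Matrix (Sylow 3 G) (Sylow 3 G) (ZMod 5)) - c • J with hM
    have hMM : M * M = 0 := by
      simp only [hM, sub_mul, mul_sub, smul_mul_assoc, mul_smul_comm, one_mul, mul_one, hAJ, hJA, hJJ, smul_smul]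
      ext R R'
      simp only [Matrix.sub_apply, Matrix.smul_apply, smul_eq_mul, hAA, Matrix.one_apply, Matrix.zero_apply]
      simp only [A, J, Matrix.of_apply]
      by_cases h1 : R = R'
      · subst h1
        rw [if_pos rfl, if_neg (fun h => ne_of_near h rfl), Finset.inter_self, (hdata R).1]
        push_cast
        linear_combination e1
      · by_cases h2 : R' ∈ near R
        · rw [if_neg h1, if_pos h2, hadj R R' h2]
          linear_combination e2
        · rw [if_neg h1, if_neg h2, hfar R R' (Ne.symm h1) h2]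
          linear_combination e3
    have htr := trace_eq_zero_of_sq M hMM
    rw [hM] at htr
    simp only [Matrix.trace_sub, Matrix.trace_smul, Matrix.trace_one, hX] at htr
    have hA0 : Matrix.trace A = 0 := by
      simp only [Matrix.trace, Matrix.diag, A, Matrix.of_apply]
      exact Finset.sum_eq_zero fun R _ => if_neg fun h => ne_of_near h rfl
    have hJ0 : Matrix.trace J = 22 := by simp [Matrix.trace, J, hX]
    rw [hA0, hJ0] at htr
    push_cast at htr
    rw [smul_eq_mul, smul_eq_mul] at htr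
    linear_combination htr
  rcases hrest with ⟨hl, hm⟩ | ⟨hl, hm⟩
  · have h := key 1 3 (by reduce_mod_char) (by rw [hl]; reduce_mod_char) (by rw [hm]; reduce_mod_char)
    revert h
    reduce_mod_char
    decide +kernel
  · have h := key 0 1 (by reduce_mod_char) (by rw [hl]; reduce_mod_char) (by rw [hm]; reduce_mod_char)
    revert h
    reduce_mod_char
    decide +kernel

end CfsgLib.FgsC
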