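import Mathlib

/-!
Which 2-elements of a finite symmetric group lie in a unique Sylow 2-subgroup: those with at most
two fixed points and pairwise distinct cycle lengths.
-/

set_option autoImplicit false
set_option linter.style.haveILetI false

namespace CfsgLib.FgsC.SymTwo

open Equiv Equiv.Perm
open scoped Nat

set_option linter.unusedSectionVars false
set_option linter.unusedVariables false

variable {α : Type*} [Fintype α] [DecidableEq α]

/-- At most two fixed points, and moved points with the same period lie in the same cycle. -/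
def Good (x : Perm α) : Prop :=
  (∀ a b c : α, x a = a → x b = b → x c = c → a = b ∨ a = c ∨ b = c) ∧
    ∀ a b : α, x a ≠ a → (∀ k : ℕ, (x ^ k) a = a ↔ (x ^ k) b = b) → x.SameCycle a b

/-- Powers fixing a moved point are read off from its cycle. -/
theorem pow_apply_eq_self_iff {x : Perm α} {a : α} (ha : x a ≠ a) (k : ℕ) :
    (x ^ k) a = a ↔ (x.cycleOf a).support.card ∣ k := by
  have hc := isCycle_cycleOf x ha
  rw [← hc.orderOf, orderOf_dvd_iff_pow_eq_one,
    hc.pow_eq_one_iff' (x := a) (by rwa [cycleOf_apply_self]), cycleOf_pow_apply_self]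

/-- A commuting involution with at most one fixed point fixes no moved point. -/
theorem apply_ne {x z : Perm α} (hxz : Commute x z) (hz1 : ∀ a b, z a = a → z b = b → a = b)
    {a : α} (ha : x a ≠ a) : z a ≠ a := by
  intro h
  have h1 : z (x a) = x a := by
    have := congrArg (fun f : Perm α => f a) hxz.eq
    simp only [Perm.mul_apply, h] at this
    exact this.symm
  exact ha (hz1 _ _ h1 h)

/-- For a good element such an involution is half way round each cycle. -/
theorem apply_moved {x z : Perm α} (hx : Good x) (hxz : Commute x z) (hz2 : ∀ a, z (z a) = a)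
    (hz1 : ∀ a b, z a = a → z b = b → a = b) {a : α} (ha : x a ≠ a) :
    ∃ i : ℕ, (x ^ i) a = z a ∧ (x ^ (2 * i)) a = a := by
  have hsame : x.SameCycle a (z a) := hx.2 a (z a) ha fun k => by
    have h := congrArg (fun f : Perm α => f a) (hxz.pow_left k).eq
    simp only [Perm.mul_apply] at h
    rw [h]
    exact z.injective.eq_iff.symm
  obtain ⟨i, hi⟩ := hsame.exists_nat_pow_eq
  refine ⟨i, hi, ?_⟩
  have h := congrArg (fun f : Perm α => f a) (hxz.pow_left i).eq
  simp only [Perm.mul_apply] at h
  rw [two_mul, pow_add, Perm.mul_apply, hi, h, hi, hz2]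

theorem half_unique {N i k : ℕ} (hi : N ∣ 2 * i) (hin : ¬ N ∣ i) (hk : N ∣ 2 * k) :
    N ∣ k ∨ k % N = i % N := by
  rcases Nat.eq_zero_or_pos N with rfl | hN
  · simp_all
  obtain ⟨s, hs⟩ := hi
  obtain ⟨t, ht⟩ := hk
  rcases Nat.even_or_odd t with ⟨u, rfl⟩ | ⟨u, rfl⟩
  · exact Or.inl ⟨u, by nlinarith⟩
  · right
    rcases Nat.even_or_odd s with ⟨w, rfl⟩ | ⟨w, rfl⟩
    · exact absurd ⟨w, by nlinarith⟩ hin
    · obtain ⟨M, rfl⟩ : ∃ M, N = 2 * M := by
        rcases Nat.even_or_odd N with ⟨M, hM⟩ | ⟨M, hM⟩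
        · exact ⟨M, by omega⟩
        · subst hM
          exact absurd (show (2 * i) % 2 = 1 by rw [hs]; simp [Nat.mul_mod, Nat.add_mod]) (by omega)
      have hi' : i = M + 2 * M * w := by nlinarith
      have hk' : k = M + 2 * M * u := by nlinarith
      rw [hi', hk', Nat.add_mul_mod_self_left, Nat.add_mul_mod_self_left]

theorem pow_half {x z : Perm α} (hx : Good x) (hxz : Commute x z) (hz2 : ∀ a, z (z a) = a)
    (hz1 : ∀ a b, z a = a → z b = b → a = b) {a : α} (ha : x a ≠ a) (k : ℕ) :
    ((x ^ k) a = a ∨ (x ^ k) a = z a) ↔ (x ^ (2 * k)) a = a := by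
  obtain ⟨i, hi, hi2⟩ := apply_moved hx hxz hz2 hz1 ha
  constructor
  · rintro (h | h)
    · rw [two_mul, pow_add, Perm.mul_apply, h, h]
    · have hc := congrArg (fun f : Perm α => f a) (hxz.pow_left k).eq
      simp only [Perm.mul_apply] at hc
      rw [two_mul, pow_add, Perm.mul_apply, h, hc, h, hz2]
  · intro h
    rw [pow_apply_eq_self_iff ha] at h hi2
    have hin : ¬ (x.cycleOf a).support.card ∣ i := fun hd => by
      rw [← pow_apply_eq_self_iff ha, hi] at hd
      exact apply_ne hxz hz1 ha hd
    rcases half_unique hi2 hin h with h' | h'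
    · exact Or.inl ((pow_apply_eq_self_iff ha k).2 h')
    · right
      rw [← hi, ← pow_mod_card_support_cycleOf_self_apply, h',
        pow_mod_card_support_cycleOf_self_apply]

/-- At most one such involution. -/
theorem involution_unique {x z z' : Perm α} (hx : Good x)
    (hxz : Commute x z) (hz2 : ∀ a, z (z a) = a) (hz1 : ∀ a b, z a = a → z b = b → a = b)
    (hxz' : Commute x z') (hz2' : ∀ a, z' (z' a) = a)
    (hz1' : ∀ a b, z' a = a → z' b = b → a = b) : z = z' := by
  refine Perm.ext fun a => ?_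
  by_cases ha : x a = a
  · have hfix : ∀ {w : Perm α}, Commute x w → x (w a) = w a := fun {w} hw => by
      have h := congrArg (fun f : Perm α => f a) hw.eq
      simpa [Perm.mul_apply, ha] using h
    rcases hx.1 a (z a) (z' a) ha (hfix hxz) (hfix hxz') with h | h | h
    · -- `z` fixes `a`
      by_contra hne
      have hb : z (z' a) = z' a := by
        rcases hx.1 a (z' a) (z (z' a)) ha (hfix hxz') (by
          have h' := congrArg (fun f : Perm α => f (z' a)) hxz.eq
          simpa [Perm.mul_apply, hfix hxz'] using h') with e | e | e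
        · exact absurd (h.symm.trans e) hne
        · exact absurd (z.injective (e.symm.trans h)) (fun e' => hne (h.symm.trans e'.symm))
        · exact e.symm
      exact hne (by rw [← h]; exact hz1 _ _ h.symm hb)
    · by_contra hne
      have hb : z' (z a) = z a := by
        rcases hx.1 a (z a) (z' (z a)) ha (hfix hxz) (by
          have h' := congrArg (fun f : Perm α => f (z a)) hxz'.eq
          simpa [Perm.mul_apply, hfix hxz] using h') with e | e | e
        · exact absurd (e.symm.trans h) hne
        · exact absurd (z'.injective (e.symm.trans h)) (fun e' => hne (e'.trans h))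
        · exact e.symm
      exact hne (by rw [← h]; exact (hz1' _ _ h.symm hb).symm)
    · exact h
  · obtain ⟨i, hi, hi2⟩ := apply_moved hx hxz hz2 hz1 ha
    rcases (pow_half hx hxz' hz2' hz1' ha i).2 hi2 with h | h
    · exact absurd (hi.symm.trans h) (apply_ne hxz hz1 ha)
    · exact hi.symm.trans h

/-- Every 2-group of permutations centralises an involution with at most one fixed point. -/
theorem exists_central_involution {P : Subgroup (Perm α)} (hP : IsPGroup 2 P) :
    ∃ z : Perm α, (∀ a, z (z a) = a) ∧ (∀ a b, z a = a → z b = b → a = b) ∧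
      P ≤ Subgroup.centralizer {z} := by
  classical
  set n := Fintype.card α with hn
  obtain ⟨π, hπ⟩ := (Equiv.Perm.exists_with_cycleType_iff α (m := Multiset.replicate (n / 2) 2)).2
    ⟨by rw [Multiset.sum_replicate, smul_eq_mul]; omega,
      fun a ha => (Multiset.eq_of_mem_replicate ha).symm.le⟩
  have h2 : ∀ a, π (π a) = a := by
    have hd : orderOf π ∣ 2 := by
      rw [← lcm_cycleType, hπ, Multiset.lcm_dvd]
      intro b hb; rw [Multiset.eq_of_mem_replicate hb]
    intro a
    rw [← Perm.mul_apply, ← sq, orderOf_dvd_iff_pow_eq_one.1 hd, Perm.one_apply]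
  have h1 : ∀ a b, π a = a → π b = b → a = b := by
    intro a b ha hb
    by_contra hne
    have hle : ({a, b} : Finset α) ⊆ π.supportᶜ := by
      intro c hc
      simp only [Finset.mem_insert, Finset.mem_singleton] at hc
      rcases hc with rfl | rfl <;> simp [ha, hb]
    have h := Finset.card_le_card hle
    rw [Finset.card_pair hne, Finset.card_compl, ← sum_cycleType, hπ, Multiset.sum_replicate,
      smul_eq_mul] at h
    omega
  -- its centraliser contains a Sylow 2-subgroup
  set W := Subgroup.centralizer {π} with hW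
  have hcW : Nat.card W = (n - n / 2 * 2)! * (2 ^ (n / 2) * (n / 2)!) := by
    rw [hW, nat_card_centralizer, hπ, Multiset.sum_replicate, Multiset.prod_replicate, smul_eq_mul,
      ← hn, mul_assoc]
    rcases Nat.eq_zero_or_pos (n / 2) with h | h
    · rw [h]; simp
    · rw [Multiset.toFinset_replicate, if_neg h.ne', Finset.prod_singleton,
        Multiset.count_replicate_self]
  haveI : Fact (Nat.Prime 2) := ⟨Nat.prime_two⟩
  have hodd : ¬ 2 ∣ W.index := by
    have hm := W.card_mul_index
    rw [hcW, Nat.card_perm, Nat.card_eq_fintype_card, ← hn] at hm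
    have hfact : (n - n / 2 * 2)! = 1 := by
      rcases Nat.mod_two_eq_zero_or_one n with h | h
      · rw [show n - n / 2 * 2 = 0 by omega]; rfl
      · rw [show n - n / 2 * 2 = 1 by omega]; rfl
    rw [hfact, one_mul] at hm
    have hv : padicValNat 2 n ! = n / 2 + padicValNat 2 (n / 2)! := by
      rw [← padicValNat_mul_div_factorial n, padicValNat_factorial_mul, add_comm]
    intro hd
    have := congrArg (padicValNat 2) hm
    rw [padicValNat.mul (by positivity) Subgroup.index_ne_zero_of_finite,
      padicValNat.mul (by positivity) (Nat.factorial_ne_zero _), padicValNat.prime_pow, hv] at this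
    have h1' : 1 ≤ padicValNat 2 W.index :=
      one_le_padicValNat_of_dvd Subgroup.index_ne_zero_of_finite hd
    omega
  obtain ⟨S₀⟩ : Nonempty (Sylow 2 W) := inferInstance
  have hS₀ : ¬ 2 ∣ ((S₀ : Subgroup W).map W.subtype).index := by
    rw [Subgroup.index_map_subtype]
    exact Nat.prime_two.not_dvd_mul S₀.not_dvd_index hodd
  let S : Sylow 2 (Perm α) := (S₀.isPGroup'.map W.subtype).toSylow hS₀
  obtain ⟨R, hR⟩ := hP.exists_le_sylow
  obtain ⟨g, hg⟩ := MulAction.exists_smul_eq (Perm α) S R
  refine ⟨g * π * g⁻¹, fun a => ?_, fun a b ha hb => ?_, fun y hy => ?_⟩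
  · simp [Perm.mul_apply, h2]
  · simp only [Perm.mul_apply, Perm.inv_def] at ha hb
    exact g.symm.injective (h1 _ _ (g.injective (by simpa using ha)) (g.injective (by simpa using hb)))
  · have hyR : y ∈ (g • S : Sylow 2 (Perm α)) := hg ▸ hR hy
    change y ∈ ((g • S : Sylow 2 (Perm α)) : Subgroup (Perm α)) at hyR
    rw [Sylow.coe_subgroup_smul, Subgroup.mem_pointwise_smul_iff_inv_smul_mem] at hyR
    have hc : MulAut.conj g⁻¹ y ∈ W := by
      have h' : MulAut.conj g⁻¹ y ∈ (S : Subgroup (Perm α)) := by simpa using hyR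
      exact Subgroup.map_subtype_le (S₀ : Subgroup W) h'
    rw [hW, Subgroup.mem_centralizer_singleton_iff] at hc
    rw [Subgroup.mem_centralizer_singleton_iff]
    simp only [MulAut.conj_apply, inv_inv] at hc
    have := congrArg (fun f => g * f * g⁻¹) hc
    simpa [mul_assoc] using this

theorem isPGroup_sup (n : ℕ) : ∀ {β : Type*} [Fintype β] [DecidableEq β], Fintype.card β = n →
    ∀ {x : Perm β}, Good x → ∀ {P Q : Subgroup (Perm β)}, IsPGroup 2 P → IsPGroup 2 Q →
      x ∈ P → x ∈ Q → IsPGroup 2 ↥(P ⊔ Q) := by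
  induction n using Nat.strong_induction_on with
  | _ n ih =>
  intro β _ _ hn x hx P Q hP hQ hxP hxQ
  classical
  rcases Nat.lt_or_ge n 2 with h2 | h2
  · haveI : Subsingleton β := Fintype.card_le_one_iff_subsingleton.1 (by omega)
    intro g
    exact ⟨0, Subsingleton.elim _ _⟩
  obtain ⟨z, hz2, hz1, hPz⟩ := exists_central_involution hP
  obtain ⟨z', hz2', hz1', hQz⟩ := exists_central_involution hQ
  have hxz : Commute x z := Subgroup.mem_centralizer_singleton_iff.1 (hPz hxP)
  obtain rfl : z = z' := involution_unique hx hxz hz2 hz1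
    (Subgroup.mem_centralizer_singleton_iff.1 (hQz hxQ)) hz2' hz1'
  set W := Subgroup.centralizer {z}
  -- the pairs
  let r : Setoid β := ⟨fun a b => b = a ∨ b = z a, fun a => Or.inl rfl,
    fun {a b} h => by rcases h with rfl | rfl <;> simp [hz2],
    fun {a b c} h h' => by rcases h with rfl | rfl <;> rcases h' with rfl | rfl <;> simp [hz2]⟩
  have hcomm : ∀ (g : W) (a : β), (g : Perm β) (z a) = z ((g : Perm β) a) := fun g a =>
    congrArg (fun f : Perm β => f a) (Subgroup.mem_centralizer_singleton_iff.1 g.2)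
  have hresp : ∀ (g : W) (a b : β), r a b → r ((g : Perm β) a) ((g : Perm β) b) := by
    intro g a b h
    rcases h with rfl | rfl
    · exact Or.inl rfl
    · exact Or.inr (hcomm g a)
  let act : W →* Perm (Quotient r) :=
    { toFun := fun g =>
        { toFun := Quotient.map (g : Perm β) (hresp g)
          invFun := Quotient.map (g⁻¹ : W) (hresp g⁻¹)
          left_inv := Quotient.ind fun a => by simp
          right_inv := Quotient.ind fun a => by simp }
      map_one' := Equiv.ext (Quotient.ind fun a => rfl)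
      map_mul' := fun g g' => Equiv.ext (Quotient.ind fun a => rfl) }
  have hker : IsPGroup 2 act.ker := by
    intro g
    refine ⟨1, Subtype.ext (Subtype.ext (Perm.ext fun a => ?_))⟩
    have h : ∀ b, ((g : W) : Perm β) b = b ∨ ((g : W) : Perm β) b = z b := fun b => by
      have h' := congrArg (fun f : Perm (Quotient r) => f ⟦b⟧) (MonoidHom.mem_ker.1 g.2)
      rcases Quotient.exact (h'.symm : (⟦b⟧ : Quotient r) = ⟦((g : W) : Perm β) b⟧) with e | e
      exacts [Or.inl e, Or.inr e]
    show ((((g : W) : Perm β)) ^ 2 ^ 1) a = a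
    rw [pow_one, sq, Perm.mul_apply]
    rcases h a with e | e
    · rw [e, e]
    · rw [e, hcomm, e, hz2]
  have hcard : Fintype.card (Quotient r) < n := by
    rw [← hn]
    refine Fintype.card_lt_of_surjective_not_injective _ (Quotient.mk_surjective) fun hinj => ?_
    obtain ⟨a, b, hab⟩ := Fintype.one_lt_card_iff.1 (show 1 < Fintype.card β by omega)
    have ha : ∀ c, z c = c := fun c => (hinj (Quotient.sound (Or.inr rfl))).symm
    exact hab (hz1 a b (ha a) (ha b))
  have hxW : x ∈ W := hPz hxP
  set y := act ⟨x, hxW⟩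
  have hy : ∀ (k : ℕ) (a : β), (y ^ k) ⟦a⟧ = ⟦(x ^ k) a⟧ := fun k a => by
    rw [← map_pow]; rfl
  have heq : ∀ (k : ℕ) (a : β), (y ^ k) ⟦a⟧ = ⟦a⟧ ↔ ((x ^ k) a = a ∨ (x ^ k) a = z a) := by
    intro k a
    rw [hy]
    constructor
    · intro h
      rcases Quotient.exact h.symm with e | e
      exacts [Or.inl e, Or.inr e]
    · intro h
      refine (Quotient.sound (s := r) (a := a) (b := (x ^ k) a) ?_).symm
      rcases h with e | e
      exacts [Or.inl e, Or.inr e]
  have hfixz : ∀ {a}, x a = a → x (z a) = z a := fun {a} ha => by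
    have h' := congrArg (fun f : Perm β => f a) hxz.eq
    simpa [Perm.mul_apply, ha] using h'
  have hfixed : ∀ {a}, y ⟦a⟧ = ⟦a⟧ → x a = a ∨ (x a ≠ a ∧ (x ^ 2) a = a) := fun {a} h => by
    by_cases ha : x a = a
    · exact Or.inl ha
    · exact Or.inr ⟨ha, (pow_half hx hxz hz2 hz1 ha 1).1 ((heq 1 a).1 (by rwa [pow_one]))⟩
  have hmovedsame : ∀ {a b}, x a ≠ a → x.SameCycle a b → (x ^ 2) a = a →
      (⟦a⟧ : Quotient r) = ⟦b⟧ := fun {a b} ha hs h => by
    obtain ⟨i, rfl⟩ := hs.exists_nat_pow_eq
    exact Quotient.sound ((pow_half hx hxz hz2 hz1 ha i).2 (by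
      rw [pow_mul]; exact pow_apply_eq_self_of_apply_eq_self h i))
  have hyg : Good y := by
    constructor
    · refine Quotient.ind fun a => Quotient.ind fun b => Quotient.ind fun c => ?_
      intro ha hb hc
      -- two fixed pairs of the same kind coincide
      have hkey : ∀ {p q}, (x p = p ∧ x q = q) ∨
          ((x p ≠ p ∧ (x ^ 2) p = p) ∧ (x q ≠ q ∧ (x ^ 2) q = q)) → (⟦p⟧ : Quotient r) = ⟦q⟧ := by
        intro p q h
        rcases h with ⟨hp, hq⟩ | ⟨⟨hp, hp2⟩, hq, hq2⟩
        · by_cases hpq : p = q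
          · rw [hpq]
          rcases hx.1 p q (z p) hp hq (hfixz hp) with e | e | e
          · exact absurd e hpq
          · rcases hx.1 p q (z q) hp hq (hfixz hq) with e' | e' | e'
            · exact absurd e' hpq
            · exact (Quotient.sound (s := r) (a := q) (b := p) (Or.inr e')).symm
            · exact absurd (hz1 p q e.symm e'.symm) hpq
          · exact Quotient.sound (Or.inr e)
        · refine hmovedsame hp (hx.2 p q hp fun k => ?_) hp2
          rcases Nat.even_or_odd k with ⟨i, rfl⟩ | ⟨i, rfl⟩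
          · rw [← two_mul, pow_mul]
            exact iff_of_true (pow_apply_eq_self_of_apply_eq_self hp2 i)
              (pow_apply_eq_self_of_apply_eq_self hq2 i)
          · rw [pow_succ', Perm.mul_apply, Perm.mul_apply, pow_mul,
              pow_apply_eq_self_of_apply_eq_self hp2 i, pow_apply_eq_self_of_apply_eq_self hq2 i]
            exact iff_of_false hp hq
      rcases hfixed ha with ha' | ha' <;> rcases hfixed hb with hb' | hb' <;>
        rcases hfixed hc with hc' | hc'
      all_goals first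
        | exact Or.inl (hkey (Or.inl ⟨ha', hb'⟩))
        | exact Or.inl (hkey (Or.inr ⟨ha', hb'⟩))
        | exact Or.inr (Or.inl (hkey (Or.inl ⟨ha', hc'⟩)))
        | exact Or.inr (Or.inl (hkey (Or.inr ⟨ha', hc'⟩)))
        | exact Or.inr (Or.inr (hkey (Or.inl ⟨hb', hc'⟩)))
        | exact Or.inr (Or.inr (hkey (Or.inr ⟨hb', hc'⟩)))
    · refine Quotient.ind fun a => Quotient.ind fun b => ?_
      intro ha hk
      have ha' : x a ≠ a := fun h => ha ((by simpa using (heq 1 a).2 (Or.inl (by simpa using h))))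
      have hb' : x b ≠ b := fun h => ha (by
        simpa using (hk 1).2 ((heq 1 b).2 (Or.inl (by simpa using h))))
      have hhalf : ∀ k, (x ^ (2 * k)) a = a ↔ (x ^ (2 * k)) b = b := fun k => by
        rw [← pow_half hx hxz hz2 hz1 ha' k, ← pow_half hx hxz hz2 hz1 hb' k, ← heq, ← heq, hk]
      have heven : ∀ {c}, x c ≠ c → 2 ∣ (x.cycleOf c).support.card := fun {c} hc => by
        obtain ⟨i, hi, hi2⟩ := apply_moved hx hxz hz2 hz1 hc
        rw [pow_apply_eq_self_iff hc] at hi2
        refine (Nat.prime_two.coprime_iff_not_dvd.not_left.1 fun hcop => ?_)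
        have hd := hcop.symm.dvd_of_dvd_mul_left hi2
        rw [← pow_apply_eq_self_iff hc, hi] at hd
        exact apply_ne hxz hz1 hc hd
      have hsame : ∀ k, (x ^ k) a = a ↔ (x ^ k) b = b := fun k => by
        constructor <;> intro h
        · obtain ⟨j, rfl⟩ := (heven ha').trans ((pow_apply_eq_self_iff ha' k).1 h)
          exact (hhalf j).1 h
        · obtain ⟨j, rfl⟩ := (heven hb').trans ((pow_apply_eq_self_iff hb' k).1 h)
          exact (hhalf j).2 h
      obtain ⟨i, rfl⟩ := (hx.2 a b ha' hsame).exists_nat_pow_eq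
      exact ⟨(i : ℤ), by rw [zpow_natCast, hy]⟩
  have hmap := ih _ hcard rfl hyg ((hP.comap_of_injective W.subtype W.subtype_injective).map act)
    ((hQ.comap_of_injective W.subtype W.subtype_injective).map act)
    ⟨⟨x, hxW⟩, hxP, rfl⟩ ⟨⟨x, hxW⟩, hxQ, rfl⟩
  refine ((hmap.comap_of_ker_isPGroup act hker).map W.subtype).to_le ?_
  refine sup_le (fun g hg => ⟨⟨g, hPz hg⟩, ?_, rfl⟩) (fun g hg => ⟨⟨g, hQz hg⟩, ?_, rfl⟩)
  · exact Subgroup.mem_sup_left ⟨⟨g, hPz hg⟩, hg, rfl⟩
  · exact Subgroup.mem_sup_right ⟨⟨g, hQz hg⟩, hg, rfl⟩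

theorem existsUnique_of_good {x : Perm α} (hx : Good x) (hk : ∃ k : ℕ, orderOf x = 2 ^ k) :
    ∃! P : Sylow 2 (Perm α), x ∈ P := by
  haveI : Fact (Nat.Prime 2) := ⟨Nat.prime_two⟩
  obtain ⟨k, hk⟩ := hk
  obtain ⟨P, hP⟩ := (IsPGroup.of_card (G := Subgroup.zpowers x)
    (by rw [Nat.card_zpowers]; exact hk)).exists_le_sylow
  refine ⟨P, hP (Subgroup.mem_zpowers x), fun Q hQ => ?_⟩
  have h := isPGroup_sup _ rfl hx P.isPGroup' Q.isPGroup' (hP (Subgroup.mem_zpowers x)) hQ
  exact Sylow.ext ((P.is_maximal' h le_sup_left).symm.trans (Q.is_maximal' h le_sup_right)).symm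

/-- Two overlapping transpositions are not in a 2-group. -/
theorem not_isPGroup_of_swaps {P : Subgroup (Perm α)} (hP : IsPGroup 2 P) {a b c : α}
    (hab : a ≠ b) (hac : a ≠ c) (hbc : b ≠ c) (h : swap a b ∈ P) (h' : swap a c ∈ P) : False := by
  obtain ⟨k, hk⟩ := hP ⟨_, P.mul_mem h h'⟩
  have h3 : orderOf (swap a b * swap a c) ∣ 2 ^ k :=
    orderOf_dvd_of_pow_eq_one (congrArg Subtype.val hk)
  rw [(isThreeCycle_swap_mul_swap_same hab hac hbc).orderOf] at h3
  exact absurd ((Nat.prime_dvd_prime_iff_eq Nat.prime_three Nat.prime_two).1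
    (Nat.prime_three.dvd_of_dvd_pow h3)) (by decide)

/-- A transposition joining points of equal period generates a 2-group with `x`. -/
theorem exists_sylow_mem_swap {x : Perm α} (hk : ∃ k : ℕ, orderOf x = 2 ^ k) {a b : α}
    (hab : ¬ x.SameCycle a b) (hper : ∀ k : ℕ, (x ^ k) a = a ↔ (x ^ k) b = b) :
    ∃ P : Sylow 2 (Perm α), x ∈ P ∧ swap a b ∈ P := by
  haveI : Fact (Nat.Prime 2) := ⟨Nat.prime_two⟩
  let σ : ℤ → Perm α := fun i => swap ((x ^ i) a) ((x ^ i) b)
  have hperz : ∀ i : ℤ, (x ^ i) a = a ↔ (x ^ i) b = b := fun i => by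
    obtain ⟨n, rfl | rfl⟩ := i.eq_nat_or_neg
    · simpa using hper n
    · simp only [zpow_neg, zpow_natCast, Perm.inv_eq_iff_eq, eq_comm (a := a), eq_comm (a := b)]
      exact hper n
  have hdis : ∀ i j : ℤ, Commute (σ i) (σ j) := by
    intro i j
    by_cases h : (x ^ i) a = (x ^ j) a
    · have h' : (x ^ i) b = (x ^ j) b := by
        have e : (x ^ (j - i)) a = a := (x ^ i).injective (by
          rw [← Perm.mul_apply, ← zpow_add, add_sub_cancel, h])
        have e' := congrArg (x ^ i) ((hperz _).1 e)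
        rwa [← Perm.mul_apply, ← zpow_add, add_sub_cancel, eq_comm] at e'
      show Commute (swap _ _) (swap _ _)
      rw [h, h']
    · have h' : (x ^ i) b ≠ (x ^ j) b := fun e => h (by
        have e1 : (x ^ (j - i)) b = b := (x ^ i).injective (by
          rw [← Perm.mul_apply, ← zpow_add, add_sub_cancel, e])
        have e' := congrArg (x ^ i) ((hperz _).2 e1)
        rwa [← Perm.mul_apply, ← zpow_add, add_sub_cancel, eq_comm] at e')
      have hne : ∀ s t : ℤ, (x ^ s) a ≠ (x ^ t) b := fun s t e => hab ⟨-t + s, by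
        rw [zpow_add, Perm.mul_apply, e, ← Perm.mul_apply, ← zpow_add, neg_add_cancel, zpow_zero,
          Perm.one_apply]⟩
      refine Disjoint.commute fun c => ?_
      by_cases h1 : c = (x ^ i) a ∨ c = (x ^ i) b
      · right
        rcases h1 with rfl | rfl
        · exact swap_apply_of_ne_of_ne h (hne i j)
        · exact swap_apply_of_ne_of_ne (hne j i).symm h'
      · push Not at h1
        exact Or.inl (swap_apply_of_ne_of_ne h1.1 h1.2)
  set E := Subgroup.closure (Set.range σ) with hE
  have hEc : ∀ u ∈ E, ∀ v ∈ E, Commute u v := by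
    haveI : IsMulCommutative E := Subgroup.isMulCommutative_closure (by
      rintro _ ⟨i, rfl⟩ _ ⟨j, rfl⟩
      exact (hdis i j).eq)
    exact fun u hu v hv => congrArg Subtype.val (mul_comm' (⟨u, hu⟩ : E) ⟨v, hv⟩)
  have hE2 : IsPGroup 2 E := by
    intro g
    refine ⟨1, Subtype.ext ?_⟩
    rw [pow_one, SubgroupClass.coe_pow, OneMemClass.coe_one]
    obtain ⟨g, hg⟩ := g
    show g ^ 2 = 1
    induction hg using Subgroup.closure_induction with
    | mem y hy => obtain ⟨i, rfl⟩ := hy; rw [sq]; exact swap_mul_self _ _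
    | one => exact one_pow 2
    | mul u v hu hv iu iv => rw [(hEc u hu v hv).mul_pow, iu, iv, one_mul]
    | inv u _ iu => rw [inv_pow, iu, inv_one]
  have hnorm : Subgroup.zpowers x ≤ Subgroup.normalizer (E : Set (Perm α)) := by
    refine Subgroup.zpowers_le.2 ?_
    rw [Subgroup.mem_normalizer_iff_map_conj_eq, hE, MonoidHom.map_closure, ← Set.range_comp]
    congr 1
    have : ∀ i, (MulAut.conj x).toMonoidHom (σ i) = σ (i + 1) := fun i => by
      show x * swap _ _ * x⁻¹ = swap _ _
      rw [← swap_apply_apply, ← Perm.mul_apply, ← Perm.mul_apply, ← zpow_one_add, add_comm]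
    ext y
    constructor
    · rintro ⟨i, rfl⟩
      exact ⟨i + 1, (this i).symm⟩
    · rintro ⟨i, rfl⟩
      exact ⟨i - 1, (this _).trans (by rw [sub_add_cancel])⟩
  obtain ⟨k, hk⟩ := hk
  have hZ : IsPGroup 2 (Subgroup.zpowers x) := IsPGroup.of_card (by rw [Nat.card_zpowers]; exact hk)
  obtain ⟨P, hP⟩ := (hE2.to_sup_of_normal_left' hZ hnorm).exists_le_sylow
  exact ⟨P, hP (Subgroup.mem_sup_right (Subgroup.mem_zpowers x)),
    hP (Subgroup.mem_sup_left (Subgroup.subset_closure ⟨0, by simp [σ]⟩))⟩

/-- A commuting 2-element lies in a Sylow 2-subgroup with `x`. -/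
theorem exists_sylow_mem_commute {x c : Perm α} (hk : ∃ k : ℕ, orderOf x = 2 ^ k)
    (hc : ∃ k : ℕ, orderOf c = 2 ^ k) (h : Commute x c) :
    ∃ P : Sylow 2 (Perm α), x ∈ P ∧ c ∈ P := by
  haveI : Fact (Nat.Prime 2) := ⟨Nat.prime_two⟩
  obtain ⟨k, hk⟩ := hk
  obtain ⟨l, hl⟩ := hc
  have hZ : IsPGroup 2 (Subgroup.zpowers x) := IsPGroup.of_card (by rw [Nat.card_zpowers]; exact hk)
  have hC : IsPGroup 2 (Subgroup.zpowers c) := IsPGroup.of_card (by rw [Nat.card_zpowers]; exact hl)
  obtain ⟨P, hP⟩ := (hZ.to_sup_of_normal_left' hC (Subgroup.zpowers_le.2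
    (Subgroup.centralizer_le_normalizer _ (Subgroup.mem_centralizer_iff.2 fun y hy => by
      obtain ⟨i, rfl⟩ := Subgroup.mem_zpowers_iff.1 hy
      exact (h.zpow_left i).eq)))).exists_le_sylow
  exact ⟨P, hP (Subgroup.mem_sup_left (Subgroup.mem_zpowers x)),
    hP (Subgroup.mem_sup_right (Subgroup.mem_zpowers c))⟩

theorem good_of_existsUnique {x : Perm α} (hk : ∃ k : ℕ, orderOf x = 2 ^ k)
    (hu : ∃! P : Sylow 2 (Perm α), x ∈ P) : Good x := by
  obtain ⟨P, hxP, huniq⟩ := hu
  constructor
  · intro a b c ha hb hc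
    by_contra hne
    push Not at hne
    obtain ⟨hab, hac, hbc⟩ := hne
    have hmem : ∀ {p q}, x p = p → x q = q → p ≠ q → swap p q ∈ P := fun {p q} hp hq hpq => by
      obtain ⟨R, hR, hR'⟩ := exists_sylow_mem_swap hk (a := p) (b := q)
        (fun h => hpq (h.eq_of_left hp)) (fun k => iff_of_true
          (pow_apply_eq_self_of_apply_eq_self hp k) (pow_apply_eq_self_of_apply_eq_self hq k))
      rwa [huniq R hR] at hR'
    exact not_isPGroup_of_swaps P.isPGroup' hab hac hbc (hmem ha hb hab) (hmem ha hc hac)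
  · intro a b ha hper
    by_contra hab
    obtain ⟨R, hR, hR'⟩ := exists_sylow_mem_swap hk hab hper
    rw [huniq R hR] at hR'
    obtain ⟨S, hS, hS'⟩ := exists_sylow_mem_commute hk (c := x.cycleOf a) (by
        obtain ⟨k, hk⟩ := hk
        obtain ⟨i, -, hi⟩ := (Nat.dvd_prime_pow Nat.prime_two).1 (hk ▸ (
          orderOf_cycleOf_dvd_orderOf x a))
        exact ⟨i, hi⟩)
      (self_mem_cycle_factors_commute (cycleOf_mem_cycleFactorsFinset_iff.2 (mem_support.2 ha))).symm
    rw [huniq S hS] at hS'
    have h' : swap (x.cycleOf a a) (x.cycleOf a b) ∈ P := by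
      rw [swap_apply_apply]; exact P.1.mul_mem (P.1.mul_mem hS' hR') (P.1.inv_mem hS')
    rw [cycleOf_apply_self, cycleOf_apply_of_not_sameCycle hab] at h'
    rw [swap_comm] at h' hR'
    exact not_isPGroup_of_swaps P.isPGroup' (fun e => hab ⟨0, by rw [e]; simp⟩)
      (fun e => hab ⟨1, by rw [zpow_one, e]⟩) (Ne.symm ha) hR' h'

omit [DecidableEq α] in
theorem card_fixed_le_two [DecidableEq α] {x : Perm α} :
    Fintype.card α ≤ x.support.card + 2 ↔
      ∀ a b c : α, x a = a → x b = b → x c = c → a = b ∨ a = c ∨ b = c := by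
  have h : x.supportᶜ.card = Fintype.card α - x.support.card := Finset.card_compl _
  have hle := x.support.card_le_univ
  constructor
  · intro hh a b c ha hb hc
    by_contra hne
    push Not at hne
    have h3 : ({a, b, c} : Finset α) ⊆ x.supportᶜ := by
      intro d hd
      simp only [Finset.mem_insert, Finset.mem_singleton] at hd
      rcases hd with rfl | rfl | rfl <;> simp [ha, hb, hc]
    have := Finset.card_le_card h3
    rw [Finset.card_eq_three.2 ⟨a, b, c, hne.1, hne.2.1, hne.2.2, rfl⟩] at this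
    omega
  · intro hh
    by_contra hlt
    obtain ⟨a, ha, b, hb, c, hc, hab, hac, hbc⟩ :=
      Finset.two_lt_card.1 (show 2 < x.supportᶜ.card by omega)
    simp only [Finset.mem_compl, mem_support, not_not] at ha hb hc
    rcases hh a b c ha hb hc with e | e | e
    exacts [hab e, hac e, hbc e]

theorem good_iff {x : Perm α} :
    Good x ↔ Fintype.card α ≤ x.support.card + 2 ∧ x.cycleType.Nodup := by
  rw [card_fixed_le_two, Good]
  refine and_congr_right fun _ => ?_
  rw [cycleType_def, Multiset.nodup_map_iff_inj_on x.cycleFactorsFinset.nodup]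
  constructor
  · intro h c hc d hd hcd
    rw [Finset.mem_val] at hc hd
    obtain ⟨a, ha⟩ := (mem_cycleFactorsFinset_iff.1 hc).1.nonempty_support
    obtain ⟨b, hb⟩ := (mem_cycleFactorsFinset_iff.1 hd).1.nonempty_support
    have ec := cycle_is_cycleOf ha hc
    have ed := cycle_is_cycleOf hb hd
    have hxa : x a ≠ a := mem_support.1 (mem_cycleFactorsFinset_support_le hc ha)
    have hxb : x b ≠ b := mem_support.1 (mem_cycleFactorsFinset_support_le hd hb)
    rw [ec, ed] at hcd ⊢
    exact (h a b hxa fun k => by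
      rw [pow_apply_eq_self_iff hxa, pow_apply_eq_self_iff hxb]
      exact iff_of_eq (congrArg (· ∣ k) hcd)).cycleOf_eq
  · intro h a b ha hper
    have hb : x b ≠ b := fun e => ha (by
      simpa using (hper 1).2 (by simpa using e))
    have he : x.cycleOf a = x.cycleOf b := by
      refine h _ (cycleOf_mem_cycleFactorsFinset_iff.2 (mem_support.2 ha)) _
        (cycleOf_mem_cycleFactorsFinset_iff.2 (mem_support.2 hb)) (Nat.dvd_antisymm ?_ ?_)
      · exact (pow_apply_eq_self_iff ha _).1 ((hper _).2 ((pow_apply_eq_self_iff hb _).2 dvd_rfl))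
      · exact (pow_apply_eq_self_iff hb _).1 ((hper _).1 ((pow_apply_eq_self_iff ha _).2 dvd_rfl))
    by_contra hne
    exact ha (by
      have := congrArg (fun f : Perm α => f a) he
      simpa [cycleOf_apply_self, cycleOf_apply_of_not_sameCycle (fun e => hne e.symm)] using this)

end CfsgLib.FgsC.SymTwo
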