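import Cfsg.Agent.Lib.FgsC.UnipotentLimit
import Cfsg.Agent.Lib.PLocal.Replacement
import Cfsg.Agent.Lib.LocalEven.CDNormal
import Cfsg.Prelude.Def_Transfer

/-!
For `p ≥ 5` an F-module of a `p`-group has a quadratic offender which is normal in its normal
closure.
-/

set_option autoImplicit false
set_option linter.unusedSectionVars false

namespace CfsgLib.FgsC.TwoSubOff

open UniLim

section Abstract

variable {k W Γ : Type*} [Field k] [AddCommGroup W] [Module k W] [Group Γ]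
  (ρ : Γ →* Module.End k W)

/-- The elements killed by `U`. -/
def kill (U : Submodule k (Module.End k W)) : Submodule k W where
  carrier := {w | ∀ f ∈ U, f w = 0}
  zero_mem' := fun f _ => map_zero f
  add_mem' := fun {a b} ha hb f hf => by rw [map_add, ha f hf, hb f hf, add_zero]
  smul_mem' := fun c a ha f hf => by rw [map_smul, ha f hf, smul_zero]

/-- The elements `g` with `ρ g - 1` in `U`. -/
def gset (U : Submodule k (Module.End k W)) : Set Γ := {g | ρ g - 1 ∈ U}

/-- A quadratic offender, given by the space of the endomorphisms `ρ g - 1`. -/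
structure Good (U : Submodule k (Module.End k W)) : Prop where
  sq : ∀ a ∈ U, ∀ b ∈ U, a * b = 0
  lift : ∀ a ∈ U, ∃ g, ρ g = 1 + a
  ne : U ≠ ⊥
  measure : Nat.card W ≤ Nat.card U * Nat.card (kill U)

theorem inv_of {g : Γ} {a : Module.End k W} (h : ρ g = 1 + a) (ha : a * a = 0) :
    ρ g⁻¹ = 1 - a := by
  have h1 : ρ g * (1 - a) = 1 := by
    rw [h, add_mul, one_mul, mul_sub, mul_one, ha]; abel
  calc ρ g⁻¹ = ρ g⁻¹ * (ρ g * (1 - a)) := by rw [h1, mul_one]
    _ = 1 - a := by rw [← mul_assoc, ← map_mul, inv_mul_cancel, map_one, one_mul]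

/-- The subgroup of a quadratic space. -/
def gsub {U : Submodule k (Module.End k W)} (h : ∀ a ∈ U, ∀ b ∈ U, a * b = 0) : Subgroup Γ where
  carrier := gset ρ U
  one_mem' := by show ρ 1 - 1 ∈ U; rw [map_one, sub_self]; exact zero_mem _
  mul_mem' := fun {a b} ha hb => by
    show ρ (a * b) - 1 ∈ U
    have e : ρ (a * b) - 1 = (ρ a - 1) + (ρ b - 1) + (ρ a - 1) * (ρ b - 1) := by
      rw [map_mul]; noncomm_ring
    rw [e, h _ ha _ hb, add_zero]
    exact add_mem ha hb
  inv_mem' := fun {a} ha => by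
    show ρ a⁻¹ - 1 ∈ U
    rw [inv_of ρ (g := a) (a := ρ a - 1) (by abel) (h _ ha _ ha), sub_sub_cancel_left]
    exact neg_mem ha

/-- Conjugation by `ρ g`. -/
def rconj (g : Γ) : Module.End k W →ₗ[k] Module.End k W :=
  (LinearMap.mulLeft k (ρ g)).comp (LinearMap.mulRight k (ρ g⁻¹))

theorem rconj_apply (g : Γ) (a : Module.End k W) : rconj ρ g a = ρ g * a * ρ g⁻¹ := by
  simp [rconj, mul_assoc]

theorem rconj_rconj (g h : Γ) (a : Module.End k W) :
    rconj ρ g (rconj ρ h a) = rconj ρ (g * h) a := by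
  simp only [rconj_apply, mul_inv_rev, map_mul, mul_assoc]

theorem rconj_one (a : Module.End k W) : rconj ρ 1 a = a := by simp [rconj_apply]

theorem rconj_injective (g : Γ) : Function.Injective (rconj ρ g) := fun a b h => by
  have := congrArg (rconj ρ g⁻¹) h
  rwa [rconj_rconj, rconj_rconj, inv_mul_cancel, rconj_one, rconj_one] at this

theorem rconj_mul (g : Γ) (a b : Module.End k W) :
    rconj ρ g (a * b) = rconj ρ g a * rconj ρ g b := by
  simp only [rconj_apply]
  calc ρ g * (a * b) * ρ g⁻¹ = ρ g * a * (ρ g⁻¹ * ρ g) * b * ρ g⁻¹ := by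
        rw [← map_mul, inv_mul_cancel, map_one]; simp [mul_assoc]
    _ = _ := by simp [mul_assoc]

theorem rho_conj (g h : Γ) : ρ (g * h * g⁻¹) - 1 = rconj ρ g (ρ h - 1) := by
  rw [rconj_apply, map_mul, map_mul, mul_sub, sub_mul, mul_one, ← map_mul ρ g g⁻¹,
    mul_inv_cancel, map_one]

/-- The elements normalising `U`. -/
def normSub [Finite Γ] (U : Submodule k (Module.End k W)) : Subgroup Γ where
  carrier := {g | ∀ a ∈ U, rconj ρ g a ∈ U}
  one_mem' := fun a ha => by rwa [rconj_one]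
  mul_mem' := fun {g h} hg hh a ha => by rw [← rconj_rconj]; exact hg _ (hh a ha)
  inv_mem' := fun {g} hg => by
    have hpow : ∀ n : ℕ, ∀ a ∈ U, rconj ρ (g ^ n) a ∈ U := by
      intro n
      induction n with
      | zero => intro a ha; rwa [pow_zero, rconj_one]
      | succ n ih => intro a ha; rw [pow_succ, ← rconj_rconj]; exact ih _ (hg a ha)
    intro a ha
    have : g⁻¹ = g ^ (orderOf g - 1) := by
      apply inv_eq_of_mul_eq_one_right
      rw [← pow_succ', Nat.sub_add_cancel (orderOf_pos g), pow_orderOf_eq_one]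
    rw [this]
    exact hpow _ a ha

variable {ρ}

theorem Good.conj [Finite W] {U : Submodule k (Module.End k W)} (h : Good ρ U) (g : Γ) :
    Good ρ (U.map (rconj ρ g)) where
  sq := by
    rintro _ ⟨a, ha, rfl⟩ _ ⟨b, hb, rfl⟩
    rw [← rconj_mul, h.sq a ha b hb, map_zero]
  lift := by
    rintro _ ⟨a, ha, rfl⟩
    obtain ⟨x, hx⟩ := h.lift a ha
    refine ⟨g * x * g⁻¹, ?_⟩
    rw [← sub_eq_iff_eq_add', rho_conj, hx, add_sub_cancel_left]
  ne := fun e => h.ne <| by
    rw [Submodule.eq_bot_iff] at e ⊢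
    exact fun a ha => rconj_injective ρ g (by rw [e _ ⟨a, ha, rfl⟩, map_zero])
  measure := by
    refine h.measure.trans (Nat.mul_le_mul
      (Nat.card_congr (U.equivMapOfInjective _ (rconj_injective ρ g)).toEquiv).le ?_)
    refine Nat.card_le_card_of_injective (fun w : kill U => (⟨ρ g w.1, ?_⟩ :
      kill (U.map (rconj ρ g)))) fun v w e => ?_
    · rintro _ ⟨a, ha, rfl⟩
      rw [rconj_apply, Module.End.mul_apply, Module.End.mul_apply, ← Module.End.mul_apply (ρ g⁻¹),
        ← map_mul, inv_mul_cancel, map_one, Module.End.one_apply, w.2 a ha, map_zero]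
    · have e' := congrArg (fun z : kill (U.map (rconj ρ g)) => ρ g⁻¹ z.1) e
      simp only [← Module.End.mul_apply, ← map_mul, inv_mul_cancel, map_one,
        Module.End.one_apply] at e'
      exact Subtype.ext e'

theorem gset_conj {U : Submodule k (Module.End k W)} {g h : Γ} (hh : h ∈ gset ρ U) :
    g * h * g⁻¹ ∈ gset ρ (U.map (rconj ρ g)) := ⟨_, hh, (rho_conj ρ g h).symm⟩

theorem Good.gset_le_normSub [Finite Γ] {U : Submodule k (Module.End k W)} (h : Good ρ U) :
    gset ρ U ⊆ normSub ρ U := by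
  intro g hg a ha
  have e : rconj ρ g a = (1 + (ρ g - 1)) * a * (1 - (ρ g - 1)) := by
    rw [rconj_apply, inv_of ρ (g := g) (a := ρ g - 1) (by abel) (h.sq _ hg _ hg),
      add_sub_cancel]
  rw [e, add_mul, one_mul, h.sq _ hg _ ha, add_zero, mul_sub, mul_one, h.sq _ ha _ hg, sub_zero]
  exact ha

theorem pow_of {g : Γ} {a : Module.End k W} (h : ρ g = 1 + a) (ha : a * a = 0) (n : ℕ) :
    ρ (g ^ n) = 1 + n • a := by
  induction n with
  | zero => simp
  | succ n ih =>
    rw [pow_succ, map_mul, ih, h, add_mul, one_mul, mul_add, mul_one, smul_mul_assoc, ha,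
      smul_zero, add_zero, succ_nsmul]
    abel

end Abstract

section ZModP

variable {p : ℕ} [Fact p.Prime] {W Γ : Type*} [AddCommGroup W] [Module (ZMod p) W] [Finite W]
  [Group Γ] [Finite Γ] {ρ : Γ →* Module.End (ZMod p) W}

instance : Finite (Module.End (ZMod p) W) := Finite.of_injective _ DFunLike.coe_injective

/-- The endomorphisms with image killed by `U`. -/
def annR (U : Submodule (ZMod p) (Module.End (ZMod p) W)) :
    Submodule (ZMod p) (Module.End (ZMod p) W) where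
  carrier := {f | ∀ a ∈ U, a * f = 0}
  zero_mem' := fun a _ => mul_zero a
  add_mem' := fun {f g} hf hg a ha => by rw [mul_add, hf a ha, hg a ha, add_zero]
  smul_mem' := fun c f hf a ha => by rw [mul_smul_comm, hf a ha, smul_zero]

theorem card_annR (U : Submodule (ZMod p) (Module.End (ZMod p) W)) :
    Nat.card (annR U) = p ^ (Module.finrank (ZMod p) W * Module.finrank (ZMod p) (kill U)) := by
  let e : (W →ₗ[ZMod p] kill U) ≃ annR U :=
    { toFun := fun f => ⟨(kill U).subtype.comp f, fun a ha => LinearMap.ext fun w => (f w).2 a ha⟩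
      invFun := fun f => LinearMap.codRestrict _ f.1 fun w a ha =>
        LinearMap.congr_fun (f.2 a ha) w
      left_inv := fun f => rfl
      right_inv := fun f => rfl }
  rw [← Nat.card_congr e, Module.natCard_eq_pow_finrank (K := ZMod p), Nat.card_zmod,
    Module.finrank_linearMap]

theorem five_le_card (hp : 5 ≤ p) : 5 ≤ Fintype.card (ZMod p) := by rwa [ZMod.card]

theorem natCast_ne_zero {n : ℕ} (h0 : 0 < n) (hn : n < p) : (n : ZMod p) ≠ 0 := by
  rw [Ne, ZMod.natCast_eq_zero_iff]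
  exact fun h => absurd (Nat.le_of_dvd h0 h) (not_le.2 hn)

theorem step (hp : 5 ≤ p) (hρ : Function.Injective ρ) {M : Subgroup Γ} {e : Γ}
    {x : Module.End (ZMod p) W} (he : ρ e = 1 + x) (hx : x * x = 0)
    (hn : e ∈ Subgroup.normalizer (M : Set Γ)) {U : Submodule (ZMod p) (Module.End (ZMod p) W)}
    (hU : Good ρ U) (hUM : gset ρ U ⊆ M) (hMU : M ≤ normSub ρ U) :
    ∃ L, Good ρ L ∧ gset ρ L ⊆ M ∧ M ⊔ Subgroup.zpowers e ≤ normSub ρ L := by
  have h2 : (2 : ZMod p) ≠ 0 := by exact_mod_cast natCast_ne_zero (p := p) (n := 2) (by omega) (by omega)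
  have h3 : (3 : ZMod p) ≠ 0 := by exact_mod_cast natCast_ne_zero (p := p) (n := 3) (by omega) (by omega)
  have het : ∀ t : ZMod p, ρ (e ^ t.val) = 1 + t • x ∧ ρ (e ^ t.val)⁻¹ = 1 - t • x := by
    intro t
    have h1 : ρ (e ^ t.val) = 1 + t • x := by
      rw [pow_of he hx, ← Nat.cast_smul_eq_nsmul (ZMod p), ZMod.natCast_rightInverse t]
    exact ⟨h1, inv_of ρ h1 (by rw [smul_mul_smul_comm, hx, smul_zero])⟩
  have hconj : ∀ (t : ZMod p) a, conjEl (ZMod p) x t a = rconj ρ (e ^ t.val) a := fun t a => by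
    rw [conjEl_apply, rconj_apply, (het t).1, (het t).2]
  have hpn : ∀ (t : ZMod p), ∀ m ∈ M,
      (e ^ t.val)⁻¹ * m * e ^ t.val ∈ M ∧ e ^ t.val * m * (e ^ t.val)⁻¹ ∈ M := by
    intro t m hm
    have h1 := pow_mem hn t.val
    refine ⟨?_, (Subgroup.mem_normalizer_iff.1 h1 m).1 hm⟩
    have := (Subgroup.mem_normalizer_iff.1 (inv_mem h1) m).1 hm
    rwa [inv_inv] at this
  set L := conjLim x U with hL
  let T : Fin 3 → ZMod p := ![0, 1, -1]
  let A : Fin 3 → Submodule (ZMod p) (Module.End (ZMod p) W) := fun i =>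
    U.map (conjEl (ZMod p) x (T i))
  have hsqL : ∀ a ∈ L, ∀ b ∈ L, a * b = 0 := conjLim_mul_eq_zero hx hU.sq
  have hliftL : ∀ v ∈ L, ∃ g ∈ M, ρ g = 1 + v := by
    intro v hv
    have hv' := conjLim_le h2 hv
    rw [Submodule.mem_sup] at hv'
    obtain ⟨y, hy, x2, hx2, rfl⟩ := hv'
    obtain ⟨x0, hx0, x1, hx1, rfl⟩ := Submodule.mem_sup.1 hy
    have m0 : x0 ∈ A 0 := ⟨x0, hx0, by simp [T, conjEl_apply]⟩
    obtain ⟨g, hg, hge⟩ : 1 + (x0 + x1 + x2) ∈ M.toSubmonoid.map ρ := by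
      refine one_add_mem h2 h3 _ A ?_ ?_ ?_ m0 hx1 hx2 (hsqL _ hv _ hv)
      · rintro i _ ⟨a, ha, rfl⟩ _ ⟨b, hb, rfl⟩
        rw [hconj, hconj, ← rconj_mul, hU.sq a ha b hb, map_zero]
      · rintro i _ ⟨a, ha, rfl⟩
        obtain ⟨g, hg⟩ := hU.lift a ha
        refine ⟨_, (hpn (T i) g (hUM (show ρ g - 1 ∈ U by rw [hg, add_sub_cancel_left]; exact ha))).2, ?_⟩
        rw [← sub_eq_iff_eq_add', rho_conj, hconj, hg, add_sub_cancel_left]
      · rintro i j _ ⟨a, ha, rfl⟩ _ ⟨b, hb, rfl⟩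
        obtain ⟨g, hg⟩ := hU.lift a ha
        have hgM : g ∈ M := hUM (show ρ g - 1 ∈ U by rw [hg, add_sub_cancel_left]; exact ha)
        set u := e ^ (T i).val * g * (e ^ (T i).val)⁻¹ with hu
        have hu1 : ρ u = 1 + conjEl (ZMod p) x (T i) a := by
          rw [← sub_eq_iff_eq_add', rho_conj, hconj, hg, add_sub_cancel_left]
        have hu2 : ρ u⁻¹ = 1 - conjEl (ZMod p) x (T i) a :=
          inv_of ρ hu1 (by rw [hconj, ← rconj_mul, hU.sq a ha a ha, map_zero])
        rw [← hu1, ← hu2, ← rconj_apply]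
        set r := e ^ (T j).val with hr
        refine ⟨rconj ρ (r⁻¹ * u * r) b, hMU (hpn (T j) u (hpn (T i) g hgM).2).1 b hb, ?_⟩
        rw [hconj, hconj, rconj_rconj, rconj_rconj, ← hr]
        group
    exact ⟨g, hg, hge⟩
  refine ⟨L, ⟨hsqL, fun a ha => ?_, ?_, ?_⟩, fun g hg => ?_, sup_le (fun m hm a ha => ?_) ?_⟩
  · obtain ⟨g, -, hg⟩ := hliftL a ha; exact ⟨g, hg⟩
  · intro hbot
    refine hU.ne (Submodule.eq_bot_iff _ |>.2 fun a ha => ?_)
    have h1 := card_le_conjLim hx U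
    rw [← hL, hbot, show Nat.card (⊥ : Submodule (ZMod p) (Module.End (ZMod p) W)) = 1 from
      Nat.card_unique] at h1
    have : Subsingleton U := (Finite.card_le_one_iff_subsingleton).1 h1
    exact congrArg Subtype.val (Subsingleton.elim (⟨a, ha⟩ : U) 0)
  · refine hU.measure.trans (Nat.mul_le_mul (card_le_conjLim hx U) ?_)
    have h1 : Nat.card (annR U) ≤ Nat.card (annR L) :=
      (card_le_leftLim hx (annR U)).trans (Nat.card_le_card_of_injective
        (Submodule.inclusion (show leftLim x (annR U) ≤ annR L from fun b hb a ha =>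
          conjLim_mul_leftLim hx (J := annR U)
            (fun a ha f (hf : f ∈ annR U) => hf a ha) a ha b hb))
        (Submodule.inclusion_injective _))
    rw [card_annR, card_annR, Nat.pow_le_pow_iff_right (Fact.out : p.Prime).one_lt] at h1
    rw [Module.natCard_eq_pow_finrank (K := ZMod p) (V := kill U),
      Module.natCard_eq_pow_finrank (K := ZMod p) (V := kill L)]
    refine Nat.pow_le_pow_right Nat.card_pos ?_
    rcases Nat.eq_zero_or_pos (Module.finrank (ZMod p) W) with h | h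
    · exact le_trans (Submodule.finrank_le _) (h ▸ Nat.zero_le _)
    · exact Nat.le_of_mul_le_mul_left h1 h
  · obtain ⟨g', hg', hge⟩ := hliftL _ hg
    have : g' = g := hρ (by rw [hge]; abel)
    exact this ▸ hg'
  · rw [rconj_apply]
    refine conjLim_invariant (five_le_card hp) hx (fun t a ha => ?_) ha
    have e1 : (1 - t • x) * ρ m * (1 + t • x) = ρ ((e ^ t.val)⁻¹ * m * e ^ t.val) := by
      rw [map_mul, map_mul, (het t).1, (het t).2]
    have e2 : (1 - t • x) * ρ m⁻¹ * (1 + t • x) = ρ ((e ^ t.val)⁻¹ * m * e ^ t.val)⁻¹ := by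
      rw [show ((e ^ t.val)⁻¹ * m * e ^ t.val)⁻¹ = (e ^ t.val)⁻¹ * m⁻¹ * e ^ t.val by group,
        map_mul, map_mul, (het t).1, (het t).2]
    rw [e1, e2, ← rconj_apply]
    exact hMU (hpn t m hm).1 a ha
  · refine Subgroup.zpowers_le.2 fun a ha => ?_
    have := conjEl_one_mem_conjLim h2 hx ha
    rwa [hconj, ZMod.val_one, pow_one] at this

variable (ρ) in
/-- Generated by quadratic offenders. -/
def OffGen (X : Subgroup Γ) : Prop :=
  Subgroup.closure (⋃ U ∈ {U | Good ρ U ∧ gset ρ U ⊆ X}, gset ρ U) = X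

variable (ρ) in
/-- The part of `X` generated by quadratic offenders. -/
def offPart (X : Subgroup Γ) : Subgroup Γ :=
  Subgroup.closure (⋃ U ∈ {U | Good ρ U ∧ gset ρ U ⊆ X}, gset ρ U)

theorem offPart_le (X : Subgroup Γ) : offPart ρ X ≤ X :=
  (Subgroup.closure_le _).2 (Set.iUnion₂_subset fun _ hU => hU.2)

theorem gset_le_offPart {X : Subgroup Γ} {U} (hU : Good ρ U) (h : gset ρ U ⊆ X) :
    gset ρ U ⊆ offPart ρ X := fun g hg => Subgroup.subset_closure (Set.mem_iUnion₂.2 ⟨U, ⟨hU, h⟩, hg⟩)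

theorem offGen_offPart (X : Subgroup Γ) : OffGen ρ (offPart ρ X) := by
  refine le_antisymm (offPart_le _) ((Subgroup.closure_le _).2 (Set.iUnion₂_subset fun U hU => ?_))
  exact gset_le_offPart hU.1 (gset_le_offPart hU.1 hU.2)

theorem offPart_mono {X Y : Subgroup Γ} (h : X ≤ Y) : offPart ρ X ≤ offPart ρ Y :=
  Subgroup.closure_mono (Set.biUnion_subset_biUnion_left fun U hU => ⟨hU.1, hU.2.trans h⟩)

theorem normalizer_le_offPart (N : Subgroup Γ) :
    Subgroup.normalizer (N : Set Γ) ≤ Subgroup.normalizer (offPart ρ N : Set Γ) := by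
  refine LocalEven.CD.le_normalizer_of_cj_le fun g hg => ?_
  rw [LocalEven.CD.cj, offPart, MonoidHom.map_closure, Subgroup.closure_le]
  rintro _ ⟨y, hy, rfl⟩
  obtain ⟨U, ⟨hU, hUN⟩, hyU⟩ := Set.mem_iUnion₂.1 hy
  refine gset_le_offPart (hU.conj g) ?_ (gset_conj hyU)
  rintro z ⟨a, ha, hz⟩
  obtain ⟨w, hw⟩ := hU.lift a ha
  have hwU : w ∈ gset ρ U := show ρ w - 1 ∈ U by rw [hw, add_sub_cancel_left]; exact ha
  have hz' : g⁻¹ * z * g ∈ gset ρ U := by
    show ρ (g⁻¹ * z * g) - 1 ∈ U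
    have h1 := rho_conj ρ g⁻¹ z
    rw [inv_inv] at h1
    rw [h1, ← hz, rconj_rconj, inv_mul_cancel, rconj_one]
    exact ha
  have := (Subgroup.mem_normalizer_iff.1 hg _).1 (hUN hz')
  simpa [mul_assoc] using this

theorem exists_normalized (hp : 5 ≤ p) (hρ : Function.Injective ρ) [Group.IsNilpotent Γ] :
    ∀ X : Subgroup Γ, OffGen ρ X → X ≠ ⊥ →
      ∃ L, Good ρ L ∧ gset ρ L ⊆ X ∧ X ≤ normSub ρ L := by
  intro X
  induction X using WellFoundedLT.induction with
  | _ X ih =>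
  intro hX hne
  obtain ⟨Y, hYmax⟩ := Set.Finite.exists_maximal
    (Set.toFinite {Y : Subgroup Γ | OffGen ρ Y ∧ Y ≤ X ∧ Y ≠ X})
    ⟨offPart ρ ⊥, offGen_offPart _, (offPart_le _).trans bot_le,
      fun h => hne (le_bot_iff.1 (h ▸ offPart_le _))⟩
  obtain ⟨⟨hYgen, hYX, hYne⟩, hmax⟩ := hYmax
  obtain ⟨N, hYN, hNX, hNne, hNn⟩ := LocalEven.CD.exists_normal_above hYX hYne
  have hYeq : offPart ρ N = Y := by
    have hge : Y ≤ offPart ρ N := by
      have h1 : offPart ρ Y ≤ offPart ρ N := offPart_mono hYN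
      rwa [show offPart ρ Y = Y from hYgen] at h1
    exact le_antisymm (hmax ⟨offGen_offPart _, (offPart_le _).trans hNX,
      fun h => hNne (le_antisymm hNX (h.symm.le.trans (offPart_le _)))⟩ hge) hge
  have hYn : X ≤ Subgroup.normalizer (Y : Set Γ) := hYeq ▸ hNn.trans (normalizer_le_offPart N)
  obtain ⟨U, hU, hUX, hUY⟩ : ∃ U, Good ρ U ∧ gset ρ U ⊆ X ∧ ¬ gset ρ U ⊆ Y := by
    by_contra h
    push Not at h
    refine hYne (le_antisymm hYX ?_)
    conv_lhs => rw [← (hX : Subgroup.closure _ = X)]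
    exact (Subgroup.closure_le _).2 (Set.iUnion₂_subset fun U hU => h U hU.1 hU.2)
  have hXeq : Y ⊔ Subgroup.closure (gset ρ U) = X := by
    by_contra h
    refine hUY fun g hg => hmax ⟨?_, sup_le hYX ((Subgroup.closure_le _).2 hUX), h⟩ le_sup_left
      ((le_sup_right (a := Y)) (Subgroup.subset_closure hg))
    refine le_antisymm (offPart_le _) (sup_le ?_ ((Subgroup.closure_le _).2 ?_))
    · conv_lhs => rw [← (show offPart ρ Y = Y from hYgen)]
      exact offPart_mono le_sup_left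
    · exact gset_le_offPart hU fun g hg =>
        le_sup_right (a := Y) (Subgroup.subset_closure hg)
  by_cases hY : Y = ⊥
  · refine ⟨U, hU, hUX, ?_⟩
    conv_lhs => rw [← hXeq, hY, bot_sup_eq]
    exact (Subgroup.closure_le _).2 hU.gset_le_normSub
  suffices ∀ s : Set Γ, s.Finite → s ⊆ gset ρ U →
      ∃ L, Good ρ L ∧ gset ρ L ⊆ ↑(Y ⊔ Subgroup.closure s) ∧ Y ⊔ Subgroup.closure s ≤ normSub ρ L by
    rw [← hXeq]
    exact this _ (Set.toFinite _) subset_rfl
  intro s hs
  induction s, hs using Set.Finite.induction_on with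
  | empty =>
    intro _
    rw [Subgroup.closure_empty, sup_bot_eq]
    exact ih Y (lt_of_le_of_ne hYX hYne) hYgen hY
  | @insert a s _ _ ihs =>
    intro hins
    obtain ⟨ha, hsU⟩ := Set.insert_subset_iff.1 hins
    obtain ⟨L, hL, hLsub, hLn⟩ := ihs hsU
    have hn : a ∈ Subgroup.normalizer ((Y ⊔ Subgroup.closure s : Subgroup Γ) : Set Γ) := by
      have h1 : Subgroup.zpowers a ≤ Subgroup.normalizer (Subgroup.closure s : Set Γ) := by
        refine le_trans ?_ (Subgroup.centralizer_le_normalizer _)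
        rw [Subgroup.zpowers_le, Subgroup.centralizer_closure, Subgroup.mem_centralizer_iff]
        intro b hb
        apply hρ
        have hb' := hsU hb
        have e : ∀ a b : Γ, ρ (a * b) = 1 + (ρ a - 1) + (ρ b - 1) + (ρ a - 1) * (ρ b - 1) := by
          intro a b; rw [map_mul]; noncomm_ring
        rw [e, e, hU.sq _ hb' _ ha, hU.sq _ ha _ hb']
        abel
      have h2 : Subgroup.zpowers a ≤ Subgroup.normalizer (Y : Set Γ) :=
        Subgroup.zpowers_le.2 (hYn (hUX ha))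
      refine LocalEven.CD.le_normalizer_of_cj_le (fun g hg => ?_) (Subgroup.mem_zpowers a)
      rw [LocalEven.CD.cj, Subgroup.map_sup]
      exact sup_le_sup (LocalEven.CD.cj_eq_of_mem_normalizer (h2 hg)).le
        (LocalEven.CD.cj_eq_of_mem_normalizer (h1 hg)).le
    obtain ⟨L', hL', hL's, hL'n⟩ := step hp hρ (x := ρ a - 1) (by abel) (hU.sq _ ha _ ha) hn hL
      hLsub hLn
    have e : Y ⊔ Subgroup.closure (insert a s) = Y ⊔ Subgroup.closure s ⊔ Subgroup.zpowers a := by
      rw [Set.insert_eq, Subgroup.closure_union, ← Subgroup.zpowers_eq_closure, sup_assoc,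
        sup_comm (Subgroup.zpowers a)]
    rw [e]
    exact ⟨L', hL', hL's.trans (SetLike.coe_subset_coe.2 le_sup_left), hL'n⟩

end ZModP

section Concrete

open Cfsg
open scoped commutatorElement IsMulCommutative

variable {Ω : Type*} [Group Ω] {p : ℕ}

/-- Conjugation of `G` on the abelian subgroup `V`. -/
def normRep [Fact p.Prime] {V G : Subgroup Ω} [IsMulCommutative V] [Module (ZMod p) (Additive V)]
    (hGV : G ≤ Subgroup.normalizer (V : Set Ω)) : ↥G →* Module.End (ZMod p) (Additive V) where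
  toFun g := AddMonoidHom.toZModLinearMap p (MonoidHom.toAdditive
    ((Subgroup.normalizerMonoidHom V) (Subgroup.inclusion hGV g) : V ≃* V).toMonoidHom)
  map_one' := by
    apply LinearMap.ext; intro v
    apply Additive.toMul.injective
    apply Subtype.ext
    change (((Subgroup.normalizerMonoidHom V) (Subgroup.inclusion hGV 1) : V ≃* V)
      (Additive.toMul v) : Ω) = ((Additive.toMul v : V) : Ω)
    simp
  map_mul' g h := by
    apply LinearMap.ext; intro v
    apply Additive.toMul.injective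
    apply Subtype.ext
    change (((Subgroup.normalizerMonoidHom V) (Subgroup.inclusion hGV (g * h)) : V ≃* V)
      (Additive.toMul v) : Ω) =
      (((Subgroup.normalizerMonoidHom V) (Subgroup.inclusion hGV g) : V ≃* V)
        (((Subgroup.normalizerMonoidHom V) (Subgroup.inclusion hGV h) : V ≃* V)
          (Additive.toMul v)) : Ω)
    simp [mul_assoc]

theorem exists_two_subnormal [Finite Ω] [Fact p.Prime] (hp : 5 ≤ p) (V G : Subgroup Ω)
    (hV : IsElementaryAbelian p V) (hG : IsPGroup p ↥G)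
    (hGV : G ≤ Subgroup.normalizer (V : Set Ω))
    (hfaith : G ⊓ Subgroup.centralizer (V : Set Ω) = ⊥)
    (hF : ∃ E : Subgroup Ω, E ≤ G ∧ E ≠ ⊥ ∧ IsElementaryAbelian p E ∧
      Nat.card ↥V ≤ Nat.card ↥E * Nat.card ↥(V ⊓ Subgroup.centralizer (E : Set Ω))) :
    ∃ A : Subgroup Ω, A ≤ G ∧ A ≠ ⊥ ∧ IsElementaryAbelian p A ∧
      Nat.card ↥V ≤ Nat.card ↥A * Nat.card ↥(V ⊓ Subgroup.centralizer (A : Set Ω)) ∧
      ⁅⁅V, A⁆, A⁆ = ⊥ ∧
      ∀ g ∈ Subgroup.closure {x : Ω | ∃ h ∈ G, ∃ a ∈ A, x = h * a * h⁻¹},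
        ∀ a ∈ A, g * a * g⁻¹ ∈ A := by
  classical
  have := hV.1
  have hexp : ∀ v : Additive V, p • v = 0 := fun v => by
    apply Additive.toMul.injective
    exact Subtype.ext (hV.2 _ (Additive.toMul v).2)
  obtain ⟨inst⟩ : Nonempty (Module (ZMod p) (Additive V)) := ⟨AddCommGroup.zmodModule hexp⟩
  let ρ := normRep (p := p) hGV
  have hap : ∀ (g : ↥G) (v : Additive V),
      ((Additive.toMul (ρ g v) : V) : Ω) = (g : Ω) * (Additive.toMul v : V) * (g : Ω)⁻¹ :=
    fun g v => rfl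
  have hext : ∀ v w : Additive V,
      ((Additive.toMul v : V) : Ω) = ((Additive.toMul w : V) : Ω) → v = w :=
    fun v w h => Additive.toMul.injective (Subtype.ext h)
  have hsub : ∀ (g : ↥G) (v : Additive V),
      ((Additive.toMul ((ρ g - 1) v) : V) : Ω) = ⁅(g : Ω), ((Additive.toMul v : V) : Ω)⁆ := by
    intro g v
    rw [LinearMap.sub_apply, toMul_sub, Subgroup.coe_div, hap, commutatorElement_def,
      Module.End.one_apply, div_eq_mul_inv]
  have hρ : Function.Injective ρ := by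
    refine (injective_iff_map_eq_one ρ).2 fun g hg => ?_
    have : (g : Ω) ∈ G ⊓ Subgroup.centralizer (V : Set Ω) := by
      refine ⟨g.2, Subgroup.mem_centralizer_iff.2 fun v hv => ?_⟩
      have := hap g (Additive.ofMul ⟨v, hv⟩)
      rw [hg] at this
      exact (eq_mul_inv_iff_mul_eq.1 this)
    rw [hfaith, Subgroup.mem_bot] at this
    exact Subtype.ext this
  have hkill : ∀ (A : Subgroup Ω) (hA : A ≤ G) (U : Submodule (ZMod p) (Module.End (ZMod p) (Additive V))),
      (∀ a, ∀ ha : a ∈ A, ρ ⟨a, hA ha⟩ - 1 ∈ U) →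
      (∀ u ∈ U, ∃ a, ∃ ha : a ∈ A, u = ρ ⟨a, hA ha⟩ - 1) →
      Nat.card (kill U) = Nat.card ↥(V ⊓ Subgroup.centralizer (A : Set Ω)) := by
    intro A hA U h1 h2
    refine Nat.card_congr
      { toFun := fun w => ⟨((Additive.toMul w.1 : V) : Ω), (Additive.toMul w.1 : V).2,
          Subgroup.mem_centralizer_iff.2 fun a ha => ?_⟩
        invFun := fun v => ⟨Additive.ofMul ⟨v.1, v.2.1⟩, fun u hu => ?_⟩
        left_inv := fun w => rfl
        right_inv := fun v => rfl }
    · have := hsub ⟨a, hA ha⟩ w.1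
      rw [w.2 _ (h1 a ha)] at this
      exact commutatorElement_eq_one_iff_mul_comm.1 this.symm
    · obtain ⟨a, ha, rfl⟩ := h2 u hu
      refine hext _ _ ?_
      rw [hsub]
      exact commutatorElement_eq_one_iff_mul_comm.2 (Subgroup.mem_centralizer_iff.1 v.2.2 a ha)
  -- a quadratic offender to start with
  obtain ⟨E, hEG, hE1, hEel, hEm⟩ := hF
  obtain ⟨B, ⟨hBE, hB1⟩, hBmax⟩ := Set.Finite.exists_maximalFor (PLocal.offMeasure V)
    {B | B ≤ E ∧ B ≠ ⊥} (Set.toFinite _) ⟨E, le_rfl, hE1⟩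
  have hBm : Nat.card V ≤ PLocal.offMeasure V B := by
    rcases le_total (PLocal.offMeasure V B) (PLocal.offMeasure V E) with h | h
    · exact hEm.trans (hBmax ⟨le_rfl, hE1⟩ h)
    · exact hEm.trans h
  have hmax : ∀ X, X ≤ B → PLocal.offMeasure V X ≤ PLocal.offMeasure V B := by
    intro X hX
    by_cases hX1 : X = ⊥
    · refine le_trans ?_ hBm
      rw [hX1, PLocal.offMeasure, Subgroup.card_bot, one_mul]
      exact Nat.card_mono (Set.toFinite _) (SetLike.coe_subset_coe.2 inf_le_left)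
    · rcases le_total (PLocal.offMeasure V X) (PLocal.offMeasure V B) with h | h
      · exact h
      · exact hBmax ⟨hX.trans hBE, hX1⟩ h
  have hBG := hBE.trans hEG
  have hBab : ⁅B, B⁆ ≤ Subgroup.centralizer (V : Set Ω) := by
    refine Subgroup.commutator_le.2 fun a ha b hb => ?_
    rw [commutatorElement_eq_one_iff_mul_comm.2]
    · exact one_mem _
    · exact Subgroup.le_centralizer_iff_isMulCommutative.2 hEel.1 (hBE hb) a (hBE ha)
  obtain ⟨hm0, -⟩ := PLocal.replacement hV.1 (hBG.trans hGV) hBab hmax (le_refl V)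
  set A0 := B ⊓ Subgroup.centralizer ((⁅V, B⁆ : Subgroup Ω) : Set Ω) with hA0
  have hA0G : A0 ≤ G := inf_le_left.trans hBG
  have hA01 : A0 ≠ ⊥ := by
    intro h
    have hne : ⁅V, B⁆ ≠ ⊥ := by
      rw [Ne, Subgroup.commutator_eq_bot_iff_le_centralizer]
      intro h'
      exact hB1 (eq_bot_iff.2 (hfaith ▸ le_inf hBG (Subgroup.le_centralizer_iff.1 h')))
    refine PLocal.replacement_nontrivial (p := p) hV.1 (fun v => ⟨1, Subtype.ext (by rw [pow_one]; exact hV.2 _ v.2)⟩) (hBG.trans hGV) hBab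
      (fun a ha => ⟨1, by rw [pow_one, hEel.2 a (hBE ha)]; exact one_mem _⟩) hmax (le_refl V) hne ?_
    rw [← hA0, h, Subgroup.commutator_bot_right]
  have hq : ∀ a b : ↥G, (a : Ω) ∈ A0 → (b : Ω) ∈ A0 → (ρ a - 1) * (ρ b - 1) = 0 := by
    intro a b ha hb
    refine LinearMap.ext fun v => hext _ _ ?_
    rw [Module.End.mul_apply, hsub, hsub]
    refine commutatorElement_eq_one_iff_mul_comm.2 ?_
    refine (Subgroup.mem_centralizer_iff.1 (ha.2 : (a : Ω) ∈ _) _ ?_).symm
    rw [Subgroup.commutator_comm]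
    exact Subgroup.commutator_mem_commutator hb.1 (Additive.toMul v : V).2
  let U0 : Submodule (ZMod p) (Module.End (ZMod p) (Additive V)) :=
    AddSubgroup.toZModSubmodule p
    { carrier := {u | ∃ a : ↥G, (a : Ω) ∈ A0 ∧ u = ρ a - 1}
      zero_mem' := ⟨1, one_mem _, by rw [map_one, sub_self]⟩
      add_mem' := by
        rintro _ _ ⟨a, ha, rfl⟩ ⟨b, hb, rfl⟩
        refine ⟨a * b, mul_mem ha hb, ?_⟩
        have e : ρ (a * b) - 1 = (ρ a - 1) + (ρ b - 1) + (ρ a - 1) * (ρ b - 1) := by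
          rw [map_mul, sub_mul, mul_sub, mul_sub, one_mul, mul_one, one_mul]; abel
        rw [e, hq a b ha hb, add_zero]
      neg_mem' := by
        rintro _ ⟨a, ha, rfl⟩
        refine ⟨a⁻¹, inv_mem ha, ?_⟩
        rw [inv_of ρ (g := a) (a := ρ a - 1) (by abel) (hq a a ha ha), sub_sub_cancel_left] }
  have hU0 : ∀ u, u ∈ U0 ↔ ∃ a : ↥G, (a : Ω) ∈ A0 ∧ u = ρ a - 1 := fun u => Iff.rfl
  have hgood : Good ρ U0 := by
    refine ⟨?_, ?_, ?_, ?_⟩
    · intro u hu w hw
      obtain ⟨a, ha, rfl⟩ := (hU0 _).1 hu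
      obtain ⟨b, hb, rfl⟩ := (hU0 _).1 hw
      exact hq a b ha hb
    · intro a ha
      obtain ⟨a, -, rfl⟩ := (hU0 _).1 ha
      exact ⟨a, by abel⟩
    · obtain ⟨a, ha, ha1⟩ := (Subgroup.ne_bot_iff_exists_ne_one.1 hA01 |>.elim fun a h =>
        ⟨a.1, a.2, fun e => h (Subtype.ext e)⟩ : ∃ a, a ∈ A0 ∧ a ≠ 1)
      intro h
      have : ρ (⟨a, hA0G ha⟩ : ↥G) - 1 ∈ U0 := (hU0 _).2 ⟨_, ha, rfl⟩
      rw [h, Submodule.mem_bot, sub_eq_zero] at this
      exact ha1 (congrArg Subtype.val (hρ (this.trans (map_one ρ).symm)))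
    · have hc : Nat.card U0 = Nat.card A0 := by
        refine (Nat.card_eq_of_bijective (fun a : A0 => (⟨ρ (⟨a.1, hA0G a.2⟩ : ↥G) - 1,
          (hU0 _).2 ⟨_, a.2, rfl⟩⟩ : U0)) ⟨fun a b h => ?_, fun u => ?_⟩).symm
        · exact Subtype.ext (congrArg (fun g : ↥G => (g : Ω)) (hρ (sub_left_injective
            (congrArg Subtype.val h))))
        · obtain ⟨a, ha, hu⟩ := (hU0 _).1 u.2
          exact ⟨⟨a.1, ha⟩, Subtype.ext hu.symm⟩
      rw [hc, hkill A0 hA0G U0 (fun a ha => (hU0 _).2 ⟨_, ha, rfl⟩) (fun u hu => by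
        obtain ⟨a, ha, rfl⟩ := (hU0 _).1 hu
        exact ⟨a.1, ha, rfl⟩), Nat.card_congr (Additive.toMul (α := V))]
      exact hBm.trans hm0.ge
  -- the normalized one
  have : Group.IsNilpotent ↥G := hG.isNilpotent
  set X := offPart ρ (⊤ : Subgroup ↥G) with hX
  have hXne : X ≠ ⊥ := by
    intro h
    refine hgood.ne ((Submodule.eq_bot_iff _).2 fun a ha => ?_)
    obtain ⟨g, hg⟩ := hgood.lift a ha
    have h1 : g ∈ X := gset_le_offPart hgood (Set.subset_univ _)
      (show ρ g - 1 ∈ U0 by rw [hg, add_sub_cancel_left]; exact ha)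
    rw [h, Subgroup.mem_bot] at h1
    rw [h1, map_one] at hg
    exact left_eq_add.1 hg
  obtain ⟨L, hL, hLX, hXL⟩ := exists_normalized hp hρ X (offGen_offPart _) hXne
  refine ⟨(gsub ρ hL.sq).map G.subtype, Subgroup.map_subtype_le _, ?_, ⟨?_, ?_⟩, ?_, ?_, ?_⟩
  · intro h
    refine hL.ne ((Submodule.eq_bot_iff _).2 fun a ha => ?_)
    obtain ⟨g, hg⟩ := hL.lift a ha
    have h1 : (g : Ω) ∈ (gsub ρ hL.sq).map G.subtype :=
      ⟨g, show ρ g - 1 ∈ L by rw [hg, add_sub_cancel_left]; exact ha, rfl⟩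
    rw [h, Subgroup.mem_bot, OneMemClass.coe_eq_one] at h1
    rw [h1, map_one] at hg
    exact left_eq_add.1 hg
  · refine ⟨⟨?_⟩⟩
    rintro ⟨_, a, ha, rfl⟩ ⟨_, b, hb, rfl⟩
    refine Subtype.ext ?_
    show (G.subtype a) * G.subtype b = G.subtype b * G.subtype a
    rw [← map_mul, ← map_mul]
    refine congrArg _ (hρ ?_)
    have e : ∀ a b : ↥G, ρ (a * b) = 1 + (ρ a - 1) + (ρ b - 1) + (ρ a - 1) * (ρ b - 1) := by
      intro a b; rw [map_mul, sub_mul, mul_sub, mul_sub, one_mul, mul_one, one_mul]; abel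
    rw [e a b, e b a, hL.sq _ ha _ hb, hL.sq _ hb _ ha]
    abel
  · rintro _ ⟨a, ha, rfl⟩
    rw [← map_pow, show a ^ p = 1 from ?_, map_one]
    apply hρ
    rw [pow_of (a := ρ a - 1) (by abel) (hL.sq _ ha _ ha), map_one, ← Nat.cast_smul_eq_nsmul (ZMod p),
      ZMod.natCast_self, zero_smul, add_zero]
  · have hc : Nat.card ↥((gsub ρ hL.sq).map G.subtype) = Nat.card L := by
      rw [Subgroup.card_map_of_injective G.subtype_injective]
      refine Nat.card_eq_of_bijective (fun a : gsub ρ hL.sq => (⟨ρ a.1 - 1, a.2⟩ : L))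
        ⟨fun a b h => Subtype.ext (hρ (sub_left_injective (congrArg Subtype.val h))), fun u => ?_⟩
      obtain ⟨g, hg⟩ := hL.lift u u.2
      exact ⟨⟨g, show ρ g - 1 ∈ L by rw [hg, add_sub_cancel_left]; exact u.2⟩,
        Subtype.ext (sub_eq_iff_eq_add'.2 hg)⟩
    rw [hc, ← hkill _ (Subgroup.map_subtype_le _) L (by
        rintro _ ⟨a, ha, rfl⟩
        exact ha) (fun u hu => by
        obtain ⟨g, hg⟩ := hL.lift u hu
        exact ⟨g, ⟨g, show ρ g - 1 ∈ L by rw [hg, add_sub_cancel_left]; exact hu, rfl⟩,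
          (sub_eq_iff_eq_add'.2 hg).symm⟩), ← Nat.card_congr (Additive.toMul (α := V))]
    exact hL.measure
  · rw [Subgroup.commutator_eq_bot_iff_le_centralizer, Subgroup.commutator_comm, Subgroup.commutator_le]
    rintro _ ⟨b, hb, rfl⟩ v hv
    refine Subgroup.mem_centralizer_iff.2 ?_
    rintro _ ⟨a, ha, rfl⟩
    refine commutatorElement_eq_one_iff_mul_comm.1 ?_
    have h1 := hsub b (Additive.ofMul ⟨v, hv⟩)
    have h2 := hsub a ((ρ b - 1) (Additive.ofMul ⟨v, hv⟩))
    rw [h1, ← Module.End.mul_apply, hL.sq _ ha _ hb] at h2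
    exact h2.symm
  · intro g hg
    have hle : Subgroup.closure {x : Ω | ∃ h ∈ G, ∃ a ∈ (gsub ρ hL.sq).map G.subtype,
        x = h * a * h⁻¹} ≤ X.map G.subtype := by
      rw [Subgroup.closure_le]
      rintro _ ⟨h, hh, _, ⟨a, ha, rfl⟩, rfl⟩
      exact ⟨(⟨h, hh⟩ : ↥G) * a * (⟨h, hh⟩ : ↥G)⁻¹,
        gset_le_offPart (hL.conj _) (Set.subset_univ _) (gset_conj ha), rfl⟩
    obtain ⟨y, hy, rfl⟩ := hle hg
    rintro _ ⟨a, ha, rfl⟩
    refine ⟨y * a * y⁻¹, ?_, rfl⟩
    show ρ (y * a * y⁻¹) - 1 ∈ L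
    rw [rho_conj]
    exact hXL hy _ ha

end Concrete

end CfsgLib.FgsC.TwoSubOff
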