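import Mathlib

/-!
An automorphism of odd order of a doubly transitive group which carries a point stabiliser to a
subgroup with an orbit of length coprime to the degree preserves the class of point stabilisers.

For blocks `C₁ = G/αH` and `C₂ = G/α²H`: coprime orbit lengths make a point stabiliser transitive
on the members of `C₂` missing some block through the point, so some member of `C₂` has the same
blocks as the point, and has the same stabiliser.
-/

set_option autoImplicit false
set_option linter.style.haveILetI false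
set_option linter.unusedSectionVars false

namespace CfsgLib.FgsC.TwoTransAut

open MulAction

variable {G : Type*} [Group G] [Finite G]

/-- At most two orbits on pairs separate two invariant classes. -/
theorem same_orbit {P : Type*} [MulAction G P] [Finite P] (Q : P → Prop)
    (hQ : ∀ (g : G) p, Q (g • p) ↔ Q p) (h2 : Nat.card (orbitRel.Quotient G P) ≤ 2)
    (hyes : ∃ p, Q p) (hno : ∃ p, ¬ Q p) {p q : P} (hpq : Q p ↔ Q q) : ∃ g : G, g • p = q := by
  by_contra hne
  have hd : ∀ a b : P, (Quotient.mk'' a : orbitRel.Quotient G P) = Quotient.mk'' b →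
      ∃ g : G, g • b = a := fun a b h => Quotient.eq''.1 h
  obtain ⟨r, hr⟩ : ∃ r, ¬ (Q r ↔ Q p) := by
    obtain ⟨a, ha⟩ := hyes
    obtain ⟨b, hb⟩ := hno
    by_cases hp : Q p
    · exact ⟨b, fun h => hb (h.2 hp)⟩
    · exact ⟨a, fun h => hp (h.1 ha)⟩
  have hsep : ∀ a : P, (Q a ↔ Q p) →
      (Quotient.mk'' a : orbitRel.Quotient G P) ≠ Quotient.mk'' r := fun a ha h => by
    obtain ⟨g, hg⟩ := hd _ _ h
    rw [← hg, hQ] at ha
    exact hr ha
  let f : Fin 3 → orbitRel.Quotient G P :=
    ![Quotient.mk'' p, Quotient.mk'' q, Quotient.mk'' r]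
  have hinj : Function.Injective f := by
    intro i j h
    fin_cases i <;> fin_cases j <;> simp [f] at h ⊢
    all_goals first
      | exact hne (hd _ _ h.symm)
      | exact hne (hd _ _ h)
      | exact hsep _ Iff.rfl h
      | exact hsep _ Iff.rfl h.symm
      | exact hsep _ hpq.symm h
      | exact hsep _ hpq.symm h.symm
  have := Nat.card_le_card_of_injective f hinj
  rw [Nat.card_fin] at this
  omega

/-- A group acts transitively on a pair of orbits of coprime lengths. -/
theorem coprime_orbits {A : Type*} {B : Type*} [MulAction G A] [MulAction G B] [Finite A] [Finite B]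
    (a : A) (b : B) (h : (orbit G a).ncard.Coprime (orbit G b).ncard) {a' : A} {b' : B}
    (ha : a' ∈ orbit G a) (hb : b' ∈ orbit G b) : ∃ g : G, g • a = a' ∧ g • b = b' := by
  have hst : stabilizer G (a, b) = stabilizer G a ⊓ stabilizer G b := by
    ext g
    simp [Prod.ext_iff]
  have hsub : orbit G (a, b) ⊆ (orbit G a) ×ˢ (orbit G b) := by
    rintro _ ⟨g, rfl⟩
    exact ⟨⟨g, rfl⟩, ⟨g, rfl⟩⟩
  have heq : orbit G (a, b) = (orbit G a) ×ˢ (orbit G b) := by
    refine Set.eq_of_subset_of_ncard_le hsub ?_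
    rw [Set.ncard_prod, ← index_stabilizer G (a, b), hst]
    refine Nat.le_of_dvd (Nat.pos_of_ne_zero Subgroup.index_ne_zero_of_finite) ?_
    refine h.mul_dvd_of_dvd_of_dvd ?_ ?_
    · rw [← index_stabilizer]; exact Subgroup.index_dvd_of_le inf_le_left
    · rw [← index_stabilizer]; exact Subgroup.index_dvd_of_le inf_le_right
  obtain ⟨g, hg⟩ : (a', b') ∈ orbit G (a, b) := by rw [heq]; exact ⟨ha, hb⟩
  exact ⟨g, congrArg Prod.fst hg, congrArg Prod.snd hg⟩

variable {X : Type*} [Fintype X] [MulAction G X]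

theorem card_orbits_pairs_le_two (h2 : IsMultiplyPretransitive G X 2) :
    Nat.card (orbitRel.Quotient G (X × X)) ≤ 2 := by
  classical
  have htp : ∀ {a b c d : X}, a ≠ b → c ≠ d → ∃ g : G, g • a = c ∧ g • b = d :=
    fun {a b c d} => is_two_pretransitive_iff.1 h2
  haveI := h2
  haveI : IsPretransitive G X := isPretransitive_of_is_two_pretransitive
  let D : orbitRel.Quotient G (X × X) → Bool :=
    Quotient.lift (fun p => decide (p.1 = p.2)) (by
      rintro p q ⟨g, rfl⟩
      simp)
  refine le_of_le_of_eq (Nat.card_le_card_of_injective D ?_) (by simp)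
  intro a b h
  induction a using Quotient.inductionOn with | _ p => ?_
  induction b using Quotient.inductionOn with | _ q => ?_
  refine Quotient.sound ?_
  simp only [D, Quotient.lift_mk, decide_eq_decide] at h
  obtain ⟨p1, p2⟩ := p
  obtain ⟨q1, q2⟩ := q
  by_cases hp : p1 = p2
  · obtain ⟨g, hg⟩ := exists_smul_eq G q1 p1
    dsimp only at h
    exact ⟨g, Prod.ext hg (show g • q2 = p2 by rw [← h.1 hp, hg]; exact hp)⟩
  · obtain ⟨g, hg1, hg2⟩ := htp (fun e => hp (h.2 e)) hp
    exact ⟨g, Prod.ext hg1 hg2⟩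

/-- A twisted copy of the action has at most two orbits of pairs with the original. -/
theorem card_orbits_twist_le_two (h2 : IsMultiplyPretransitive G X 2) (α : MulAut G) {Y : Type*}
    [MulAction G Y] [Finite Y] (θ : X ≃ Y) (hθ : ∀ (g : G) x, θ (g • x) = α g • θ x) :
    Nat.card (orbitRel.Quotient G (X × Y)) ≤ 2 := by
  classical
  haveI : Fintype G := Fintype.ofFinite G
  haveI : Fintype Y := Fintype.ofFinite Y
  haveI : Fintype (orbitRel.Quotient G (X × X)) := Fintype.ofFinite _
  haveI : Fintype (orbitRel.Quotient G (X × Y)) := Fintype.ofFinite _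
  set F : G → ℕ := fun g => Fintype.card (fixedBy X g)
  have hY : ∀ g, Fintype.card (fixedBy Y (α g)) = F g := fun g =>
    (Fintype.card_congr (θ.subtypeEquiv fun x => by
      simp only [mem_fixedBy]; rw [← hθ]; exact θ.injective.eq_iff.symm)).symm
  have hprod : ∀ (A : Type _) (B : Type _) [MulAction G A] [MulAction G B] [Fintype A] [Fintype B]
      (g : G), Fintype.card (fixedBy (A × B) g) =
        Fintype.card (fixedBy A g) * Fintype.card (fixedBy B g) := by
    intro A B _ _ _ _ g
    rw [← Fintype.card_prod]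
    exact Fintype.card_congr
      { toFun := fun p => (⟨p.1.1, congrArg Prod.fst p.2⟩, ⟨p.1.2, congrArg Prod.snd p.2⟩)
        invFun := fun p => ⟨(p.1, p.2), Prod.ext p.1.2 p.2.2⟩
        left_inv := fun p => rfl
        right_inv := fun p => rfl }
  have hXX := sum_card_fixedBy_eq_card_orbits_mul_card_group G (X × X)
  have hXY := sum_card_fixedBy_eq_card_orbits_mul_card_group G (X × Y)
  rw [Finset.sum_congr rfl (fun g _ => hprod X X g)] at hXX
  have hXY' : ∑ g, Fintype.card (fixedBy X (α g)) * F g =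
      Fintype.card (orbitRel.Quotient G (X × Y)) * Fintype.card G := by
    rw [← hXY]
    refine Eq.trans (Finset.sum_congr rfl fun g _ => ?_) (Equiv.sum_comp α.toEquiv _)
    rw [← hY g]
    rw [← Fintype.card_prod]
    exact Fintype.card_congr
      { toFun := fun p => ⟨(p.1, p.2), Prod.ext p.1.2 p.2.2⟩
        invFun := fun p => (⟨p.1.1, congrArg Prod.fst p.2⟩, ⟨p.1.2, congrArg Prod.snd p.2⟩)
        left_inv := fun p => rfl
        right_inv := fun p => rfl }
  have hle : 2 * (∑ g, Fintype.card (fixedBy X (α g)) * F g) ≤ 2 * ∑ g, F g * F g := by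
    have h1 : ∀ g, 2 * (Fintype.card (fixedBy X (α g)) * F g) ≤
        F (α g) * F (α g) + F g * F g := fun g => by
      have := two_mul_le_add_sq (F (α g)) (F g)
      rw [sq, sq] at this
      rw [← mul_assoc]
      exact this
    calc 2 * _ = ∑ g, 2 * (Fintype.card (fixedBy X (α g)) * F g) := Finset.mul_sum _ _ _
      _ ≤ ∑ g, (F (α g) * F (α g) + F g * F g) := Finset.sum_le_sum fun g _ => h1 g
      _ = 2 * ∑ g, F g * F g := by
        rw [Finset.sum_add_distrib, two_mul]
        congr 1
        exact Equiv.sum_comp α.toEquiv fun g => F g * F g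
  rw [hXY', show ∑ g, F g * F g = _ from hXX] at hle
  have h4 : Fintype.card (orbitRel.Quotient G (X × Y)) ≤
      Fintype.card (orbitRel.Quotient G (X × X)) := by
    have hG : 0 < Fintype.card G := Fintype.card_pos
    nlinarith
  rw [Nat.card_eq_fintype_card]
  have := card_orbits_pairs_le_two (G := G) h2
  rw [Nat.card_eq_fintype_card] at this
  omega

/-- The class of the point stabiliser is preserved. -/
def Keeps (o : X) (β : MulAut G) : Prop :=
  ∃ x : X, (stabilizer G o).map β.toMonoidHom = stabilizer G x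

variable [FaithfulSMul G X]

/-- The square of the automorphism preserves the class of point stabilisers. -/
theorem keeps_sq (h2 : IsMultiplyPretransitive G X 2) (hn : 2 ≤ Fintype.card X) (o : X)
    (α : MulAut G) (ω : X)
    (hk : (orbit ↥((stabilizer G o).map α.toMonoidHom) ω).ncard.Coprime (Fintype.card X)) :
    Keeps o (α * α) := by
  classical
  haveI := h2
  haveI : IsPretransitive G X := isPretransitive_of_is_two_pretransitive
  haveI : Nontrivial X := Fintype.one_lt_card_iff_nontrivial.1 hn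
  set H := stabilizer G o with hH
  set K := H.map α.toMonoidHom with hK
  set L := K.map α.toMonoidHom with hL
  choose t ht using fun x : X => exists_smul_eq G o x
  let θ₁f : X → G ⧸ K := fun x => QuotientGroup.mk (α (t x))
  have hmk : ∀ {a b : G}, a • o = b • o →
      (QuotientGroup.mk (α a) : G ⧸ K) = QuotientGroup.mk (α b) := fun {a b} h => by
    refine QuotientGroup.eq.2 ?_
    rw [← map_inv, ← map_mul]
    exact Subgroup.mem_map_of_mem _ (by
      rw [hH, mem_stabilizer_iff, mul_smul, ← h, inv_smul_smul])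
  have hθ₁ : ∀ (g : G) x, θ₁f (g • x) = α g • θ₁f x := fun g x => by
    show (QuotientGroup.mk (α (t (g • x))) : G ⧸ K) = QuotientGroup.mk (α g * α (t x))
    rw [← map_mul]
    exact hmk (by rw [ht, mul_smul, ht])
  have hb₁ : Function.Bijective θ₁f := by
    refine ⟨fun x y h => ?_, fun c => ?_⟩
    · have h' := QuotientGroup.eq.1 h
      rw [← map_inv, ← map_mul, hK, Subgroup.mem_map] at h'
      obtain ⟨u, hu, e⟩ := h'
      have hu' : (t x)⁻¹ * t y ∈ H := α.injective e ▸ hu
      have : ((t x)⁻¹ * t y) • o = o := hu'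
      rw [mul_smul, inv_smul_eq_iff, ht, ht] at this
      exact this.symm
    · induction c using QuotientGroup.induction_on with
      | _ g => exact ⟨α.symm g • o, (hmk (ht _)).trans (by rw [MulEquiv.apply_symm_apply])⟩
  let θ₁ : X ≃ G ⧸ K := Equiv.ofBijective _ hb₁
  let θ₂f : G ⧸ K → G ⧸ L := Quotient.map' (fun g => α g) fun a b h => by
    rw [QuotientGroup.leftRel_apply] at h ⊢
    rw [← map_inv, ← map_mul]
    exact Subgroup.mem_map_of_mem _ h
  have hθ₂ : ∀ (g : G) c, θ₂f (g • c) = α g • θ₂f c := fun g c => by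
    induction c using QuotientGroup.induction_on with
    | _ u => exact congrArg QuotientGroup.mk (map_mul α g u)
  have hb₂ : Function.Bijective θ₂f := by
    refine ⟨fun a b h => ?_, fun c => ?_⟩
    · induction a using QuotientGroup.induction_on with | _ a => ?_
      induction b using QuotientGroup.induction_on with | _ b => ?_
      have h' : (α a)⁻¹ * α b ∈ L := QuotientGroup.eq.1 h
      rw [← map_inv, ← map_mul, hL, Subgroup.mem_map] at h'
      obtain ⟨u, hu, e⟩ := h'
      exact QuotientGroup.eq.2 (α.injective e ▸ hu)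
    · induction c using QuotientGroup.induction_on with
      | _ g => exact ⟨QuotientGroup.mk (α.symm g), congrArg QuotientGroup.mk (α.apply_symm_apply g)⟩
  let θ₂ : G ⧸ K ≃ G ⧸ L := Equiv.ofBijective _ hb₂
  -- adjacency
  set R := orbit K ω with hR
  have hRK : ∀ (g : G) (x : X), g ∈ K → (g • x ∈ R ↔ x ∈ R) := fun g x hg => by
    constructor
    · rintro ⟨u, hu⟩
      exact ⟨⟨g, hg⟩⁻¹ * u, by
        show ((⟨g, hg⟩⁻¹ * u : K) : G) • ω = x
        rw [Subgroup.coe_mul, mul_smul, show ((u : G) • ω) = g • x from hu]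
        simp⟩
    · rintro ⟨u, rfl⟩
      exact ⟨⟨g, hg⟩ * u, mul_smul g (u : G) ω⟩
  let R₁ : X → G ⧸ K → Prop := fun x c => Quotient.liftOn' c (fun g => g⁻¹ • x ∈ R) (fun a b h => by
    rw [QuotientGroup.leftRel_apply] at h
    refine propext ?_
    rw [← hRK _ (b⁻¹ • x) h, ← mul_smul, mul_assoc, mul_inv_cancel, mul_one])
  have hR₁ : ∀ (g : G) x c, R₁ (g • x) (g • c) ↔ R₁ x c := fun g x c => by
    induction c using QuotientGroup.induction_on with
    | _ u =>
      show (g * u)⁻¹ • g • x ∈ R ↔ u⁻¹ • x ∈ R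
      rw [← mul_smul, mul_inv_rev, inv_mul_cancel_right]
  set one : G ⧸ K := QuotientGroup.mk 1
  have hone : ∀ x, R₁ x one ↔ x ∈ R := fun x => by
    show (1 : G)⁻¹ • x ∈ R ↔ x ∈ R
    rw [inv_one, one_smul]
  set k := R.ncard with hkdef
  have hkpos : 0 < k := (Set.ncard_pos (Set.toFinite _)).2 ⟨ω, mem_orbit_self ω⟩
  have hkn : k < Fintype.card X := by
    refine lt_of_le_of_ne (Nat.card_eq_fintype_card (α := X) ▸ Set.ncard_univ X ▸
      Set.ncard_le_ncard (Set.subset_univ R)) fun e => ?_
    rw [e, Nat.coprime_self] at hk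
    omega
  obtain ⟨ξ, hξ⟩ : ∃ ξ, ξ ∉ R := by
    by_contra hall
    push Not at hall
    rw [hkdef, Set.eq_univ_of_forall hall, Set.ncard_univ, Nat.card_eq_fintype_card] at hkn
    exact lt_irrefl _ hkn
  have h2orb := card_orbits_twist_le_two h2 α θ₁ hθ₁
  have hsame : ∀ {x x' c c'}, (R₁ x c ↔ R₁ x' c') → ∃ g : G, g • x = x' ∧ g • c = c' := by
    intro x x' c c' h
    obtain ⟨g, hg⟩ := same_orbit (fun p : X × (G ⧸ K) => R₁ p.1 p.2) (fun g p => hR₁ g p.1 p.2)
      h2orb ⟨(ω, one), (hone ω).2 (mem_orbit_self ω)⟩ ⟨(ξ, one), fun h => hξ ((hone ξ).1 h)⟩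
      (p := (x, c)) (q := (x', c')) h
    exact ⟨g, congrArg Prod.fst hg, congrArg Prod.snd hg⟩
  have hcol : ∀ c, {x | R₁ x c}.ncard = k := fun c => by
    induction c using QuotientGroup.induction_on with
    | _ u =>
      rw [show {x | R₁ x (QuotientGroup.mk u)} = (u • ·) '' R from ?_,
        Set.ncard_image_of_injective _ (MulAction.injective u)]
      ext x
      exact ⟨fun h => ⟨_, h, smul_inv_smul u x⟩, by
        rintro ⟨y, hy, rfl⟩
        show u⁻¹ • u • y ∈ R
        rwa [inv_smul_smul]⟩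
  have hcardC : Nat.card (G ⧸ K) = Fintype.card X := by
    rw [← Nat.card_congr θ₁, Nat.card_eq_fintype_card]
  haveI : Fintype (G ⧸ K) := Fintype.ofFinite _
  haveI : Fintype (G ⧸ L) := Fintype.ofFinite _
  have hrow : ∀ x, {c | R₁ x c}.ncard = k := fun x => by
    have hconst : ∀ y, {c | R₁ y c}.ncard = {c | R₁ x c}.ncard := fun y => by
      obtain ⟨g, rfl⟩ := exists_smul_eq G x y
      rw [show {c | R₁ (g • x) c} = (g • ·) '' {c | R₁ x c} from ?_,
        Set.ncard_image_of_injective _ (MulAction.injective g)]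
      ext c
      constructor
      · intro h
        exact ⟨g⁻¹ • c, (hR₁ g x _).1 (by rwa [smul_inv_smul]), smul_inv_smul g c⟩
      · rintro ⟨d, hd, rfl⟩
        exact (hR₁ g x d).2 hd
    have hcnt := Finset.sum_comm (s := (Finset.univ : Finset X))
      (t := (Finset.univ : Finset (G ⧸ K))) (f := fun y c => if R₁ y c then (1 : ℕ) else 0)
    have h1 : ∀ y, ∑ c : G ⧸ K, (if R₁ y c then (1 : ℕ) else 0) = {c | R₁ y c}.ncard := fun y => by
      rw [Set.ncard_eq_toFinset_card', ← Finset.card_filter]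
      congr 1; ext; simp
    have h2' : ∀ c, ∑ y : X, (if R₁ y c then (1 : ℕ) else 0) = {y | R₁ y c}.ncard := fun c => by
      rw [Set.ncard_eq_toFinset_card', ← Finset.card_filter]
      congr 1; ext; simp
    simp only [h1, h2', hcol, hconst, Finset.sum_const, Finset.card_univ, smul_eq_mul] at hcnt
    rw [← Nat.card_eq_fintype_card (α := G ⧸ K), hcardC] at hcnt
    exact Nat.eq_of_mul_eq_mul_left (by omega) hcnt
  -- the second incidence
  let R₂ : G ⧸ K → G ⧸ L → Prop := fun c z => R₁ (θ₁.symm c) (θ₂.symm z)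
  have hθ₁' : ∀ (g : G) c, θ₁.symm (α g • c) = g • θ₁.symm c := fun g c => by
    apply θ₁.injective
    rw [Equiv.apply_symm_apply]
    show _ = θ₁f _
    rw [hθ₁]
    exact congrArg (α g • ·) (θ₁.apply_symm_apply c).symm
  have hθ₂' : ∀ (g : G) z, θ₂.symm (α g • z) = g • θ₂.symm z := fun g z => by
    apply θ₂.injective
    rw [Equiv.apply_symm_apply]
    show _ = θ₂f _
    rw [hθ₂]
    exact congrArg (α g • ·) (θ₂.apply_symm_apply z).symm
  have hR₂ : ∀ (g : G) c z, R₂ (g • c) (g • z) ↔ R₂ c z := fun g c z => by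
    obtain ⟨u, rfl⟩ := α.surjective g
    show R₁ _ _ ↔ R₁ _ _
    rw [hθ₁', hθ₂', hR₁]
  have hsame₂ : ∀ {c c' z z'}, (R₂ c z ↔ R₂ c' z') → ∃ g : G, g • c = c' ∧ g • z = z' := by
    intro c c' z z' h
    obtain ⟨g, hg1, hg2⟩ := hsame h
    refine ⟨α g, ?_, ?_⟩
    · apply θ₁.symm.injective; rw [hθ₁', hg1]
    · apply θ₂.symm.injective; rw [hθ₂', hg2]
  have hrow₂ : ∀ c, {z | R₂ c z}.ncard = k := fun c => by
    have hE : {z | R₂ c z} = θ₂ '' {d | R₁ (θ₁.symm c) d} := ?_
    · exact (congrArg Set.ncard hE).trans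
        ((Set.ncard_image_of_injective _ θ₂.injective).trans (hrow _))
    ext z
    exact ⟨fun h => ⟨_, h, θ₂.apply_symm_apply z⟩, by
      rintro ⟨d, hd, rfl⟩
      show R₁ _ _
      rwa [Equiv.symm_apply_apply]⟩
  have hcol₂ : ∀ z, {c | R₂ c z}.ncard = k := fun z => by
    have hE : {c | R₂ c z} = θ₁ '' {x | R₁ x (θ₂.symm z)} := ?_
    · exact (congrArg Set.ncard hE).trans
        ((Set.ncard_image_of_injective _ θ₁.injective).trans (hcol _))
    ext c
    exact ⟨fun h => ⟨_, h, θ₁.apply_symm_apply c⟩, by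
      rintro ⟨d, hd, rfl⟩
      show R₁ _ _
      rwa [Equiv.symm_apply_apply]⟩
  have hnon : ∀ c, ∃ z, ¬ R₂ c z := fun c => by
    by_contra hall
    push Not at hall
    have := hrow₂ c
    rw [show {z | R₂ c z} = Set.univ from Set.eq_univ_of_forall hall, Set.ncard_univ,
      ← Nat.card_congr θ₂, hcardC] at this
    omega
  obtain ⟨z₀, hz₀⟩ := hnon one
  -- transitivity of `Stab one` on blocks-points and blocks-missed
  have horbA : orbit (stabilizer G one) ω = {x | R₁ x one} := by
    ext x
    constructor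
    · rintro ⟨g, rfl⟩
      show R₁ ((g : G) • ω) one
      exact (congrArg (R₁ ((g : G) • ω)) (show (g : G) • one = one from g.2)).mp
        ((hR₁ _ _ _).2 ((hone ω).2 (mem_orbit_self ω)))
    · intro hx
      obtain ⟨g, hg1, hg2⟩ := hsame (x := ω) (x' := x) (c := one) (c' := one)
        (iff_of_true ((hone ω).2 (mem_orbit_self ω)) hx)
      exact ⟨⟨g, hg2⟩, hg1⟩
  have horbB : orbit (stabilizer G one) z₀ = {z | R₂ one z}ᶜ := by
    ext z
    constructor
    · rintro ⟨g, rfl⟩ hR'
      apply hz₀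
      exact (hR₂ (g : G) one z₀).1
        ((congrArg (fun d => R₂ d ((g : G) • z₀)) (show (g : G) • one = one from g.2)).mpr hR')
    · intro hz
      obtain ⟨g, hg1, hg2⟩ := hsame₂ (iff_of_false hz₀ hz)
      exact ⟨⟨g, hg1⟩, hg2⟩
  have hcop : (orbit (stabilizer G one) ω).ncard.Coprime
      (orbit (stabilizer G one) z₀).ncard := by
    rw [horbA, horbB, hcol, Set.ncard_compl, hrow₂, ← Nat.card_congr θ₂, hcardC]
    exact (Nat.coprime_sub_self_right hkn.le).2 hk
  -- every member of `G ⧸ L` missing a block through `ω` is in one orbit of its stabiliser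
  have htrans : ∀ c z, R₁ ω c → ¬ R₂ c z → ∃ g : G, g • ω = ω ∧ g • z₀ = z := by
    intro c z hc hz
    obtain ⟨g, hgω, hgc⟩ := hsame (x := ω) (x' := ω) (c := one) (c' := c)
      (iff_of_true ((hone ω).2 (mem_orbit_self ω)) hc)
    have hz' : g⁻¹ • z ∈ orbit (stabilizer G one) z₀ := by
      rw [horbB]
      show ¬ R₂ one (g⁻¹ • z)
      rwa [← hR₂ g, hgc, smul_inv_smul]
    obtain ⟨u, hu1, hu2⟩ := coprime_orbits ω z₀ hcop (mem_orbit_self ω) hz'
    refine ⟨g * (u : G), ?_, ?_⟩
    · rw [mul_smul, show (u : G) • ω = ω from hu1, hgω]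
    · rw [mul_smul, show (u : G) • z₀ = g⁻¹ • z from hu2, smul_inv_smul]
  obtain ⟨z₁, hz₁⟩ : ∃ z₁, ∀ c, R₁ ω c → R₂ c z₁ := by
    by_contra hall
    push Not at hall
    -- all members are conjugate under the stabiliser of `ω`; count the paths
    set T := fun z => {c | R₁ ω c ∧ R₂ c z}.ncard with hT
    have hTc : ∀ z, T z = T z₀ := fun z => by
      obtain ⟨c, hc, hcz⟩ := hall z
      obtain ⟨g, hgω, rfl⟩ := htrans c z hc hcz
      rw [hT]
      dsimp only
      rw [show {c | R₁ ω c ∧ R₂ c (g • z₀)} = (g • ·) '' {c | R₁ ω c ∧ R₂ c z₀} from ?_,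
        Set.ncard_image_of_injective _ (MulAction.injective g)]
      ext d
      constructor
      · rintro ⟨h1, h2⟩
        refine ⟨g⁻¹ • d, ⟨?_, ?_⟩, smul_inv_smul g d⟩
        · rwa [← hR₁ g, hgω, smul_inv_smul]
        · rwa [← hR₂ g, smul_inv_smul]
      · rintro ⟨e, ⟨h1, h2⟩, rfl⟩
        exact ⟨hgω ▸ (hR₁ g ω e).2 h1, (hR₂ g e z₀).2 h2⟩
    have hcnt := Finset.sum_comm (s := (Finset.univ : Finset (G ⧸ L)))
      (t := (Finset.univ : Finset (G ⧸ K))) (f := fun z c => if R₁ ω c ∧ R₂ c z then (1 : ℕ) else 0)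
    have h1 : ∀ z, ∑ c : G ⧸ K, (if R₁ ω c ∧ R₂ c z then (1 : ℕ) else 0) = T z := fun z => by
      simp only [hT]
      rw [Set.ncard_eq_toFinset_card', ← Finset.card_filter]
      congr 1; ext; simp
    have h2' : ∀ c, ∑ z : G ⧸ L, (if R₁ ω c ∧ R₂ c z then (1 : ℕ) else 0) =
        if R₁ ω c then k else 0 := fun c => by
      by_cases hc : R₁ ω c
      · rw [if_pos hc, ← hrow₂ c, Set.ncard_eq_toFinset_card', ← Finset.card_filter]
        congr 1; ext; simp [hc]
      · simp [hc]
    simp only [h1, h2', hTc, Finset.sum_const, Finset.card_univ, smul_eq_mul] at hcnt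
    rw [← Nat.card_eq_fintype_card (α := G ⧸ L), ← Nat.card_congr θ₂, hcardC,
      ← Finset.sum_filter, Finset.sum_const, smul_eq_mul] at hcnt
    have hcard : (Finset.univ.filter fun c => R₁ ω c).card = k := by
      rw [← hrow ω, Set.ncard_eq_toFinset_card']
      congr 1; ext; simp
    rw [hcard] at hcnt
    have hd : Fintype.card X ∣ k * k := Dvd.intro _ hcnt
    have h1' := Nat.eq_one_of_dvd_coprimes (hk.mul_left hk) hd dvd_rfl
    omega
  have hN : {c | R₁ ω c} = {c | R₂ c z₁} :=
    Set.eq_of_subset_of_ncard_le (fun c hc => hz₁ c hc) (by rw [hrow, hcol₂])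
  -- the stabiliser of the block set is the stabiliser of `ω`
  let S : Subgroup G :=
    { carrier := {g | ∀ c, R₁ ω (g • c) ↔ R₁ ω c}
      one_mem' := fun c => by rw [one_smul]
      mul_mem' := fun {g h} hg hh c => by rw [mul_smul, hg, hh]
      inv_mem' := fun {g} hg c => by rw [← hg (g⁻¹ • c), smul_inv_smul] }
  have hωS : stabilizer G ω ≤ S := fun g hg c => by
    conv_lhs => rw [← show g • ω = ω from hg]
    exact hR₁ g ω c
  have hzS : stabilizer G z₁ ≤ S := fun g hg c => by
    have e : ∀ d, R₁ ω d ↔ R₂ d z₁ := fun d => Set.ext_iff.1 hN d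
    rw [e, e]
    conv_lhs => rw [← show g • z₁ = z₁ from hg]
    exact hR₂ g c z₁
  have hS : S = stabilizer G ω := by
    haveI := isPreprimitive_of_is_two_pretransitive h2
    rcases ((isCoatom_stabilizer_iff_preprimitive G ω).2 inferInstance).le_iff.1 hωS with h | h
    · exfalso
      obtain ⟨c₀, hc₀⟩ : ∃ c₀, R₁ ω c₀ := ⟨one, (hone ω).2 (mem_orbit_self ω)⟩
      have hall : ∀ c, R₁ ω c := fun c => by
        obtain ⟨g, rfl⟩ := exists_smul_eq G c₀ c
        exact ((show g ∈ S from h ▸ Subgroup.mem_top g) c₀).2 hc₀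
      have := hrow ω
      rw [show {c | R₁ ω c} = Set.univ from Set.eq_univ_of_forall hall, Set.ncard_univ, hcardC]
        at this
      omega
    · exact h
  have hidx : (stabilizer G z₁).index = (stabilizer G ω).index := by
    rw [index_stabilizer_of_transitive, index_stabilizer_of_transitive, ← Nat.card_congr θ₂,
      hcardC, Nat.card_eq_fintype_card]
  have heq : stabilizer G z₁ = stabilizer G ω := by
    refine Subgroup.eq_of_le_of_card_ge (hS ▸ hzS) (le_of_eq ?_)
    have e1 := (stabilizer G z₁).card_mul_index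
    have e2 := (stabilizer G ω).card_mul_index
    rw [hidx] at e1
    exact Nat.eq_of_mul_eq_mul_right (Nat.pos_of_ne_zero Subgroup.index_ne_zero_of_finite)
      (e2.trans e1.symm)
  induction z₁ using QuotientGroup.induction_on with
  | _ g =>
    refine ⟨g⁻¹ • ω, ?_⟩
    rw [stabilizer_smul_eq_stabilizer_map_conj, ← heq]
    have hL' : (stabilizer G o).map (α * α).toMonoidHom = L := by
      rw [hL, hK, Subgroup.map_map]; rfl
    rw [hL']
    ext y
    constructor
    · intro hy
      refine ⟨g * y * g⁻¹, ?_, by simp [mul_assoc]⟩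
      show (g * y * g⁻¹) • (QuotientGroup.mk g : G ⧸ L) = _
      refine QuotientGroup.eq.2 ?_
      simpa [mul_assoc] using L.inv_mem hy
    · rintro ⟨u, hu, rfl⟩
      have := QuotientGroup.eq.1 (show (QuotientGroup.mk (u * g) : G ⧸ L) = QuotientGroup.mk g from hu)
      simpa [mul_assoc] using L.inv_mem this

theorem keeps_self (h2 : IsMultiplyPretransitive G X 2) (hn : 2 ≤ Fintype.card X) (o : X)
    (α : MulAut G) (hα : Odd (orderOf α)) (ω : X)
    (hk : (orbit ↥((stabilizer G o).map α.toMonoidHom) ω).ncard.Coprime (Fintype.card X)) :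
    Keeps o α := by
  haveI := h2
  haveI : IsPretransitive G X := isPretransitive_of_is_two_pretransitive
  obtain ⟨x₂, hx₂⟩ := keeps_sq h2 hn o α ω hk
  have hpow : ∀ j : ℕ, Keeps o ((α * α) ^ j) := by
    intro j
    induction j with
    | zero => exact ⟨o, by rw [pow_zero]; exact Subgroup.map_id _⟩
    | succ j ih =>
      obtain ⟨x, hx⟩ := ih
      obtain ⟨g, hg⟩ := exists_smul_eq G o x
      refine ⟨(α * α) g • x₂, ?_⟩
      rw [pow_succ']
      show (stabilizer G o).map (((α * α) : MulAut G).toMonoidHom.comp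
        ((α * α) ^ j : MulAut G).toMonoidHom) = _
      rw [← Subgroup.map_map, hx, ← hg, stabilizer_smul_eq_stabilizer_map_conj, Subgroup.map_map,
        show ((α * α : MulAut G).toMonoidHom.comp (MulAut.conj g).toMonoidHom) =
          (MulAut.conj ((α * α) g)).toMonoidHom.comp (α * α : MulAut G).toMonoidHom from
          MonoidHom.ext fun u => by simp,
        ← Subgroup.map_map, hx₂, ← stabilizer_smul_eq_stabilizer_map_conj]
  obtain ⟨i, hi⟩ := hα
  have : α = (α * α) ^ (i + 1) := by
    rw [← sq, ← pow_mul, show 2 * (i + 1) = (2 * i + 1) + 1 by ring, ← hi, pow_succ,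
      pow_orderOf_eq_one, one_mul]
  rw [this]
  exact hpow _

/-- A class-preserving automorphism is induced by a permutation. -/
theorem exists_perm (h2 : IsMultiplyPretransitive G X 2) (o : X) (α : MulAut G)
    (h : Keeps o α) : ∃ σ : Equiv.Perm X, ∀ (g : G) x, σ (g • x) = α g • σ x := by
  classical
  haveI := h2
  haveI : IsPretransitive G X := isPretransitive_of_is_two_pretransitive
  obtain ⟨w, hw⟩ := h
  choose t ht using fun x : X => exists_smul_eq G o x
  have hwell : ∀ {a b : G}, a • o = b • o → α a • w = α b • w := fun {a b} e => by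
    have hm : α (b⁻¹ * a) ∈ stabilizer G w := hw ▸ Subgroup.mem_map_of_mem _ (by
      rw [mem_stabilizer_iff, mul_smul, e, inv_smul_smul])
    rw [mem_stabilizer_iff, map_mul, map_inv, mul_smul, inv_smul_eq_iff] at hm
    exact hm
  let f : X → X := fun x => α (t x) • w
  have hf : ∀ (g : G) x, f (g • x) = α g • f x := fun g x => by
    show α (t (g • x)) • w = α g • α (t x) • w
    rw [← mul_smul, ← map_mul]
    exact hwell (by rw [ht, mul_smul, ht])
  have hsurj : Function.Surjective f := fun y => by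
    obtain ⟨g, hg⟩ := exists_smul_eq G w y
    exact ⟨α.symm g • o, (hwell (ht _)).trans (by rw [MulEquiv.apply_symm_apply, hg])⟩
  exact ⟨Equiv.ofBijective f ⟨Finite.injective_iff_surjective.2 hsurj, hsurj⟩, hf⟩

/-- The orbit lengths of a point stabiliser. -/
theorem orbit_ncard_stabilizer (h2 : IsMultiplyPretransitive G X 2) (a x : X) :
    (orbit (stabilizer G a) x).ncard = 1 ∨
      (orbit (stabilizer G a) x).ncard = Fintype.card X - 1 := by
  classical
  by_cases h : x = a
  · left
    subst h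
    rw [Set.ncard_eq_one]
    refine ⟨x, Set.eq_singleton_iff_unique_mem.2 ⟨mem_orbit_self x, ?_⟩⟩
    rintro _ ⟨g, rfl⟩
    exact g.2
  · right
    rw [show orbit (stabilizer G a) x = {a}ᶜ from ?_, Set.ncard_compl, Set.ncard_singleton,
      Nat.card_eq_fintype_card]
    ext y
    constructor
    · rintro ⟨g, rfl⟩ e
      rw [Set.mem_singleton_iff] at e
      exact h ((MulAction.injective (g : G)) (e.trans g.2.symm))
    · intro hy
      obtain ⟨g, hg1, hg2⟩ := is_two_pretransitive_iff.1 h2 (Ne.symm h) (fun e => hy e.symm)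
      exact ⟨⟨g, hg1⟩, hg2⟩

theorem main (h2 : IsMultiplyPretransitive G X 2) (o : X) (α : MulAut G) (hα : Odd (orderOf α))
    (ω : X) (hk : (orbit ↥((stabilizer G o).map α.toMonoidHom) ω).ncard.Coprime (Fintype.card X)) :
    (∃ σ : Equiv.Perm X, ∀ (g : G) x, σ (g • x) = α g • σ x) ∧
      ((orbit ↥((stabilizer G o).map α.toMonoidHom) ω).ncard = 1 ∨
        (orbit ↥((stabilizer G o).map α.toMonoidHom) ω).ncard = Fintype.card X - 1) := by
  rcases Nat.lt_or_ge (Fintype.card X) 2 with hn | hn
  · haveI : Subsingleton X := Fintype.card_le_one_iff_subsingleton.1 (by omega)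
    refine ⟨⟨1, fun g x => Subsingleton.elim _ _⟩, Or.inl ?_⟩
    exact Set.ncard_eq_one.2 ⟨ω, Set.eq_singleton_iff_unique_mem.2
      ⟨mem_orbit_self ω, fun y _ => Subsingleton.elim y ω⟩⟩
  · have hkeep := keeps_self h2 hn o α hα ω hk
    refine ⟨exists_perm h2 o α hkeep, ?_⟩
    obtain ⟨w, hw⟩ := hkeep
    rw [hw]
    exact orbit_ncard_stabilizer h2 w ω

end CfsgLib.FgsC.TwoTransAut

namespace CfsgLib.FgsC.TwoTransAut

open MulAction

theorem exists_normalizer {X : Type*} [Fintype X] (G : Subgroup (Equiv.Perm X)) (α : MulAut G)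
    (h : ∃ σ : Equiv.Perm X, ∀ (g : G) x, σ (g • x) = α g • σ x) :
    ∃ σ : Equiv.Perm X, σ ∈ Subgroup.normalizer (G : Set (Equiv.Perm X)) ∧
      ∀ g : G, ((α g : G) : Equiv.Perm X) = σ * (g : Equiv.Perm X) * σ⁻¹ := by
  obtain ⟨σ, hσ⟩ := h
  have hc : ∀ g : G, ((α g : G) : Equiv.Perm X) = σ * (g : Equiv.Perm X) * σ⁻¹ := fun g => by
    refine Equiv.Perm.ext fun y => ?_
    show (α g : Equiv.Perm X) y = σ ((g : Equiv.Perm X) (σ.symm y))
    have h' := hσ g (σ.symm y)
    rw [Equiv.apply_symm_apply] at h'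
    exact h'.symm
  refine ⟨σ, ?_, hc⟩
  rw [Subgroup.mem_normalizer_iff]
  refine fun p => ⟨fun hp => ?_, fun hp => ?_⟩
  · rw [← hc ⟨p, hp⟩]; exact (α ⟨p, hp⟩).2
  · obtain ⟨g, hg⟩ := α.surjective ⟨σ * p * σ⁻¹, hp⟩
    have h' := (congrArg Subtype.val hg).symm.trans (hc g)
    change σ * p * σ⁻¹ = σ * g * σ⁻¹ at h'
    rw [mul_left_inj, mul_right_inj] at h'
    rw [h']; exact g.2

end CfsgLib.FgsC.TwoTransAut
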