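import Mathlib

/-!
The limit of a subspace of an algebra under conjugation by `1 + t • x`, `x * x = 0`, as `t` goes to
infinity, described by leading coefficients of polynomial families.
-/

set_option autoImplicit false

namespace CfsgLib.FgsC.UniLim

open Polynomial

variable {k R : Type*} [Field k] [Ring R] [Algebra k R]

variable (k R) in
/-- The polynomial families of degree at most `n`. -/
noncomputable def degSub (n : ℕ) : Submodule k R[X] where
  carrier := {f | f.natDegree ≤ n}
  zero_mem' := by simp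
  add_mem' := fun {f g} hf hg => (natDegree_add_le f g).trans (max_le hf hg)
  smul_mem' := fun c f hf => (natDegree_smul_le c f).trans hf

theorem mem_degSub {n : ℕ} {f : R[X]} : f ∈ degSub k R n ↔ f.natDegree ≤ n := Iff.rfl

variable (k R) in
/-- Taking the `n`-th coefficient, as a `k`-linear map. -/
noncomputable def topCoeff (n : ℕ) : R[X] →ₗ[k] R where
  toFun f := f.coeff n
  map_add' f g := coeff_add f g n
  map_smul' c f := coeff_smul c f n

theorem topCoeff_apply (n : ℕ) (f : R[X]) : topCoeff k R n f = f.coeff n := rfl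

/-- The leading coefficients of the families in `F`. -/
noncomputable def lim (F : Submodule k R[X]) : Submodule k R :=
  ⨆ n, (F ⊓ degSub k R n).map (topCoeff k R n)

theorem mem_lim {F : Submodule k R[X]} (hX : ∀ f ∈ F, f * X ∈ F) {v : R} :
    v ∈ lim F ↔ ∃ n, ∃ f ∈ F, f.natDegree ≤ n ∧ f.coeff n = v := by
  have hmono : Monotone fun n => (F ⊓ degSub k R n).map (topCoeff k R n) := by
    refine monotone_nat_of_le_succ fun n => ?_
    rintro _ ⟨f, ⟨hf, hd⟩, rfl⟩
    refine ⟨f * X, ⟨hX f hf, ?_⟩, ?_⟩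
    · exact natDegree_mul_le.trans (add_le_add (hd : f.natDegree ≤ n) natDegree_X_le)
    · rw [topCoeff_apply, topCoeff_apply, coeff_mul_X]
  rw [lim, Submodule.mem_iSup_of_directed _ hmono.directed_le]
  constructor
  · rintro ⟨n, f, ⟨hf, hd⟩, rfl⟩
    exact ⟨n, f, hf, hd, rfl⟩
  · rintro ⟨n, f, hf, hd, rfl⟩
    exact ⟨n, f, ⟨hf, hd⟩, rfl⟩

variable (k) in
/-- The families with all coefficients in `U`. -/
noncomputable def coeffIn (U : Submodule k R) : Submodule k R[X] where
  carrier := {f | ∀ n, f.coeff n ∈ U}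
  zero_mem' := fun n => by simp
  add_mem' := fun {f g} hf hg n => by rw [coeff_add]; exact add_mem (hf n) (hg n)
  smul_mem' := fun c f hf n => by rw [coeff_smul]; exact Submodule.smul_mem _ c (hf n)

theorem mem_coeffIn {U : Submodule k R} {f : R[X]} : f ∈ coeffIn k U ↔ ∀ n, f.coeff n ∈ U :=
  Iff.rfl

theorem C_mem_coeffIn {U : Submodule k R} {a : R} (ha : a ∈ U) : C a ∈ coeffIn k U := fun n => by
  rw [coeff_C]; split
  · exact ha
  · exact zero_mem _

theorem mul_X_pow_mem_coeffIn {U : Submodule k R} {f : R[X]} (hf : f ∈ coeffIn k U) (m : ℕ) :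
    f * X ^ m ∈ coeffIn k U := fun n => by
  rw [coeff_mul_X_pow']; split
  · exact hf _
  · exact zero_mem _

theorem mul_X_mem_coeffIn {U : Submodule k R} {f : R[X]} (hf : f ∈ coeffIn k U) :
    f * X ∈ coeffIn k U := by simpa using mul_X_pow_mem_coeffIn hf 1

/-- The limit of the image of `U` under an injective family of linear maps is at least as big
as `U`. -/
theorem card_le_lim [Finite k] [Finite R] (U : Submodule k R) (ψ : R[X] →ₗ[k] R[X])
    (hψ : Function.Injective ψ) (hdeg : ∀ f, (ψ f).natDegree ≤ f.natDegree + 2)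
    {F : Submodule k R[X]} (hF : (coeffIn k U).map ψ ≤ F) :
    Nat.card U ≤ Nat.card (lim F) := by
  have hfin : ∀ n, Finite ↥(F ⊓ degSub k R n) := by
    intro n
    refine Finite.of_injective (fun f => fun i : Fin (n + 1) => (f : R[X]).coeff i) fun f g h => ?_
    refine Subtype.ext (Polynomial.ext fun i => ?_)
    by_cases hi : i ≤ n
    · exact congrFun h ⟨i, Nat.lt_succ_iff.2 hi⟩
    · have h1 : (f : R[X]).natDegree ≤ n := f.2.2
      have h2 : (g : R[X]).natDegree ≤ n := g.2.2
      rw [coeff_eq_zero_of_natDegree_lt (by omega), coeff_eq_zero_of_natDegree_lt (by omega)]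
  have hup : ∀ n, Nat.card ↥(F ⊓ degSub k R n) ≤ Nat.card (lim F) ^ (n + 1) := by
    intro n
    induction n with
    | zero =>
      rw [pow_one]
      refine Nat.card_le_card_of_injective (fun f => ⟨(f : R[X]).coeff 0,
        le_iSup (fun n => (F ⊓ degSub k R n).map (topCoeff k R n)) 0 ⟨f, f.2, rfl⟩⟩) ?_
      intro f g h
      refine Subtype.ext ?_
      have h1 : (f : R[X]).natDegree ≤ 0 := f.2.2
      have h2 : (g : R[X]).natDegree ≤ 0 := g.2.2
      rw [eq_C_of_natDegree_le_zero h1, eq_C_of_natDegree_le_zero h2]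
      exact congrArg C (congrArg Subtype.val h)
    | succ n ih =>
      have := hfin (n + 1)
      have := hfin n
      let c : ↥(F ⊓ degSub k R (n + 1)) →ₗ[k] ↥(lim F) :=
        LinearMap.codRestrict _ ((topCoeff k R (n + 1)).domRestrict _) fun f =>
          le_iSup (fun n => (F ⊓ degSub k R n).map (topCoeff k R n)) (n + 1) ⟨f, f.2, rfl⟩
      rw [Submodule.card_eq_card_quotient_mul_card (LinearMap.ker c), pow_succ]
      refine Nat.mul_le_mul (le_trans ?_ ih) ?_
      rotate_left
      · rw [Nat.card_congr c.quotKerEquivRange.toEquiv]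
        exact Nat.card_le_card_of_injective _ Subtype.val_injective
      · refine Nat.card_le_card_of_injective (fun f => ⟨((f : ↥(F ⊓ degSub k R (n + 1))) : R[X]),
          f.1.2.1, ?_⟩) ?_
        · rw [SetLike.mem_coe, mem_degSub]
          have h1 : (f.1 : R[X]).natDegree ≤ n + 1 := f.1.2.2
          have h2 : (f.1 : R[X]).coeff (n + 1) = 0 := congrArg Subtype.val (LinearMap.mem_ker.1 f.2)
          refine natDegree_le_iff_coeff_eq_zero.2 fun i hi => ?_
          rcases (Nat.succ_le_of_lt hi).eq_or_lt with h | h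
          · rw [← h]; exact h2
          · exact coeff_eq_zero_of_natDegree_lt (by omega)
        · intro f g h
          exact Subtype.ext (Subtype.ext (congrArg (fun a : ↥(F ⊓ degSub k R n) => (a : R[X])) h))
  have hlow : ∀ n, Nat.card U ^ (n + 1) ≤ Nat.card ↥(F ⊓ degSub k R (n + 2)) := by
    intro n
    have := hfin (n + 2)
    have hmem : ∀ u : Fin (n + 1) → U, (∑ i, C (u i : R) * X ^ (i : ℕ)) ∈
        coeffIn k U ⊓ degSub k R n := fun u =>
      ⟨Submodule.sum_mem _ fun i _ => mul_X_pow_mem_coeffIn (C_mem_coeffIn (u i).2) _,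
        Submodule.sum_mem _ fun i _ => (natDegree_C_mul_X_pow_le _ _).trans (Nat.lt_succ_iff.1 i.2)⟩
    have e : Nat.card U ^ (n + 1) = Nat.card (Fin (n + 1) → U) := by
      rw [Nat.card_fun, Nat.card_eq_fintype_card (α := Fin (n + 1)), Fintype.card_fin]
    rw [e]
    refine Nat.card_le_card_of_injective (fun u : Fin (n + 1) → U =>
      (⟨ψ (∑ i, C (u i : R) * X ^ (i : ℕ)), hF ⟨_, (hmem u).1, rfl⟩,
        (hdeg _).trans (Nat.add_le_add_right (hmem u).2 2)⟩ : ↥(F ⊓ degSub k R (n + 2)))) ?_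
    intro u v h
    have h1 := hψ (congrArg Subtype.val h)
    funext j
    have h2 := congrArg (fun f => f.coeff (j : ℕ)) h1
    simp only [finsetSum_coeff, coeff_C_mul_X_pow, Fin.val_inj] at h2
    simpa using h2
  obtain ⟨a, ha⟩ : ∃ a, Nat.card U = Nat.card k ^ a := ⟨_, Module.natCard_eq_pow_finrank (K := k)⟩
  obtain ⟨b, hb⟩ : ∃ b, Nat.card (lim F) = Nat.card k ^ b :=
    ⟨_, Module.natCard_eq_pow_finrank (K := k)⟩
  have hk : 1 < Nat.card k := Finite.one_lt_card
  have h := (hlow (2 * b)).trans (hup (2 * b + 2))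
  rw [ha, hb, ← pow_mul, ← pow_mul, Nat.pow_le_pow_iff_right hk] at h
  rw [ha, hb, Nat.pow_le_pow_iff_right hk]
  by_contra hlt
  have : (b + 1) * (2 * b + 1) ≤ a * (2 * b + 1) := Nat.mul_le_mul_right _ (by omega)
  nlinarith

/-- The generic element `1 + t x` of the one-parameter group. -/
noncomputable def gen (x : R) : R[X] := 1 + C x * X

theorem gen_mul_gen_neg {x : R} (hx : x * x = 0) : gen x * gen (-x) = 1 := by
  have h : (C x : R[X]) * X * (C x * X) = 0 := by
    rw [mul_assoc, ← mul_assoc X (C x), X_mul, ← mul_assoc, ← mul_assoc, ← C_mul, hx]; simp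
  rw [gen, gen, map_neg, neg_mul]
  have : (1 + C x * X) * (1 + -(C x * X)) = 1 - C x * X * (C x * X) := by noncomm_ring
  rw [this, h, sub_zero]

theorem gen_neg_mul_gen {x : R} (hx : x * x = 0) : gen (-x) * gen x = 1 := by
  simpa using gen_mul_gen_neg (x := -x) (by simp [hx])

theorem natDegree_gen_le (x : R) : (gen x).natDegree ≤ 1 :=
  (natDegree_add_le _ _).trans (max_le (by simp) ((natDegree_C_mul_le _ _).trans natDegree_X_le))

variable (k) in
/-- The family of conjugates by `1 + t x`. -/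
noncomputable def conjFam (x : R) : R[X] →ₗ[k] R[X] where
  toFun f := gen x * f * gen (-x)
  map_add' f g := by rw [mul_add, add_mul]
  map_smul' c f := by simp [mul_smul_comm, smul_mul_assoc]

variable (k) in
/-- The family of left multiples by `1 + t x`. -/
noncomputable def leftFam (x : R) : R[X] →ₗ[k] R[X] where
  toFun f := gen x * f
  map_add' f g := mul_add _ _ _
  map_smul' c f := by simp [mul_smul_comm]

theorem conjFam_injective {x : R} (hx : x * x = 0) : Function.Injective (conjFam k x) := by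
  intro f g h
  have h' : gen (-x) * (gen x * f * gen (-x)) * gen x = gen (-x) * (gen x * g * gen (-x)) * gen x :=
    congrArg (fun a => gen (-x) * a * gen x) h
  simpa [← mul_assoc, gen_neg_mul_gen hx, mul_assoc _ (gen (-x)) (gen x)] using h'

theorem leftFam_injective {x : R} (hx : x * x = 0) : Function.Injective (leftFam k x) := by
  intro f g h
  have h' : gen (-x) * (gen x * f) = gen (-x) * (gen x * g) := congrArg (gen (-x) * ·) h
  simpa [← mul_assoc, gen_neg_mul_gen hx] using h'

theorem natDegree_conjFam_le (x : R) (f : R[X]) :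
    (conjFam k x f).natDegree ≤ f.natDegree + 2 := by
  refine natDegree_mul_le.trans ?_
  have := natDegree_mul_le (p := gen x) (q := f)
  have := natDegree_gen_le x
  have := natDegree_gen_le (-x)
  omega

theorem natDegree_leftFam_le (x : R) (f : R[X]) :
    (leftFam k x f).natDegree ≤ f.natDegree + 2 := by
  refine natDegree_mul_le.trans ?_
  have := natDegree_gen_le x
  omega

/-- The limit of `U` under conjugation. -/
noncomputable def conjLim (x : R) (U : Submodule k R) : Submodule k R :=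
  lim ((coeffIn k U).map (conjFam k x))

/-- The limit of `J` under left multiplication. -/
noncomputable def leftLim (x : R) (J : Submodule k R) : Submodule k R :=
  lim ((coeffIn k J).map (leftFam k x))

theorem map_mul_X_mem {U : Submodule k R} {ψ : R[X] →ₗ[k] R[X]}
    (hψ : ∀ f, ψ (f * X) = ψ f * X) : ∀ f ∈ (coeffIn k U).map ψ, f * X ∈ (coeffIn k U).map ψ := by
  rintro _ ⟨f, hf, rfl⟩
  exact ⟨f * X, mul_X_mem_coeffIn hf, hψ f⟩

theorem conjFam_mul_X (x : R) (f : R[X]) : conjFam k x (f * X) = conjFam k x f * X := by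
  change gen x * (f * X) * gen (-x) = gen x * f * gen (-x) * X
  rw [← mul_assoc (gen x), mul_assoc (gen x * f) X, X_mul, ← mul_assoc]

theorem leftFam_mul_X (x : R) (f : R[X]) : leftFam k x (f * X) = leftFam k x f * X := by
  change gen x * (f * X) = gen x * f * X
  rw [mul_assoc]

theorem mem_conjLim {x : R} {U : Submodule k R} {v : R} :
    v ∈ conjLim x U ↔
      ∃ n, ∃ f ∈ coeffIn k U, (conjFam k x f).natDegree ≤ n ∧ (conjFam k x f).coeff n = v := by
  rw [conjLim, mem_lim (map_mul_X_mem (conjFam_mul_X x))]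
  simp only [Submodule.mem_map, exists_exists_and_eq_and]

theorem mem_leftLim {x : R} {J : Submodule k R} {v : R} :
    v ∈ leftLim x J ↔
      ∃ n, ∃ f ∈ coeffIn k J, (leftFam k x f).natDegree ≤ n ∧ (leftFam k x f).coeff n = v := by
  rw [leftLim, mem_lim (map_mul_X_mem (leftFam_mul_X x))]
  simp only [Submodule.mem_map, exists_exists_and_eq_and]

theorem card_le_conjLim [Finite k] [Finite R] {x : R} (hx : x * x = 0) (U : Submodule k R) :
    Nat.card U ≤ Nat.card (conjLim x U) :=
  card_le_lim U _ (conjFam_injective hx) (natDegree_conjFam_le x) le_rfl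

theorem card_le_leftLim [Finite k] [Finite R] {x : R} (hx : x * x = 0) (J : Submodule k R) :
    Nat.card J ≤ Nat.card (leftLim x J) :=
  card_le_lim J _ (leftFam_injective hx) (natDegree_leftFam_le x) le_rfl

theorem mul_eq_zero_of_coeffIn {U J : Submodule k R} (h : ∀ a ∈ U, ∀ b ∈ J, a * b = 0)
    {f g : R[X]} (hf : f ∈ coeffIn k U) (hg : g ∈ coeffIn k J) : f * g = 0 := by
  ext n
  rw [coeff_mul, coeff_zero]
  exact Finset.sum_eq_zero fun q _ => h _ (hf _) _ (hg _)

theorem conjLim_mul_eq_zero {x : R} (hx : x * x = 0) {U : Submodule k R}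
    (h : ∀ a ∈ U, ∀ b ∈ U, a * b = 0) :
    ∀ a ∈ conjLim x U, ∀ b ∈ conjLim x U, a * b = 0 := by
  intro a ha b hb
  obtain ⟨i, f, hf, hi, rfl⟩ := mem_conjLim.1 ha
  obtain ⟨j, g, hg, hj, rfl⟩ := mem_conjLim.1 hb
  rw [← coeff_mul_add_eq_of_natDegree_le hi hj]
  have : conjFam k x f * conjFam k x g = 0 := by
    calc gen x * f * gen (-x) * (gen x * g * gen (-x))
        = gen x * f * (gen (-x) * gen x) * g * gen (-x) := by simp only [mul_assoc]
      _ = gen x * (f * g) * gen (-x) := by rw [gen_neg_mul_gen hx, mul_one, mul_assoc (gen x)]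
      _ = 0 := by rw [mul_eq_zero_of_coeffIn h hf hg, mul_zero, zero_mul]
  rw [this, coeff_zero]

theorem conjLim_mul_leftLim {x : R} (hx : x * x = 0) {U J : Submodule k R}
    (h : ∀ a ∈ U, ∀ b ∈ J, a * b = 0) :
    ∀ a ∈ conjLim x U, ∀ b ∈ leftLim x J, a * b = 0 := by
  intro a ha b hb
  obtain ⟨i, f, hf, hi, rfl⟩ := mem_conjLim.1 ha
  obtain ⟨j, g, hg, hj, rfl⟩ := mem_leftLim.1 hb
  rw [← coeff_mul_add_eq_of_natDegree_le hi hj]
  have : conjFam k x f * leftFam k x g = 0 := by
    calc gen x * f * gen (-x) * (gen x * g)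
        = gen x * f * (gen (-x) * gen x) * g := by simp only [mul_assoc]
      _ = gen x * (f * g) := by rw [gen_neg_mul_gen hx, mul_one, mul_assoc]
      _ = 0 := by rw [mul_eq_zero_of_coeffIn h hf hg, mul_zero]
  rw [this, coeff_zero]

variable (k) in
/-- Conjugation by `1 + t x`, as a linear map. -/
noncomputable def conjEl (x : R) (t : k) : R →ₗ[k] R :=
  (LinearMap.mulLeft k (1 + t • x)).comp (LinearMap.mulRight k (1 - t • x))

theorem conjEl_apply (x : R) (t : k) (a : R) :
    conjEl k x t a = (1 + t • x) * a * (1 - t • x) := by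
  simp [conjEl, mul_assoc]

theorem conjEl_apply' (x : R) (t : k) (a : R) :
    conjEl k x t a = a + t • (x * a - a * x) + (t * t) • (-(x * a * x)) := by
  rw [conjEl_apply]
  simp only [smul_sub, smul_neg, smul_add, mul_sub, add_mul, sub_mul, one_mul, mul_one,
    smul_mul_assoc, mul_smul_comm, smul_smul, mul_assoc]
  abel

theorem conjFam_C (x a : R) : conjFam k x (C a) =
    C a + C (x * a - a * x) * X + C (-(x * a * x)) * X ^ 2 := by
  change gen x * C a * gen (-x) = _
  have hc : ∀ b : R, (X : R[X]) * C b = C b * X := fun b => X_mul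
  have hc2 : ∀ b : R, (X : R[X]) * (X * C b) = C b * (X * X) := fun b => by
    rw [hc, ← mul_assoc, hc, mul_assoc]
  simp only [gen, map_neg, map_sub, map_mul, pow_two, mul_add, add_mul, sub_mul, mul_neg, neg_mul,
    one_mul, mul_one, mul_assoc, hc, hc2]
  simp only [← mul_assoc, hc]
  abel

theorem conjLim_le (h2 : (2 : k) ≠ 0) {x : R} {U : Submodule k R} :
    conjLim x U ≤ U ⊔ U.map (conjEl k x 1) ⊔ U.map (conjEl k x (-1)) := by
  set S := U ⊔ U.map (conjEl k x 1) ⊔ U.map (conjEl k x (-1)) with hS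
  have h0 : ∀ a ∈ U, a ∈ S := fun a ha => le_sup_left (α := Submodule k R) (le_sup_left (α := Submodule k R) ha)
  have h1 : ∀ a ∈ U, conjEl k x 1 a ∈ S := fun a ha =>
    le_sup_left (α := Submodule k R) (le_sup_right (α := Submodule k R) ⟨a, ha, rfl⟩)
  have h3 : ∀ a ∈ U, conjEl k x (-1) a ∈ S := fun a ha =>
    le_sup_right (α := Submodule k R) ⟨a, ha, rfl⟩
  have hd : ∀ a ∈ U, x * a - a * x ∈ S ∧ -(x * a * x) ∈ S := by
    intro a ha
    constructor
    · refine (Submodule.smul_mem_iff _ h2).1 ?_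
      convert sub_mem (h1 a ha) (h3 a ha) using 1
      simp only [conjEl_apply', two_smul, neg_smul, one_smul, neg_mul_neg, one_mul]
      abel
    · refine (Submodule.smul_mem_iff _ h2).1 ?_
      convert sub_mem (add_mem (h1 a ha) (h3 a ha)) (add_mem (h0 a ha) (h0 a ha)) using 1
      simp only [conjEl_apply', two_smul, neg_smul, one_smul, neg_mul_neg, one_mul]
      abel
  intro v hv
  obtain ⟨n, f, hf, -, rfl⟩ := mem_conjLim.1 hv
  suffices conjFam k x f ∈ coeffIn k S from this n
  rw [← sum_monomial_eq f, Polynomial.sum_def, map_sum]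
  refine Submodule.sum_mem _ fun i _ => ?_
  have e : ∀ (g : R[X]) (j : ℕ), conjFam k x (g * X ^ j) = conjFam k x g * X ^ j := by
    intro g j
    induction j with
    | zero => simp
    | succ j ih => rw [pow_succ, ← mul_assoc, conjFam_mul_X, ih, mul_assoc]
  rw [← C_mul_X_pow_eq_monomial]
  rw [e]
  refine mul_X_pow_mem_coeffIn ?_ i
  rw [conjFam_C]
  refine add_mem (add_mem (C_mem_coeffIn (h0 _ (hf i))) (mul_X_mem_coeffIn (C_mem_coeffIn ?_)))
    (mul_X_pow_mem_coeffIn (C_mem_coeffIn ?_) 2)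
  · exact (hd _ (hf i)).1
  · exact (hd _ (hf i)).2

theorem derivative_conjFam {x : R} (hx : x * x = 0) (f : R[X]) :
    conjFam k x (derivative f) =
      derivative (conjFam k x f) - (C x * conjFam k x f - conjFam k x f * C x) := by
  have h1 : (C x : R[X]) * gen x = C x := by
    rw [gen, mul_add, mul_one, ← mul_assoc, ← C_mul, hx]; simp
  have h2 : gen (-x) * C x = (C x : R[X]) := by
    rw [gen, add_mul, one_mul, mul_assoc, X_mul, ← mul_assoc, ← C_mul, neg_mul, hx]; simp
  change gen x * derivative f * gen (-x) = derivative (gen x * f * gen (-x)) -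
    (C x * (gen x * f * gen (-x)) - gen x * f * gen (-x) * C x)
  have e1 : derivative (gen x) = C x := by simp [gen]
  have e2 : derivative (gen (-x)) = -(C x) := by simp [gen]
  rw [derivative_mul, derivative_mul, e1, e2, ← mul_assoc (C x), ← mul_assoc (C x), h1,
    mul_assoc (gen x * f) (gen (-x)) (C x), h2]
  noncomm_ring

theorem conjEl_one_mem_conjLim (h2 : (2 : k) ≠ 0) {x : R} (hx : x * x = 0) {U : Submodule k R}
    {v : R} (hv : v ∈ conjLim x U) : conjEl k x 1 v ∈ conjLim x U := by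
  have key : ∀ v ∈ conjLim x U, x * v - v * x ∈ conjLim x U := by
    intro v hv
    obtain ⟨n, f, hf, hn, rfl⟩ := mem_conjLim.1 hv
    have hfd : derivative f ∈ coeffIn k U := fun i => by
      rw [coeff_derivative, ← Nat.cast_add_one, ← nsmul_eq_mul']
      exact Submodule.smul_of_tower_mem _ _ (hf _)
    rw [← neg_mem_iff]
    refine mem_conjLim.2 ⟨n, derivative f, hfd, ?_, ?_⟩
    · rw [derivative_conjFam hx]
      refine (natDegree_sub_le _ _).trans (max_le ((natDegree_derivative_le _).trans (by omega)) ?_)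
      refine (natDegree_sub_le _ _).trans (max_le ((natDegree_C_mul_le _ _).trans hn) ?_)
      exact (natDegree_mul_C_le _ _).trans hn
    · rw [derivative_conjFam hx, coeff_sub, coeff_sub, coeff_C_mul, coeff_mul_C, coeff_derivative,
        coeff_eq_zero_of_natDegree_lt (p := conjFam k x f) (n := n + 1) (by omega), zero_mul,
        zero_sub]
  have hd := key v hv
  have hdd := key _ hd
  have e : conjEl k x 1 v = v + (x * v - v * x) +
      (2 : k)⁻¹ • (x * (x * v - v * x) - (x * v - v * x) * x) := by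
    have : x * (x * v - v * x) - (x * v - v * x) * x = (2 : k) • (-(x * v * x)) := by
      rw [two_smul, mul_sub, sub_mul, ← mul_assoc, hx, mul_assoc v, hx]
      noncomm_ring
    rw [this, smul_smul, inv_mul_cancel₀ h2, conjEl_apply', one_smul, one_mul]
  rw [e]
  exact add_mem (add_mem hv hd) (Submodule.smul_mem _ _ hdd)

variable (R) in
/-- Evaluation at a scalar. -/
noncomputable def evalAt (t : k) : R[X] →+* R :=
  eval₂RingHom' (RingHom.id R) (algebraMap k R t) fun a => (Algebra.commutes t a).symm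

theorem coeff_mem_of_eval_mem {U : Submodule k R} {P : R[X]} {N : ℕ} [Fintype k]
    (hN : P.natDegree ≤ N) (hk : N < Fintype.card k) (h : ∀ t : k, evalAt R t P ∈ U) :
    P ∈ coeffIn k U := by
  intro i
  by_contra hi
  obtain ⟨l, hl, hlU⟩ : ∃ l : R →ₗ[k] k, l (P.coeff i) ≠ 0 ∧ U ≤ LinearMap.ker l := by
    obtain ⟨l, hl, hlU⟩ := Submodule.exists_dual_map_eq_bot_of_notMem hi inferInstance
    exact ⟨l, hl, fun u hu => by
      have : l u ∈ U.map l := ⟨u, hu, rfl⟩
      rw [hlU] at this
      exact LinearMap.mem_ker.2 ((Submodule.mem_bot k).1 this)⟩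
  set q : k[X] := ∑ j ∈ Finset.range (N + 1), C (l (P.coeff j)) * X ^ j with hq
  have hq0 : q = 0 := by
    refine eq_zero_of_natDegree_lt_card_of_eval_eq_zero q (fun a b h => h : Function.Injective
      (id : k → k)) (fun t => ?_) ?_
    · have h1 : l (evalAt R t P) = 0 := hlU (h t)
      have h2 : evalAt R t P = ∑ j ∈ Finset.range (N + 1), t ^ j • P.coeff j := by
        conv_lhs => rw [P.as_sum_range' (N + 1) (Nat.lt_succ_of_le hN)]
        rw [map_sum]
        refine Finset.sum_congr rfl fun j _ => ?_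
        change eval₂ (RingHom.id R) (algebraMap k R t) (monomial j (P.coeff j)) = _
        rw [eval₂_monomial, RingHom.id_apply, ← map_pow, ← Algebra.commutes, ← Algebra.smul_def]
      rw [h2, map_sum] at h1
      rw [hq, eval_finsetSum]
      simp only [eval_mul, eval_C, eval_pow, eval_X, id]
      simp only [map_smul, smul_eq_mul] at h1
      rw [← h1]
      exact Finset.sum_congr rfl fun j _ => mul_comm _ _
    · refine lt_of_le_of_lt ?_ hk
      exact natDegree_sum_le_of_forall_le _ _ fun j hj =>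
        (natDegree_C_mul_X_pow_le _ _).trans (Nat.lt_succ_iff.1 (Finset.mem_range.1 hj))
  by_cases hiN : i ≤ N
  · have := congrArg (fun f => f.coeff i) hq0
    simp only [hq, finsetSum_coeff, coeff_C_mul_X_pow, coeff_zero, Finset.sum_ite_eq,
      Finset.mem_range, if_pos (Nat.lt_succ_of_le hiN)] at this
    exact hl this
  · exact hi (by rw [coeff_eq_zero_of_natDegree_lt (by omega)]; exact zero_mem _)

theorem conjLim_invariant [Fintype k] (hk : 5 ≤ Fintype.card k) {x : R} (hx : x * x = 0)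
    {U : Submodule k R} {m m' : R}
    (h : ∀ t : k, ∀ a ∈ U,
      ((1 - t • x) * m * (1 + t • x)) * a * ((1 - t • x) * m' * (1 + t • x)) ∈ U)
    {v : R} (hv : v ∈ conjLim x U) : m * v * m' ∈ conjLim x U := by
  obtain ⟨n, f, hf, hn, rfl⟩ := mem_conjLim.1 hv
  set A := gen (-x) * C m * gen x with hA
  set B := gen (-x) * C m' * gen x with hB
  have hdA : A.natDegree ≤ 2 := by
    refine natDegree_mul_le.trans ?_
    have := natDegree_mul_C_le (gen (-x)) m
    have := natDegree_gen_le x
    have := natDegree_gen_le (-x)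
    omega
  have hdB : B.natDegree ≤ 2 := by
    refine natDegree_mul_le.trans ?_
    have := natDegree_mul_C_le (gen (-x)) m'
    have := natDegree_gen_le x
    have := natDegree_gen_le (-x)
    omega
  have hev : ∀ (t : k) (y : R), evalAt R t (gen y) = 1 + t • y := fun t y => by
    rw [gen, map_add, map_one, map_mul]
    change 1 + eval₂ (RingHom.id R) (algebraMap k R t) (C y) *
      eval₂ (RingHom.id R) (algebraMap k R t) X = _
    rw [eval₂_C, eval₂_X, RingHom.id_apply, ← Algebra.commutes, ← Algebra.smul_def]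
  have hC : ∀ (t : k) (y : R), evalAt R t (C y) = y := fun t y => by
    change eval₂ (RingHom.id R) (algebraMap k R t) (C y) = _
    rw [eval₂_C, RingHom.id_apply]
  have key : ∀ a ∈ U, A * C a * B ∈ coeffIn k U := by
    intro a ha
    refine coeff_mem_of_eval_mem (N := 4) ?_ (by omega) fun t => ?_
    · refine natDegree_mul_le.trans ?_
      have := natDegree_mul_C_le A a
      omega
    · simp only [hA, hB, map_mul, hev, hC, smul_neg, ← sub_eq_add_neg]
      exact h t a ha
  have hg : A * f * B ∈ coeffIn k U := by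
    rw [← sum_C_mul_X_pow_eq f, Polynomial.sum_def, Finset.mul_sum, Finset.sum_mul]
    refine Submodule.sum_mem _ fun i _ => ?_
    rw [← mul_assoc A, mul_assoc (A * C _), X_pow_mul, ← mul_assoc]
    exact mul_X_pow_mem_coeffIn (key _ (hf i)) i
  have e : conjFam k x (A * f * B) = C m * conjFam k x f * C m' := by
    change gen x * (A * f * B) * gen (-x) = C m * (gen x * f * gen (-x)) * C m'
    calc gen x * (gen (-x) * C m * gen x * f * (gen (-x) * C m' * gen x)) * gen (-x)
        = (gen x * gen (-x)) * C m * (gen x * f * gen (-x)) * C m' * (gen x * gen (-x)) := by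
          simp only [mul_assoc]
      _ = _ := by rw [gen_mul_gen_neg hx, one_mul, mul_one]
  refine mem_conjLim.2 ⟨n, A * f * B, hg, ?_, ?_⟩
  · rw [e]; exact (natDegree_mul_C_le _ _).trans ((natDegree_C_mul_le _ _).trans hn)
  · rw [e, coeff_mul_C, coeff_C_mul]

/-- If three quadratic spaces normalise one another, then `1 + v` is a product from their
`1 + a`, for each `v` in their sum with `v * v = 0`. -/
theorem one_add_mem (h2 : (2 : k) ≠ 0) (h3 : (3 : k) ≠ 0) (M : Submonoid R)
    (A : Fin 3 → Submodule k R) (hsq : ∀ i, ∀ a ∈ A i, ∀ b ∈ A i, a * b = 0)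
    (hM : ∀ i, ∀ a ∈ A i, 1 + a ∈ M)
    (hn : ∀ i j, ∀ a ∈ A i, ∀ b ∈ A j, (1 + a) * b * (1 - a) ∈ A j)
    {x0 x1 x2 : R} (m0 : x0 ∈ A 0) (m1 : x1 ∈ A 1) (m2 : x2 ∈ A 2)
    (hv : (x0 + x1 + x2) * (x0 + x1 + x2) = 0) : 1 + (x0 + x1 + x2) ∈ M := by
  have hcm : ∀ i j, ∀ a ∈ A i, ∀ b ∈ A j, a * b - b * a ∈ A i ∧ a * b - b * a ∈ A j := by
    have half : ∀ i j, ∀ a ∈ A i, ∀ b ∈ A j, a * b - b * a ∈ A j := by
      intro i j a ha b hb
      refine (Submodule.smul_mem_iff _ h2).1 ?_
      convert sub_mem (hn i j a ha b hb) (hn i j (-a) (neg_mem ha) b hb) using 1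
      rw [two_smul]
      noncomm_ring
    intro i j a ha b hb
    refine ⟨?_, half i j a ha b hb⟩
    rw [← neg_sub]
    exact neg_mem (half j i b hb a ha)
  have haba : ∀ i j, ∀ a ∈ A i, ∀ b ∈ A j, a * b * a = 0 := by
    intro i j a ha b hb
    have h := hsq i _ (hcm i j a ha b hb).1 a ha
    rwa [sub_mul, mul_assoc b, hsq i a ha a ha, mul_zero, sub_zero] at h
  have hzero : ∀ i, ∀ a ∈ A i, ∀ b : R, ∀ c ∈ A i, b = c → a * b = 0 ∧ b * a = 0 := by
    rintro i a ha b c hc rfl
    exact ⟨hsq i a ha b hc, hsq i b hc a ha⟩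
  obtain ⟨p01, q01⟩ := hcm 0 1 x0 m0 x1 m1
  obtain ⟨p02, q02⟩ := hcm 0 2 x0 m0 x2 m2
  obtain ⟨p12, q12⟩ := hcm 1 2 x1 m1 x2 m2
  set c01 := x0 * x1 - x1 * x0 with hc01
  set c02 := x0 * x2 - x2 * x0 with hc02
  set c12 := x1 * x2 - x2 * x1 with hc12
  set d0 := x0 * c12 - c12 * x0 with hd0
  set d1 := x1 * c02 - c02 * x1 with hd1
  set d2 := x2 * c01 - c01 * x2 with hd2
  have hd : ∀ i, d1 ∈ A i ∧ d2 ∈ A i := by
    intro i
    fin_cases i
    · exact ⟨(hcm 1 0 x1 m1 c02 p02).2, (hcm 2 0 x2 m2 c01 p01).2⟩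
    · exact ⟨(hcm 1 0 x1 m1 c02 p02).1, (hcm 2 1 x2 m2 c01 q01).2⟩
    · exact ⟨(hcm 1 2 x1 m1 c02 q02).2, (hcm 2 0 x2 m2 c01 p01).1⟩
  set h : R := (2 : k)⁻¹ • (c01 + c02 + c12) with hh
  set u : R := x0 * x1 + x0 * x2 + x1 * x2 with hu
  set v : R := x0 + x1 + x2 with hvdef
  set d : R := -((3 : k)⁻¹ • (d1 + d2)) with hddef
  have s0 := hsq 0 x0 m0 x0 m0
  have s1 := hsq 1 x1 m1 x1 m1
  have s2 := hsq 2 x2 m2 x2 m2
  have hu2 : u + u = c01 + c02 + c12 := by
    have : u + u - (c01 + c02 + c12) = v * v - x0 * x0 - x1 * x1 - x2 * x2 := by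
      simp only [hu, hc01, hc02, hc12, hvdef]; noncomm_ring
    rw [hv, s0, s1, s2, sub_zero, sub_zero, sub_zero, sub_eq_zero] at this
    exact this
  have huh : u = h := by
    rw [hh, ← hu2, ← two_smul k, smul_smul, inv_mul_cancel₀ h2, one_smul]
  have a010 := haba 0 1 x0 m0 x1 m1
  have a020 := haba 0 2 x0 m0 x2 m2
  have a101 := haba 1 0 x1 m1 x0 m0
  have a121 := haba 1 2 x1 m1 x2 m2
  have a202 := haba 2 0 x2 m2 x0 m0
  have a212 := haba 2 1 x2 m2 x1 m1
  -- the six monomials
  have hsum : x0 * x1 * x2 + x0 * x2 * x1 + x1 * x0 * x2 + x1 * x2 * x0 + x2 * x0 * x1 +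
      x2 * x1 * x0 = 0 := by
    have h1 : v * (v * v) = 0 := by rw [hv, mul_zero]
    simp only [hvdef, mul_add, add_mul, ← mul_assoc, s0, s1, s2, a010, a020, a101, a121, a202,
      a212, zero_mul, mul_assoc x0 x1 x1, mul_assoc x0 x2 x2, mul_assoc x1 x0 x0,
      mul_assoc x1 x2 x2, mul_assoc x2 x0 x0, mul_assoc x2 x1 x1, mul_zero, add_zero, zero_add]
      at h1
    rw [← h1]; abel
  have hvh : v * h = x0 * x1 * x2 + x1 * x0 * x2 + x2 * x0 * x1 := by
    rw [← huh]
    simp only [hu, hvdef, mul_add, add_mul, ← mul_assoc, s0, s1, s2, a101, a202, a212, zero_mul,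
      mul_assoc x1 x0 x0, add_zero, zero_add]
    abel
  have hD : x0 * x1 * x2 - v * h = d := by
    have e1 : d1 + d2 + (x0 * x1 * x2 + x0 * x2 * x1 + x1 * x0 * x2 + x1 * x2 * x0 +
        x2 * x0 * x1 + x2 * x1 * x0) = (3 : k) • (x1 * x0 * x2 + x2 * x0 * x1) := by
      rw [show (3 : k) = 1 + 1 + 1 by norm_num, add_smul, add_smul, one_smul]
      simp only [hd1, hd2, hc01, hc02]
      noncomm_ring
    rw [hsum, add_zero] at e1
    rw [hvh, hddef, e1, smul_smul, inv_mul_cancel₀ h3, one_smul]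
    abel
  -- products that vanish
  have hall : ∀ e, (∀ i, e ∈ A i) → v * e = 0 := fun e he => by
    rw [hvdef, add_mul, add_mul, hsq 0 x0 m0 e (he 0), hsq 1 x1 m1 e (he 1),
      hsq 2 x2 m2 e (he 2), add_zero, add_zero]
  have hdA : ∀ i, d ∈ A i := fun i =>
    neg_mem (Submodule.smul_mem _ _ (add_mem (hd i).1 (hd i).2))
  have hvd : v * d = 0 := hall d hdA
  have hdd : d * d = 0 := hsq 0 d (hdA 0) d (hdA 0)
  have hTh : x0 * x1 * x2 * h = 0 := by
    have e : x1 * d2 = 0 := hsq 1 x1 m1 d2 (hd 1).2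
    have e1 : x2 * c01 = c01 * x2 + d2 := by rw [hd2]; abel
    have e3 : x2 * (c01 + c02 + c12) = c01 * x2 + d2 := by
      rw [mul_add, mul_add, e1, hsq 2 x2 m2 c02 q02, hsq 2 x2 m2 c12 q12, add_zero, add_zero]
    rw [hh, mul_smul_comm, mul_assoc _ x2, e3, mul_assoc x0 x1, mul_add x1,
      ← mul_assoc x1 c01, hsq 1 x1 m1 c01 q01, zero_mul, zero_add, e, mul_zero, smul_zero]
  have huu : u * u = 0 := by
    rw [huh, hh, smul_mul_smul_comm]
    have z : ∀ i, ∀ a ∈ A i, ∀ b ∈ A i, a * b = 0 := hsq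
    simp only [mul_add, add_mul, z 0 c01 p01 c01 p01, z 0 c01 p01 c02 p02, z 1 c01 q01 c12 p12,
      z 0 c02 p02 c01 p01, z 0 c02 p02 c02 p02, z 2 c02 q02 c12 q12, z 1 c12 p12 c01 q01,
      z 2 c12 q12 c02 q02, z 1 c12 p12 c12 p12, add_zero, smul_zero]
  have hcc : (1 - (2 : k)⁻¹ • c01) * (1 - (2 : k)⁻¹ • c02) * (1 - (2 : k)⁻¹ • c12) = 1 - h := by
    simp only [hh, mul_sub, sub_mul, smul_add, one_mul, mul_one, smul_mul_assoc, mul_smul_comm,
      hsq 0 c01 p01 c02 p02, hsq 1 c01 q01 c12 p12, hsq 2 c02 q02 c12 q12, zero_mul, smul_zero,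
      sub_zero]
    abel
  have hPM : (1 + x0) * (1 + x1) * (1 + x2) * (1 - h) * (1 - d) ∈ M := by
    rw [← hcc]
    refine mul_mem (mul_mem (mul_mem (mul_mem (hM 0 _ m0) (hM 1 _ m1)) (hM 2 _ m2))
      (mul_mem (mul_mem ?_ ?_) ?_)) ?_
    · rw [sub_eq_add_neg]; exact hM 0 _ (neg_mem (Submodule.smul_mem _ _ p01))
    · rw [sub_eq_add_neg]; exact hM 0 _ (neg_mem (Submodule.smul_mem _ _ p02))
    · rw [sub_eq_add_neg]; exact hM 1 _ (neg_mem (Submodule.smul_mem _ _ p12))
    · rw [sub_eq_add_neg]; exact hM 0 _ (neg_mem (hdA 0))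
  convert hPM using 1
  have e1 : (1 + x0) * (1 + x1) * (1 + x2) * (1 - h) =
      1 + v + (u - h) + (x0 * x1 * x2 - v * h) - u * h - x0 * x1 * x2 * h := by
    simp only [hvdef, hu]; noncomm_ring
  rw [← huh] at e1 hTh hD
  rw [← huh, e1, sub_self, add_zero, huu, sub_zero, hTh, sub_zero, hD]
  have e2 : (1 + v + d) * (1 - d) = 1 + v - v * d - d * d := by noncomm_ring
  rw [e2, hvd, hdd, sub_zero, sub_zero]

end CfsgLib.FgsC.UniLim
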