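import Cfsg.Agent.Lib.FgsC.HallHigman

/-!
# Fixed points of a `2`-group and orbits on the weights of an abelian normal subgroup

Over a field of characteristic two each orbit of a `2`-group `T` on the weights of an abelian
normal subgroup `A` of odd order carries a non-zero vector fixed by `T`.
-/

set_option autoImplicit false
set_option linter.style.haveILetI false
set_option linter.unusedSectionVars false

open Module
open scoped TensorProduct

namespace CfsgLib.FgsC.WeightOrbits

open CfsgLib.FgsC.HallHigman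

variable {S : Type*} [Group S] [Finite S] {K : Type*} [Field K] {V : Type*} [AddCommGroup V]
  [Module K V] (ρ : Representation K S V) (A : Subgroup S) [hA : A.Normal]

/-- The translate of a weight of `A`. -/
def tr (g : S) (χ : A → K) : A → K :=
  fun a => χ ⟨g⁻¹ * a * g, by simpa using hA.conj_mem a.1 a.2 g⁻¹⟩

theorem tr_one (χ : A → K) : tr A 1 χ = χ := funext fun a => congrArg χ (Subtype.ext (by simp))

theorem tr_tr (g h : S) (χ : A → K) : tr A g (tr A h χ) = tr A (g * h) χ :=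
  funext fun a => congrArg χ (Subtype.ext (by simp [mul_assoc]))

/-- The weight space. -/
def wsp (χ : A → K) : Submodule K V where
  carrier := {v | ∀ a : A, ρ a v = χ a • v}
  add_mem' := fun {u v} hu hv a => by rw [map_add, hu a, hv a, smul_add]
  zero_mem' := fun a => by rw [map_zero, smul_zero]
  smul_mem' := fun c {v} hv a => by rw [map_smul, hv a, smul_comm]

theorem rho_mem {χ : A → K} {v : V} (hv : v ∈ wsp ρ A χ) (g : S) : ρ g v ∈ wsp ρ A (tr A g χ) := by
  intro a
  have h := hv ⟨g⁻¹ * a * g, by simpa using hA.conj_mem a.1 a.2 g⁻¹⟩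
  rw [rho_mul_apply, show (a : S) * g = g * (g⁻¹ * a * g) by group, ← rho_mul_apply]
  exact (congrArg (ρ g) h).trans (map_smul _ _ _)

/-- Vectors supported on a set of weights. -/
def supp (P : Set (A → K)) : Submodule K V := ⨆ χ ∈ P, wsp ρ A χ

variable {ρ A}

theorem supp_mono {P Q : Set (A → K)} (h : P ⊆ Q) : supp ρ A P ≤ supp ρ A Q :=
  biSup_mono h

theorem rho_mem_supp {P : Set (A → K)} {v : V} (hv : v ∈ supp ρ A P) (g : S) :
    ρ g v ∈ supp ρ A (tr A g '' P) := by
  have h : (supp ρ A P).map (ρ g) ≤ supp ρ A (tr A g '' P) := by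
    rw [supp, Submodule.map_iSup]
    refine iSup_le fun χ => ?_
    rw [Submodule.map_iSup]
    refine iSup_le fun hχ => ?_
    refine le_trans ?_ (le_biSup (wsp ρ A) (Set.mem_image_of_mem (tr A g) hχ))
    rintro _ ⟨u, hu, rfl⟩
    exact rho_mem ρ A hu g
  exact h (Submodule.mem_map_of_mem hv)

theorem indep : iSupIndep (wsp ρ A) := by
  classical
  rw [iSupIndep_iff_finsetSum_eq_zero_imp_eq_zero]
  intro s v hv hsum i hi
  by_contra hne
  let t := s.filter fun j => v j ≠ 0
  have hli : LinearIndependent K (fun j : t => v j) :=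
    linearIndependent_of_weights (fun a : A => ρ a) (fun j : t => (j : A → K))
      Subtype.val_injective _ (fun j => (Finset.mem_filter.1 j.2).2)
      fun j a => hv j (Finset.mem_filter.1 j.2).1 a
  have h0 : ∑ j : t, (1 : K) • v j = 0 := by
    simp only [one_smul]
    rw [Finset.sum_coe_sort t v]
    show ∑ j ∈ s.filter (fun j => v j ≠ 0), v j = 0
    rw [Finset.sum_filter_ne_zero]
    exact hsum
  exact one_ne_zero (Fintype.linearIndependent_iff.1 hli (fun _ => 1) h0
    ⟨i, Finset.mem_filter.2 ⟨hi, hne⟩⟩)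

theorem disjoint_supp {P Q : Set (A → K)} (h : Disjoint P Q) :
    Disjoint (supp ρ A P) (supp ρ A Q) :=
  indep.disjoint_biSup_biSup h

theorem supp_inter {P Q : Set (A → K)} {v : V} (hP : v ∈ supp ρ A P) (hQ : v ∈ supp ρ A Q) :
    v ∈ supp ρ A (P ∩ Q) := by
  rw [supp, ← Set.inter_union_sdiff P Q, iSup_union] at hP
  obtain ⟨a, ha, b, hb, rfl⟩ := Submodule.mem_sup.1 hP
  have haQ : a ∈ supp ρ A Q := supp_mono Set.inter_subset_right ha
  have hbQ : b ∈ supp ρ A Q := (Submodule.add_mem_iff_right _ haQ).1 hQ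
  have hb0 : b = 0 := Submodule.disjoint_def.1 (disjoint_supp Set.disjoint_sdiff_left) b hb hbQ
  rw [hb0, add_zero]
  exact ha

/-- A non-zero vector fixed by a group transitive on `O` is supported on all of `O`. -/
theorem subset_of_fixed {T : Subgroup S} {O P : Set (A → K)} (hfin : O.Finite)
    (htr : ∀ χ ∈ O, ∀ ψ ∈ O, ∃ t ∈ T, tr A t χ = ψ) {v : V} (hv0 : v ≠ 0)
    (hv : ∀ t ∈ T, ρ t v = v) (hvO : v ∈ supp ρ A O) (hvP : v ∈ supp ρ A P) : O ⊆ P := by
  classical
  obtain ⟨M, ⟨hMO, hvM⟩, hmin⟩ := (hfin.finite_subsets.subset (fun M hM => hM.1) :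
    {M : Set (A → K) | M ⊆ O ∧ v ∈ supp ρ A M}.Finite).exists_minimal
      ⟨O, Set.Subset.rfl, hvO⟩
  have hne : M.Nonempty := by
    rw [Set.nonempty_iff_ne_empty]
    rintro rfl
    simp [supp] at hvM
    exact hv0 hvM
  have hinv : ∀ t ∈ T, M ⊆ tr A t '' M := by
    intro t ht
    have h2 : v ∈ supp ρ A (M ∩ tr A t '' M) := supp_inter hvM (by
      have := rho_mem_supp hvM t
      rwa [hv t ht] at this)
    exact (hmin ⟨Set.inter_subset_left.trans hMO, h2⟩ Set.inter_subset_left).trans Set.inter_subset_right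
  have hMP : M ⊆ P :=
    (hmin ⟨Set.inter_subset_left.trans hMO, supp_inter hvM hvP⟩ Set.inter_subset_left).trans
      Set.inter_subset_right
  intro ψ hψ
  obtain ⟨χ, hχ⟩ := hne
  obtain ⟨t, ht, rfl⟩ := htr χ (hMO hχ) ψ hψ
  refine hMP ?_
  obtain ⟨χ', hχ', he⟩ := hinv t⁻¹ (inv_mem ht) hχ
  rw [← he, tr_tr, mul_inv_cancel, tr_one]
  exact hχ'

/-- A `2`-group in characteristic two fixes a non-zero vector of each invariant non-zero subspace. -/
theorem exists_fixed [CharP K 2] {T : Subgroup S} (hT : IsPGroup 2 T) {W : Submodule K V}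
    (hW : W ≠ ⊥) (hinv : ∀ t ∈ T, ∀ w ∈ W, ρ t w ∈ W) :
    ∃ c ∈ W, c ≠ 0 ∧ ∀ t ∈ T, ρ t c = c := by
  classical
  obtain ⟨w, hwW, hw0⟩ := Submodule.exists_mem_ne_zero_of_ne_bot hW
  have h2 : ∀ v : V, 2 • v = 0 := fun v => by
    rw [← Nat.cast_smul_eq_nsmul K, CharP.cast_eq_zero K 2, zero_smul]
  letI : Module (ZMod 2) V := AddCommGroup.zmodModule h2
  let L : Submodule (ZMod 2) V := Submodule.span (ZMod 2) (Set.range fun t : T => ρ t w)
  haveI : FiniteDimensional (ZMod 2) L := FiniteDimensional.span_of_finite _ (Set.finite_range _)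
  haveI : Finite L := Module.finite_of_finite (ZMod 2)
  have hLinv : ∀ (t : T) (x : V), x ∈ L → ρ t x ∈ L := by
    intro t x hx
    induction hx using Submodule.span_induction with
    | mem y hy =>
      obtain ⟨s, rfl⟩ := hy
      exact Submodule.subset_span ⟨t * s, by simp [map_mul]⟩
    | zero => rw [map_zero]; exact zero_mem _
    | add a b _ _ ha hb => rw [map_add]; exact add_mem ha hb
    | smul a x _ hx =>
      rcases (show a = 0 ∨ a = 1 from by revert a; decide +revert) with rfl | rfl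
      · rw [zero_smul, map_zero]; exact zero_mem _
      · rw [one_smul]; exact hx
  letI : MulAction T L :=
    { smul := fun t x => ⟨ρ t x.1, hLinv t x.1 x.2⟩
      one_smul := fun x => Subtype.ext (by show ρ (1 : S) x.1 = x.1; rw [map_one]; rfl)
      mul_smul := fun a b x => Subtype.ext (by
        show ρ ((a : S) * b) x.1 = ρ (a : S) (ρ (b : S) x.1)
        rw [map_mul]; rfl) }
  have hwL : w ∈ L := Submodule.subset_span ⟨1, by simp⟩
  haveI : Nontrivial L := ⟨⟨w, hwL⟩, 0, fun e => hw0 (congrArg Subtype.val e)⟩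
  have hdvd : 2 ∣ Nat.card L := by
    rw [Module.natCard_eq_pow_finrank (K := ZMod 2), Nat.card_zmod]
    exact dvd_pow_self 2 (Module.finrank_pos (R := ZMod 2) (M := L)).ne'
  obtain ⟨c, hc, hc0⟩ := hT.exists_fixed_point_of_prime_dvd_card_of_fixed_point L hdvd (a := 0)
    (fun t => Subtype.ext (map_zero (ρ t)))
  refine ⟨c, ?_, fun e => hc0 (Subtype.ext e).symm, fun t ht => congrArg Subtype.val (hc ⟨t, ht⟩)⟩
  have hLW : ∀ x ∈ L, x ∈ W := by
    intro x hx
    induction hx using Submodule.span_induction with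
    | mem y hy => obtain ⟨s, rfl⟩ := hy; exact hinv s s.2 w hwW
    | zero => exact zero_mem _
    | add a b _ _ ha hb => exact add_mem ha hb
    | smul a x _ hx =>
      rcases (show a = 0 ∨ a = 1 from by revert a; decide +revert) with rfl | rfl
      · rw [zero_smul]; exact zero_mem _
      · rw [one_smul]; exact hx
  exact hLW c c.2

/-- The orbit of a weight. -/
def orb (T : Subgroup S) (χ : A → K) : Set (A → K) := (fun t => tr A t χ) '' (T : Set S)

theorem orb_self (T : Subgroup S) (χ : A → K) : χ ∈ orb T χ := ⟨1, T.one_mem, tr_one A χ⟩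

theorem orb_finite (T : Subgroup S) (χ : A → K) : (orb T χ).Finite :=
  (Set.toFinite _).image _

theorem orb_transitive (T : Subgroup S) (χ : A → K) :
    ∀ φ ∈ orb T χ, ∀ ψ ∈ orb T χ, ∃ t ∈ T, tr A t φ = ψ := by
  rintro _ ⟨a, ha, rfl⟩ _ ⟨b, hb, rfl⟩
  exact ⟨b * a⁻¹, mul_mem hb (inv_mem ha), by rw [tr_tr, inv_mul_cancel_right]⟩

theorem orb_inv (T : Subgroup S) (χ : A → K) {t : S} (ht : t ∈ T) :
    tr A t '' orb T χ ⊆ orb T χ := by
  rintro _ ⟨_, ⟨a, ha, rfl⟩, rfl⟩
  exact ⟨t * a, mul_mem ht ha, (tr_tr A t a χ).symm⟩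

theorem orb_eq_or_disjoint (T : Subgroup S) (χ ψ : A → K) (h : ψ ∉ orb T χ) :
    Disjoint (orb T χ) (orb T ψ) := by
  rw [Set.disjoint_left]
  rintro _ ⟨a, ha, rfl⟩ ⟨b, hb, he⟩
  refine h ⟨b⁻¹ * a, mul_mem (inv_mem hb) ha, ?_⟩
  simp only at he ⊢
  rw [← tr_tr, ← he, tr_tr, inv_mul_cancel, tr_one]

/-- The fixed vector of an orbit. -/
theorem exists_fixed_orb [CharP K 2] {T : Subgroup S} (hT : IsPGroup 2 T) {χ : A → K} {v : V}
    (hv : v ∈ wsp ρ A χ) (hv0 : v ≠ 0) :
    ∃ c ∈ supp ρ A (orb T χ), c ≠ 0 ∧ ∀ t ∈ T, ρ t c = c :=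
  exists_fixed hT (fun h => hv0 (by
    have : v ∈ supp ρ A (orb T χ) := le_biSup (wsp ρ A) (orb_self T χ) hv
    rwa [h, Submodule.mem_bot] at this))
    fun t ht _ hw => supp_mono (orb_inv T χ ht) (rho_mem_supp hw t)

/-- Fixed vectors of pairwise disjoint orbits are independent. -/
theorem li_of_disjoint {n : ℕ} (O : Fin n → Set (A → K)) (hd : Pairwise (Function.onFun Disjoint O))
    (c : Fin n → V) (hc : ∀ i, c i ∈ supp ρ A (O i)) (h0 : ∀ i, c i ≠ 0) :
    LinearIndependent K c := by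
  refine iSupIndep.linearIndependent (fun i => supp ρ A (O i)) ?_ hc h0
  intro i
  refine Disjoint.mono_right ?_ (disjoint_supp (P := O i) (Q := ⋃ j ∈ {j | j ≠ i}, O j) ?_)
  · refine iSup_le fun j => iSup_le fun hj => supp_mono ?_
    exact Set.subset_biUnion_of_mem (u := O) (show j ∈ {j | j ≠ i} from hj)
  · simp only [Set.disjoint_iUnion_right]
    exact fun j hj => hd (Ne.symm hj)

end CfsgLib.FgsC.WeightOrbits
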