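import Cfsg.Agent.Lib.FgsC.WeightOrbits

/-!
# The fixed points of a Sylow `2`-subgroup on a module over `F₂`

`S` is a `{2, p, q}`-group with abelian normal Sylow `p`-subgroup on which the Sylow `q`-subgroup, of
order `q`, has no fixed points. Extending the scalars, each orbit of `S` on the weights of the
`p`-subgroup splits into at least two orbits of the Sylow `2`-subgroup.
-/

set_option autoImplicit false
set_option linter.style.haveILetI false
set_option linter.unusedSectionVars false

open Module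
open scoped TensorProduct

namespace CfsgLib.FgsC.WeightOrbits

open CfsgLib.FgsC.HallHigman

/-- The fixed vectors of an extension of scalars come from fixed vectors. -/
theorem fixed_baseChange {F : Type*} [Field F] (K : Type*) [Field K] [Algebra F K] {E : Type*}
    [AddCommGroup E] [Module F E] [FiniteDimensional F E] {ι : Type*} (f : ι → End F E)
    (C : Submodule F E) (hC : ∀ v, (∀ i, f i v = v) → v ∈ C) :
    ∃ D : Submodule K (K ⊗[F] E), D = LinearMap.range (LinearMap.baseChange K C.subtype) ∧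
      finrank K D ≤ finrank F C ∧ ∀ w, (∀ i, LinearMap.baseChange K (f i) w = w) → w ∈ D := by
  refine ⟨_, rfl, (LinearMap.finrank_range_le _).trans (le_of_eq Module.finrank_baseChange),
    fun w hw => ?_⟩
  classical
  let b := Basis.ofVectorSpace F K
  let φ := TensorProduct.equivFinsuppOfBasisLeft b (N := E)
  have hnat : ∀ (g : End F E) (x : K ⊗[F] E) j, φ (LinearMap.baseChange K g x) j = g (φ x j) := by
    intro g x j
    induction x using TensorProduct.induction_on with
    | zero => simp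
    | add a c ha hc => simp only [map_add, Finsupp.add_apply, ha, hc]
    | tmul a e => simp [φ, LinearMap.baseChange_tmul, TensorProduct.equivFinsuppOfBasisLeft_apply]
  have hmem : ∀ j, φ w j ∈ C := fun j => hC _ fun i => by rw [← hnat, hw i]
  rw [← φ.symm_apply_apply w, TensorProduct.equivFinsuppOfBasisLeft_symm_apply, Finsupp.sum]
  exact Submodule.sum_mem _ fun j _ => ⟨b j ⊗ₜ[F] (⟨φ w j, hmem j⟩ : C), rfl⟩

theorem main {S : Type*} [Group S] [Finite S] (p q : ℕ) (hp : p.Prime) (hq : q.Prime) (hp2 : p ≠ 2)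
    (hq2 : q ≠ 2) (hpq : p ≠ q)
    (hπ : ∀ r : ℕ, r.Prime → r ∣ Nat.card S → r = 2 ∨ r = p ∨ r = q)
    (S₂ : Sylow 2 S) (Sp : Sylow p S) (Sq : Sylow q S)
    (hSpN : (Sp : Subgroup S).Normal)
    (hSpcard : Nat.card ↥Sp = p ∨ Nat.card ↥Sp = p ^ 2)
    (hSq : Nat.card ↥Sq = q) (hcomm : ⁅(Sp : Subgroup S), (Sq : Subgroup S)⁆ = (Sp : Subgroup S))
    {E : Type*} [AddCommGroup E] [Module (ZMod 2) E] [Finite E] (ρ : Representation (ZMod 2) S E)
    (hE : Nontrivial E)
    (hirr : ∀ N : Submodule (ZMod 2) E, (∀ s : S, ∀ m ∈ N, ρ s m ∈ N) → N = ⊥ ∨ N = ⊤)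
    (hfaith : ∀ x ∈ (Sp : Subgroup S), ρ x = 1 → x = 1) :
    8 ≤ Nat.card {v : E // ∀ s ∈ (S₂ : Subgroup S), ρ s v = v} ∨
      (Nat.card {v : E // ∀ s ∈ (S₂ : Subgroup S), ρ s v = v} = 4 ∧
        ∃ x ∈ (Sq : Subgroup S), ∃ v : E, (∀ s ∈ (S₂ : Subgroup S), ρ s v = v) ∧
          ¬ ∀ s ∈ (S₂ : Subgroup S), ρ s (ρ x v) = ρ x v) := by
  classical
  haveI := Fact.mk hp
  haveI := Fact.mk hq
  haveI : FiniteDimensional (ZMod 2) E := Module.Finite.of_finite
  set A : Subgroup S := (Sp : Subgroup S) with hA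
  haveI : A.Normal := hSpN
  set T : Subgroup S := (S₂ : Subgroup S) with hT
  haveI : Fintype A := Fintype.ofFinite _
  have hAcard : Nat.card A = p ∨ Nat.card A = p ^ 2 := hSpcard
  have hab : ∀ a b : A, a * b = b * a := by
    rcases hAcard with h | h
    · haveI := isCyclic_of_prime_card (α := A) h
      exact fun a b => (IsCyclic.commutative (α := A)).is_comm.comm a b
    · exact fun a b => (IsPGroup.isMulCommutative_of_card_eq_prime_sq (G := A) h).is_comm.comm a b
  -- the fixed points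
  let C : Submodule (ZMod 2) E :=
    { carrier := {v | ∀ s ∈ T, ρ s v = v}
      add_mem' := fun hu hv s hs => by rw [map_add, hu s hs, hv s hs]
      zero_mem' := fun s _ => map_zero _
      smul_mem' := fun c v hv s hs => by rw [map_smul, hv s hs] }
  have hcard : Nat.card {v : E // ∀ s ∈ T, ρ s v = v} = 2 ^ finrank (ZMod 2) C := by
    show Nat.card C = _
    rw [Module.natCard_eq_pow_finrank (K := ZMod 2), Nat.card_zmod]
  rw [hcard]
  -- `Sp` has no fixed points
  have hA1 : A ≠ ⊥ := fun h => by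
    have : Nat.card A = 1 := by rw [h, Subgroup.card_bot]
    rcases hAcard with h' | h' <;> rw [this] at h'
    · exact hp.one_lt.ne h'
    · nlinarith [hp.one_lt]
  have hodd : ((Nat.card A : ℕ) : ZMod 2) = 1 := by
    rw [ZMod.natCast_eq_one_iff_odd]
    rcases hAcard with h' | h' <;> rw [h']
    exacts [hp.odd_of_ne_two hp2, (hp.odd_of_ne_two hp2).pow]
  let N : Submodule (ZMod 2) E :=
    { carrier := {v | ∀ a ∈ A, ρ a v = v}
      add_mem' := fun hu hv s hs => by rw [map_add, hu s hs, hv s hs]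
      zero_mem' := fun s _ => map_zero _
      smul_mem' := fun c v hv s hs => by rw [map_smul, hv s hs] }
  have hN : N = ⊥ := by
    refine (hirr N fun g v hv a ha => ?_).resolve_right fun htop => hA1 ?_
    · have e := hv (g⁻¹ * a * g) (by simpa using hSpN.conj_mem a ha g⁻¹)
      rw [rho_mul_apply, show a * g = g * (g⁻¹ * a * g) by group, ← rho_mul_apply, e]
    · rw [eq_bot_iff]
      intro a ha
      exact Subgroup.mem_bot.2 (hfaith a ha (LinearMap.ext fun v =>
        (htop ▸ Submodule.mem_top : v ∈ N) a ha))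
  have hnorm : ∑ a : A, ρ (a : S) = 0 := by
    refine LinearMap.ext fun v => ?_
    have : (∑ a : A, ρ (a : S)) v ∈ N := fun b hb => by
      rw [LinearMap.sum_apply, map_sum]
      refine Fintype.sum_equiv (Equiv.mulLeft (⟨b, hb⟩ : A)) _ _ fun a => ?_
      rw [rho_mul_apply]; rfl
    rwa [hN, Submodule.mem_bot] at this
  -- extension of scalars
  let K := AlgebraicClosure (ZMod 2)
  haveI : CharP K 2 := charP_of_injective_algebraMap (algebraMap (ZMod 2) K).injective 2
  let Φ := Module.End.baseChangeHom (ZMod 2) K E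
  let ρ' : Representation K S (K ⊗[ZMod 2] E) := Φ.toMonoidHom.comp ρ
  have hρ' : ∀ g, ρ' g = LinearMap.baseChange K (ρ g) := fun g => rfl
  have hnorm' : ∑ a : A, ρ' (a : S) = 0 := by
    show ∑ a : A, Φ (ρ (a : S)) = 0
    rw [← map_sum, hnorm, map_zero]
  obtain ⟨D, hD, hDdim, hDmem⟩ := fixed_baseChange K (fun t : T => ρ (t : S)) C
    (fun v hv s hs => hv ⟨s, hs⟩)
  haveI : Nontrivial (K ⊗[ZMod 2] E) := by
    apply Module.nontrivial_of_finrank_pos (R := K)
    rw [Module.finrank_baseChange]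
    exact Module.finrank_pos
  -- a weight
  have habρ : ∀ a ∈ A, ∀ b ∈ A, ρ' a * ρ' b = ρ' b * ρ' a := fun a ha b hb => by
    rw [← map_mul, ← map_mul]
    exact congrArg ρ' (congrArg Subtype.val (hab ⟨a, ha⟩ ⟨b, hb⟩))
  obtain ⟨χ₀, hχ₀⟩ := exists_weight A habρ
  obtain ⟨v₀, hv₀, hv₀0⟩ := Submodule.exists_mem_ne_zero_of_ne_bot hχ₀
  set χ : A → K := fun a => χ₀ a with hχdef
  have hv : v₀ ∈ wsp ρ' A χ := fun a => hv₀ a a.2
  -- no weight is fixed by a conjugate of `Sq`
  have hmoved : ∀ (ψ : A → K) (v : K ⊗[ZMod 2] E), v ∈ wsp ρ' A ψ → v ≠ 0 →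
      ¬ ∀ x ∈ (Sq : Subgroup S), tr A x ψ = ψ := by
    intro ψ v hv hv0 hfix
    let Ker : Subgroup S :=
      { carrier := {a | a ∈ A ∧ ρ' a v = v}
        mul_mem' := fun {a b} ha hb => ⟨mul_mem ha.1 hb.1, by rw [← rho_mul_apply, hb.2, ha.2]⟩
        one_mem' := ⟨one_mem _, by rw [map_one]; rfl⟩
        inv_mem' := fun {a} ha => ⟨inv_mem ha.1, by
          conv_lhs => rw [← ha.2, rho_apply_inv]⟩ }
    have hle : A ≤ Ker := by
      rw [← hcomm, Subgroup.commutator_le]
      intro a ha x hx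
      have hb : x * a⁻¹ * x⁻¹ ∈ A := hSpN.conj_mem _ (inv_mem ha) x
      refine ⟨by rw [commutatorElement_def, mul_assoc, mul_assoc, ← mul_assoc x]; exact mul_mem ha hb, ?_⟩
      rw [commutatorElement_def, show a * x * a⁻¹ * x⁻¹ = a * (x * a⁻¹ * x⁻¹) by group,
        ← rho_mul_apply, hv ⟨_, hb⟩, ← congrFun (hfix x hx) ⟨_, hb⟩]
      have e : ρ' a⁻¹ v = ψ ⟨a⁻¹, inv_mem ha⟩ • v := hv ⟨_, inv_mem ha⟩
      show ρ' a ((ψ ⟨x⁻¹ * (x * a⁻¹ * x⁻¹) * x, _⟩) • v) = v
      rw [show ψ ⟨x⁻¹ * (x * a⁻¹ * x⁻¹) * x, _⟩ = ψ ⟨a⁻¹, inv_mem ha⟩ from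
        congrArg ψ (Subtype.ext (by group)), ← e, rho_inv_apply]
    have h0 := LinearMap.congr_fun hnorm' v
    rw [LinearMap.sum_apply, Finset.sum_congr rfl fun a _ => (hle a.2).2, Finset.sum_const,
      Finset.card_univ, ← Nat.card_eq_fintype_card, ← Nat.cast_smul_eq_nsmul K] at h0
    have hK : ((Nat.card A : ℕ) : K) = 1 := by
      rw [← map_natCast (algebraMap (ZMod 2) K), hodd, map_one]
    rw [hK, one_smul] at h0
    exact hv0 h0
  have hAfix : ∀ a ∈ A, ∀ ψ : A → K, tr A a ψ = ψ := fun a ha ψ => funext fun b =>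
    congrArg ψ (Subtype.ext (by
      show a⁻¹ * (b : S) * a = b
      rw [mul_assoc, show (b : S) * a = a * b from congrArg Subtype.val (hab b ⟨a, ha⟩),
        inv_mul_cancel_left]))
  -- a second orbit
  obtain ⟨g, hg⟩ : ∃ g, tr A g χ ∉ orb T χ := by
    by_contra hall
    push Not at hall
    let St : Subgroup S :=
      { carrier := {g | tr A g χ = χ}
        mul_mem' := fun {a b} ha hb => by
          show tr A (a * b) χ = χ
          rw [← tr_tr, hb, ha]
        one_mem' := tr_one A χ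
        inv_mem' := fun {a} ha => by
          show tr A a⁻¹ χ = χ
          conv_lhs => rw [← ha, tr_tr, inv_mul_cancel, tr_one] }
    let f : T → S ⧸ St := fun t => QuotientGroup.mk (t : S)
    have hsur : Function.Surjective f := by
      intro x
      induction x using QuotientGroup.induction_on with
      | _ g =>
        obtain ⟨t, ht, e⟩ := hall g
        refine ⟨⟨t, ht⟩, QuotientGroup.eq.2 ?_⟩
        show tr A (t⁻¹ * g) χ = χ
        rw [← tr_tr, ← e, tr_tr, inv_mul_cancel, tr_one]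
    have hidx : (St.subgroupOf T).index = St.index := by
      refine Nat.card_eq_of_bijective (Quotient.lift (fun t : T => (QuotientGroup.mk (t : S) : S ⧸ St))
        fun a b hab => ?_) ⟨?_, ?_⟩
      · refine QuotientGroup.eq.2 ?_
        have := QuotientGroup.leftRel_apply.1 hab
        exact this
      · intro a b
        induction a using QuotientGroup.induction_on with
        | _ a =>
          induction b using QuotientGroup.induction_on with
          | _ b =>
            intro e
            exact QuotientGroup.eq.2 ((QuotientGroup.eq (s := St) (a := (a : S)) (b := (b : S))).1 e)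
      · intro x
        obtain ⟨t, rfl⟩ := hsur x
        exact ⟨QuotientGroup.mk t, rfl⟩
    have hnd : ¬ q ∣ St.index := by
      intro hd
      rw [← hidx] at hd
      obtain ⟨k, hk⟩ := IsPGroup.iff_card.1 S₂.isPGroup'
      have h2 := hd.trans ((St.subgroupOf T).index_dvd_card)
      rw [hk] at h2
      exact hq2 ((Nat.prime_dvd_prime_iff_eq hq Nat.prime_two).1 (hq.dvd_of_dvd_pow h2))
    have hdS : q ∣ Nat.card St := by
      have h1 : q ∣ Nat.card S := hSq ▸ (Sq : Subgroup S).card_subgroup_dvd_card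
      rw [← St.card_mul_index] at h1
      exact (hq.dvd_mul.1 h1).resolve_right hnd
    obtain ⟨y, hy⟩ := exists_prime_orderOf_dvd_card' q hdS
    have hy' : orderOf (y : S) = q := by rw [Subgroup.orderOf_coe, hy]
    obtain ⟨P, hP⟩ := (IsPGroup.of_card (p := q) (n := 1)
      (G := Subgroup.zpowers (y : S)) (by rw [Nat.card_zpowers, hy', pow_one])).exists_le_sylow
    obtain ⟨h, hh⟩ := MulAction.exists_smul_eq S Sq P
    have hcardP : Nat.card (P : Subgroup S) = q := by
      rw [← hh]
      exact (Nat.card_congr (Sq.equivSMul h).toEquiv).symm.trans hSq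
    have heq : Subgroup.zpowers (y : S) = (P : Subgroup S) :=
      Subgroup.eq_of_le_of_card_ge hP (by rw [Nat.card_zpowers, hy', hcardP])
    refine hmoved (tr A h⁻¹ χ) (ρ' h⁻¹ v₀) (rho_mem ρ' A hv _) (rho_ne_zero hv₀0) fun x hx => ?_
    have hmem : h * x * h⁻¹ ∈ St := by
      have h1 : h * x * h⁻¹ ∈ (P : Subgroup S) := by
        rw [← hh]
        exact ⟨x, hx, rfl⟩
      rw [← heq] at h1
      exact (Subgroup.zpowers_le.2 y.2) h1
    rw [tr_tr, show x * h⁻¹ = h⁻¹ * (h * x * h⁻¹) by group, ← tr_tr, show tr A (h * x * h⁻¹) χ = χ from hmem]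
  set O₁ := orb T χ with hO₁
  set O₂ := orb T (tr A g χ) with hO₂
  obtain ⟨c₁, hc₁, hc₁0, hc₁T⟩ := exists_fixed_orb (ρ := ρ') S₂.isPGroup' hv hv₀0
  obtain ⟨c₂, hc₂, hc₂0, hc₂T⟩ := exists_fixed_orb (ρ := ρ') S₂.isPGroup'
    (rho_mem ρ' A hv g) (rho_ne_zero hv₀0)
  have hdisj : Disjoint O₁ O₂ := orb_eq_or_disjoint T χ _ hg
  have hli : LinearIndependent K ![c₁, c₂] := by
    refine li_of_disjoint (ρ := ρ') ![O₁, O₂] ?_ _ ?_ ?_
    · intro i j hij
      fin_cases i <;> fin_cases j
      · exact absurd rfl hij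
      · exact hdisj
      · exact hdisj.symm
      · exact absurd rfl hij
    · intro i; fin_cases i
      exacts [hc₁, hc₂]
    · intro i; fin_cases i
      exacts [hc₁0, hc₂0]
  have hspan : Submodule.span K (Set.range ![c₁, c₂]) ≤ D := by
    rw [Submodule.span_le]
    rintro _ ⟨i, rfl⟩
    fin_cases i
    exacts [hDmem c₁ fun t => hc₁T t t.2, hDmem c₂ fun t => hc₂T t t.2]
  have h2 : 2 ≤ finrank (ZMod 2) C := by
    have h := (Submodule.finrank_mono hspan).trans hDdim
    rwa [finrank_span_eq_card hli, Fintype.card_fin] at h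
  rcases eq_or_lt_of_le h2 with h2 | h3
  swap
  · exact Or.inl (le_trans (by norm_num) (Nat.pow_le_pow_right two_pos h3))
  refine Or.inr ⟨by rw [← h2]; norm_num, ?_⟩
  by_contra hno
  push Not at hno
  have hDspan : D = Submodule.span K (Set.range ![c₁, c₂]) := (Submodule.eq_of_le_of_finrank_le hspan
    (by rw [finrank_span_eq_card hli, Fintype.card_fin]; exact hDdim.trans h2.ge)).symm
  have key : ∀ x ∈ (Sq : Subgroup S), ∀ c ∈ D, ρ' x c ∈ D := by
    intro x hx c hc
    rw [hD] at hc ⊢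
    obtain ⟨w, rfl⟩ := hc
    let xC : C →ₗ[ZMod 2] C := (ρ x).restrict fun v hv s hs => hno x hx v hv s hs
    refine ⟨LinearMap.baseChange K xC w, ?_⟩
    rw [hρ']
    induction w using TensorProduct.induction_on with
    | zero => simp
    | add a b ha hb => simp only [map_add, ha, hb]
    | tmul a e => rfl
  -- `Sq` fixes `O₁`
  have hstep : ∀ (x : S) (c : K ⊗[ZMod 2] E) (O : Set (A → K)), c ∈ D → c ≠ 0 → c ∈ supp ρ' A O →
      ρ' x c ∈ D → O₁ ⊆ tr A x '' O ∨ O₂ ⊆ tr A x '' O := by
    intro x c O hcD hc0 hcO hxc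
    rw [hDspan, Matrix.range_cons_cons_empty, Submodule.mem_span_pair] at hxc
    obtain ⟨a, b, e⟩ := hxc
    have hP : a • c₁ + b • c₂ ∈ supp ρ' A (tr A x '' O) := e ▸ rho_mem_supp hcO x
    by_cases ha : a = 0
    · right
      rw [ha, zero_smul, zero_add] at e hP
      have hb : b ≠ 0 := fun hb => rho_ne_zero (g := x) hc0 (by rw [← e, hb, zero_smul])
      exact subset_of_fixed (orb_finite T _) (orb_transitive T _) hc₂0 hc₂T hc₂
        ((Submodule.smul_mem_iff _ hb).1 hP)
    · left
      have h1 : a • c₁ ∈ supp ρ' A (tr A x '' O ∪ O₂) := by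
        have := sub_mem (supp_mono (Set.subset_union_left (t := O₂)) hP)
          (supp_mono (Set.subset_union_right (s := tr A x '' O)) (Submodule.smul_mem _ b hc₂))
        rwa [add_sub_cancel_right] at this
      intro ψ hψ
      rcases subset_of_fixed (orb_finite T _) (orb_transitive T _) hc₁0 hc₁T hc₁
        ((Submodule.smul_mem_iff _ ha).1 h1) hψ with h | h
      · exact h
      · exact absurd h (Set.disjoint_left.1 hdisj hψ)
  have htrinj : ∀ x : S, Function.Injective (tr (K := K) A x) := fun x a b e => by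
    have := congrArg (tr A x⁻¹) e
    rwa [tr_tr, tr_tr, inv_mul_cancel, tr_one, tr_one] at this
  have hncard : ∀ (x : S) (O : Set (A → K)), (tr A x '' O).ncard = O.ncard := fun x O =>
    Set.ncard_image_of_injective _ (htrinj x)
  have hf1 : O₁.Finite := orb_finite T χ
  have hf2 : O₂.Finite := orb_finite T _
  have hDc : c₁ ∈ D ∧ c₂ ∈ D := ⟨hDmem c₁ fun t => hc₁T t t.2, hDmem c₂ fun t => hc₂T t t.2⟩
  have hfixO : ∀ x ∈ (Sq : Subgroup S), tr A x '' O₁ = O₁ ∨
      (tr A x '' O₁ = O₂ ∧ tr A x '' O₂ = O₁) := by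
    intro x hx
    rcases hstep x c₁ O₁ hDc.1 hc₁0 hc₁ (key x hx _ hDc.1) with h | h
    · exact Or.inl (Set.eq_of_subset_of_ncard_le h (hncard x O₁).le (hf1.image _)).symm
    rcases hstep x c₂ O₂ hDc.2 hc₂0 hc₂ (key x hx _ hDc.2) with h' | h'
    · right
      have n1 := Set.ncard_le_ncard h (hf1.image _)
      have n2 := Set.ncard_le_ncard h' (hf2.image _)
      rw [hncard] at n1 n2
      exact ⟨(Set.eq_of_subset_of_ncard_le h (by rw [hncard]; exact n2) (hf1.image _)).symm,
        (Set.eq_of_subset_of_ncard_le h' (by rw [hncard]; exact n1) (hf2.image _)).symm⟩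
    · exfalso
      have hψ : tr A g χ ∈ O₂ := orb_self T _
      exact Set.disjoint_left.1 ((Set.disjoint_image_iff (htrinj x)).2 hdisj) (h hψ) (h' hψ)
  let St1 : Subgroup S :=
    { carrier := {y | tr A y '' O₁ = O₁}
      mul_mem' := fun {a b} ha hb => by
        show tr A (a * b) '' O₁ = O₁
        rw [show tr (K := K) A (a * b) = tr A a ∘ tr A b from funext fun ψ => (tr_tr A a b ψ).symm,
          Set.image_comp, hb, ha]
      one_mem' := by
        show tr A 1 '' O₁ = O₁
        rw [show tr (K := K) A 1 = id from funext (tr_one A), Set.image_id]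
      inv_mem' := fun {a} ha => by
        show tr A a⁻¹ '' O₁ = O₁
        conv_lhs => rw [← ha, ← Set.image_comp]
        rw [show tr (K := K) A a⁻¹ ∘ tr A a = id from funext fun ψ => by
          simp [tr_tr, tr_one], Set.image_id] }
  have hA1' : A ≤ St1 := fun a ha => by
    show tr A a '' O₁ = O₁
    rw [show tr (K := K) A a = id from funext (hAfix a ha), Set.image_id]
  have hT1 : T ≤ St1 := fun t ht =>
    Set.eq_of_subset_of_ncard_le (orb_inv T χ ht) (hncard t O₁).ge hf1
  have hQ1 : (Sq : Subgroup S) ≤ St1 := by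
    intro x hx
    rcases hfixO x hx with h | ⟨h, h'⟩
    · exact h
    have hxx : x * x ∈ St1 := by
      show tr A (x * x) '' O₁ = O₁
      rw [show tr (K := K) A (x * x) = tr A x ∘ tr A x from funext fun ψ => (tr_tr A x x ψ).symm,
        Set.image_comp, h, h']
    have hxq : x ^ q = 1 := hSq ▸ congrArg Subtype.val (pow_card_eq_one' (x := (⟨x, hx⟩ : (Sq : Subgroup S))))
    obtain ⟨m, hm⟩ := hq.odd_of_ne_two hq2
    have : x = (x * x) ^ (m + 1) := by
      rw [← pow_two, ← pow_mul, show 2 * (m + 1) = q + 1 by omega, pow_succ, hxq, one_mul]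
    rw [this]
    exact pow_mem hxx _
  have htop : St1 = ⊤ := by
    rw [← Subgroup.index_eq_one]
    refine Nat.eq_one_iff_not_exists_prime_dvd.2 fun r hr hd => ?_
    have hdS : r ∣ Nat.card S := hd.trans St1.index_dvd_card
    rcases hπ r hr hdS with rfl | rfl | rfl
    · exact S₂.not_dvd_index (hd.trans (Subgroup.index_dvd_of_le hT1))
    · exact Sp.not_dvd_index (hd.trans (Subgroup.index_dvd_of_le hA1'))
    · exact Sq.not_dvd_index (hd.trans (Subgroup.index_dvd_of_le hQ1))
  refine hg ?_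
  have hgm : g ∈ St1 := htop ▸ Subgroup.mem_top g
  exact (show tr A g '' O₁ = O₁ from hgm) ▸ Set.mem_image_of_mem _ (orb_self T χ)

end CfsgLib.FgsC.WeightOrbits
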